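import Cfsg.Agent.H46.ClsMain
import Cfsg.Agent.H50.Field

/-!
From the structures preserved by a group of unitary similitudes to the geometric classes of the
unitary group.
-/

set_option autoImplicit false
set_option linter.style.haveILetI false
set_option linter.unusedSectionVars false
set_option maxHeartbeats 1000000

open Cfsg.Geo
open scoped Matrix Kronecker MatrixGroups

namespace H45

open H46

variable {F : Type*} [Field F] [Fintype F] {n q : ℕ}

/-- The involution x ↦ x^q. -/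
noncomputable def qSigma (hF : Fintype.card F = q ^ 2) : F ≃+* F :=
  RingEquiv.ofBijective (H51.qFrob hF)
    ((Finite.injective_iff_bijective).1 (H51.pow_q_injective hF))

@[simp] theorem qSigma_apply (hF : Fintype.card F = q ^ 2) (x : F) : qSigma hF x = x ^ q := rfl

theorem qSigma_coe (hF : Fintype.card F = q ^ 2) : (qSigma hF : F → F) = fun x => x ^ q := rfl

theorem qSigma_involutive (hF : Fintype.card F = q ^ 2) (x : F) :
    qSigma hF (qSigma hF x) = x := H51.pow_q_q hF x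

theorem qSigma_ne_refl (hF : Fintype.card F = q ^ 2) : qSigma hF ≠ RingEquiv.refl F := by
  intro h
  obtain ⟨θ, -, h2⟩ := H51.exists_theta hF
  apply h2
  have h1 : qSigma hF θ = θ := by rw [h]; rfl
  rw [qSigma_apply] at h1
  rw [h1, sub_self]

theorem hermForm_eq_frm (hF : Fintype.card F = q ^ 2) :
    Cfsg.hermForm n F q = frm (qSigma hF) (1 : Matrix (Fin n) (Fin n) F) := by
  funext u v
  rw [frm, formOfGram_eq, Matrix.one_mulVec]
  rfl

theorem cf_one (hF : Fintype.card F = q ^ 2) : CF (qSigma hF) (1 : Matrix (Fin n) (Fin n) F) :=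
  CF.one_of_unitary (qSigma_ne_refl hF) (qSigma_involutive hF)

theorem le_similarity_of_le_GU (hF : Fintype.card F = q ^ 2) {H : Subgroup (GL (Fin n) F)}
    (hH : H ≤ Cfsg.GU n F q) :
    H ≤ similarityGroup (frm (qSigma hF) (1 : Matrix (Fin n) (Fin n) F)) := by
  intro g hg
  refine ⟨1, fun u v => ?_⟩
  rw [Units.val_one, one_mul, ← hermForm_eq_frm hF]
  exact hH hg u v

theorem unitaryFormPow (hF : Fintype.card F = q ^ 2) {m : ℕ} {M : Matrix (Fin m) (Fin m) F}
    (hM : CF (qSigma hF) M) : IsUnitaryFormPow q (frm (qSigma hF) M) := by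
  have h := hM.unitary (qSigma_ne_refl hF)
  exact ⟨h.add_left, h.smul_left, h.herm, h.nondegenerate⟩

/-- Scaling the basis does not change a subfield group. -/
theorem subfieldSubgroup_mul_scalar {ι : Type} [Fintype ι] [DecidableEq ι] (F₁ : Subfield F)
    (P : GL ι F) {z : GL ι F} (hz : z ∈ scalars ι F) :
    subfieldSubgroup F₁ (P * z) = subfieldSubgroup F₁ P := by
  have h : (MulAut.conj (P * z)).toMonoidHom = (MulAut.conj P).toMonoidHom := by
    refine MonoidHom.ext fun x => ?_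
    show P * z * x * (P * z)⁻¹ = P * x * P⁻¹
    rw [mul_inv_rev, mul_assoc P z x, scalars_mul_comm hz x]
    group
  rw [subfieldSubgroup, subfieldSubgroup, h]

/-- Absorbing a fixed multiplier into the basis. -/
theorem exists_rational_one (hF : Fintype.card F = q ^ 2) {F₁ : Subfield F} {P : GL (Fin n) F}
    {ζ : F} (hζ : ζ ≠ 0) (hfix : ζ ^ q = ζ)
    (hrat : IsFormRationalStructure (Cfsg.hermForm n F q) F₁ ζ P) :
    ∃ P' : GL (Fin n) F, IsFormRationalStructure (Cfsg.hermForm n F q) F₁ 1 P' ∧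
      subfieldSubgroup F₁ P' = subfieldSubgroup F₁ P := by
  obtain ⟨z, hz⟩ := H50.exists_norm_eq hF hfix
  have hz0 : z ≠ 0 := by
    rintro rfl
    rw [zero_pow (by omega)] at hz
    exact hζ hz.symm
  refine ⟨P * scl (Fin n) (Units.mk0 z hz0), fun u v hu hv => ?_,
    subfieldSubgroup_mul_scalar F₁ P (scl_mem _)⟩
  have hval : ∀ w : Fin n → F, ((P * scl (Fin n) (Units.mk0 z hz0) : GL (Fin n) F) :
      Matrix (Fin n) (Fin n) F) *ᵥ w = z • ((P : Matrix (Fin n) (Fin n) F) *ᵥ w) := fun w => by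
    rw [Units.val_mul, scl_val, Units.val_mk0, Matrix.mul_smul, mul_one, Matrix.smul_mulVec]
  rw [hval, hval, hermForm_eq_frm hF, frm_smul_left, frm_smul_right, qSigma_apply, one_mul,
    ← mul_assoc, show z * z ^ q = ζ by rw [← hz, pow_succ]; ring, ← hermForm_eq_frm hF]
  exact hrat u v hu hv

/-- A symmetric Gram matrix over a fixed field of characteristic two with non-zero diagonal:
an invariant hyperplane. -/
theorem exists_invariant_hyperplane {ι : Type} [Fintype ι] [DecidableEq ι] (hn : 2 ≤ Fintype.card ι)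
    {σ : F ≃+* F} {M : Matrix ι ι F} (hM : IsUnit M) (h2 : (2 : F) = 0) {F₁ : Subfield F}
    (hfix : ∀ x ∈ F₁, σ x = x) (P : GL ι F) {T : Matrix ι ι F} {ζ : F} (hζ : ζ ≠ 0)
    (hT : T = ζ • ((P : Matrix ι ι F)ᵀ * M * (P : Matrix ι ι F).map σ))
    (hsymm : Tᵀ = T) (hdiag : ¬ ∀ i, T i i = 0) :
    ∃ W : Submodule F (ι → F), W ≠ ⊥ ∧ W ≠ ⊤ ∧
      subfieldSubgroup F₁ P ⊓ similarityGroup (frm σ M) ≤ subspaceStabilizer W := by
  haveI : CharP F 2 := CharTwo.of_one_ne_zero_of_two_eq_zero one_ne_zero h2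
  have hsq : ∀ a : F, ∃ s, s ^ 2 = a := fun a => by
    obtain ⟨s, hs⟩ := FiniteField.isSquare_of_char_two (ringChar.eq_iff.2 ‹CharP F 2›) a
    exact ⟨s, by rw [sq, hs]⟩
  choose s hs using fun i => hsq (T i i)
  -- the square root of the diagonal form
  have hquad : ∀ u : ι → F, u ⬝ᵥ (T *ᵥ u) = (s ⬝ᵥ u) ^ 2 := by
    intro u
    have e1 : u ⬝ᵥ (T *ᵥ u) = ∑ i, ∑ j, u i * T i j * u j := by
      simp [dotProduct, Matrix.mulVec, Finset.mul_sum, mul_assoc]
    have e2 : (s ⬝ᵥ u) ^ 2 = ∑ i, T i i * u i ^ 2 := by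
      rw [dotProduct, CharTwo.sum_sq]
      exact Finset.sum_congr rfl fun i _ => by rw [mul_pow, hs]
    rw [e1, e2]
    have key : ∀ S : Finset ι, ∑ i ∈ S, ∑ j ∈ S, u i * T i j * u j = ∑ i ∈ S, T i i * u i ^ 2 := by
      intro S
      induction S using Finset.induction_on with
      | empty => simp
      | @insert a S ha ih =>
        simp only [Finset.sum_insert ha, Finset.sum_add_distrib]
        rw [ih]
        have hcross : ∑ i ∈ S, u i * T i a * u a = ∑ j ∈ S, u a * T a j * u j := by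
          refine Finset.sum_congr rfl fun i _ => ?_
          rw [← congrFun (congrFun hsymm a) i, Matrix.transpose_apply]; ring
        rw [hcross]
        linear_combination (∑ j ∈ S, u a * T a j * u j) * h2
    exact key Finset.univ
  have hs0 : s ≠ 0 := fun h => hdiag fun i => by rw [← hs i, h]; simp
  let L : (ι → F) →ₗ[F] F :=
    { toFun := fun v => s ⬝ᵥ (((P⁻¹ : GL ι F) : Matrix ι ι F) *ᵥ v)
      map_add' := fun a b => by rw [Matrix.mulVec_add, dotProduct_add]
      map_smul' := fun c a => by rw [Matrix.mulVec_smul, dotProduct_smul, RingHom.id_apply] }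
  have hLP : ∀ u, L ((P : Matrix ι ι F) *ᵥ u) = s ⬝ᵥ u := fun u => by
    show s ⬝ᵥ _ = _
    rw [Matrix.mulVec_mulVec, Units.inv_mul, Matrix.one_mulVec]
  refine ⟨LinearMap.ker L, fun hbot => ?_, fun htop => ?_, ?_⟩
  · have h1 := LinearMap.finrank_range_add_finrank_ker L
    rw [hbot, finrank_bot, add_zero, Module.finrank_fintype_fun_eq_card] at h1
    have h3 := Submodule.finrank_le (LinearMap.range L)
    rw [Module.finrank_self] at h3
    omega
  · apply hs0
    funext i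
    have h1 : L ((P : Matrix ι ι F) *ᵥ Pi.single i 1) = 0 :=
      LinearMap.mem_ker.1 (htop ▸ Submodule.mem_top)
    rw [hLP, dotProduct_single, mul_one] at h1
    exact h1
  · have hfw : ∀ g ∈ subfieldSubgroup F₁ P ⊓ similarityGroup (frm σ M),
        ∀ v, L v = 0 → L ((g : Matrix ι ι F) *ᵥ v) = 0 := by
      rintro g ⟨⟨y, hy, rfl⟩, hgs⟩
      obtain ⟨x, ⟨X, rfl⟩, w, hw, rfl⟩ := Subgroup.mem_sup_of_normal_right.1 hy
      obtain ⟨a, rfl⟩ := exists_scl hw
      set Y : Matrix ι ι F := (X : Matrix ι ι F₁).map (F₁.subtype : F₁ →+* F) with hY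
      obtain ⟨c, hc⟩ := hgs
      have hconj : ∀ u : ι → F,
          (((MulAut.conj P).toMonoidHom
              (Matrix.GeneralLinearGroup.map (F₁.subtype : F₁ →+* F) X * scl ι a) : GL ι F) :
            Matrix ι ι F) *ᵥ ((P : Matrix ι ι F) *ᵥ u) =
          (a : F) • ((P : Matrix ι ι F) *ᵥ (Y *ᵥ u)) := by
        intro u
        show ((P * (Matrix.GeneralLinearGroup.map (F₁.subtype : F₁ →+* F) X * scl ι a) * P⁻¹ : GL ι F) :
          Matrix ι ι F) *ᵥ _ = _
        rw [Matrix.mulVec_mulVec, ← Units.val_mul, inv_mul_cancel_right, Units.val_mul, Units.val_mul,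
          scl_val, Matrix.mul_smul, mul_one, Matrix.mul_smul, Matrix.smul_mulVec, Matrix.mulVec_mulVec]
        rfl
      have hYσ : Y.map σ = Y := by
        ext i j
        exact hfix _ ((X : Matrix ι ι F₁) i j).2
      have hYT : ∃ ν : F, Yᵀ * T * Y = ν • T := by
        refine ⟨((a : F) * σ (a : F))⁻¹ * c, ?_⟩
        have h1 : Yᵀ * ((P : Matrix ι ι F)ᵀ * M * (P : Matrix ι ι F).map σ) * Y.map σ =
            (((a : F) * σ (a : F))⁻¹ * c) • ((P : Matrix ι ι F)ᵀ * M * (P : Matrix ι ι F).map σ) := by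
          refine gram_eq_of_forms_eq σ fun u v => ?_
          rw [← formOfGram_act, formOfGram_smul_gram, ← formOfGram_act, ← formOfGram_act]
          have h2 := hc ((P : Matrix ι ι F) *ᵥ u) ((P : Matrix ι ι F) *ᵥ v)
          rw [hconj, hconj, frm_smul_left, frm_smul_right, ← mul_assoc] at h2
          show frm σ M _ _ = _ * frm σ M _ _
          rw [mul_assoc, ← h2, inv_mul_cancel_left₀ (mul_ne_zero a.ne_zero ((map_ne_zero σ).2 a.ne_zero))]
        rw [hYσ] at h1
        rw [hT, Matrix.mul_smul, Matrix.smul_mul, h1, smul_comm]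
      obtain ⟨ν, hν⟩ := hYT
      obtain ⟨μ, hμ⟩ := hsq ν
      have hLY : ∀ u, (s ⬝ᵥ (Y *ᵥ u)) = μ * (s ⬝ᵥ u) := by
        intro u
        have h4 : (Y *ᵥ u) ⬝ᵥ (T *ᵥ (Y *ᵥ u)) = u ⬝ᵥ ((Yᵀ * T * Y) *ᵥ u) := by
          rw [← Matrix.mulVec_mulVec, ← Matrix.mulVec_mulVec, Matrix.dotProduct_mulVec u Yᵀ,
            Matrix.vecMul_transpose]
        rw [hν, Matrix.smul_mulVec, dotProduct_smul, smul_eq_mul, hquad, hquad] at h4
        have h1 : (s ⬝ᵥ (Y *ᵥ u)) ^ 2 = (μ * (s ⬝ᵥ u)) ^ 2 := by rw [mul_pow, hμ, h4]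
        have h3 : (s ⬝ᵥ (Y *ᵥ u) - μ * (s ⬝ᵥ u)) ^ 2 = 0 := by
          linear_combination h1 + (μ * (s ⬝ᵥ u) * (μ * (s ⬝ᵥ u)) - s ⬝ᵥ (Y *ᵥ u) * (μ * (s ⬝ᵥ u))) * h2
        exact sub_eq_zero.1 ((pow_eq_zero_iff two_ne_zero).1 h3)
      intro v hv
      obtain ⟨u, rfl⟩ : ∃ u, (P : Matrix ι ι F) *ᵥ u = v :=
        ⟨((P⁻¹ : GL ι F) : Matrix ι ι F) *ᵥ v, by
          rw [Matrix.mulVec_mulVec, Units.mul_inv, Matrix.one_mulVec]⟩
      rw [hLP] at hv
      rw [hconj, map_smul, hLP, hLY, hv, mul_zero, smul_zero]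
    intro g hg v
    refine ⟨hfw g hg v, fun hv => ?_⟩
    have h1 := hfw g⁻¹ (inv_mem hg) _ (LinearMap.mem_ker.1 hv)
    rw [Matrix.mulVec_mulVec] at h1
    change L ((((g⁻¹ : GL ι F) : Matrix ι ι F) * (g : Matrix ι ι F)) *ᵥ v) = 0 at h1
    rw [Units.inv_mul, Matrix.one_mulVec] at h1
    exact h1

/-- The possible outcomes of a unitary subfield structure. -/
theorem subfield_cases (hF : Fintype.card F = q ^ 2) (hn : 2 ≤ n) {F₁ : Subfield F} {r : ℕ}
    (hr : r.Prime) (hc : Fintype.card F = Nat.card F₁ ^ r) {P : GL (Fin n) F} {ζ : F} (hζ : ζ ≠ 0)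
    (hrat : IsFormRationalStructure (Cfsg.hermForm n F q) F₁ ζ P) :
    (∃ P' : GL (Fin n) F, Odd r ∧ IsFormRationalStructure (Cfsg.hermForm n F q) F₁ 1 P' ∧
      subfieldSubgroup F₁ P' = subfieldSubgroup F₁ P) ∨
    (∃ P' : GL (Fin n) F, r = 2 ∧ Odd q ∧ IsFormRationalStructure (Cfsg.hermForm n F q) F₁ 1 P' ∧
      subfieldSubgroup F₁ P' = subfieldSubgroup F₁ P) ∨
    (r = 2 ∧ Even n ∧ ζ + ζ ^ q = 0 ∧ ∀ u : Fin n → F, (∀ i, u i ∈ F₁) →
      Cfsg.hermForm n F q ((P : Matrix (Fin n) (Fin n) F) *ᵥ u)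
        ((P : Matrix (Fin n) (Fin n) F) *ᵥ u) = 0) ∨
    ∃ W : Submodule F (Fin n → F), W ≠ ⊥ ∧ W ≠ ⊤ ∧
      subfieldSubgroup F₁ P ⊓ similarityGroup (frm (qSigma hF) (1 : Matrix (Fin n) (Fin n) F)) ≤
        subspaceStabilizer W := by
  classical
  haveI : Nonempty (Fin n) := ⟨⟨0, by omega⟩⟩
  set σ := qSigma hF with hσdef
  set G₀ : Matrix (Fin n) (Fin n) F :=
    (P : Matrix (Fin n) (Fin n) F)ᵀ * 1 * (P : Matrix (Fin n) (Fin n) F).map σ with hG₀
  set T := ζ • G₀ with hT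
  have hG₀u : IsUnit G₀ :=
    (((Matrix.isUnit_transpose _).2 P.isUnit).mul isUnit_one).mul
      (P.isUnit.map (σ.toRingHom.mapMatrix (m := Fin n)))
  have hG₀h : (G₀.map σ)ᵀ = G₀ := by
    rw [hG₀, mul_one, Matrix.map_mul, Matrix.transpose_mul,
      show ((P : Matrix (Fin n) (Fin n) F).map σ).map σ = (P : Matrix (Fin n) (Fin n) F) by
        ext i j; exact qSigma_involutive hF _,
      Matrix.transpose_map, Matrix.transpose_transpose]
  have hfg : ∀ u v, Cfsg.hermForm n F q ((P : Matrix (Fin n) (Fin n) F) *ᵥ u)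
      ((P : Matrix (Fin n) (Fin n) F) *ᵥ v) = formOfGram (σ : F → F) G₀ u v := fun u v => by
    rw [hermForm_eq_frm hF, frm, formOfGram_act]
  have hTmem : ∀ i j, T i j ∈ F₁ := fun i j => by
    have h := hrat (Pi.single i 1) (Pi.single j 1)
      (fun k => by rcases eq_or_ne k i with rfl | h <;> simp [*, F₁.one_mem, F₁.zero_mem])
      (fun k => by rcases eq_or_ne k j with rfl | h <;> simp [*, F₁.one_mem, F₁.zero_mem])
    rwa [hfg, formOfGram_single] at h
  set lam := σ ζ / ζ with hlam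
  have hTh : (T.map σ)ᵀ = lam • T := by
    rw [hT, show (ζ • G₀).map σ = σ ζ • G₀.map σ by ext; simp, Matrix.transpose_smul, hG₀h, smul_smul,
      hlam, div_mul_cancel₀ _ hζ]
  obtain ⟨i0, j0, hij⟩ : ∃ i j, T i j ≠ 0 := by
    by_contra hcon
    simp only [not_exists, not_not] at hcon
    refine hG₀u.ne_zero (Matrix.ext fun i j => ?_)
    exact (mul_eq_zero.1 (hcon i j)).resolve_left hζ
  have hlam1 : lam ∈ F₁ := by
    have h1 := congrFun (congrFun hTh i0) j0
    simp only [Matrix.transpose_apply, Matrix.map_apply, Matrix.smul_apply, smul_eq_mul] at h1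
    have h3 : lam = σ (T j0 i0) * (T i0 j0)⁻¹ := by rw [h1, mul_inv_cancel_right₀ hij]
    rw [h3]
    exact F₁.mul_mem (ringEquiv_mem_subfield σ F₁ (hTmem _ _)) (F₁.inv_mem (hTmem _ _))
  have hlam0 : lam ≠ 0 := div_ne_zero ((map_ne_zero σ).2 hζ) hζ
  have hlamσ : σ lam * lam = 1 := by
    rw [hlam, map_div₀, qSigma_involutive hF, div_mul_div_comm, mul_comm ζ]
    exact div_self (mul_ne_zero ((map_ne_zero σ).2 hζ) hζ)
  -- rescaling ζ inside F₁
  have hscale : ∀ μ ∈ F₁, IsFormRationalStructure (Cfsg.hermForm n F q) F₁ (μ * ζ) P :=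
    fun μ hμ u v hu hv => by rw [mul_assoc]; exact F₁.mul_mem hμ (hrat u v hu hv)
  rcases hr.eq_two_or_odd' with rfl | hodd
  swap
  · left
    obtain ⟨μ, hμ, hμ0, hμfix⟩ : ∃ μ ∈ F₁, μ ≠ 0 ∧ σ (μ * ζ) = μ * ζ := by
      by_contra hcon
      simp only [not_exists, not_and] at hcon
      have hz : ∀ c ∈ F₁, c + lam * σ c = 0 := fun c hc => by
        by_contra h
        refine hcon _ (F₁.add_mem hc (F₁.mul_mem hlam1 (ringEquiv_mem_subfield σ F₁ hc))) h ?_
        have e1 : σ ζ = lam * ζ := by rw [hlam, div_mul_cancel₀ _ hζ]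
        rw [map_mul, map_add, map_mul, qSigma_involutive hF, e1]
        linear_combination ζ * c * hlamσ
      have h1 : 1 + lam = 0 := by simpa using hz 1 F₁.one_mem
      have hfix : ∀ c ∈ F₁, σ c = c := fun c hc => by
        linear_combination (σ c) * h1 - hz c hc
      -- a field between F₁ and F of index two
      set K₀ := σ.toRingHom.eqLocusField (RingHom.id F) with hK₀
      have hK : Nat.card K₀ ^ 2 = Fintype.card F :=
        card_fixed_sq σ.toRingHom (fun h => qSigma_ne_refl hF (RingEquiv.ext fun a => RingHom.congr_fun h a))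
          (qSigma_involutive hF)
      have hle : F₁ ≤ K₀ := fun c hc => hfix c hc
      letI : Algebra F₁ K₀ := RingHom.toAlgebra (Subfield.inclusion hle)
      have hj := Module.natCard_eq_pow_finrank (K := F₁) (V := K₀)
      rw [hj, ← pow_mul, hc] at hK
      have h2 : 1 < Nat.card F₁ := Finite.one_lt_card
      have h3 := Nat.pow_right_injective h2 hK
      rw [← h3] at hodd
      exact (Nat.not_odd_iff_even.2 even_two) (Nat.odd_mul.1 hodd).2
    obtain ⟨P', h1, h2⟩ := exists_rational_one hF (mul_ne_zero hμ0 hζ) (by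
      rw [← qSigma_apply hF]; exact hμfix) (hscale μ hμ)
    exact ⟨P', hodd, h1, h2⟩
  right
  have hqF : Nat.card F₁ = q := by
    have h1 := hc.symm.trans hF
    exact Nat.pow_left_injective two_ne_zero h1
  have hfix : ∀ x ∈ F₁, σ x = x := fun x hx => by
    rw [hσdef, qSigma_apply]
    exact (subfield_mem_iff_pow F₁ hqF x).1 hx
  have hTt : Tᵀ = lam • T := by
    rw [← hTh]
    ext i j
    simp [hfix _ (hTmem _ _)]
  have hfu : ∀ u : Fin n → F, (∀ i, u i ∈ F₁) → ζ * Cfsg.hermForm n F q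
      ((P : Matrix (Fin n) (Fin n) F) *ᵥ u) ((P : Matrix (Fin n) (Fin n) F) *ᵥ u) =
      formOfGram (RingEquiv.refl F : F → F) T u u := by
    intro u hu
    rw [hfg, ← formOfGram_smul_gram]
    simp only [formOfGram]
    exact Finset.sum_congr rfl fun a _ => Finset.sum_congr rfl fun b _ => by
      rw [hfix _ (hu b), RingEquiv.refl_apply]
  have halt : Tᵀ = -T → (∀ i, T i i = 0) → Even n ∧ ∀ u : Fin n → F, (∀ i, u i ∈ F₁) →
      Cfsg.hermForm n F q ((P : Matrix (Fin n) (Fin n) F) *ᵥ u)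
        ((P : Matrix (Fin n) (Fin n) F) *ᵥ u) = 0 := by
    intro hs hd
    have hTu : IsUnit T := by
      rw [hT, show ζ • G₀ = (Units.mk0 ζ hζ) • G₀ from rfl]
      exact hG₀u.smul _
    have hsf := isSymplecticForm_gram T hTu hs hd
    refine ⟨?_, fun u hu => ?_⟩
    · have := even_card_of_symplectic hsf
      rwa [Fintype.card_fin] at this
    · refine (mul_eq_zero.1 ?_).resolve_left hζ
      rw [hfu u hu]
      exact hsf.alternating u
  rcases mul_self_eq_one_iff.1 (show lam * lam = 1 by rw [← hlamσ, hfix _ hlam1]) with h1 | h1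
  · have hζfix : ζ ^ q = ζ := by
      have := (div_eq_one_iff_eq hζ).1 h1
      rwa [qSigma_apply] at this
    rcases Nat.even_or_odd q with hev | hodd
    · have h2 : (2 : F) = 0 := by
        by_contra h
        have hoF := two_ne_zero_iff_odd.1 h
        rw [hF] at hoF
        exact (Nat.not_odd_iff_even.2 hev) ((Nat.odd_pow_iff two_ne_zero).1 hoF)
      rw [h1, one_smul] at hTt
      by_cases hd : ∀ i, T i i = 0
      · right; left
        obtain ⟨he, hv⟩ := halt (by rw [hTt]; ext i j; simp; linear_combination T i j * h2) hd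
        refine ⟨rfl, he, ?_, hv⟩
        rw [hζfix]
        linear_combination ζ * h2
      · right; right
        exact exists_invariant_hyperplane (by rw [Fintype.card_fin]; exact hn) isUnit_one h2 hfix P hζ
          (by rw [hT, hG₀]) hTt hd
    · left
      obtain ⟨P', h2, h3⟩ := exists_rational_one hF hζ hζfix hrat
      exact ⟨P', rfl, hodd, h2, h3⟩
  · rw [h1, neg_one_smul] at hTt
    have hζq : ζ + ζ ^ q = 0 := by
      have h3 : σ ζ = -ζ := by
        rw [← neg_one_mul ζ, ← h1, hlam, div_mul_cancel₀ _ hζ]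
      rw [qSigma_apply] at h3
      rw [h3, add_neg_cancel]
    by_cases h2 : (2 : F) = 0
    · rcases em (∀ i, T i i = 0) with hd | hd
      · right; left
        obtain ⟨he, hv⟩ := halt hTt hd
        exact ⟨rfl, he, hζq, hv⟩
      · right; right
        refine exists_invariant_hyperplane (by rw [Fintype.card_fin]; exact hn) isUnit_one h2 hfix P hζ
          (by rw [hT, hG₀]) ?_ hd
        rw [hTt]
        ext i j
        simp only [Matrix.neg_apply]
        linear_combination -(T i j) * h2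
    · right; left
      obtain ⟨he, hv⟩ := halt hTt fun i => by
        have h3 := congrFun (congrFun hTt i) i
        simp only [Matrix.transpose_apply, Matrix.neg_apply] at h3
        exact (mul_eq_zero.1 (show (2 : F) * T i i = 0 by linear_combination h3)).resolve_left h2
      exact ⟨rfl, he, hζq, hv⟩

/-- The dimension of a decomposed space. -/
theorem card_eq_of_decomposition {ι : Type} [Fintype ι] [DecidableEq ι] {t m : ℕ}
    {D : Fin t → Submodule F (ι → F)} (hD : IsMDecomposition m D) : Fintype.card ι = t * m := by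
  classical
  have hint : DirectSum.IsInternal D :=
    DirectSum.isInternal_submodule_of_iSupIndep_of_iSup_eq_top hD.indep hD.iSup_eq_top
  let b := hint.collectedBasis fun i => Module.finBasisOfFinrankEq F (D i) (hD.finrank_eq i)
  rw [← Module.finrank_fintype_fun_eq_card F, Module.finrank_eq_card_basis b]
  simp

/-- The symplectic-type data of a unitary structure: z = 4 forces degree two. -/
theorem minimal_four {z p e : ℕ} (h : IsMinimalFieldFor z p e F) (hz : z = 4) (he : Even e)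
    (hp : p ≠ 2) : e = 2 := by
  obtain ⟨hpp, -, hcard, -, hmin⟩ := h
  subst hz
  have he0 : e ≠ 0 := by
    rintro rfl
    have := Fintype.one_lt_card (α := F)
    simp [hcard] at this
  obtain ⟨h', rfl⟩ := he
  by_contra hne
  refine hmin 2 two_pos (by omega) ?_
  obtain ⟨a, rfl⟩ := hpp.odd_of_ne_two hp
  exact ⟨a * (a + 1), by
    have : (2 * a + 1) ^ 2 = 4 * (a * (a + 1)) + 1 := by ring
    omega⟩

/-- A unitary group preserving a structure lies in a class member; the tensor powers with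
q = 2 and factors of dimension three are left to the caller. -/
theorem inUnitaryClass_of_geometric (hF : Fintype.card F = q ^ 2) (hn : 3 ≤ n)
    {H : Subgroup (GL (Fin n) F)} (hH : H ≤ Cfsg.GU n F q)
    (hq23 : q = 2 → ∀ (t : ℕ) (e : Fin n ≃ (Fin t → Fin 3)) (P : GL (Fin n) F)
      (M₁ : Matrix (Fin 3) (Fin 3) F) (c : F), 2 ≤ t → c ≠ 0 → CF (qSigma hF) M₁ →
      coordGram (qSigma hF) 1 e P = c • ptm (fun _ => M₁) → H ≤ tensorWreathSubgroup 3 t e P →
      ∃ M, InUnitaryClass n F q M ∧ H ≤ M)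
    (hg : ClsGeometric (qSigma hF) (1 : Matrix (Fin n) (Fin n) F) H) :
    ∃ M, InUnitaryClass n F q M ∧ H ≤ M := by
  have hσ := qSigma_ne_refl hF
  have hf := hermForm_eq_frm (n := n) hF
  have hM := cf_one (n := n) hF
  -- the class of the stabiliser of a subspace
  have hsub : ∀ W : Submodule F (Fin n → F), W ≠ ⊥ → W ≠ ⊤ → H ≤ subspaceStabilizer W →
      ∃ M, InUnitaryClass n F q M ∧ H ≤ M := by
    intro W hb ht hW
    rcases hM.reducible_cases (le_similarity_of_le_GU hF hH) hb ht hW with ⟨U, h1, -, h3, h4⟩ |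
      ⟨U, h1, -, h3, h4, h5⟩ | ⟨m, D, h1, h2⟩
    · exact ⟨_, Or.inl (Or.inl ⟨U, h1, hf ▸ h3, rfl⟩), le_inf h4 hH⟩
    · exact ⟨_, Or.inl (Or.inr (Or.inl ⟨U, h1, hf ▸ h3, by simpa using h4, rfl⟩)), le_inf h5 hH⟩
    · exact ⟨_, Or.inl (Or.inr (Or.inr (Or.inl ⟨2, m, D, hf ▸ h1, rfl⟩))), le_inf h2 hH⟩
  cases hg with
  | totSing W hb ht hts h => exact ⟨_, Or.inl (Or.inl ⟨W, hb, hf ▸ hts, rfl⟩), le_inf h hH⟩
  | nondegSub W hb ht hnd hd h =>
    exact ⟨_, Or.inl (Or.inr (Or.inl ⟨W, hb, hf ▸ hnd, by simpa using hd, rfl⟩)), le_inf h hH⟩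
  | decomp t m D hD h =>
    exact ⟨_, Or.inl (Or.inr (Or.inr (Or.inl ⟨t, m, D, hf ▸ hD, rfl⟩))), le_inf h hH⟩
  | tsPair m D hD hts h =>
    have hnm : 2 * m = n := by
      have := card_eq_of_decomposition hD
      rwa [Fintype.card_fin, eq_comm] at this
    exact ⟨_, Or.inl (Or.inr (Or.inr (Or.inr (Or.inl ⟨m, D, hnm, hD, hf ▸ hts, rfl⟩)))), le_inf h hH⟩
  | selfField r K hσ' hr hK hsa halt hd h => exact absurd hσ' hσ
  | twistField r K hr hK hcl hs hu hd h =>
    exact ⟨_, Or.inr (Or.inl ⟨r, K, hr, hu hσ, hK, hf ▸ hcl, rfl⟩), le_inf h hH⟩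
  | tensor n₁ n₂ e P M₁ M₂ h1 h2 hg hM₁ hM₂ hs hu h =>
    obtain ⟨hM₂', hlt⟩ := hu hσ
    refine ⟨_, Or.inr (Or.inr (Or.inl ⟨n₁, n₂, e, P, frm (qSigma hF) M₁, frm (qSigma hF) M₂, h1, hlt,
      unitaryFormPow hF hM₁, unitaryFormPow hF hM₂', ?_, rfl⟩)), le_inf h hH⟩
    refine ⟨1, one_ne_zero, fun x y => ?_⟩
    rw [one_mul, gramMatrix_frm, gramMatrix_frm, hf, frm_coords, hg, ← qSigma_coe hF]
  | subfield F₁ r P ζ hr hc hζ hrat h =>
    rw [← hf] at hrat
    rcases subfield_cases hF (by omega) hr hc hζ hrat with ⟨P', ho, h1, h2⟩ | ⟨P', rfl, ho, h1, h2⟩ |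
      ⟨rfl, he, hz, hv⟩ | ⟨W, h1, h2, h3⟩
    · exact ⟨_, Or.inl (Or.inr (Or.inr (Or.inr (Or.inr (Or.inl ⟨F₁, r, P', hr, ho, hc, h1, rfl⟩))))),
        le_inf (h2 ▸ h) hH⟩
    · exact ⟨_, Or.inl (Or.inr (Or.inr (Or.inr (Or.inr (Or.inr (Or.inl ⟨F₁, P', ho, hc, h1, rfl⟩)))))),
        le_inf (h2 ▸ h) hH⟩
    · exact ⟨_, Or.inl (Or.inr (Or.inr (Or.inr (Or.inr (Or.inr (Or.inr (Or.inl
        ⟨F₁, P, ζ, he, hc, hζ, hz, hrat, hv, rfl⟩))))))), le_inf h hH⟩
    · exact hsub W h1 h2 ((le_inf h (le_similarity_of_le_GU hF hH)).trans h3)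
  | sympType r k p e R hR habs hiso hk hn' hp hchar hq' hrp hs hu h =>
    obtain ⟨hmin, he, -, htype⟩ := hu hσ
    refine ⟨_, Or.inl (Or.inr (Or.inr (Or.inr (Or.inr (Or.inr (Or.inr (Or.inr
      ⟨r, R, p, e, k, hR, habs, fun x hx => ⟨1, fun u v => ?_⟩, hrp, hmin, ?_, rfl⟩))))))), le_inf h hH⟩
    · rw [Units.val_one, one_mul, hf]
      exact hiso x hx u v
    · rcases htype with ⟨ho, hz, hc⟩ | ⟨rfl, hz, hc⟩
      · exact Or.inl ⟨ho, hz, hk, hc⟩
      · exact Or.inr ⟨rfl, minimal_four hmin hz he (fun h => hrp h.symm), hz, hc⟩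
  | power a t e P M₁ ha ht c hc hgram hM₁ hs hu h =>
    by_cases hex : q = 2 ∧ a = 3
    · obtain ⟨hq, rfl⟩ := hex
      exact hq23 hq t e P M₁ c ht hc hM₁ hgram h
    refine ⟨_, Or.inr (Or.inr (Or.inr ⟨a, t, e, P, frm (qSigma hF) M₁, hu hσ, ht, hex,
      unitaryFormPow hF hM₁, ?_, rfl⟩)), le_inf h hH⟩
    refine ⟨c, hc, fun x y => ?_⟩
    rw [gramMatrix_frm, hf, frm_coords, hgram, frm, formOfGram_smul_gram, formOfGram, ← qSigma_coe hF]
    rfl
  | quad Q hσ' he hQ hp h => exact absurd hσ' hσ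

end H45
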