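import Cfsg.Agent.H45.HeisFour
import Cfsg.Agent.H45.ClsUnitary

/-!
A tensor power structure of three-dimensional unitary forms over the field of four elements lies in
the normaliser of a symplectic-type group of order 3^(1+2t).
-/

set_option autoImplicit false
set_option linter.style.haveILetI false
set_option linter.unusedSectionVars false
set_option maxHeartbeats 1000000

open Cfsg.Geo
open scoped Matrix Kronecker MatrixGroups
open Fin.CommRing

namespace H45

namespace HeisFour

open H46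

variable {F : Type*} [Field F] [Fintype F] {w : F} {t : ℕ}

theorem glPtm_mul {k a : ℕ} (gs hs : Fin k → GL (Fin a) F) :
    glPtm (gs * hs) = glPtm gs * glPtm hs := by
  apply Units.ext
  rw [Units.val_mul, glPtm_val, glPtm_val, glPtm_val, ← ptm_mul]
  rfl

theorem glPtm_one {k a : ℕ} : glPtm (1 : Fin k → GL (Fin a) F) = 1 := by
  apply Units.ext
  rw [glPtm_val]
  exact ptm_one

theorem glPtm_inv {k a : ℕ} (gs : Fin k → GL (Fin a) F) : (glPtm gs)⁻¹ = glPtm gs⁻¹ := by
  apply inv_eq_of_mul_eq_one_right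
  rw [← glPtm_mul, mul_inv_cancel, glPtm_one]

theorem glPerm_refl {k a : ℕ} : glPerm (Equiv.refl (Fin k)) = (1 : GL (Fin k → Fin a) F) :=
  Units.ext (by ext u v; simp [glPerm, Matrix.one_apply, eq_comm])

theorem glPerm_mul {k a : ℕ} (s s' : Equiv.Perm (Fin k)) :
    (glPerm s : GL (Fin k → Fin a) F) * glPerm s' = glPerm (s * s') := by
  apply Units.ext
  ext x y
  simp only [Units.val_mul, Matrix.mul_apply, glPerm, Matrix.of_apply, ite_mul, one_mul, zero_mul,
    Finset.sum_ite_eq', Finset.mem_univ, if_true]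
  rfl

theorem glPerm_conj_glPtm {k a : ℕ} (s : Equiv.Perm (Fin k)) (rs : Fin k → GL (Fin a) F) :
    glPerm s * glPtm rs * (glPerm s)⁻¹ = glPtm (rs ∘ ⇑s.symm) := by
  apply Units.ext
  rw [Units.val_mul, Units.val_mul, glPtm_val, glPtm_val, ← glConj_apply, glPerm_ptm]
  rfl

/-- Elements of the standard tensor-wreath group. -/
theorem exists_of_mem_wreath {k a : ℕ} {g : GL (Fin k → Fin a) F}
    (hg : g ∈ tensorWreathStandard a k F) :
    ∃ (s : Equiv.Perm (Fin k)) (gs : Fin k → GL (Fin a) F), g = glPerm s * glPtm gs := by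
  let T : Submonoid (GL (Fin k → Fin a) F) :=
    { carrier := {g | ∃ (s : Equiv.Perm (Fin k)) (gs : Fin k → GL (Fin a) F), g = glPerm s * glPtm gs}
      one_mem' := ⟨Equiv.refl _, 1, by rw [glPerm_refl, glPtm_one, mul_one]⟩
      mul_mem' := by
        rintro _ _ ⟨s, gs, rfl⟩ ⟨s', gs', rfl⟩
        refine ⟨s * s', (gs ∘ ⇑s') * gs', ?_⟩
        have h := glPerm_conj_glPtm s' (gs ∘ ⇑s')
        rw [show (gs ∘ ⇑s') ∘ ⇑s'.symm = gs from funext fun i => by simp] at h
        rw [← h, glPtm_mul, ← glPerm_mul]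
        group }
  have hsub : {g | IsPureTensor a k g ∨ IsFactorPermutation a k g} ⊆
      (T : Set (GL (Fin k → Fin a) F)) := by
    rintro g (⟨gs, hgs⟩ | ⟨s, hs⟩)
    · exact ⟨Equiv.refl _, gs, by rw [glPerm_refl, one_mul]; exact Units.ext (Matrix.ext hgs)⟩
    · exact ⟨s, 1, by rw [glPtm_one, mul_one]; exact Units.ext (Matrix.ext hs)⟩
  haveI : Finite (GL (Fin k → Fin a) F) := inferInstance
  have hinv : ∀ x ∈ T, x⁻¹ ∈ T := fun x hx => by
    have h1 : x⁻¹ = x ^ (orderOf x - 1) := by
      refine inv_eq_of_mul_eq_one_right ?_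
      rw [← pow_succ', Nat.sub_add_cancel (orderOf_pos x), pow_orderOf_eq_one]
    rw [h1]
    exact pow_mem hx _
  have hle : tensorWreathStandard a k F ≤ { T with inv_mem' := fun {x} hx => hinv x hx } :=
    (Subgroup.closure_le _).2 hsub
  exact hle hg

/-- The member with parameters (a, b, c). -/
noncomputable def hGL (hw : w ^ 2 + w + 1 = 0) (p : Fin 3 × Fin 3) (c : Fin 3) : GL (Fin 3) F :=
  (hMat_isUnit hw p.1 p.2 c).unit

theorem hGL_val (hw : w ^ 2 + w + 1 = 0) (p : Fin 3 × Fin 3) (c : Fin 3) :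
    ((hGL hw p c : GL (Fin 3) F) : Matrix (Fin 3) (Fin 3) F) = hMat w p.1 p.2 c :=
  IsUnit.unit_spec _

/-- The normal form: the scalar collected in the first factor. -/
noncomputable def par (hw : w ^ 2 + w + 1 = 0) (ab : Fin (t + 1) → Fin 3 × Fin 3) (c : Fin 3) :
    GL (Fin (t + 1) → Fin 3) F :=
  glPtm fun i => hGL hw (ab i) (if i = 0 then c else 0)

theorem par_val (hw : w ^ 2 + w + 1 = 0) (ab : Fin (t + 1) → Fin 3 × Fin 3) (c : Fin 3) :
    ((par hw ab c : GL _ F) : Matrix (Fin (t + 1) → Fin 3) (Fin (t + 1) → Fin 3) F) =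
      ptm fun i => hMat w (ab i).1 (ab i).2 (if i = 0 then c else 0) := by
  rw [par, glPtm_val]
  simp only [hGL_val]

theorem W_sum (hw : w ^ 2 + w + 1 = 0) {α : Type*} (s : Finset α) (f : α → Fin 3) :
    W w (∑ i ∈ s, f i) = ∏ i ∈ s, W w (f i) := by
  classical
  induction s using Finset.induction_on with
  | empty => simp [W_zero]
  | @insert a s ha ih => rw [Finset.sum_insert ha, Finset.prod_insert ha, W_add hw, ih]

/-- Scalars of the factors collect. -/
theorem ptm_hMat (hw : w ^ 2 + w + 1 = 0) (ab : Fin (t + 1) → Fin 3 × Fin 3)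
    (cs : Fin (t + 1) → Fin 3) :
    (ptm fun i => hMat w (ab i).1 (ab i).2 (cs i)) = W w (∑ i, cs i) •
      ptm fun i => hMat w (ab i).1 (ab i).2 0 := by
  rw [W_sum hw, ← ptm_smul]
  congr 1
  funext i
  ext u v
  simp [hMat, W_add hw, mul_ite, mul_comm]

theorem par_eq (hw : w ^ 2 + w + 1 = 0) (ab : Fin (t + 1) → Fin 3 × Fin 3) (c : Fin 3) :
    ((par hw ab c : GL _ F) : Matrix (Fin (t + 1) → Fin 3) (Fin (t + 1) → Fin 3) F) =
      W w c • ptm fun i => hMat w (ab i).1 (ab i).2 0 := by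
  rw [par_val, ptm_hMat hw ab fun i => if i = 0 then c else 0]
  simp

theorem glPtm_hGL (hw : w ^ 2 + w + 1 = 0) (ab : Fin (t + 1) → Fin 3 × Fin 3)
    (cs : Fin (t + 1) → Fin 3) :
    glPtm (fun i => hGL hw (ab i) (cs i)) = par hw ab (∑ i, cs i) := by
  apply Units.ext
  rw [par_eq, glPtm_val, ← ptm_hMat hw]
  simp only [hGL_val]

theorem par_mul (hw : w ^ 2 + w + 1 = 0) (ab ab' : Fin (t + 1) → Fin 3 × Fin 3) (c c' : Fin 3) :
    ∃ c'', par hw ab c * par hw ab' c' = par hw (ab + ab') c'' := by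
  refine ⟨∑ i, ((if i = 0 then c else 0) + (if i = 0 then c' else 0) + (ab' i).2 * (ab i).1), ?_⟩
  rw [← glPtm_hGL, par, par, ← glPtm_mul]
  congr 1
  funext i
  apply Units.ext
  rw [Pi.mul_apply, Units.val_mul, hGL_val, hGL_val, hGL_val, hMat_mul hw]
  rfl

theorem par_prop (hw : w ^ 2 + w + 1 = 0) (h2 : (2 : F) = 0) {ab ab' : Fin (t + 1) → Fin 3 × Fin 3}
    {c c' : Fin 3} {l : F}
    (h : ((par hw ab c : GL _ F) : Matrix (Fin (t + 1) → Fin 3) (Fin (t + 1) → Fin 3) F) =
      l • ((par hw ab' c' : GL _ F) : Matrix (Fin (t + 1) → Fin 3) (Fin (t + 1) → Fin 3) F)) :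
    ab = ab' ∧ l * W w c' = W w c := by
  rw [par_eq, par_eq, smul_smul] at h
  have h' : (ptm fun i => hMat w (ab i).1 (ab i).2 0) =
      ptm fun i => Function.update (1 : Fin (t + 1) → F) 0 ((W w c)⁻¹ * (l * W w c')) i •
        hMat w (ab' i).1 (ab' i).2 0 := by
    rw [ptm_smul, Finset.prod_update_of_mem (Finset.mem_univ _), ← one_smul F (ptm fun i => hMat w (ab i).1 (ab i).2 0),
      ← inv_mul_cancel₀ (W_ne_zero hw c), ← smul_smul, h, smul_smul]
    simp
  have hl0 : l * W w c' ≠ 0 := by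
    intro h0
    rw [h0, zero_smul] at h
    rcases smul_eq_zero.1 h with h1 | h1
    · exact W_ne_zero hw c h1
    · have := congrArg (fun X => X) h1
      exact (isUnit_ptm fun i => hMat_isUnit hw (ab i).1 (ab i).2 0).ne_zero h1
  obtain ⟨d, hd, hp⟩ := ptm_eq_ptm h' fun i => by
    refine smul_ne_zero ?_ (hMat_ne_zero hw _ _ _)
    rcases eq_or_ne i 0 with rfl | hi
    · rw [Function.update_self]; exact mul_ne_zero (inv_ne_zero (W_ne_zero hw c)) hl0
    · rw [Function.update_of_ne hi]; exact one_ne_zero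
  have hab : ∀ i, (ab i).1 = (ab' i).1 ∧ (ab i).2 = (ab' i).2 := fun i => by
    have h1 := hd i
    rw [smul_smul] at h1
    exact ⟨(hMat_prop hw h2 h1).1, (hMat_prop hw h2 h1).2.1⟩
  have heq : ab = ab' := funext fun i => Prod.ext (hab i).1 (hab i).2
  refine ⟨heq, ?_⟩
  subst heq
  exact (smul_left_injective F (isUnit_ptm fun i => hMat_isUnit hw (ab i).1 (ab i).2 0).ne_zero h).symm

theorem par_injective (hw : w ^ 2 + w + 1 = 0) (h2 : (2 : F) = 0) :
    Function.Injective fun p : (Fin (t + 1) → Fin 3 × Fin 3) × Fin 3 => par hw p.1 p.2 := by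
  rintro ⟨ab, c⟩ ⟨ab', c'⟩ h
  obtain ⟨h1, hc⟩ := par_prop hw h2 (show (par hw ab c).val = (1 : F) • (par hw ab' c').val by
    rw [one_smul]; exact congrArg Units.val h)
  rw [one_mul] at hc
  exact Prod.ext h1 (W_injective hw h2 hc).symm

theorem par_zero (hw : w ^ 2 + w + 1 = 0) (c : Fin 3) :
    ((par hw (0 : Fin (t + 1) → Fin 3 × Fin 3) c : GL _ F) :
      Matrix (Fin (t + 1) → Fin 3) (Fin (t + 1) → Fin 3) F) = W w c • 1 := by
  rw [par_eq]
  simp only [Pi.zero_apply, Prod.fst_zero, Prod.snd_zero, hMat_one]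
  exact congrArg _ ptm_one

/-- The group in coordinates. -/
noncomputable def parGroup (t : ℕ) (hw : w ^ 2 + w + 1 = 0) :
    Subgroup (GL (Fin (t + 1) → Fin 3) F) where
  carrier := {g | ∃ ab c, g = par hw ab c}
  one_mem' := ⟨0, 0, Units.ext (by rw [par_zero, W_zero, one_smul, Units.val_one])⟩
  mul_mem' := by
    rintro _ _ ⟨ab, c, rfl⟩ ⟨ab', c', rfl⟩
    exact ⟨ab + ab', par_mul hw ab ab' c c'⟩
  inv_mem' := by
    rintro _ ⟨ab, c, rfl⟩
    obtain ⟨c', hc'⟩ := par_mul hw ab (-ab) c 0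
    rw [add_neg_cancel] at hc'
    obtain ⟨c₀, hc₀⟩ : ∃ c₀, c₀ + c' = (0 : Fin 3) := ⟨-c', neg_add_cancel c'⟩
    refine ⟨-ab, c₀, inv_eq_of_mul_eq_one_right ?_⟩
    apply Units.ext
    have h1 := congrArg Units.val hc'
    rw [Units.val_mul, par_zero, par_eq hw (-ab) 0, W_zero, one_smul] at h1
    rw [Units.val_mul, par_eq hw (-ab) c₀, Matrix.mul_smul, h1, smul_smul, ← W_add, hc₀, W_zero,
      one_smul, Units.val_one]
    exact hw

theorem parGroup_cube (hw : w ^ 2 + w + 1 = 0) (h2 : (2 : F) = 0)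
    {g : GL (Fin (t + 1) → Fin 3) F} (hg : g ∈ parGroup t hw) : g ^ 3 = 1 := by
  obtain ⟨ab, c, rfl⟩ := hg
  rw [pow_succ, sq, par, ← glPtm_mul, ← glPtm_mul, ← glPtm_one]
  congr 1
  funext i
  apply Units.ext
  simp only [Pi.mul_apply, Pi.one_apply, Units.val_mul, hGL_val, hMat_mul hw, Units.val_one]
  have hz : ∀ x : Fin 3, x + x + x = 0 := by decide
  generalize (if i = 0 then c else 0) = c₀
  generalize (ab i).1 = a
  generalize (ab i).2 = b
  rw [hz, hz, ← hMat_one w]
  congr 1
  revert a b c₀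
  decide

/-- A non-central member has a conjugate by an isometry not commuting with it. -/
theorem exists_noncomm (hw : w ^ 2 + w + 1 = 0) (h2 : (2 : F) = 0) {σ : F ≃+* F} (hσw : σ w = w ^ 2)
    {p : Fin 3 × Fin 3} (c : Fin 3) (hp : p ≠ 0) :
    ∃ h : GL (Fin 3) F, (h : Matrix (Fin 3) (Fin 3) F) * ((h : Matrix (Fin 3) (Fin 3) F).map σ)ᵀ = 1 ∧
      h * hGL hw p c * h⁻¹ * hGL hw p c ≠ hGL hw p c * (h * hGL hw p c * h⁻¹) := by
  obtain ⟨a, b⟩ := p
  have key : ∀ {h : GL (Fin 3) F} {a' b' c' : Fin 3},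
      ((h * hGL hw (a, b) c * h⁻¹ : GL (Fin 3) F) : Matrix (Fin 3) (Fin 3) F) = hMat w a' b' c' →
      b * a' ≠ b' * a →
      h * hGL hw (a, b) c * h⁻¹ * hGL hw (a, b) c ≠ hGL hw (a, b) c * (h * hGL hw (a, b) c * h⁻¹) := by
    intro h a' b' c' he hne heq
    have h1 := congrArg Units.val heq
    rw [Units.val_mul, Units.val_mul _ (h * hGL hw (a, b) c * h⁻¹), he, hGL_val] at h1
    exact hne (hMat_commute hw h2 h1)
  by_cases ha : a = 0
  · -- the Fourier matrix
    subst ha
    have hb : b ≠ 0 := fun hb => hp (by rw [hb]; rfl)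
    let V : Matrix (Fin 3) (Fin 3) F := Matrix.of fun i j => W w (i * j)
    have hV : V * (V.map σ)ᵀ = 1 := by
      ext i k
      rw [Matrix.mul_apply, Matrix.one_apply]
      simp only [V, Matrix.transpose_apply, Matrix.map_apply, Matrix.of_apply, map_W hw hσw, ← W_add hw]
      rw [Finset.sum_congr rfl (fun j _ => show W w (i * j + -(k * j)) = W w ((i - k) * j + 0) by
        congr 1; ring), sum_W hw h2, W_zero]
      simp [sub_eq_zero]
    obtain ⟨h, hh⟩ : IsUnit V := IsUnit.of_mul_eq_one _ hV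
    refine ⟨h, by rw [hh]; exact hV, key (a' := b) (b' := 0) (c' := c) ?_ ?_⟩
    · ext i k
      rw [conj_entry h _ (by rw [hh]; exact hV), hh, hGL_val]
      rw [Finset.sum_congr rfl (fun j _ => ?_), sum_W hw h2 (β := i - k + b) (γ := c)]
      · have hiff : i - k + b = 0 ↔ k = i + b := by
          rw [sub_add_eq_add_sub, sub_eq_zero]; exact eq_comm
        simp only [hiff, hMat, Matrix.of_apply, zero_mul, zero_add]
      · rw [Finset.sum_eq_single j]
        · simp only [V, hMat, Matrix.of_apply, add_zero, if_true, map_W hw hσw, ← W_add hw]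
          congr 1
          ring
        · intro l _ hl; simp [hMat, hl]
        · simp
    · have : ∀ b : Fin 3, b ≠ 0 → b * b ≠ 0 * 0 := by decide
      exact this b hb
  · -- a diagonal matrix
    let δ : Fin 3 → Fin 3 := ![0, 0, 1]
    let D : Matrix (Fin 3) (Fin 3) F := Matrix.diagonal fun i => W w (δ i)
    have hD : D * (D.map σ)ᵀ = 1 := by
      rw [Matrix.diagonal_map (map_zero σ), Matrix.diagonal_transpose, Matrix.diagonal_mul_diagonal,
        ← Matrix.diagonal_one]
      congr 1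
      funext i
      simp only [Function.comp_apply, map_W hw hσw, ← W_add hw, add_neg_cancel, W_zero]
    obtain ⟨h, hh⟩ : IsUnit D := IsUnit.of_mul_eq_one _ hD
    refine ⟨h, by rw [hh]; exact hD, key (a' := a) (b' := b + ((δ 1 - δ (1 + a)) - (δ 0 - δ a)))
      (c' := c + (δ 0 - δ a)) ?_ ?_⟩
    · ext i k
      rw [conj_entry h _ (by rw [hh]; exact hD), hh, hGL_val,
        Finset.sum_eq_single i, Finset.sum_eq_single k]
      · simp only [D, hMat, Matrix.of_apply, Matrix.diagonal_apply_eq, mul_ite, ite_mul, mul_zero,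
          zero_mul, map_W hw hσw, ← W_add hw]
        split_ifs with hk
        · congr 1
          subst hk
          have key2 : ∀ a b c i : Fin 3,
              ![0, 0, (1 : Fin 3)] i + (b * i + c) + -![0, 0, (1 : Fin 3)] (i + a) =
                (b + (![0, 0, (1 : Fin 3)] 1 - ![0, 0, (1 : Fin 3)] (1 + a) -
                  (![0, 0, (1 : Fin 3)] 0 - ![0, 0, (1 : Fin 3)] a))) * i +
                  (c + (![0, 0, (1 : Fin 3)] 0 - ![0, 0, (1 : Fin 3)] a)) := by decide
          exact key2 a b c i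
        · rfl
      · intro l _ hl; simp [D, Matrix.diagonal_apply_ne' _ hl]
      · simp
      · intro j _ hj; simp [D, Matrix.diagonal_apply_ne' _ hj]
      · simp
    · have : ∀ a b : Fin 3, a ≠ 0 → b * a ≠
          (b + ((![0, 0, (1 : Fin 3)] 1 - ![0, 0, (1 : Fin 3)] (1 + a)) -
            (![0, 0, (1 : Fin 3)] 0 - ![0, 0, (1 : Fin 3)] a))) * a := by decide
      exact this a b ha

theorem parGroup_span (hw : w ^ 2 + w + 1 = 0) (h2 : (2 : F) = 0) :
    Algebra.adjoin F (matrixSet (parGroup t hw)) = ⊤ := by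
  classical
  rw [eq_top_iff]
  intro Z _
  rw [Matrix.matrix_eq_sum_single Z]
  refine sum_mem fun x _ => sum_mem fun y _ => ?_
  have hsingle : Matrix.single x y (1 : F) = ∑ bs : Fin (t + 1) → Fin 3,
      ptm fun i => hMat w (y i - x i) (bs i) (-(bs i * x i)) := by
    ext u v
    rw [Matrix.sum_apply]
    simp only [ptm, Matrix.of_apply]
    rw [← Fintype.prod_sum (fun i b => hMat w (y i - x i) b (-(b * x i)) (u i) (v i))]
    have hfac : ∀ i, ∑ b, hMat w (y i - x i) b (-(b * x i)) (u i) (v i) =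
        if x i = u i ∧ y i = v i then 1 else 0 := by
      intro i
      simp only [hMat, Matrix.of_apply]
      by_cases hv : v i = u i + (y i - x i)
      · simp only [if_pos hv]
        rw [Finset.sum_congr rfl (fun b _ => show W w (b * u i + -(b * x i)) =
          W w ((u i - x i) * b + 0) by congr 1; ring), sum_W hw h2, W_zero]
        by_cases hu : x i = u i
        · rw [if_pos (by rw [hu, sub_self]), if_pos ⟨hu, by rw [hv, hu]; ring⟩]
        · rw [if_neg (sub_ne_zero.2 (Ne.symm hu)), if_neg fun h => hu h.1]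
      · simp only [if_neg hv, Finset.sum_const_zero]
        rw [if_neg]
        rintro ⟨hu, hy⟩
        exact hv (by rw [← hu, ← hy]; ring)
    simp only [hfac, Matrix.single_apply, funext_iff, Finset.prod_boole]
    simp [forall_and]
  rw [show Matrix.single x y (Z x y) = Z x y • Matrix.single x y (1 : F) by
    rw [Matrix.smul_single, smul_eq_mul, mul_one], hsingle]
  refine Subalgebra.smul_mem _ (sum_mem fun bs _ => ?_) _
  rw [ptm_hMat hw (fun i => (y i - x i, bs i)) fun i => -(bs i * x i), ← par_eq hw]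
  exact Algebra.subset_adjoin ⟨_, ⟨_, _, rfl⟩, rfl⟩

/-- The tensor power structure for q = 2, k = 3 is normalised by an extraspecial group of exponent 3. -/
theorem exists_heis {n q : ℕ} (hF : Fintype.card F = q ^ 2) (hq : q = 2)
    {H : Subgroup (GL (Fin n) F)} (hH : H ≤ Cfsg.GU n F q) {k : ℕ} (e : Fin n ≃ (Fin k → Fin 3))
    (P : GL (Fin n) F) (M₁ : Matrix (Fin 3) (Fin 3) F) (c : F) (hk : 2 ≤ k) (hc : c ≠ 0)
    (hM₁ : CF (qSigma hF) M₁) (hgram : coordGram (qSigma hF) 1 e P = c • ptm (fun _ => M₁))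
    (hle : H ≤ tensorWreathSubgroup 3 k e P) :
    ∃ R : Subgroup (GL (Fin n) F), IsSymplecticTypeGroup 3 R ∧ ActsAbsolutelyIrreducibly (matrixSet R) ∧
      R ≤ Cfsg.GU n F q ∧ Nat.card (Subgroup.center R) = 3 ∧ Nat.card R = 3 ^ (1 + 2 * k) ∧
      IsMinimalFieldFor (Nat.card (Subgroup.center R)) 2 2 F ∧ H ≤ subgroupNormalizer R := by
  classical
  obtain ⟨t, rfl⟩ : ∃ t, k = t + 1 := ⟨k - 1, by omega⟩
  haveI : Nonempty (Fin n) := ⟨e.symm fun _ => 0⟩
  set σ := qSigma hF with hσdef
  have hσne := qSigma_ne_refl hF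
  have hcard4 : Fintype.card F = 4 := by rw [hF, hq]; rfl
  have h2 : (2 : F) = 0 := by
    have h4 : (4 : F) = 0 := by
      have := Nat.cast_card_eq_zero (R := F)
      rw [hcard4] at this
      exact_mod_cast this
    exact (pow_eq_zero_iff two_ne_zero).1 (show (2 : F) ^ 2 = 0 by linear_combination h4)
  obtain ⟨γ, hγ⟩ : ∃ γ : F, γ ^ 2 ≠ γ := by
    by_contra hcon
    simp only [not_exists, not_not] at hcon
    exact hσne (RingEquiv.ext fun a => by rw [qSigma_apply, hq]; exact hcon a)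
  have hγ4 : γ ^ 4 = γ := by rw [← hcard4]; exact FiniteField.pow_card γ
  have hw : γ ^ 2 + γ + 1 = 0 := by
    refine (mul_eq_zero.1 (show (γ ^ 2 - γ) * (γ ^ 2 + γ + 1) = 0 by linear_combination hγ4)).resolve_left ?_
    exact sub_ne_zero.2 hγ
  have hσw : σ γ = γ ^ 2 := by rw [hσdef, qSigma_apply, hq]
  have hcube : ∀ x : F, x ≠ 0 → ∃ j, x = W γ j := by
    intro x hx
    let φ : Fin 3 → Fˣ := fun j => Units.mk0 _ (W_ne_zero hw j)
    have hφ : Function.Injective φ := fun i j h => W_injective hw h2 (congrArg Units.val h)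
    have hsurj := (Fintype.bijective_iff_injective_and_card φ).2 ⟨hφ, by
      rw [Fintype.card_units, hcard4]; rfl⟩
    obtain ⟨j, hj⟩ := hsurj.2 (Units.mk0 x hx)
    exact ⟨j, (congrArg Units.val hj).symm⟩
  -- orthonormal coordinates
  obtain ⟨D, hD⟩ := exists_hermitian_sqrt hσne hM₁
  set K : GL (Fin (t + 1) → Fin 3) F := glPtm fun _ => D with hK
  set P' : GL (Fin n) F := P * glCoords e 1 K⁻¹ with hP'
  have hKg : (K : Matrix (Fin (t + 1) → Fin 3) (Fin (t + 1) → Fin 3) F)ᵀ *
      (K : Matrix (Fin (t + 1) → Fin 3) (Fin (t + 1) → Fin 3) F).map σ = ptm fun _ => M₁ := by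
    rw [hK, glPtm_val, ptm_transpose,
      show (ptm fun _ : Fin (t + 1) => (D : Matrix (Fin 3) (Fin 3) F)).map σ = _ from ptm_map σ.toRingHom _,
      ← ptm_mul]
    congr 1
    funext _
    exact hD
  have hone' : coordGram σ 1 e P' = c • 1 := by
    rw [hP', coordGram_mul, hgram, ← hKg, Matrix.mul_smul, Matrix.smul_mul]
    congr 1
    rw [← mul_assoc, ← Matrix.transpose_mul, mul_assoc, ← Units.val_mul, mul_inv_cancel,
      Units.val_one, Matrix.transpose_one, one_mul, ← Matrix.map_mul, ← Units.val_mul,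
      mul_inv_cancel, Units.val_one, Matrix.map_one σ (map_zero σ) (map_one σ)]
  have hfix01 : ∀ z : F, σ z = z → z ≠ 0 → z = 1 := fun z hz hz0 => by
    rw [hσdef, qSigma_apply, hq, sq] at hz
    exact mul_left_cancel₀ hz0 (by rw [mul_one]; exact hz)
  have hc1 : c = 1 := by
    refine hfix01 c ?_ hc
    have h1 := ((cf_one (n := n) hF).coordGram e P').kind
    rw [hone'] at h1
    rcases h1 with ⟨-, h1⟩ | ⟨h, -⟩
    · rw [hσdef, qSigma_apply]
      simpa [hσdef] using congrFun (congrFun h1 fun _ => 0) fun _ => 0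
    · exact absurd h hσne
  have hone : coordGram σ 1 e P' = 1 := by rw [hone', hc1, one_smul]
  -- the elements of H
  have hHT : ∀ g ∈ H, ∃ (s : Equiv.Perm (Fin (t + 1))) (gs : Fin (t + 1) → GL (Fin 3) F),
      g = glCoords e P' (glPerm s * glPtm gs) ∧
      ∀ i, (gs i : Matrix (Fin 3) (Fin 3) F) * ((gs i : Matrix (Fin 3) (Fin 3) F).map σ)ᵀ = 1 := by
    intro g hg
    obtain ⟨y, hy, hyg⟩ := hle hg
    obtain ⟨x, hx, rfl⟩ := hy
    have hgx : g = glCoords e P x := hyg.symm
    have hKmem : K ∈ tensorWreathStandard 3 (t + 1) F :=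
      Subgroup.subset_closure (Or.inl ⟨fun _ => D, fun u v => rfl⟩)
    obtain ⟨s, gs, hsg⟩ := exists_of_mem_wreath (mul_mem (mul_mem hKmem hx) (inv_mem hKmem))
    have hg' : g = glCoords e P' (glPerm s * glPtm gs) := by
      rw [← hsg, hgx, hP', glCoords_mul_right]
      congr 1
      group
    refine ⟨s, gs, hg', fun i => ?_⟩
    have hsim := similar_coords (σ := σ) (M := (1 : Matrix (Fin n) (Fin n) F)) e P'
      (hg' ▸ le_similarity_of_le_GU hF hH hg)
    rw [hone] at hsim
    obtain ⟨d, hd⟩ := hsim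
    have h1 := gram_of_similar hd
    rw [show (1 : Matrix (Fin (t + 1) → Fin 3) (Fin (t + 1) → Fin 3) F) = ptm (fun _ => 1) from ptm_one.symm,
      perm_ptm_gram] at h1
    simp only [mul_one] at h1
    have hsm : (d : F) • ptm (fun _ : Fin (t + 1) => (1 : Matrix (Fin 3) (Fin 3) F)) =
        ptm fun j => Function.update (1 : Fin (t + 1) → F) 0 (d : F) j • (1 : Matrix (Fin 3) (Fin 3) F) := by
      rw [ptm_smul, Finset.prod_update_of_mem (Finset.mem_univ _)]
      simp
    rw [hsm] at h1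
    obtain ⟨f, hf, -⟩ := ptm_eq_ptm h1 fun j => smul_ne_zero (by
      rcases eq_or_ne j 0 with rfl | hj
      · rw [Function.update_self]; exact d.ne_zero
      · rw [Function.update_of_ne hj]; exact one_ne_zero) one_ne_zero
    have h3 := hf i
    rw [smul_smul] at h3
    set z := f i * Function.update (1 : Fin (t + 1) → F) 0 (d : F) i
    set A := (gs i : Matrix (Fin 3) (Fin 3) F)
    have hz0 : z ≠ 0 := fun h0 => by
      rw [h0, zero_smul] at h3
      exact (((Matrix.isUnit_transpose _).2 (gs i).isUnit).mul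
        ((gs i).isUnit.map (σ.toRingHom.mapMatrix (m := Fin 3)))).ne_zero h3
    have hz : z = 1 := by
      refine hfix01 z ?_ hz0
      have h4 := congrArg (fun X => (X.map σ)ᵀ) h3
      simp only [Matrix.map_mul, Matrix.transpose_mul] at h4
      rw [show (A.map σ).map σ = A by ext u v; exact qSigma_involutive hF _, ← Matrix.transpose_map,
        Matrix.transpose_transpose, h3] at h4
      simpa using (congrFun (congrFun h4 0) 0).symm
    rw [hz, one_smul] at h3
    rw [mul_eq_one_comm]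
    have h5 := congrArg (fun X => X.map σ) h3
    simp only [Matrix.map_mul] at h5
    rwa [show (A.map σ).map σ = A by ext u v; exact qSigma_involutive hF _, Matrix.map_one σ (map_zero σ)
      (map_one σ), Matrix.transpose_map] at h5
  set S := parGroup t hw with hS
  set R : Subgroup (GL (Fin n) F) := S.map (glCoords e P').toMonoidHom with hR
  have hnormS : ∀ (s : Equiv.Perm (Fin (t + 1))) (gs : Fin (t + 1) → GL (Fin 3) F),
      (∀ i, (gs i : Matrix (Fin 3) (Fin 3) F) * ((gs i : Matrix (Fin 3) (Fin 3) F).map σ)ᵀ = 1) →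
      ∀ x ∈ S, glPerm s * glPtm gs * x * (glPerm s * glPtm gs)⁻¹ ∈ S := by
    rintro s gs hgs x ⟨ab, c₀, rfl⟩
    have h : ∀ i, ∃ p c', gs i * hGL hw (ab i) (if i = 0 then c₀ else 0) * (gs i)⁻¹ = hGL hw p c' := by
      intro i
      obtain ⟨a', b', c', h⟩ := isometry_conj hw h2 hcube hσw (gs i) (hgs i) _ _ _ _ (hGL_val hw _ _)
      exact ⟨(a', b'), c', Units.ext (by rw [h, hGL_val])⟩
    choose p c' hp using h
    refine ⟨p ∘ ⇑s.symm, ∑ i, c' (s.symm i), ?_⟩
    rw [← glPtm_hGL, show glPerm s * glPtm gs * par hw ab c₀ * (glPerm s * glPtm gs)⁻¹ =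
      glPerm s * (glPtm gs * par hw ab c₀ * (glPtm gs)⁻¹) * (glPerm s)⁻¹ by group, glPtm_inv, par,
      ← glPtm_mul, ← glPtm_mul, glPerm_conj_glPtm]
    congr 1
    funext i
    exact hp (s.symm i)
  have hspanR : Algebra.adjoin F (matrixSet R) = ⊤ := by
    have h1 : matrixSet R = ((matCoords e P').toAlgHom : _ → Matrix (Fin n) (Fin n) F) '' matrixSet S := by
      simp only [matrixSet, hR, Subgroup.coe_map, Set.image_image]
      exact Set.image_congr fun s _ => glCoords_val e P' s
    rw [h1, ← AlgHom.map_adjoin, parGroup_span hw h2, Algebra.map_top, AlgHom.range_eq_top]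
    exact (matCoords e P').surjective
  have hisoR : R ≤ Cfsg.GU n F q := by
    rintro _ ⟨s, ⟨ab, c₀, rfl⟩, rfl⟩
    intro u v
    rw [hermForm_eq_frm hF]
    obtain ⟨x, rfl⟩ := exists_coord_vec e P' u
    obtain ⟨y, rfl⟩ := exists_coord_vec e P' v
    show frm σ 1 (((glCoords e P' (par hw ab c₀) : GL (Fin n) F) : Matrix (Fin n) (Fin n) F) *ᵥ _)
      (((glCoords e P' (par hw ab c₀) : GL (Fin n) F) : Matrix (Fin n) (Fin n) F) *ᵥ _) = _
    rw [glCoords_val, matCoords_mulVec, matCoords_mulVec, frm_coords, frm_coords, frm, formOfGram_act]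
    congr 2
    rw [hone, mul_one, par_val, ptm_transpose,
      show (ptm fun i => hMat γ (ab i).1 (ab i).2 (if i = 0 then c₀ else 0)).map σ = _ from
        ptm_map σ.toRingHom _, ← ptm_mul, ← ptm_one]
    congr 1
    funext i
    rw [Pi.mul_apply, Pi.one_apply]
    generalize (if i = 0 then c₀ else 0) = cc
    generalize (ab i).1 = a
    generalize (ab i).2 = b
    ext u v
    show ∑ j, hMat γ a b cc j u * σ (hMat γ a b cc j v) = (1 : Matrix (Fin 3) (Fin 3) F) u v
    rw [Finset.sum_eq_single (u - a)]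
    · simp only [hMat, Matrix.of_apply, sub_add_cancel, if_true, Matrix.one_apply]
      by_cases huv : u = v
      · subst huv
        rw [if_pos rfl, if_pos rfl, map_W hw hσw, ← W_add hw, add_neg_cancel, W_zero]
      · rw [if_neg (fun h => huv h.symm), if_neg huv, map_zero, mul_zero]
    · intro j _ hj
      have : u ≠ j + a := fun h => hj (by rw [h, add_sub_cancel_right])
      simp [hMat, this]
    · simp
  -- the order and the centre
  let Φ : (Fin (t + 1) → Fin 3 × Fin 3) × Fin 3 → R := fun p =>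
    ⟨glCoords e P' (par hw p.1 p.2), ⟨_, ⟨_, _, rfl⟩, rfl⟩⟩
  have hΦ : Function.Bijective Φ := by
    refine ⟨fun p p' h => par_injective hw h2 ((glCoords e P').injective (congrArg Subtype.val h)), ?_⟩
    rintro ⟨_, _, ⟨ab, c₀, rfl⟩, rfl⟩
    exact ⟨(ab, c₀), rfl⟩
  have hcardR : Nat.card R = 3 ^ (1 + 2 * (t + 1)) := by
    rw [← Nat.card_eq_of_bijective Φ hΦ, Nat.card_prod, Nat.card_fun, Nat.card_prod, Nat.card_fin,
      Nat.card_fin, show 1 + 2 * (t + 1) = 2 * t + 3 by omega, pow_add 3, pow_mul]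
    ring
  have hcomm : ∀ c₀ x, glCoords e P' (par hw 0 c₀) * x = x * glCoords e P' (par hw 0 c₀) := by
    intro c₀ x
    refine scalars_mul_comm (mem_scalars_of_eq_smul (c := W γ c₀) ?_) x
    rw [glCoords_val, par_zero, map_smul, map_one]
  have hcent : ∀ x : R, x ∈ Subgroup.center R ↔ ∃ c₀, (x : GL (Fin n) F) = glCoords e P' (par hw 0 c₀) := by
    intro x
    constructor
    · intro hx
      obtain ⟨⟨ab, c₀⟩, rfl⟩ := hΦ.2 x
      obtain ⟨u, hu⟩ := exists_scl (mem_scalars_of_commute hspanR fun y hy =>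
        (congrArg Subtype.val (Subgroup.mem_center_iff.1 hx ⟨y, hy⟩)).symm)
      have h1 : (par hw ab c₀).val = (u : F) •
          (par hw (0 : Fin (t + 1) → Fin 3 × Fin 3) 0).val := by
        apply (matCoords e P').injective
        rw [par_zero, W_zero, one_smul, map_smul, map_one, ← glCoords_val, ← scl_val]
        exact congrArg Units.val hu
      obtain ⟨h0, -⟩ := par_prop hw h2 h1
      exact ⟨c₀, by show glCoords e P' (par hw ab c₀) = _; rw [h0]⟩
    · rintro ⟨c₀, hx⟩
      refine Subgroup.mem_center_iff.2 fun y => Subtype.ext ?_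
      rw [Subgroup.coe_mul, Subgroup.coe_mul, hx, hcomm]
  have hcardZ : Nat.card (Subgroup.center R) = 3 := by
    let ψ : Fin 3 → Subgroup.center R := fun c₀ => ⟨Φ (0, c₀), (hcent _).2 ⟨c₀, rfl⟩⟩
    rw [← Nat.card_eq_of_bijective ψ ⟨fun i j h => congrArg Prod.snd (hΦ.1 (congrArg Subtype.val h)),
      fun x => by
        obtain ⟨c₀, hc₀⟩ := (hcent x.1).1 x.2
        exact ⟨c₀, Subtype.ext (Subtype.ext hc₀.symm)⟩⟩, Nat.card_fin]
  have hpow : ∀ x : R, x ^ 3 = 1 := by
    intro x
    apply Subtype.ext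
    obtain ⟨s, hs, hsx⟩ := x.2
    rw [SubmonoidClass.coe_pow, OneMemClass.coe_one, ← hsx]
    show (glCoords e P' s) ^ 3 = 1
    rw [← map_pow, parGroup_cube hw h2 hs, map_one]
  haveI : Fact (Nat.Prime 3) := ⟨Nat.prime_three⟩
  have hpg : IsPGroup 3 R := IsPGroup.of_card hcardR
  have hexp : Monoid.exponent R = 3 * Nat.gcd 2 3 := by
    rw [show Nat.gcd 2 3 = 1 from rfl, mul_one]
    refine (Nat.dvd_prime Nat.prime_three).1 (Monoid.exponent_dvd_of_forall_pow_eq_one hpow) |>.resolve_left ?_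
    intro h1
    haveI := Monoid.exp_eq_one_iff.1 h1
    have h3 := Finite.card_le_one_iff_subsingleton.2 (inferInstance : Subsingleton R)
    rw [hcardR] at h3
    have := Nat.one_lt_pow (n := 1 + 2 * (t + 1)) (by omega) (show 1 < 3 by norm_num)
    omega
  have hcyc : ∀ A : Subgroup R, A.Characteristic → IsMulCommutative A → IsCyclic A := by
    intro A hA hAc
    have hAZ : A ≤ Subgroup.center R := by
      intro x hxA
      by_contra hxZ
      obtain ⟨⟨ab, c₀⟩, rfl⟩ := hΦ.2 x
      obtain ⟨i, hi⟩ : ∃ i, ab i ≠ 0 := by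
        by_contra hcon
        simp only [not_exists, not_not] at hcon
        exact hxZ ((hcent _).2 ⟨c₀, by rw [show ab = 0 from funext hcon]⟩)
      -- a single factor inside A
      let emb : GL (Fin 3) F → GL (Fin n) F := fun r => glCoords e P' (glPtm (Function.update 1 i r))
      have hembmul : ∀ r r', emb (r * r') = emb r * emb r' := fun r r' => by
        simp only [emb, ← map_mul, ← glPtm_mul, ← Function.update_mul, one_mul]
      have hconjmem : ∀ h : GL (Fin 3) F,
          (h : Matrix (Fin 3) (Fin 3) F) * ((h : Matrix (Fin 3) (Fin 3) F).map σ)ᵀ = 1 →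
          ∀ z ∈ A.map R.subtype, emb h * z * (emb h)⁻¹ ∈ A.map R.subtype := by
        intro h hh
        have hn : ∀ r ∈ R, emb h * r * (emb h)⁻¹ ∈ R := by
          rintro _ ⟨r, hr, rfl⟩
          refine ⟨glPerm (Equiv.refl _) * glPtm (Function.update 1 i h) * r *
            (glPerm (Equiv.refl _) * glPtm (Function.update 1 i h))⁻¹,
            hnormS (Equiv.refl _) _ (fun j => ?_) r hr, ?_⟩
          · rcases eq_or_ne j i with rfl | hj
            · rw [Function.update_self]; exact hh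
            · rw [Function.update_of_ne hj, Pi.one_apply, Units.val_one, one_mul,
                Matrix.map_one σ (map_zero σ) (map_one σ), Matrix.transpose_one]
          · rw [glPerm_refl, one_mul]
            show glCoords e P' _ = _
            simp only [emb, map_mul, map_inv]
            rfl
        let cg : R →* R :=
          { toFun := fun r => ⟨emb h * r * (emb h)⁻¹, hn r r.2⟩
            map_one' := Subtype.ext (by simp)
            map_mul' := fun a b => Subtype.ext (by simp [mul_assoc]) }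
        have hcg : Function.Bijective cg := Finite.injective_iff_bijective.1 fun a b hab =>
          Subtype.ext (mul_left_cancel (mul_right_cancel (congrArg Subtype.val hab)))
        rintro _ ⟨z, hz, rfl⟩
        exact ⟨cg z, (hA.fixed (MulEquiv.ofBijective cg hcg)).ge hz, rfl⟩
      have hxmem : glCoords e P' (par hw ab c₀) ∈ A.map R.subtype := ⟨_, hxA, rfl⟩
      obtain ⟨h, hh, hne⟩ := exists_noncomm hw h2 hσw (if i = 0 then c₀ else 0) hi
      set r := hGL hw (ab i) (if i = 0 then c₀ else 0) with hr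
      set s := h * r * h⁻¹ * r⁻¹ with hs
      have hsA : emb s ∈ A.map R.subtype := by
        have := mul_mem (hconjmem h hh _ hxmem) (inv_mem hxmem)
        convert this using 1
        simp only [emb, par, ← map_inv, ← map_mul, glPtm_inv, ← glPtm_mul]
        congr 2
        funext j
        rcases eq_or_ne j i with rfl | hj
        · simp [hs, hr]
        · simp [hj]
      obtain ⟨a', b', c', hconj⟩ := isometry_conj hw h2 hcube hσw h hh r _ _ _ (hGL_val hw _ _)
      obtain ⟨p, cs, hps⟩ : ∃ p cs, s = hGL hw p cs := by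
        obtain ⟨c'', hc''⟩ : ∃ c'', hMat γ (ab i).1 (ab i).2 (if i = 0 then c₀ else 0) *
            hMat γ (-(ab i).1) (-(ab i).2) c'' = 1 := by
          refine ⟨-(if i = 0 then c₀ else 0) + (ab i).2 * (ab i).1, ?_⟩
          rw [hMat_mul hw, add_neg_cancel, add_neg_cancel, ← hMat_one γ]
          congr 1
          ring
        refine ⟨(a' + -(ab i).1, b' + -(ab i).2), c' + c'' + -(ab i).2 * a', Units.ext ?_⟩
        rw [hs, Units.val_mul, hconj, Units.inv_eq_of_mul_eq_one_right (u := r) (by rw [hGL_val]; exact hc''),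
          hMat_mul hw, hGL_val]
      have hp : p ≠ 0 := by
        rintro rfl
        apply hne
        have hsc : ∀ y : GL (Fin 3) F, s * y = y * s := by
          refine fun y => scalars_mul_comm (mem_scalars_of_eq_smul (c := W γ cs) ?_) y
          rw [hps, hGL_val]
          exact hMat_scalar γ cs
        rw [show h * r * h⁻¹ = s * r by rw [hs]; group, mul_assoc, hsc (r * r), hsc r]
        group
      obtain ⟨h', hh', hne'⟩ := exists_noncomm hw h2 hσw cs hp
      rw [← hps] at hne'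
      have hs'A := hconjmem h' hh' _ hsA
      have hconv : emb h' * emb s * (emb h')⁻¹ = emb (h' * s * h'⁻¹) := by
        rw [hembmul (h' * s) h'⁻¹, hembmul h' s]
        congr 1
        rw [inv_eq_iff_mul_eq_one, ← hembmul, mul_inv_cancel]
        simp [emb, glPtm_one]
      rw [hconv] at hs'A
      apply hne'
      have hcm : emb (h' * s * h'⁻¹ * s) = emb (s * (h' * s * h'⁻¹)) := by
        rw [hembmul, hembmul s]
        obtain ⟨z₁, hz₁, e₁⟩ := hs'A
        obtain ⟨z₂, hz₂, e₂⟩ := hsA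
        rw [← e₁, ← e₂]
        exact congrArg (fun z : A => ((z : R) : GL (Fin n) F)) (hAc.is_comm.comm ⟨z₁, hz₁⟩ ⟨z₂, hz₂⟩)
      have h1 := congrArg Units.val ((glCoords e P').injective hcm)
      rw [glPtm_val, glPtm_val] at h1
      obtain ⟨d, hd, hdp⟩ := ptm_eq_ptm h1 fun j => (Units.isUnit _).ne_zero
      have hd1 : ∀ j, j ≠ i → d j = 1 := fun j hj => by
        have := congrFun (congrFun (hd j) 0) 0
        simpa [Function.update_of_ne hj] using this.symm
      have hdi : d i = 1 := by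
        rwa [Finset.prod_eq_single i (fun j _ hj => hd1 j hj) (fun h => absurd (Finset.mem_univ i) h)] at hdp
      have h2' := hd i
      rw [hdi, one_smul, Function.update_self, Function.update_self] at h2'
      exact Units.ext h2'
    haveI := isCyclic_of_prime_card hcardZ
    exact isCyclic_of_injective (Subgroup.inclusion hAZ) (Subgroup.inclusion_injective hAZ)
  have hHN : H ≤ subgroupNormalizer R := by
    intro g hg
    rw [subgroupNormalizer, Subgroup.mem_normalizer_iff]
    have hfw : ∀ g ∈ H, ∀ x ∈ R, g * x * g⁻¹ ∈ R := by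
      rintro g hg _ ⟨x, hx, rfl⟩
      obtain ⟨s, gs, rfl, hgs⟩ := hHT g hg
      refine ⟨_, hnormS s gs hgs x hx, ?_⟩
      simp only [MulEquiv.coe_toMonoidHom, map_mul, map_inv]
    intro x
    refine ⟨fun hx => hfw g hg x hx, fun hx => ?_⟩
    have := hfw g⁻¹ (inv_mem hg) _ hx
    simpa [mul_assoc] using this
  haveI : CharP F 2 := CharTwo.of_one_ne_zero_of_two_eq_zero one_ne_zero h2
  refine ⟨R, ⟨Nat.prime_three, hpg, hcyc, hexp⟩, actsAbsolutelyIrreducibly_of_adjoin hspanR,
    hisoR, hcardZ, hcardR, hcardZ ▸ ⟨Nat.prime_two, inferInstance, by rw [hcard4]; rfl, by norm_num,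
      fun d hd hd2 => ?_⟩, hHN⟩
  obtain rfl : d = 1 := by omega
  norm_num

/-- The tensor power structure for q = 2, k = 3 lies in a class-six member. -/
theorem exists_member {n q : ℕ} (hF : Fintype.card F = q ^ 2) (hq : q = 2)
    {H : Subgroup (GL (Fin n) F)} (hH : H ≤ Cfsg.GU n F q) {k : ℕ} (e : Fin n ≃ (Fin k → Fin 3))
    (P : GL (Fin n) F) (M₁ : Matrix (Fin 3) (Fin 3) F) (c : F) (hk : 2 ≤ k) (hc : c ≠ 0)
    (hM₁ : CF (qSigma hF) M₁) (hgram : coordGram (qSigma hF) 1 e P = c • ptm (fun _ => M₁))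
    (hle : H ≤ tensorWreathSubgroup 3 k e P) :
    ∃ M, InUnitaryClass n F q M ∧ H ≤ M := by
  obtain ⟨R, hR, habs, hiso, hz, hcard, hmin, hHN⟩ := exists_heis hF hq hH e P M₁ c hk hc hM₁ hgram hle
  exact ⟨_, Or.inl (Or.inr (Or.inr (Or.inr (Or.inr (Or.inr (Or.inr (Or.inr
    ⟨3, R, 2, 2, k, hR, habs, fun x hx => ⟨1, fun u v => by
        rw [Units.val_one, one_mul]; exact hiso hx u v⟩, by norm_num, hmin,
      Or.inl ⟨by decide, hz, by omega, hcard⟩, rfl⟩))))))), le_inf hHN hH⟩

end HeisFour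

/-- Every group preserving a geometric structure of the unitary form lies in a class member. -/
theorem inUnitaryClass_of_geometric_all {F : Type*} [Field F] [Fintype F] {n q : ℕ}
    (hF : Fintype.card F = q ^ 2) (hn : 3 ≤ n) {H : Subgroup (GL (Fin n) F)}
    (hH : H ≤ Cfsg.GU n F q)
    (hg : H46.ClsGeometric (qSigma hF) (1 : Matrix (Fin n) (Fin n) F) H) :
    ∃ M, InUnitaryClass n F q M ∧ H ≤ M :=
  inUnitaryClass_of_geometric hF hn hH (fun hq _ e P M₁ c ht hc hM₁ hgram hle =>
    HeisFour.exists_member hF hq hH e P M₁ c ht hc hM₁ hgram hle) hg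

end H45
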