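import Mathlib
import Cfsg.Prelude.Def_GeometricClasses
import Cfsg.Agent.H45.GL
import Cfsg.Agent.H50.Form

/-!
# Unitary transvections as elements of `GU n F q ⊓ SL`
-/

set_option autoImplicit false
set_option linter.unusedSectionVars false

namespace H45

open scoped Matrix
open Cfsg Cfsg.Geo

variable {n q : ℕ} {F : Type*} [Field F] [Fintype F]

lemma utv_det {v : Fin n → F} (hv : hermForm n F q v v = 0) (c : F) :
    (unitaryTransvection n q v c).det = 1 := by
  rw [H50.ut_det, hv, mul_zero, add_zero]

/-- The unitary transvection `x ↦ x + c h(x, v) v`, `v` isotropic, in the general linear group. -/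
noncomputable def utv (v : Fin n → F) (hv : hermForm n F q v v = 0) (c : F) :
    Matrix.GeneralLinearGroup (Fin n) F :=
  Matrix.GeneralLinearGroup.mkOfDetNeZero (unitaryTransvection n q v c)
    (by rw [utv_det hv]; exact one_ne_zero)

lemma act_utv (v : Fin n → F) (hv : hermForm n F q v v = 0) (c : F) (x : Fin n → F) :
    act (utv v hv c) x = x + (c * hermForm n F q x v) • v :=
  H50.ut_mulVec v c x

lemma mem_GU_sl {g : Matrix.GeneralLinearGroup (Fin n) F} :
    g ∈ GU n F q ⊓ specialLinear (Fin n) F ↔
      (∀ u v, hermForm n F q (act g u) (act g v) = hermForm n F q u v) ∧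
        (g : Matrix (Fin n) (Fin n) F).det = 1 := by
  rw [Subgroup.mem_inf]
  refine and_congr Iff.rfl ?_
  rw [specialLinear, MonoidHom.mem_ker, ← Units.val_eq_one,
    Matrix.GeneralLinearGroup.val_det_apply]

lemma utv_mem (hF : Fintype.card F = q ^ 2) (v : Fin n → F) (hv : hermForm n F q v v = 0) {c : F}
    (hc : c + c ^ q = 0) : utv v hv c ∈ GU n F q ⊓ specialLinear (Fin n) F :=
  mem_GU_sl.mpr ⟨H50.ut_isIso_isotropic hF hv hc, utv_det hv c⟩

end H45
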