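import Mathlib
import Cfsg.Prelude.Def_Classical
import Cfsg.Prelude.Def_GeometricClasses
import Cfsg.Agent.H45.Alt

/-!
# Quadratic forms in characteristic two: values, reflections, and one-vector transitivity
-/

set_option autoImplicit false
set_option linter.unusedSectionVars false

namespace H45

open scoped Matrix
open Cfsg Cfsg.Geo

variable {ι : Type} [Fintype ι] [DecidableEq ι] {F : Type*} [Field F]

lemma quad_add {Q : (ι → F) → F} (x y : ι → F) :
    Q (x + y) = Q x + Q y + QuadraticMap.polar Q x y := by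
  simp [QuadraticMap.polar]

lemma quad_zero {Q : (ι → F) → F} (hQ : IsNondegenerateQuadraticForm Q) : Q 0 = 0 := by
  have := hQ.smul 0 0
  simpa using this

variable [Fintype F] [CharP F 2]

lemma exists_sq (a : F) : ∃ x : F, x ^ 2 = a := by
  have h : Function.Surjective (frobenius F 2) :=
    Finite.injective_iff_surjective.mp (frobenius_inj F 2)
  obtain ⟨x, hx⟩ := h a
  exact ⟨x, by simpa [frobenius_def] using hx⟩

lemma polar_self_zero {Q : (ι → F) → F} (hQ : IsNondegenerateQuadraticForm Q) (x : ι → F) :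
    QuadraticMap.polar Q x x = 0 := by
  simp only [QuadraticMap.polar]
  rw [← two_smul F x, CharTwo.two_eq_zero, zero_smul, quad_zero hQ, sub_sub,
    CharTwo.add_self_eq_zero, sub_zero]

/-- The form takes every value on every translate of a subspace of small codimension. -/
lemma exists_quad_eq {Q : (ι → F) → F} (hQ : IsNondegenerateQuadraticForm Q) {k : ℕ}
    (hk : 2 * k < Fintype.card ι) (Φ : (ι → F) →ₗ[F] (Fin k → F)) (u₀ : ι → F) (c : F) :
    ∃ u, Φ u = Φ u₀ ∧ Q u = c := by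
  have hb := hQ.polar_bilinear
  obtain ⟨e, e', he, he', hee⟩ := exists_ker_pair hb hQ.nondegenerate hk Φ
  have hkey : ∀ s, ∃ u, Φ u = Φ u₀ ∧ QuadraticMap.polar Q u e = s := by
    intro s
    have hne : QuadraticMap.polar Q e' e ≠ 0 := by
      rw [QuadraticMap.polar_comm]; exact hee
    refine ⟨u₀ + ((s - QuadraticMap.polar Q u₀ e) / QuadraticMap.polar Q e' e) • e',
      by simp [he'], ?_⟩
    rw [hb.add_left, hb.smul_left, div_mul_cancel₀ _ hne]; ring
  by_cases hQe : Q e = 0
  · obtain ⟨u, hu, hus⟩ := hkey 1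
    refine ⟨u + (c - Q u) • e, by simp [he, hu], ?_⟩
    rw [quad_add (Q := Q), hQ.smul, hQe, hb.smul_right, hus]; ring
  · obtain ⟨u, hu, hus⟩ := hkey 0
    obtain ⟨x, hx⟩ := exists_sq ((c - Q u) / Q e)
    refine ⟨u + x • e, by simp [he, hu], ?_⟩
    rw [quad_add (Q := Q), hQ.smul, hb.smul_right, hus, hx, div_mul_cancel₀ _ hQe]; ring

lemma exists_quad_one {Q : (ι → F) → F} (hQ : IsNondegenerateQuadraticForm Q)
    (hk : 2 * 1 < Fintype.card ι) {v : ι → F} (hv : v ≠ 0) (s c : F) :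
    ∃ u, QuadraticMap.polar Q u v = s ∧ Q u = c := by
  have hb := hQ.polar_bilinear
  obtain ⟨x, hx⟩ := (hQ.nondegenerate v hv).1
  let Φ : (ι → F) →ₗ[F] (Fin 1 → F) := LinearMap.pi ![(bil hb).flip v]
  obtain ⟨u, hu, hq⟩ := exists_quad_eq hQ hk Φ ((s / QuadraticMap.polar Q x v) • x) c
  refine ⟨u, ?_, hq⟩
  have := congrFun hu 0
  simp [Φ, bil_apply] at this
  rw [this, div_mul_cancel₀ _ hx]

lemma exists_quad_two {Q : (ι → F) → F} (hQ : IsNondegenerateQuadraticForm Q)
    (hk : 2 * 2 < Fintype.card ι) {v w : ι → F} (hv : v ≠ 0) (hw : ∀ d : F, w ≠ d • v)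
    (s t c : F) :
    ∃ u, QuadraticMap.polar Q u v = s ∧ QuadraticMap.polar Q u w = t ∧ Q u = c := by
  have hb := hQ.polar_bilinear
  let Φ : (ι → F) →ₗ[F] (Fin 2 → F) := LinearMap.pi ![(bil hb).flip v, (bil hb).flip w]
  obtain ⟨u₀, h1, h2⟩ := exists_two hb hQ.nondegenerate hv hw s t
  obtain ⟨u, hu, hq⟩ := exists_quad_eq hQ hk Φ u₀ c
  refine ⟨u, ?_, ?_, hq⟩
  · have := congrFun hu 0
    simp [Φ, bil_apply] at this
    rw [this, h1]
  · have := congrFun hu 1
    simp [Φ, bil_apply] at this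
    rw [this, h2]

variable {Q : (ι → F) → F} (hQ : IsNondegenerateQuadraticForm Q)

/-- The transvection `x ↦ x + c f(x, a) a` of the polar form `f`. -/
abbrev qtv (a : ι → F) (c : F) : Matrix.GeneralLinearGroup ι F :=
  tv hQ.polar_bilinear (polar_self_zero hQ) a c

include hQ in
lemma qtv_mem {a : ι → F} {c : F} (hc : c * Q a = 1) : qtv hQ a c ∈ isometryGroup F Q := by
  rw [mem_isometryGroup]
  intro x
  rw [act_tv, quad_add (Q := Q), hQ.smul, hQ.polar_bilinear.smul_right]
  have h2 : (2 : F) = 0 := CharTwo.two_eq_zero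
  linear_combination (c * QuadraticMap.polar Q x a ^ 2) * hc +
    (c * QuadraticMap.polar Q x a ^ 2) * h2

include hQ in
/-- One step of Witt's theorem: two non-orthogonal vectors of equal norm. -/
lemma exists_isometry_step {a b : ι → F} (hab : Q a = Q b) (hf : QuadraticMap.polar Q a b ≠ 0) :
    ∃ g ∈ isometryGroup F Q, act g a = b := by
  have hb := hQ.polar_bilinear
  set d := a + b with hd
  have hQd : Q d = QuadraticMap.polar Q a b := by
    rw [hd, quad_add (Q := Q), hab, CharTwo.add_self_eq_zero, zero_add]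
  refine ⟨qtv hQ d (QuadraticMap.polar Q a b)⁻¹,
    qtv_mem hQ (by rw [hQd, inv_mul_cancel₀ hf]), ?_⟩
  rw [act_tv, hd, hb.add_right, polar_self_zero hQ, zero_add, inv_mul_cancel₀ hf, one_smul,
    ← add_assoc, ← two_smul F a, CharTwo.two_eq_zero, zero_smul, zero_add]

include hQ in
/-- A vector `a ≠ 0` can be moved by an isometry to one with prescribed polar value against `v`. -/
lemma exists_isometry_polar (hdim : 2 * 2 < Fintype.card ι) {a v : ι → F} (ha : a ≠ 0)
    (hv : v ≠ 0) (s : F) :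
    ∃ g ∈ isometryGroup F Q, QuadraticMap.polar Q v (act g a) = s := by
  have hb := hQ.polar_bilinear
  obtain ⟨w, hwa, hwQ, hwv⟩ : ∃ w, QuadraticMap.polar Q w a = 1 ∧ Q w = Q a ∧
      ∀ d : F, w ≠ d • v := by
    by_cases hva : ∀ d : F, v ≠ d • a
    · obtain ⟨w, h1, h2, h3⟩ := exists_quad_two hQ hdim ha hva 1 1 (Q a)
      exact ⟨w, h1, h3, fun d hd => by
        rw [hd, hb.smul_left, polar_self_zero hQ, mul_zero] at h2
        exact zero_ne_one h2⟩
    · push Not at hva
      obtain ⟨d, hd⟩ := hva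
      obtain ⟨w, h1, h3⟩ := exists_quad_one hQ (by omega) ha 1 (Q a)
      refine ⟨w, h1, h3, fun e he => ?_⟩
      rw [he, hd, hb.smul_left, hb.smul_left, polar_self_zero hQ, mul_zero, mul_zero] at h1
      exact zero_ne_one h1
  obtain ⟨u, huv, huw, huQ⟩ := exists_quad_two hQ hdim hv hwv s 1 (Q a)
  obtain ⟨g₁, hg₁, h₁⟩ := exists_isometry_step hQ (a := a) (b := w) hwQ.symm
    (by rw [QuadraticMap.polar_comm, hwa]; exact one_ne_zero)
  obtain ⟨g₂, hg₂, h₂⟩ := exists_isometry_step hQ (a := w) (b := u) (by rw [hwQ, huQ])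
    (by rw [QuadraticMap.polar_comm, huw]; exact one_ne_zero)
  exact ⟨g₂ * g₁, mul_mem hg₂ hg₁, by rw [act_mul, h₁, h₂, QuadraticMap.polar_comm, huv]⟩

end H45
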