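import Mathlib
import Cfsg.Agent.H43.Omega
import Cfsg.Agent.H43.Witt
import Cfsg.Agent.H45.OmegaTools

/-!
# A non-degenerate subspace with a large orthogonal complement
-/

set_option autoImplicit false
set_option linter.unusedSectionVars false

namespace H45

open H43

variable {F : Type*} [Field F] [Finite F] {V : Type*} [AddCommGroup V] [Module F V]
  [FiniteDimensional F V] {Q : QuadraticForm F V}

/-- Two non-singular vectors with values in one square class. -/
def SameCls (Q : QuadraticForm F V) (a b : V) : Prop :=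
  Q a ≠ 0 ∧ Q b ≠ 0 ∧ sqc (Q a) = sqc (Q b)

lemma SameCls.symm {a b : V} (h : SameCls Q a b) : SameCls Q b a := ⟨h.2.1, h.1, h.2.2.symm⟩

lemma SameCls.trans {a b c : V} (h : SameCls Q a b) (h' : SameCls Q b c) : SameCls Q a c :=
  ⟨h.1, h'.2.1, h.2.2.trans h'.2.2⟩

lemma sameCls_of_eq {a b : V} (ha : Q a ≠ 0) (h : Q b = Q a) : SameCls Q a b :=
  ⟨ha, h ▸ ha, by rw [h]⟩

lemma restrict_nondeg {U : Submodule F V} (hU : U ⊓ (polB Q).orthogonal U = ⊥) :
    (polB (Q.comp U.subtype)).Nondegenerate := by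
  have key : ∀ s : U, (∀ t : U, polB (Q.comp U.subtype) s t = 0) → s = 0 := by
    intro s hs
    have : (s : V) ∈ U ⊓ (polB Q).orthogonal U := by
      refine ⟨s.2, fun t ht => ?_⟩
      have := hs ⟨t, ht⟩
      rw [polB_apply, QuadraticMap.polar] at this
      rw [polB_comm, polB_apply, QuadraticMap.polar]
      simpa using this
    rw [hU] at this
    exact Subtype.ext ((Submodule.mem_bot F).mp this)
  exact ⟨key, fun s hs => key s fun t => by rw [polB_comm]; exact hs t⟩

omit [Finite F] in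
lemma polB_restrict (U : Submodule F V) (s t : U) :
    polB (Q.comp U.subtype) s t = polB Q (s : V) (t : V) := by
  simp [polB_apply, QuadraticMap.polar]

/-- In a subspace whose non-degenerate part has dimension at least two every non-zero value is
taken by a vector outside the radical; so is zero, if that part has dimension at least three or if
the form does not vanish on the radical. -/
lemma exists_value' (S : Submodule F V)
    (hS : Module.finrank F ↥(S ⊓ (polB Q).orthogonal S) + 2 ≤ Module.finrank F S) (c : F)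
    (h : c ≠ 0 ∨ Module.finrank F ↥(S ⊓ (polB Q).orthogonal S) + 3 ≤ Module.finrank F S ∨
      ∃ r ∈ S ⊓ (polB Q).orthogonal S, Q r ≠ 0) :
    ∃ y ∈ S, y ∉ (polB Q).orthogonal S ∧ Q y = c := by
  set R := S ⊓ (polB Q).orthogonal S with hR
  obtain ⟨C₀, hC₀⟩ := Submodule.exists_isCompl R
  set C := S ⊓ C₀ with hC
  have hsup : R ⊔ C = S := by
    rw [hC, inf_comm, ← sup_inf_assoc_of_le C₀ (show R ≤ S from inf_le_left),
      codisjoint_iff.mp hC₀.codisjoint, top_inf_eq]
  have hinf : R ⊓ C = ⊥ := by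
    rw [eq_bot_iff, ← disjoint_iff.mp hC₀.disjoint]
    exact inf_le_inf le_rfl inf_le_right
  have hnd : C ⊓ (polB Q).orthogonal C = ⊥ := by
    rw [eq_bot_iff, ← hinf]
    rintro x ⟨hxC, hx⟩
    refine ⟨⟨(inf_le_left : C ≤ S) hxC, fun s hs => ?_⟩, hxC⟩
    rw [← hsup] at hs
    obtain ⟨r, hr, d, hd, rfl⟩ := Submodule.mem_sup.mp hs
    change polB Q (r + d) x = 0
    have hrx : polB Q r x = 0 := by
      rw [polB_comm]; exact hr.2 x ((inf_le_left : C ≤ S) hxC)
    rw [map_add, LinearMap.add_apply, hrx, zero_add]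
    exact hx d hd
  have hdim : 2 ≤ Module.finrank F C := by
    have h := Submodule.finrank_sup_add_finrank_inf_eq R C
    rw [hsup, hinf, finrank_bot] at h
    omega
  have hout : ∀ y : C, y ≠ 0 → ∀ r ∈ R, (y : V) + r ∉ (polB Q).orthogonal S := by
    intro y hy0 r hr hyS
    apply hy0
    have : (y : V) ∈ R ⊓ C :=
      ⟨⟨(inf_le_left : C ≤ S) y.2, by simpa using sub_mem hyS hr.2⟩, y.2⟩
    rw [hinf, Submodule.mem_bot] at this
    exact Subtype.ext this
  have hval : ∀ d : F, d ≠ 0 → ∃ y : C, y ≠ 0 ∧ Q (y : V) = d := by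
    intro d hd
    obtain ⟨y, hy⟩ := exists_qmap_eq (restrict_nondeg hnd) hdim d hd
    exact ⟨y, fun h0 => hd (by rw [← hy, h0, QuadraticMap.map_zero]), by simpa using hy⟩
  by_cases hc : c = 0
  · subst hc
    rcases h with h | h | ⟨r, hr, hr0⟩
    · exact absurd rfl h
    · obtain ⟨y, hy0, hy⟩ := H43.exists_singular (Q.comp C.subtype) (by
        have h' := Submodule.finrank_sup_add_finrank_inf_eq R C
        rw [hsup, hinf, finrank_bot] at h'
        omega)
      refine ⟨y, (inf_le_left : C ≤ S) y.2, ?_, by simpa using hy⟩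
      simpa using hout y hy0 0 (zero_mem R)
    · obtain ⟨y, hy0, hy⟩ := hval (-Q r) (neg_ne_zero.mpr hr0)
      refine ⟨y + r, add_mem ((inf_le_left : C ≤ S) y.2) hr.1, hout y hy0 r hr, ?_⟩
      rw [qmap_add, hy, hr.2 y ((inf_le_left : C ≤ S) y.2)]
      ring
  · obtain ⟨y, hy0, hy⟩ := hval c hc
    refine ⟨y, (inf_le_left : C ≤ S) y.2, ?_, hy⟩
    simpa using hout y hy0 0 (zero_mem R)

/-- In a subspace whose non-degenerate part has dimension at least three every value is taken by a
vector outside the radical. -/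
lemma exists_value (S : Submodule F V)
    (hS : Module.finrank F ↥(S ⊓ (polB Q).orthogonal S) + 3 ≤ Module.finrank F S) (c : F) :
    ∃ y ∈ S, y ∉ (polB Q).orthogonal S ∧ Q y = c :=
  exists_value' S (by omega) c (Or.inr (Or.inl hS))

variable (hQ : (polB Q).Nondegenerate) {W : Submodule F V}
  (hW : W ⊓ (polB Q).orthogonal W = ⊥)

include hQ hW

lemma isCompl_orth : IsCompl W ((polB Q).orthogonal W) := by
  refine ⟨disjoint_iff.mpr hW, codisjoint_iff.mpr (Submodule.eq_top_of_finrank_eq ?_)⟩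
  have h := Submodule.finrank_sup_add_finrank_inf_eq W ((polB Q).orthogonal W)
  rw [hW, finrank_bot] at h
  have h2 := finrank_orth_add hQ W
  omega

omit hQ hW in
/-- The large side: dimension at least six, or both sides of dimension at least five in odd
characteristic. -/
def BigSide (Q : QuadraticForm F V) (W : Submodule F V) : Prop :=
  6 ≤ Module.finrank F ((polB Q).orthogonal W) ∨
    (5 ≤ Module.finrank F ((polB Q).orthogonal W) ∧ 5 ≤ Module.finrank F W ∧ (2 : F) ≠ 0)

omit hQ hW in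
lemma BigSide.five (hm : BigSide Q W) : 5 ≤ Module.finrank F ((polB Q).orthogonal W) := by
  rcases hm with h | h
  · omega
  · exact h.1

/-- Every value, orthogonally to two given vectors, inside a large complement; some provisos are
needed. -/
lemma exists_in_big' (hm : BigSide Q W) (u v : V) (c : F)
    (hcase : (c ≠ 0 ∧ (6 ≤ Module.finrank F ((polB Q).orthogonal W) ∨
        ∃ x ∈ ((polB Q).orthogonal W), x ∈ Submodule.span F ({u, v} : Set V) ∧ Q x ≠ 0)) ∨
      u = v ∨ 7 ≤ Module.finrank F ((polB Q).orthogonal W) ∨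
      (6 ≤ Module.finrank F ((polB Q).orthogonal W) ∧
        ∃ x ∈ ((polB Q).orthogonal W), x ∈ Submodule.span F ({u, v} : Set V) ∧ Q x ≠ 0) ∨
      (u ∈ (polB Q).orthogonal W ∧ v ∈ (polB Q).orthogonal W ∧ Q u ≠ 0 ∧ Q v ≠ 0 ∧
        polB Q u v = 0)) :
    ∃ y ∈ ((polB Q).orthogonal W), y ∉ W ⊔ Submodule.span F {u, v} ∧ polB Q y u = 0 ∧ polB Q y v = 0 ∧ Q y = c := by
  set P := Submodule.span F ({u, v} : Set V) with hP
  set T := W ⊔ P with hT
  set S := (polB Q).orthogonal T with hS
  have hPdim : Module.finrank F P ≤ 2 := by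
    classical
    refine (finrank_span_le_card ({u, v} : Set V)).trans ?_
    rw [Set.toFinset_card]
    exact (Fintype.card_ofFinset _ _).le.trans (by simpa using Finset.card_le_two)
  have hT' : Module.finrank F T ≤ Module.finrank F W + 2 := by
    have h := Submodule.finrank_sup_add_finrank_inf_eq W P
    rw [← hT] at h
    omega
  have hS' := finrank_orth_add hQ T
  rw [← hS] at hS'
  have hW' := finrank_orth_add hQ W
  have hle : S ⊓ (polB Q).orthogonal S ≤ T := by
    rw [hS, LinearMap.BilinForm.orthogonal_orthogonal hQ (polB_isRefl Q) T]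
    exact inf_le_right
  have hdis : W ⊓ (S ⊓ (polB Q).orthogonal S) = ⊥ := by
    rw [eq_bot_iff, ← hW]
    rintro x ⟨hx, hxS, -⟩
    exact ⟨hx, fun w hw => hxS w (Submodule.mem_sup_left hw)⟩
  have hradW : ∀ r ∈ S ⊓ (polB Q).orthogonal S, r ∈ (polB Q).orthogonal W := fun r hr z hz =>
    hr.1 z (Submodule.mem_sup_left hz)
  have hsum := Submodule.finrank_sup_add_finrank_inf_eq W (S ⊓ (polB Q).orthogonal S)
  rw [hdis, finrank_bot] at hsum
  have hsumT : Module.finrank F ↥(W ⊔ S ⊓ (polB Q).orthogonal S) ≤ Module.finrank F T :=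
    Submodule.finrank_mono (sup_le le_sup_left hle)
  have hrad : Module.finrank F ↥(S ⊓ (polB Q).orthogonal S) ≤ 2 := by omega
  -- a vector of the span in the complement lies in the radical, if that is large
  have hxrad : Module.finrank F T ≤ Module.finrank F W + Module.finrank F ↥(S ⊓ (polB Q).orthogonal S) →
      ∀ x ∈ (polB Q).orthogonal W, x ∈ P → x ∈ S ⊓ (polB Q).orthogonal S := by
    intro hbig x hx hxP
    have heq : W ⊔ S ⊓ (polB Q).orthogonal S = T :=
      Submodule.eq_of_le_of_finrank_le (sup_le le_sup_left hle) (by omega)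
    have hxT : x ∈ W ⊔ S ⊓ (polB Q).orthogonal S := by
      rw [heq]; exact Submodule.mem_sup_right hxP
    obtain ⟨w, hw, r, hr, hwr⟩ := Submodule.mem_sup.mp hxT
    have hw0 : w ∈ W ⊓ (polB Q).orthogonal W :=
      ⟨hw, by simpa [← hwr] using sub_mem hx (hradW r hr)⟩
    rw [hW, Submodule.mem_bot] at hw0
    rw [← hwr, hw0, zero_add]
    exact hr
  have hone : u = v → Module.finrank F T ≤ Module.finrank F W + 1 := fun h => by
    have hP1 : Module.finrank F P ≤ 1 := by
      rw [hP, h, Set.pair_eq_singleton]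
      exact (finrank_span_le_card _).trans (by simp)
    have h' := Submodule.finrank_sup_add_finrank_inf_eq W P
    rw [← hT] at h'
    omega
  have hnd : (2 : F) ≠ 0 → u ∈ (polB Q).orthogonal W → v ∈ (polB Q).orthogonal W → Q u ≠ 0 →
      Q v ≠ 0 → polB Q u v = 0 → Module.finrank F ↥(S ⊓ (polB Q).orthogonal S) = 0 := by
    intro h2 hu hv hu0 hv0 huv
    rw [Submodule.finrank_eq_zero, eq_bot_iff]
    intro r hr
    obtain ⟨w, hw, p, hp, hwp⟩ := Submodule.mem_sup.mp (hT ▸ hle hr : r ∈ W ⊔ P)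
    obtain ⟨s, t, rfl⟩ := Submodule.mem_span_pair.mp hp
    have hw0 : w ∈ W ⊓ (polB Q).orthogonal W := ⟨hw, by
      simpa [← hwp] using sub_mem (hradW r hr)
        (add_mem (Submodule.smul_mem _ s hu) (Submodule.smul_mem _ t hv))⟩
    rw [hW, Submodule.mem_bot] at hw0
    rw [hw0, zero_add] at hwp
    have e1 := hr.1 u (Submodule.mem_sup_right (Submodule.subset_span (by simp)))
    have e2 := hr.1 v (Submodule.mem_sup_right (Submodule.subset_span (by simp)))
    change polB Q u r = 0 at e1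
    change polB Q v r = 0 at e2
    rw [← hwp] at e1 e2
    simp [map_add, polB_self, huv, polB_comm v u, h2, hu0, hv0] at e1 e2
    rw [Submodule.mem_bot, ← hwp, e1, e2, zero_smul, zero_smul, add_zero]
  have hrad5 : (∃ x ∈ ((polB Q).orthogonal W), x ∈ P ∧ Q x ≠ 0) → (2 : F) ≠ 0 →
      Module.finrank F ↥(S ⊓ (polB Q).orthogonal S) ≤ 1 := by
    rintro ⟨x, hx, hxP, hx0⟩ h2
    by_contra hgt
    have hxr := hxrad (by omega) x hx hxP
    have := hxr.2 x hxr.1
    change polB Q x x = 0 at this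
    rw [polB_self] at this
    exact mul_ne_zero h2 hx0 this
  have hA : Module.finrank F ↥(S ⊓ (polB Q).orthogonal S) + 2 ≤ Module.finrank F S := by
    rcases hm with h6 | ⟨h5, -, h2⟩
    · omega
    · rcases hcase with ⟨-, h | h⟩ | h | h | ⟨h, -⟩ | ⟨hu, hv, hu0, hv0, huv⟩
      · omega
      · have := hrad5 h h2; omega
      · have := hone h; omega
      · omega
      · omega
      · have := hnd h2 hu hv hu0 hv0 huv; omega
  obtain ⟨y, hy, hy', hyc⟩ := exists_value' (Q := Q) S hA c (by
    rcases hcase with h | h | h | ⟨h6, x, hx, hxP, hx0⟩ | ⟨hu, hv, hu0, hv0, huv⟩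
    · exact Or.inl h.1
    · refine Or.inr (Or.inl ?_)
      have := hone h
      have := hm.five
      omega
    · exact Or.inr (Or.inl (by omega))
    · by_cases h3 : Module.finrank F ↥(S ⊓ (polB Q).orthogonal S) + 3 ≤ Module.finrank F S
      · exact Or.inr (Or.inl h3)
      exact Or.inr (Or.inr ⟨x, hxrad (by omega) x hx hxP, hx0⟩)
    · by_cases h2 : (2 : F) = 0
      · have h6 : 6 ≤ Module.finrank F ((polB Q).orthogonal W) :=
          hm.resolve_right fun h => h.2.2 h2
        by_cases h3 : Module.finrank F ↥(S ⊓ (polB Q).orthogonal S) + 3 ≤ Module.finrank F S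
        · exact Or.inr (Or.inl h3)
        exact Or.inr (Or.inr ⟨u, hxrad (by omega) u hu (Submodule.subset_span (by simp)), hu0⟩)
      · have := hnd h2 hu hv hu0 hv0 huv
        have := hm.five
        exact Or.inr (Or.inl (by omega)))
  refine ⟨y, fun w hw => hy w (Submodule.mem_sup_left hw), fun h => hy' ?_, ?_, ?_, hyc⟩
  · intro s hs
    change polB Q s y = 0
    rw [polB_comm]
    exact hs y h
  · rw [polB_comm]
    exact hy u (Submodule.mem_sup_right (Submodule.subset_span (by simp)))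
  · rw [polB_comm]
    exact hy v (Submodule.mem_sup_right (Submodule.subset_span (by simp)))

/-- Every value, orthogonally to two given vectors, inside the large complement. -/
lemma exists_in_big (hm : 7 ≤ Module.finrank F ((polB Q).orthogonal W)) (u v : V) (c : F) :
    ∃ y ∈ ((polB Q).orthogonal W), y ∉ W ⊔ Submodule.span F {u, v} ∧ polB Q y u = 0 ∧ polB Q y v = 0 ∧ Q y = c :=
  exists_in_big' hQ hW (Or.inl (by omega)) u v c (Or.inr (Or.inr (Or.inl hm)))

/-- Prescribed polar value against `b` and prescribed value, off the line of `b`. -/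
lemma exists_big_pair (hm : BigSide Q W) {b : V} (hb : b ∈ ((polB Q).orthogonal W)) (hb0 : b ≠ 0) (t c : F) :
    ∃ x ∈ ((polB Q).orthogonal W), polB Q x b = t ∧ Q x = c ∧ x ∉ Submodule.span F {b} := by
  by_cases hsing : Q b = 0 ∧ t ≠ 0
  · obtain ⟨hQb, ht⟩ := hsing
    obtain ⟨y, hy⟩ := exists_polB_eq hQ hb0 t
    obtain ⟨w, hw, x₀, hx₀, rfl⟩ := Submodule.mem_sup.mp
      (codisjoint_iff.mp (isCompl_orth hQ hW).codisjoint ▸ Submodule.mem_top : y ∈ W ⊔ ((polB Q).orthogonal W))
    have hbx : polB Q x₀ b = t := by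
      rw [map_add, polB_comm b w, hb w hw, zero_add] at hy
      rw [polB_comm, hy]
    have e1 : polB Q (x₀ + ((c - Q x₀) / t) • b) b = t := by
      rw [map_add, map_smul, LinearMap.add_apply, LinearMap.smul_apply, hbx, polB_self, hQb,
        mul_zero, smul_zero, add_zero]
    refine ⟨_, add_mem hx₀ (Submodule.smul_mem _ _ hb), e1, ?_, fun h => ?_⟩
    · rw [qmap_add_smul, hQb, hbx]
      field_simp
      ring
    · obtain ⟨r, hr⟩ := Submodule.mem_span_singleton.mp h
      rw [← hr, map_smul, LinearMap.smul_apply, polB_self, hQb, mul_zero, smul_zero] at e1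
      exact ht e1.symm
  obtain ⟨x₀, hx₀, hbx, hcase⟩ : ∃ x₀ ∈ ((polB Q).orthogonal W), polB Q x₀ b = t ∧
      (x₀ ∈ Submodule.span F {b} ∨ (6 ≤ Module.finrank F ((polB Q).orthogonal W) ∧
        ∃ x ∈ ((polB Q).orthogonal W), x ∈ Submodule.span F ({b, x₀} : Set V) ∧ Q x ≠ 0)) := by
    by_cases ht : t = 0
    · exact ⟨0, zero_mem _, by simp [ht], Or.inl (zero_mem _)⟩
    have hQb : Q b ≠ 0 := fun h => hsing ⟨h, ht⟩
    by_cases h2 : (2 : F) = 0
    · obtain ⟨y, hy⟩ := exists_polB_eq hQ hb0 t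
      obtain ⟨w, hw, x₀, hx₀, rfl⟩ := Submodule.mem_sup.mp
        (codisjoint_iff.mp (isCompl_orth hQ hW).codisjoint ▸ Submodule.mem_top : y ∈ W ⊔ ((polB Q).orthogonal W))
      have hbx : polB Q x₀ b = t := by
        rw [map_add, polB_comm b w, hb w hw, zero_add] at hy
        rw [polB_comm, hy]
      exact ⟨x₀, hx₀, hbx, Or.inr ⟨hm.resolve_right fun h => h.2.2 h2,
        b, hb, Submodule.subset_span (by simp), hQb⟩⟩
    · refine ⟨(t / (2 * Q b)) • b, Submodule.smul_mem _ _ hb, ?_,
        Or.inl (Submodule.smul_mem _ _ (Submodule.mem_span_singleton_self b))⟩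
      rw [map_smul, LinearMap.smul_apply, polB_self, smul_eq_mul,
        div_mul_cancel₀ _ (mul_ne_zero h2 hQb)]
  rcases hcase with hspan | hns
  · obtain ⟨z, hz, hz', hzb, -, hzc⟩ :=
      exists_in_big' hQ hW hm b b (c - Q x₀) (Or.inr (Or.inl rfl))
    obtain ⟨s, rfl⟩ := Submodule.mem_span_singleton.mp hspan
    refine ⟨s • b + z, add_mem hx₀ hz, ?_, ?_, fun h => hz' ?_⟩
    · rw [map_add, LinearMap.add_apply, hbx, hzb, add_zero]
    · rw [qmap_add, hzc, polB_comm (s • b) z, (polB Q z).map_smul, hzb]; simp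
    · refine Submodule.mem_sup_right ?_
      rw [Set.pair_eq_singleton]
      simpa using sub_mem h (Submodule.smul_mem _ s (Submodule.mem_span_singleton_self b))
  · obtain ⟨z, hz, hz', hzb, hzx, hzc⟩ :=
      exists_in_big' hQ hW hm b x₀ (c - Q x₀) (Or.inr (Or.inr (Or.inr (Or.inl hns))))
    refine ⟨x₀ + z, add_mem hx₀ hz, ?_, ?_, fun h => hz' ?_⟩
    · rw [map_add, LinearMap.add_apply, hbx, hzb, add_zero]
    · rw [qmap_add, hzc, polB_comm, hzx]; ring
    · have hb' : Submodule.span F {b} ≤ W ⊔ Submodule.span F {b, x₀} :=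
        le_trans (Submodule.span_mono (by simp)) le_sup_right
      have := sub_mem (hb' h) (Submodule.mem_sup_right (Submodule.subset_span (by simp)) :
        x₀ ∈ W ⊔ Submodule.span F {b, x₀})
      rwa [add_sub_cancel_left] at this

/-- The component in `W`. -/
noncomputable def cmp : V →ₗ[F] V :=
  W.subtype ∘ₗ W.projectionOnto ((polB Q).orthogonal W) (isCompl_orth hQ hW)

lemma cmp_mem (x : V) : cmp hQ hW x ∈ W := Submodule.coe_mem _

lemma sub_cmp_mem (x : V) : x - cmp hQ hW x ∈ ((polB Q).orthogonal W) := by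
  refine (Submodule.projectionOnto_apply_eq_zero_iff (isCompl_orth hQ hW)).mp ?_
  rw [map_sub]
  exact sub_eq_zero.mpr
    (Submodule.projectionOnto_apply_left (isCompl_orth hQ hW) _).symm

omit hQ hW in
lemma polB_side {x y : V} (hx : x ∈ W) (hy : y ∈ ((polB Q).orthogonal W)) : polB Q x y = 0 := hy x hx

omit hQ hW in
lemma polB_side' {x y : V} (hx : x ∈ ((polB Q).orthogonal W)) (hy : y ∈ W) : polB Q x y = 0 := by
  rw [polB_comm]; exact hx y hy

lemma eq_of_split {a a' b b' : V} (ha : a ∈ W) (ha' : a' ∈ W) (hb : b ∈ ((polB Q).orthogonal W)) (hb' : b' ∈ ((polB Q).orthogonal W))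
    (h : a + b = a' + b') : a = a' ∧ b = b' := by
  have h1 : a - a' ∈ W ⊓ ((polB Q).orthogonal W) := by
    refine ⟨sub_mem ha ha', ?_⟩
    have : a - a' = b' - b := by rw [sub_eq_sub_iff_add_eq_add, h]; abel
    rw [this]
    exact sub_mem hb' hb
  rw [hW, Submodule.mem_bot, sub_eq_zero] at h1
  exact ⟨h1, add_left_cancel (h1 ▸ h)⟩

omit hQ hW in
lemma refl_mem_orthStab {v : V} (hv : v ∈ W ∨ v ∈ ((polB Q).orthogonal W)) : refl Q v ∈ orthStab Q W := by
  refine mem_orthStab fun x hx => ?_
  rcases hv with hv | hv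
  · rw [refl_apply]
    exact sub_mem hx (W.smul_mem _ hv)
  · rw [refl_fix (hv x hx)]
    exact hx

omit hW in
lemma orthStab_side {h : orthGroup Q} (hh : h ∈ orthStab Q W) {x : V} (hx : x ∈ W ∨ x ∈ ((polB Q).orthogonal W)) :
    h.1 x ∈ W ∨ h.1 x ∈ ((polB Q).orthogonal W) := by
  rcases hx with hx | hx
  · left
    have hh' : W.map (h.1 : V →ₗ[F] V) = W := hh
    rw [← hh']
    exact ⟨x, hx, rfl⟩
  · right
    intro w hw
    have hh' : W.map (h.1 : V →ₗ[F] V) = W := hh
    rw [← hh'] at hw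
    obtain ⟨w₀, hw₀, rfl⟩ := hw
    change polB Q (h.1 w₀) (h.1 x) = 0
    rw [orth_polB_map]
    exact hx w₀ hw₀

/-- Witt's theorem componentwise, corrected into the commutator subgroup. -/
lemma exists_H_map (hgen : ReflGenerates F V) (hm : BigSide Q W) {a a' b b' : V}
    (ha : a ∈ W) (ha' : a' ∈ W) (hb : b ∈ ((polB Q).orthogonal W)) (hb' : b' ∈ ((polB Q).orthogonal W)) (ha0 : a ≠ 0) (ha0' : a' ≠ 0)
    (hb0 : b ≠ 0) (hb0' : b' ≠ 0) (hQa : Q a = Q a') (hQb : Q b = Q b') :
    ∃ h ∈ commutator (orthGroup Q) ⊓ orthStab Q W, h.1 (a + b) = a' + b' := by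
  have hW'' : ((polB Q).orthogonal W) ⊓ (polB Q).orthogonal ((polB Q).orthogonal W) = ⊥ := by
    rw [LinearMap.BilinForm.orthogonal_orthogonal hQ (polB_isRefl Q) W, inf_comm, hW]
  obtain ⟨g₁, hg₁⟩ := exists_orth_map (restrict_nondeg hW) (x := ⟨a, ha⟩) (y := ⟨a', ha'⟩)
    (by simpa using ha0) (by simpa using ha0') (by simpa using hQa)
  obtain ⟨g₂, hg₂⟩ := exists_orth_map (restrict_nondeg hW'') (x := ⟨b, hb⟩) (y := ⟨b', hb'⟩)
    (by simpa using hb0) (by simpa using hb0') (by simpa using hQb)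
  let c := isCompl_orth hQ hW
  let φ : V →ₗ[F] V :=
    W.subtype ∘ₗ (g₁.1 : W →ₗ[F] W) ∘ₗ W.projectionOnto ((polB Q).orthogonal W) c +
      (((polB Q).orthogonal W)).subtype ∘ₗ (g₂.1 : ((polB Q).orthogonal W) →ₗ[F] ((polB Q).orthogonal W)) ∘ₗ (((polB Q).orthogonal W)).projectionOnto W c.symm
  have hφ : ∀ x, φ x = (g₁.1 (W.projectionOnto ((polB Q).orthogonal W) c x) : V) + (g₂.1 ((((polB Q).orthogonal W)).projectionOnto W c.symm x) : V) :=
    fun x => rfl
  have hiso : ∀ x, Q (φ x) = Q x := by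
    intro x
    have h1 : Q (g₁.1 (W.projectionOnto ((polB Q).orthogonal W) c x) : V) = Q (W.projectionOnto ((polB Q).orthogonal W) c x : V) :=
      orth_qmap g₁ _
    have h2 : Q (g₂.1 ((((polB Q).orthogonal W)).projectionOnto W c.symm x) : V) =
        Q ((((polB Q).orthogonal W)).projectionOnto W c.symm x : V) := orth_qmap g₂ _
    conv_rhs => rw [← Submodule.projection_add_projection_eq_self c x]
    rw [hφ, qmap_add, h1, h2, Submodule.projection_apply, Submodule.projection_apply, qmap_add,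
      polB_side (Submodule.coe_mem _) (Submodule.coe_mem _),
      polB_side (Submodule.coe_mem _) (Submodule.coe_mem _)]
  let g := ofIsometry hQ φ hiso
  have hgW : g ∈ orthStab Q W := mem_orthStab fun x hx => by
    change φ x ∈ W
    rw [hφ, (Submodule.projectionOnto_apply_eq_zero_iff c.symm).mpr hx, map_zero]
    simp
  have hgab : g.1 (a + b) = a' + b' := by
    change φ (a + b) = _
    rw [hφ, map_add (W.projectionOnto ((polB Q).orthogonal W) c),
      map_add (((polB Q).orthogonal W).projectionOnto W c.symm),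
      Submodule.projectionOnto_apply_left c ⟨a, ha⟩,
      (Submodule.projectionOnto_apply_eq_zero_iff c).mpr hb,
      (Submodule.projectionOnto_apply_eq_zero_iff c.symm).mpr ha,
      Submodule.projectionOnto_apply_left c.symm ⟨b, hb⟩, add_zero, zero_add, hg₁, hg₂]
  -- correction by reflections in `((polB Q).orthogonal W)` orthogonal to `b`
  have hn : 2 ≤ Module.finrank F V := by
    have := finrank_orth_add hQ W; have := hm.five; omega
  have hval : ∀ l : F, l ≠ 0 → ∃ v ∈ ((polB Q).orthogonal W), Q v = l ∧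
      refl Q v ∈ orthStab Q W ∧ (refl Q v).1 (a + b) = a + b := by
    intro l hl
    obtain ⟨v, hv, -, hvb, -, hvl⟩ := exists_in_big' hQ hW hm b b l (Or.inr (Or.inl rfl))
    refine ⟨v, hv, hvl, refl_mem_orthStab (Or.inr hv), refl_fix ?_⟩
    rw [map_add, LinearMap.add_apply, polB_side ha hv, polB_comm, hvb, add_zero]
  let S : Subgroup (orthGroup Q) := orthStab Q W ⊓
    { carrier := {h | h.1 (a + b) = a + b}
      mul_mem' := fun {x y} hx hy => by
        change (x * y).1 (a + b) = a + b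
        rw [orth_mul_apply, hy, hx]
      one_mem' := rfl
      inv_mem' := fun {x} hx => by
        change (x⁻¹).1 (a + b) = a + b
        conv_lhs => rw [← hx]
        rw [orth_inv_apply_self] }
  obtain ⟨h, hh, hgh⟩ := exists_mem_commutator hQ hgen hn S (fun x => invHom_cases hQ hgen S
    (fun l hl => by
      obtain ⟨v, hv, hvl, hv1, hv2⟩ := hval l hl
      obtain ⟨u, hu, hu1, hu1', hu2⟩ := hval 1 one_ne_zero
      refine ⟨refl Q v * refl Q u, ⟨mul_mem hv1 hu1', ?_⟩, ?_⟩
      · change (refl Q v * refl Q u).1 (a + b) = a + b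
        rw [orth_mul_apply, hu2, hv2]
      · rw [map_mul, invHom_refl hQ hgen (by rw [hvl]; exact hl),
          invHom_refl hQ hgen (by rw [hu1]; exact one_ne_zero), hvl, hu1, sqc_one]
        exact Prod.ext
          (by show Multiplicative.ofAdd (1 : ZMod 2) * Multiplicative.ofAdd 1 = 1; rfl) (mul_one _))
    (by
      obtain ⟨u, hu, hu1, hu1', hu2⟩ := hval 1 one_ne_zero
      exact ⟨u, by rw [hu1]; exact one_ne_zero, ⟨hu1', hu2⟩⟩) x) g
  exact ⟨g * h, ⟨hgh, mul_mem hgW hh.1⟩, by rw [orth_mul_apply, hh.2, hgab]⟩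

end H45
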