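import Mathlib
import Cfsg.Agent.H43.Eichler
import Cfsg.Agent.H44.Classes
import Cfsg.Agent.H45.OmegaTools

/-!
# The stabiliser of a totally singular subspace is maximal
-/

set_option autoImplicit false
set_option linter.unusedSectionVars false

namespace H45

open H43

variable {F : Type*} [Field F] [Finite F] {V : Type*} [AddCommGroup V] [Module F V]
  [FiniteDimensional F V] {Q : QuadraticForm F V}

/-- All Eichler transformations with centre `u` lie in `M`. -/
def EIn (Q : QuadraticForm F V) (M : Subgroup (orthGroup Q)) (u : V) : Prop :=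
  Q u = 0 ∧ ∀ w, polB Q u w = 0 → eichler Q u w ∈ M

lemma eIn_map {M : Subgroup (orthGroup Q)} {g : orthGroup Q} (hg : g ∈ M) {u : V}
    (hu : EIn Q M u) : EIn Q M (g.1 u) := by
  refine ⟨by rw [orth_qmap]; exact hu.1, fun w hw => ?_⟩
  have e : g.1 ((g⁻¹).1 w) = w := orth_apply_inv_self g w
  have h1 : polB Q u ((g⁻¹).1 w) = 0 := by rw [← orth_polB_map g, e]; exact hw
  rw [← e, ← eichler_conj g hu.1 h1]
  exact mul_mem (mul_mem hg (hu.2 _ h1)) (inv_mem hg)

lemma eIn_smul {M : Subgroup (orthGroup Q)} {u : V} (hu : EIn Q M u) {t : F} (ht : t ≠ 0) :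
    EIn Q M (t • u) := by
  refine ⟨by rw [qmap_smul, hu.1, mul_zero], fun w hw => ?_⟩
  have hw' : polB Q u w = 0 := by simpa [ht] using hw
  have h := eichler_smul_left hu.1 (w := t • w) (by rw [map_smul, hw', smul_zero]) ht
  rw [smul_smul, inv_mul_cancel₀ ht, one_smul] at h
  rw [h]
  exact hu.2 _ (by rw [map_smul, hw', smul_zero])

lemma exists_functional (hQ : (polB Q).Nondegenerate) {W : Submodule F V} (φ : W →ₗ[F] F) :
    ∃ z, ∀ w : W, polB Q (w : V) z = φ w := by
  obtain ⟨ψ, hψ⟩ := LinearMap.exists_extend φ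
  refine ⟨((polB Q).toDual hQ).symm ψ, fun w => ?_⟩
  rw [polB_comm, LinearMap.BilinForm.apply_toDual_symm_apply, ← hψ]
  rfl

/-- Correction into the commutator subgroup when only rotations are available. -/
lemma exists_corr (hQ : (polB Q).Nondegenerate) (hgen : ReflGenerates F V)
    (hn : 2 ≤ Module.finrank F V) (S : Subgroup (orthGroup Q)) (g : orthGroup Q)
    (heven : ∀ l : F, l ≠ 0 → ∃ h ∈ S, invHom hQ hgen h = (1, sqc l))
    (hodd : dickson g = 1 ∨ ∃ v, Q v ≠ 0 ∧ refl Q v ∈ S) :
    ∃ h ∈ S, g * h ∈ commutator (orthGroup Q) := by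
  obtain ⟨h, hh, hx⟩ : ∃ h ∈ S, invHom hQ hgen h = invHom hQ hgen g := by
    rcases hodd with hd | hr
    · obtain ⟨l, hl, hls⟩ := sqc_surjective (spinor g)
      obtain ⟨h, hh, hx⟩ := heven l hl
      exact ⟨h, hh, by rw [hx, invHom_apply, hd, hls]⟩
    · exact invHom_cases hQ hgen S heven hr _
  refine ⟨h⁻¹, inv_mem hh, ?_⟩
  rw [commutator_eq_invKer hQ hgen hn, MonoidHom.mem_ker, map_mul, map_inv, hx, mul_inv_cancel]

lemma map_span_eq (g : orthGroup Q) {u x : V} (h : (g.1 u) ∈ Submodule.span F {x}) :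
    ∀ y ∈ Submodule.span F {u}, g.1 y ∈ Submodule.span F {x} := fun y hy => by
  obtain ⟨c, rfl⟩ := Submodule.mem_span_singleton.mp hy
  rw [map_smul]
  exact Submodule.smul_mem _ c h

variable (hQ : (polB Q).Nondegenerate) (hn : 7 ≤ Module.finrank F V) {W : Submodule F V}
  (hW : ∀ w ∈ W, Q w = 0)

include hQ hn hW

lemma exists_orth_sing {c x : V} (hc : Q c = 0) (hcx : c ∉ Submodule.span F {x})
    (hxc : polB Q x c = 0) :
    ∃ v, Q v = 0 ∧ polB Q c v = 1 ∧ polB Q x v = 0 := by
  obtain ⟨v, hv, hcv⟩ := exists_orth_polB_eq hQ hcx 1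
  refine ⟨v + (-Q v) • c, ?_, ?_, ?_⟩
  · rw [qmap_add_smul, hc, polB_comm, hcv]; ring
  · rw [map_add, map_smul, hcv, polB_self, hc]; simp
  · rw [map_add, map_smul, hv x (Submodule.mem_span_singleton_self x), hxc]; simp

variable {M : Subgroup (orthGroup Q)}
  (hHM : orthStab Q W ⊓ commutator (orthGroup Q) ≤ M)

include hHM

lemma eIn_of_mem {u : V} (hu : u ∈ W) : EIn Q M u := by
  refine ⟨hW u hu, fun w hw => hHM ⟨mem_orthStab fun x hx => ?_, ?_⟩⟩
  · rw [eichler_apply (hW u hu) hw, polB_eq_zero_of_singular hW hx hu]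
    simp only [zero_smul, mul_zero, add_zero, sub_zero]
    exact sub_mem hx (W.smul_mem _ hu)
  · change eichler Q u w ∈ commutator (orthGroup Q)
    rw [commutator_eq_eichlerSub hQ (by omega)]
    exact eichler_mem (hW u hu) hw

/-- Transitivity on singular vectors inducing a given functional on `W`. -/
lemma eIn_same_functional
    (hA : ∀ U : Submodule F V, (∀ y ∈ U, Q y = 0) →
      Module.finrank F U = Module.finrank F W + 1 → 2 * Module.finrank F U < Module.finrank F V)
    {u x : V} (hu : EIn Q M u) (hx : Q x = 0) (huW : u ∉ W) (hxW : x ∉ W)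
    (hf : ∀ w ∈ W, polB Q w x = polB Q w u) : EIn Q M x := by
  have hgen : ReflGenerates F V := Or.inr (by omega)
  obtain ⟨g, hgW, hgu⟩ := witt_step hQ W huW hxW (by rw [hx, hu.1]) hf
  have hgstab : g ∈ orthStab Q W := mem_orthStab fun w hw => by rw [hgW w hw]; exact hw
  set S := orthStab Q W ⊓ orthStab Q (Submodule.span F {u}) with hS
  have hu0 : u ≠ 0 := fun h => huW (h ▸ W.zero_mem)
  obtain ⟨h, hh, hgh⟩ : ∃ h ∈ S, g * h ∈ commutator (orthGroup Q) := by
    by_cases hperp : ∀ w ∈ W, polB Q w u = 0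
    · -- `u` orthogonal to `W`
      obtain ⟨c', hp, hc'⟩ := exists_hypPair_orth hQ hu.1 huW hperp
      refine exists_corr hQ hgen (by omega) S g (fun l hl => ?_) (Or.inr ?_)
      · obtain ⟨h1, h2⟩ := H44.hscale_invariants hQ hgen hp hl
        refine ⟨hscale Q u c' l, ⟨mem_orthStab fun w hw => ?_,
          mem_orthStab (map_span_eq _ ?_)⟩, by rw [invHom_apply, h1, h2]⟩
        · rw [hscale_fix hp hl (hperp w hw) (hc' w hw)]; exact hw
        · rw [hscale_left hp hl]
          exact Submodule.smul_mem _ _ (Submodule.mem_span_singleton_self u)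
      · have hU : ∀ y ∈ W ⊔ Submodule.span F {u}, Q y = 0 := by
          intro y hy
          obtain ⟨w, hw, z, hz, rfl⟩ := Submodule.mem_sup.mp hy
          obtain ⟨c, rfl⟩ := Submodule.mem_span_singleton.mp hz
          rw [qmap_add_smul, hW w hw, hu.1, hperp w hw]; simp
        have hdim : Module.finrank F ↥(W ⊔ Submodule.span F {u}) = Module.finrank F W + 1 :=
          Submodule.finrank_sup_span_singleton huW
        have hsmall := hA _ hU hdim
        obtain ⟨v, hv, hv0⟩ : ∃ v ∈ (polB Q).orthogonal (W ⊔ Submodule.span F {u}), Q v ≠ 0 := by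
          by_contra hcon
          push Not at hcon
          have h1 := two_mul_finrank_singular_le hQ _ hcon
          have h2 := finrank_orth_add hQ (W ⊔ Submodule.span F {u})
          omega
        refine ⟨v, hv0, mem_orthStab fun w hw => ?_, mem_orthStab fun y hy => ?_⟩
        · rw [refl_fix (hv w (Submodule.mem_sup_left hw))]; exact hw
        · rw [refl_fix (hv y (Submodule.mem_sup_right hy))]; exact hy
    · -- `u` not orthogonal to `W`
      push Not at hperp
      obtain ⟨w₀, hw₀, hw₀u⟩ := hperp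
      set c' := (polB Q w₀ u)⁻¹ • w₀ with hc'def
      have hc'W : c' ∈ W := W.smul_mem _ hw₀
      have hp : HypPair Q u c' := ⟨hu.1, hW _ hc'W, by
        rw [hc'def, map_smul, smul_eq_mul, polB_comm u w₀, inv_mul_cancel₀ hw₀u]⟩
      refine exists_corr hQ hgen (by omega) S g (fun l hl => ?_) ?_
      · obtain ⟨h1, h2⟩ := H44.hscale_invariants hQ hgen hp hl
        refine ⟨hscale Q u c' l, ⟨mem_orthStab fun w hw => ?_,
          mem_orthStab (map_span_eq _ ?_)⟩, by rw [invHom_apply, h1, h2]⟩
        · rw [hscale_apply hp hl, polB_eq_zero_of_singular hW hw hc'W]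
          simp only [mul_zero, zero_smul, add_zero]
          exact add_mem hw (W.smul_mem _ hc'W)
        · rw [hscale_left hp hl]
          exact Submodule.smul_mem _ _ (Submodule.mem_span_singleton_self u)
      · by_cases h2k : 2 * Module.finrank F W < Module.finrank F V
        · obtain ⟨v, hv, hv0⟩ : ∃ v ∈ (polB Q).orthogonal W, Q v ≠ 0 := by
            by_contra hcon
            push Not at hcon
            have h1 := two_mul_finrank_singular_le hQ _ hcon
            have h2 := finrank_orth_add hQ W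
            omega
          have hvc : polB Q v c' = 0 := by rw [polB_comm]; exact hv c' hc'W
          refine Or.inr ⟨v + (-polB Q v u) • c', ?_, mem_orthStab fun w hw => ?_,
            mem_orthStab fun y hy => ?_⟩
          · rw [qmap_add_smul, hp.right, hvc]; simpa using hv0
          · rw [refl_fix]
            · exact hw
            · rw [map_add, map_smul, hv w hw, polB_eq_zero_of_singular hW hw hc'W]; simp
          · obtain ⟨c, rfl⟩ := Submodule.mem_span_singleton.mp hy
            rw [refl_fix]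
            · exact hy
            · rw [map_smul, LinearMap.smul_apply, map_add, map_smul, hp.pair, polB_comm u v]; simp
        · -- maximal totally singular subspace
          have hle := two_mul_finrank_singular_le hQ W hW
          left
          have h := H44.even_inf_map_iff hQ hgen (m := Module.finrank F W) (by omega) g hW hW rfl rfl
          rw [show W.map (g.1 : V →ₗ[F] V) = W from hgstab, inf_idem, Nat.sub_self] at h
          simpa using h
  have hsp : (Submodule.span F {u}).map (h.1 : V →ₗ[F] V) = Submodule.span F {u} := hh.2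
  obtain ⟨c, hc⟩ := Submodule.mem_span_singleton.mp
    (hsp.le ⟨u, Submodule.mem_span_singleton_self u, rfl⟩)
  have h1 := eIn_map (hHM ⟨mul_mem hgstab hh.1, hgh⟩) hu
  have e : (g * h).1 u = c • x := by
    rw [orth_mul_apply, show h.1 u = c • u from hc.symm, map_smul, hgu]
  have hc0 : c ≠ 0 := by
    rintro rfl
    rw [zero_smul] at hc
    exact hu0 (h.1.injective (by rw [map_zero]; exact hc.symm))
  rw [e] at h1
  have h2 := eIn_smul h1 (inv_ne_zero hc0)
  rwa [smul_smul, inv_mul_cancel₀ hc0, one_smul] at h2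

variable (hA : ∀ U : Submodule F V, (∀ y ∈ U, Q y = 0) →
      Module.finrank F U = Module.finrank F W + 1 → 2 * Module.finrank F U < Module.finrank F V)

include hA

/-- One centre not orthogonal to `W` gives all of them. -/
lemma eIn_B {u : V} (hu : EIn Q M u) (huB : ∃ w ∈ W, polB Q w u ≠ 0) {x : V} (hx : Q x = 0)
    (hxB : ∃ w ∈ W, polB Q w x ≠ 0) : EIn Q M x := by
  obtain ⟨c, hc, hcu, hcx⟩ : ∃ c ∈ W, polB Q c u ≠ 0 ∧ polB Q c x ≠ 0 := by
    obtain ⟨a, ha, hau⟩ := huB
    obtain ⟨b, hb, hbx⟩ := hxB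
    by_cases h1 : polB Q a x ≠ 0
    · exact ⟨a, ha, hau, h1⟩
    by_cases h2 : polB Q b u ≠ 0
    · exact ⟨b, hb, h2, hbx⟩
    push Not at h1 h2
    exact ⟨a + b, add_mem ha hb, by simpa [h2] using hau, by simpa [h1] using hbx⟩
  set c₁ := (polB Q c u)⁻¹ • c with hc₁def
  have hc₁ : c₁ ∈ W := W.smul_mem _ hc
  have hcu₁ : polB Q c₁ u = 1 := by simp [hc₁def, inv_mul_cancel₀ hcu]
  have ht : polB Q c₁ x ≠ 0 := by simp [hc₁def, hcu, hcx]
  set x' := (polB Q c₁ x)⁻¹ • x with hx'def
  have hcx₁ : polB Q c₁ x' = 1 := by rw [hx'def, map_smul, smul_eq_mul, inv_mul_cancel₀ ht]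
  obtain ⟨z, hz⟩ := exists_functional hQ
    (((polB Q).flip x' - (polB Q).flip u).comp W.subtype)
  have hz' : ∀ w ∈ W, polB Q w z = polB Q w x' - polB Q w u := fun w hw => hz ⟨w, hw⟩
  have hcz : polB Q c₁ z = 0 := by rw [hz' c₁ hc₁, hcx₁, hcu₁, sub_self]
  have hEc := eIn_of_mem hQ hn hW hHM hc₁
  have hu' := eIn_map (hEc.2 z hcz) hu
  set u' := (eichler Q c₁ z).1 u with hu'def
  have hfun : ∀ w ∈ W, polB Q w x' = polB Q w u' := by
    intro w hw
    rw [hu'def, eichler_apply hEc.1 hcz, polB_comm u c₁, hcu₁]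
    simp only [map_add, map_sub, map_smul, one_smul, mul_one, smul_eq_mul,
      polB_eq_zero_of_singular hW hw hc₁, mul_zero, sub_zero, hz' w hw]
    ring
  have hx'0 : Q x' = 0 := by rw [hx'def, qmap_smul, hx, mul_zero]
  have hout : ∀ y, polB Q c₁ y = 1 → y ∉ W := fun y hy hyW => by
    rw [polB_eq_zero_of_singular hW hc₁ hyW] at hy
    exact zero_ne_one hy
  have hres := eIn_same_functional hQ hn hW hHM hA hu' hx'0
    (hout _ (by rw [← hfun c₁ hc₁, hcx₁])) (hout _ hcx₁) hfun
  have := eIn_smul hres ht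
  rwa [hx'def, smul_smul, mul_inv_cancel₀ ht, one_smul] at this

/-- A centre outside `W` forces the whole of `Ω`. -/
lemma commutator_le_of_eIn {u : V} (hu : EIn Q M u) (huW : u ∉ W) (hW0 : W ≠ ⊥) :
    commutator (orthGroup Q) ≤ M := by
  -- a centre not orthogonal to `W`
  obtain ⟨v, hv, hvB⟩ : ∃ v, EIn Q M v ∧ ∃ w ∈ W, polB Q w v ≠ 0 := by
    by_cases hB : ∃ w ∈ W, polB Q w u ≠ 0
    · exact ⟨u, hu, hB⟩
    push Not at hB
    obtain ⟨u₁, hp, hu₁⟩ := exists_hypPair_orth hQ hu.1 huW hB
    have hu₁W : u₁ ∉ W := fun h => by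
      have := hB u₁ h
      rw [hp.symm.pair] at this
      exact one_ne_zero this
    have hu₁E := eIn_same_functional hQ hn hW hHM hA hu hp.right huW hu₁W
      (fun w hw => by rw [hu₁ w hw, hB w hw])
    obtain ⟨c, hc, hc0⟩ := Submodule.exists_mem_ne_zero_of_ne_bot hW0
    have hnot : c ∉ Submodule.span F {u} := fun h => by
      obtain ⟨a, ha⟩ := Submodule.mem_span_singleton.mp h
      have ha0 : a ≠ 0 := fun e => hc0 (by rw [← ha, e, zero_smul])
      exact huW ((W.smul_mem_iff ha0).mp (ha ▸ hc))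
    obtain ⟨z, hz, hcz⟩ := exists_orth_polB_eq hQ hnot 1
    have huz : polB Q u z = 0 := hz u (Submodule.mem_span_singleton_self u)
    refine ⟨(eichler Q u z).1 u₁, eIn_map (hu.2 z huz) hu₁E, c, hc, ?_⟩
    rw [eichler_apply hu.1 huz, hp.symm.pair]
    simp [hu₁ c hc, hcz, hB c hc]
  have hBall : ∀ x, Q x = 0 → (∃ w ∈ W, polB Q w x ≠ 0) → EIn Q M x := fun x hx hxB =>
    eIn_B hQ hn hW hHM hA hv hvB hx hxB
  obtain ⟨c, hc, hc0⟩ := Submodule.exists_mem_ne_zero_of_ne_bot hW0
  have hall : ∀ x, Q x = 0 → EIn Q M x := by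
    intro x hx
    by_cases hxB : ∃ w ∈ W, polB Q w x ≠ 0
    · exact hBall x hx hxB
    push Not at hxB
    by_cases hxW : x ∈ W
    · exact eIn_of_mem hQ hn hW hHM hxW
    have hnot : c ∉ Submodule.span F {x} := fun h => by
      obtain ⟨a, ha⟩ := Submodule.mem_span_singleton.mp h
      have ha0 : a ≠ 0 := fun e => hc0 (by rw [← ha, e, zero_smul])
      exact hxW ((W.smul_mem_iff ha0).mp (ha ▸ hc))
    obtain ⟨b, hb, hbc, hxb⟩ := exists_orth_sing hQ hn hW (hW c hc) hnot
      (by rw [polB_comm]; exact hxB c hc)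
    have hbE := hBall b hb ⟨c, hc, by rw [hbc]; exact one_ne_zero⟩
    have hbx : polB Q b x = 0 := by rw [polB_comm]; exact hxb
    have h1 := eIn_map (hbE.2 x hbx) (eIn_of_mem hQ hn hW hHM hc)
    have e : (eichler Q b x).1 c = c + x := by
      rw [eichler_apply hb hbx, hbc, hxB c hc, hx]
      simp
    rw [e] at h1
    exact eIn_same_functional hQ hn hW hHM hA h1 hx (fun h => hxW (by simpa using sub_mem h hc))
      hxW (fun w hw => by rw [map_add, polB_eq_zero_of_singular hW hw hc, zero_add])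
  rw [commutator_eq_eichlerSub hQ (by omega), eichlerSub, Subgroup.closure_le]
  rintro _ ⟨a, w, ha, haw, rfl⟩
  exact (hall a ha).2 w haw

omit hHM in
/-- The stabiliser of a totally singular subspace is maximal. -/
theorem sing_stab_maximal (hW0 : W ≠ ⊥) :
    orthStab Q W ⊓ commutator (orthGroup Q) < commutator (orthGroup Q) ∧
    ∀ M : Subgroup (orthGroup Q), orthStab Q W ⊓ commutator (orthGroup Q) ≤ M →
      M ≤ commutator (orthGroup Q) →
      M = orthStab Q W ⊓ commutator (orthGroup Q) ∨ M = commutator (orthGroup Q) := by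
  refine ⟨lt_of_le_of_ne inf_le_right fun heq => ?_, fun M hHM hMC => ?_⟩
  · obtain ⟨c, hc, hc0⟩ := Submodule.exists_mem_ne_zero_of_ne_bot hW0
    obtain ⟨v, hv⟩ := exists_hypPair hQ (hW c hc) hc0
    have hv0 : v ≠ 0 := hv.symm.left_ne_zero
    obtain ⟨z, hz, hzout⟩ : ∃ z, polB Q v z = 0 ∧ z ∉ W ⊔ Submodule.span F {v} := by
      by_contra hcon
      push Not at hcon
      have hle : (polB Q).orthogonal (Submodule.span F {v}) ≤ W ⊔ Submodule.span F {v} :=
        fun y hy => hcon y (hy v (Submodule.mem_span_singleton_self v))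
      have h1 := Submodule.finrank_mono hle
      have h2 := finrank_orth_add hQ (Submodule.span F {v})
      rw [finrank_span_singleton hv0] at h2
      have h3 := Submodule.finrank_sup_add_finrank_inf_eq W (Submodule.span F {v})
      rw [finrank_span_singleton hv0] at h3
      have h4 := two_mul_finrank_singular_le hQ W hW
      omega
    have hmem : eichler Q v z ∈ commutator (orthGroup Q) := by
      rw [commutator_eq_eichlerSub hQ (by omega)]; exact eichler_mem hv.right hz
    rw [← heq] at hmem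
    have hst : W.map ((eichler Q v z).1 : V →ₗ[F] V) = W := hmem.1
    have himg : (eichler Q v z).1 c ∈ W := hst.le ⟨c, hc, rfl⟩
    rw [eichler_apply hv.right hz, hv.pair] at himg
    apply hzout
    have e : z = ((c + (1 : F) • z - polB Q c z • v - (Q z * 1) • v) - c) +
        (polB Q c z + Q z * 1) • v := by module
    rw [e]
    exact add_mem (Submodule.mem_sup_left (sub_mem himg hc))
      (Submodule.mem_sup_right (Submodule.smul_mem _ _ (Submodule.mem_span_singleton_self v)))
  · by_cases hsub : M ≤ orthStab Q W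
    · exact Or.inl (le_antisymm (le_inf hsub hMC) hHM)
    obtain ⟨g, hg, hgs⟩ := Set.not_subset.mp hsub
    obtain ⟨u, hu, hgu⟩ : ∃ u ∈ W, g.1 u ∉ W := by
      by_contra hcon
      push Not at hcon
      exact hgs (mem_orthStab hcon)
    exact Or.inr (le_antisymm hMC (commutator_le_of_eIn hQ hn hW hHM hA
      (eIn_map hg (eIn_of_mem hQ hn hW hHM hu)) hgu hW0))

end H45
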