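import Mathlib
import Cfsg.Agent.H45.NondegGeom
import Cfsg.Agent.H45.SingMax
import Cfsg.Agent.H45.OrthTransfer

/-!
# Non-maximal members: planes, pairs of totally singular subspaces, almost maximal singular ones
-/

set_option autoImplicit false
set_option linter.unusedSectionVars false

namespace H45

open H43

/-- A subgroup strictly between, inside the general linear group. -/
theorem exists_between_of_orth {F : Type*} [Field F] {ι : Type} [Fintype ι] [DecidableEq ι]
    (q : QuadraticForm F (ι → F)) (T : Subgroup (Matrix.GeneralLinearGroup ι F))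
    (K : Subgroup (orthGroup q)) (hKC : K ≤ commutator (orthGroup q))
    (hTK : ∀ g ∈ commutator (orthGroup q), toGL q g ∈ T → g ∈ K)
    (hne : ∃ g ∈ K, toGL q g ∉ T) (hlt : ∃ g ∈ commutator (orthGroup q), g ∉ K) :
    ∃ K' : Subgroup (Matrix.GeneralLinearGroup ι F),
      T ⊓ Cfsg.Geo.omegaGL ⇑q < K' ∧ K' < Cfsg.Geo.omegaGL ⇑q := by
  rw [omegaGL_eq_map]
  refine ⟨K.map (toGL q), SetLike.lt_iff_le_and_exists.mpr ⟨?_, ?_⟩,
    SetLike.lt_iff_le_and_exists.mpr ⟨Subgroup.map_mono hKC, ?_⟩⟩
  · rintro x ⟨hxT, g, hg, rfl⟩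
    exact ⟨g, hTK g hg hxT, rfl⟩
  · obtain ⟨g, hg, hgT⟩ := hne
    exact ⟨toGL q g, ⟨g, hg, rfl⟩, fun h => hgT h.1⟩
  · obtain ⟨g, hg, hgK⟩ := hlt
    exact ⟨toGL q g, ⟨g, hg, rfl⟩,
      fun ⟨h, hh, he⟩ => hgK (toGL_injective q he ▸ hh)⟩

variable {F : Type*} [Field F] [Finite F] {V : Type*} [AddCommGroup V] [Module F V]
  [FiniteDimensional F V] {Q : QuadraticForm F V} (hQ : (polB Q).Nondegenerate)
  (hn : 9 ≤ Module.finrank F V)

lemma orthStab_mem_iff {U : Submodule F V} {g : orthGroup Q} :
    g ∈ orthStab Q U ↔ ∀ x ∈ U, g.1 x ∈ U := by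
  refine ⟨fun h x hx => ?_, mem_orthStab⟩
  have h' : U.map (g.1 : V →ₗ[F] V) = U := h
  exact h'.le ⟨x, hx, rfl⟩

include hQ hn

/-- A hyperbolic plane over a field with at most three elements. -/
theorem plane_between (h3 : ∀ x : F, x = 0 ∨ x = 1 ∨ x = -1) {W : Submodule F V}
    (hW : W ⊓ (polB Q).orthogonal W = ⊥) (hW2 : Module.finrank F W = 2) {c : V} (hc : c ∈ W)
    (hc0 : c ≠ 0) (hQc : Q c = 0) (hn' : 9 ≤ Module.finrank F V) :
    ∃ K : Subgroup (orthGroup Q), K ≤ commutator (orthGroup Q) ∧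
      (∀ g ∈ commutator (orthGroup Q), g ∈ orthStab Q W → g ∈ K) ∧
      (∃ g ∈ K, g ∉ orthStab Q W) ∧ ∃ g ∈ commutator (orthGroup Q), g ∉ K := by
  have hgen : ReflGenerates F V := Or.inr (by omega)
  obtain ⟨⟨c', hc'⟩, hp'⟩ := exists_hypPair (restrict_nondeg hW) (c := ⟨c, hc⟩) hQc
    (by simpa using hc0)
  have hp : HypPair Q c c' := ⟨hQc, hp'.right, by
    have := hp'.pair
    rwa [polB_restrict] at this⟩
  have hspan : ∀ z ∈ W, ∃ x y : F, z = x • c + y • c' := by
    intro z hz
    have hle : Submodule.span F ({c, c'} : Set V) ≤ W :=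
      Submodule.span_le.mpr (by simp [Set.insert_subset_iff, hc, hc'])
    have hd : Module.finrank F (Submodule.span F ({c, c'} : Set V)) = 2 := by
      have h := finrank_span_eq_card hp.linearIndependent
      rwa [Matrix.range_cons_cons_empty, Fintype.card_fin] at h
    have heq := Submodule.eq_of_le_of_finrank_le hle (by omega)
    rw [← heq, Submodule.mem_span_pair] at hz
    obtain ⟨x, y, h⟩ := hz
    exact ⟨x, y, h.symm⟩
  set a := c + c' with ha
  have hQa : Q a = 1 := by rw [ha, qmap_add, hQc, hp.right, hp.pair]; ring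
  have haW : a ∈ W := add_mem hc hc'
  have huniq : ∀ z ∈ W, Q z = 1 → z ∈ Submodule.span F {a} := by
    intro z hz hQz
    obtain ⟨x, y, rfl⟩ := hspan z hz
    rw [qmap_add, qmap_smul, qmap_smul, hQc, hp.right, map_smul, map_smul, LinearMap.smul_apply,
      hp.pair] at hQz
    simp only [mul_zero, zero_add, smul_eq_mul, mul_one] at hQz
    have hxy : x = y := by
      have hx2 : x * x = 1 := by
        rcases h3 x with rfl | rfl | rfl
        · simp at hQz
        · exact one_mul 1
        · ring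
      linear_combination y * hx2 - x * hQz
    exact Submodule.mem_span_singleton.mpr ⟨x, by rw [ha, smul_add, hxy]⟩
  have hm : 7 ≤ Module.finrank F ((polB Q).orthogonal W) := by
    have := finrank_orth_add hQ W; omega
  have hoff : ∀ d ∈ (polB Q).orthogonal W, d ∈ W → d = 0 := fun d h1 h2 => by
    have : d ∈ W ⊓ (polB Q).orthogonal W := ⟨h2, h1⟩
    rwa [hW, Submodule.mem_bot] at this
  refine ⟨orthStab Q (Submodule.span F {a}) ⊓ commutator (orthGroup Q), inf_le_right,
    fun g hg hgW => ⟨orthStab_mem_iff.mpr (map_span_eq g (huniq _ (orthStab_mem_iff.mp hgW a haW)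
      (by rw [orth_qmap, hQa]))), hg⟩, ?_, ?_⟩
  · set b := c - c' with hb
    have hbW : b ∈ W := sub_mem hc hc'
    have hab : polB Q a b = 0 := by
      rw [ha, hb, map_add, LinearMap.add_apply, map_sub, map_sub, hp.pair, hp.symm.pair, polB_self,
        polB_self, hQc, hp.right]
      ring
    obtain ⟨d, hd, hdout, -, -, hdQ⟩ := exists_in_big hQ hW hm a a (1 - Q b)
    have hd0 : d ≠ 0 := fun h => hdout (h ▸ zero_mem _)
    have hx : Q (b + d) = 1 := by rw [qmap_add, hdQ, polB_side hbW hd]; ring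
    obtain ⟨y, hy, -, hyd, -, hyQ⟩ := exists_in_big hQ hW hm d d 1
    refine ⟨refl Q (b + d) * refl Q y, ⟨orthStab_mem_iff.mpr (map_span_eq _ ?_), ?_⟩, fun h => ?_⟩
    · rw [orth_mul_apply, refl_fix (hy a haW), refl_fix]
      · exact Submodule.mem_span_singleton_self a
      · rw [map_add, hab, hd a haW, add_zero]
    · exact refl_mul_refl_mem_commutator hQ hgen (by omega) (by rw [hx]; exact one_ne_zero)
        (by rw [hyQ]; exact one_ne_zero) (by rw [hx, hyQ])
    · have h1 := orthStab_mem_iff.mp h c hc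
      rw [orth_mul_apply, refl_fix (hy c hc), refl_apply, hx, (polB Q c).map_add, hd c hc, hb,
        map_sub, hp.pair, polB_self, hQc, mul_zero, zero_sub, add_zero, inv_one, one_mul,
        neg_smul, one_smul, sub_neg_eq_add] at h1
      exact hd0 (hoff d hd (by simpa [add_assoc, ← hb] using sub_mem (sub_mem h1 hc) hbW))
  · obtain ⟨d, hd, hdout, -, -, hdQ⟩ := exists_in_big hQ hW hm a a (1 - Q c)
    have hd0 : d ≠ 0 := fun h => hdout (h ▸ zero_mem _)
    have hx : Q (c + d) = 1 := by rw [qmap_add, hdQ, polB_side hc hd]; ring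
    obtain ⟨y, hy, -, hyd, -, hyQ⟩ := exists_in_big hQ hW hm d d 1
    have hac : polB Q a c = 1 := by
      rw [ha, map_add, LinearMap.add_apply, polB_self, hQc, hp.symm.pair]; ring
    refine ⟨refl Q (c + d) * refl Q y, refl_mul_refl_mem_commutator hQ hgen (by omega)
      (by rw [hx]; exact one_ne_zero) (by rw [hyQ]; exact one_ne_zero) (by rw [hx, hyQ]),
      fun h => ?_⟩
    have h1 := orthStab_mem_iff.mp h.1 a (Submodule.mem_span_singleton_self a)
    rw [orth_mul_apply, refl_fix (hy a haW), refl_apply, hx, (polB Q a).map_add, hac, hd a haW,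
      add_zero, inv_one, one_mul, one_smul] at h1
    have h2 : a - (c + d) ∈ W := (Submodule.span_singleton_le_iff_mem _ _).mpr haW h1
    exact hd0 (hoff d hd (by simpa [ha] using sub_mem (sub_mem haW hc) h2))

variable {W : Submodule F V} (hW : ∀ w ∈ W, Q w = 0)

include hW

/-- A totally singular subspace one step below maximal in plus type. -/
theorem almostMax_between (hk : 2 * (Module.finrank F W + 1) = Module.finrank F V)
    {U₀ : Submodule F V} (hU₀ : ∀ u ∈ U₀, Q u = 0)
    (hU₀2 : 2 * Module.finrank F U₀ = Module.finrank F V) :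
    ∃ K : Subgroup (orthGroup Q), K ≤ commutator (orthGroup Q) ∧
      (∀ g ∈ commutator (orthGroup Q), g ∈ orthStab Q W → g ∈ K) ∧
      (∃ g ∈ K, g ∉ orthStab Q W) ∧ ∃ g ∈ commutator (orthGroup Q), g ∉ K := by
  have hgen : ReflGenerates F V := Or.inr (by omega)
  obtain ⟨g₀, hg₀⟩ := exists_orth_map_singular hQ hW hU₀ (by omega)
  set U := U₀.map ((g₀⁻¹).1 : V →ₗ[F] V) with hUdef
  have hU : ∀ u ∈ U, Q u = 0 := H44.map_singular g₀⁻¹ hU₀
  set m := Module.finrank F W + 1 with hm
  have hUm : Module.finrank F U = m := by rw [hUdef, LinearEquiv.finrank_map_eq]; omega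
  have hWU : W ≤ U := fun w hw => ⟨g₀.1 w, hg₀ w hw, orth_inv_apply_self g₀ w⟩
  refine ⟨orthStab Q U ⊓ commutator (orthGroup Q), inf_le_right, fun g hg hgW => ⟨?_, hg⟩, ?_, ?_⟩
  · have h := H44.even_inf_map_iff hQ hgen (by omega) g hU hU hUm hUm
    have hd : dickson g = 1 := by
      rw [mem_commutator_iff hQ hgen (by omega)] at hg
      exact hg.1
    rw [inf_idem, hUm, Nat.sub_self] at h
    simp only [Even.zero, hd, iff_true] at h
    have hWle : W ≤ U ⊓ U.map (g.1 : V →ₗ[F] V) := by
      refine le_inf hWU fun w hw => ?_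
      have h' : W.map (g.1 : V →ₗ[F] V) = W := hgW
      rw [← h'] at hw
      exact Submodule.map_mono hWU hw
    have h1 := Submodule.finrank_mono hWle
    have h2 : Module.finrank F ↥(U ⊓ U.map (g.1 : V →ₗ[F] V)) ≤ m :=
      (Submodule.finrank_mono inf_le_left).trans hUm.le
    have h3 : Module.finrank F ↥(U ⊓ U.map (g.1 : V →ₗ[F] V)) = m := by
      obtain ⟨r, hr⟩ := h
      omega
    have h4 : U ≤ U.map (g.1 : V →ₗ[F] V) :=
      inf_eq_left.mp (Submodule.eq_of_le_of_finrank_le inf_le_left (by omega))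
    exact (Submodule.eq_of_le_of_finrank_le h4 (by rw [LinearEquiv.finrank_map_eq])).symm
  · obtain ⟨u, hu, huW⟩ : ∃ u ∈ U, u ∉ W := by
      by_contra hcon
      push Not at hcon
      have := Submodule.finrank_mono (show U ≤ W from hcon)
      omega
    obtain ⟨w, hw, hw0⟩ := Submodule.exists_mem_ne_zero_of_ne_bot (p := W) (fun h => by
      rw [h, finrank_bot] at hm; omega)
    have hnot : w ∉ Submodule.span F {u} := fun h => by
      obtain ⟨a, ha⟩ := Submodule.mem_span_singleton.mp h
      exact huW ((W.smul_mem_iff (fun e : a = 0 => hw0 (by rw [← ha, e, zero_smul]))).mp (ha ▸ hw))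
    obtain ⟨z, hz, hwz⟩ := exists_orth_polB_eq hQ hnot 1
    have huz : polB Q u z = 0 := hz u (Submodule.mem_span_singleton_self u)
    refine ⟨eichler Q u z, ⟨orthStab_mem_iff.mpr fun x hx => ?_, ?_⟩, fun h => huW ?_⟩
    · rw [eichler_apply (hU u hu) huz, polB_eq_zero_of_singular hU hx hu]
      simp only [zero_smul, mul_zero, add_zero, sub_zero]
      exact sub_mem hx (U.smul_mem _ hu)
    · change eichler Q u z ∈ commutator (orthGroup Q)
      rw [commutator_eq_eichlerSub hQ (by omega)]
      exact eichler_mem (hU u hu) huz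
    · have h1 := orthStab_mem_iff.mp h w hw
      rw [eichler_apply (hU u hu) huz, polB_eq_zero_of_singular hU (hWU hw) hu, hwz] at h1
      simp only [zero_smul, mul_zero, add_zero, sub_zero, one_smul] at h1
      simpa using sub_mem hw h1
  · have hU0 : U ≠ ⊥ := fun h => by rw [h, finrank_bot] at hUm; omega
    have := (sing_stab_maximal hQ (by omega) hU (fun X hX hd => by
      have := two_mul_finrank_singular_le hQ X hX; omega) hU0).1
    obtain ⟨g, hg, hgK⟩ := SetLike.exists_of_lt this
    exact ⟨g, hg, hgK⟩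

/-- A pair of complementary maximal totally singular subspaces of odd dimension. -/
theorem pair_between (hk : 2 * Module.finrank F W = Module.finrank F V)
    (hodd : Odd (Module.finrank F W)) {W' : Submodule F V} (hW' : ∀ w ∈ W', Q w = 0)
    (hk' : Module.finrank F W' = Module.finrank F W) (hinf : W ⊓ W' = ⊥) :
    ∃ K : Subgroup (orthGroup Q), K ≤ commutator (orthGroup Q) ∧
      (∀ g ∈ commutator (orthGroup Q), g ∈ K ∨ ¬ (W.map (g.1 : V →ₗ[F] V) = W ∨
        W.map (g.1 : V →ₗ[F] V) = W')) ∧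
      (∃ g ∈ K, ¬ (W'.map (g.1 : V →ₗ[F] V) = W' ∨ W'.map (g.1 : V →ₗ[F] V) = W)) ∧
      ∃ g ∈ commutator (orthGroup Q), g ∉ K := by
  have hgen : ReflGenerates F V := Or.inr (by omega)
  refine ⟨orthStab Q W ⊓ commutator (orthGroup Q), inf_le_right, fun g hg => ?_, ?_, ?_⟩
  · by_cases hs : W.map (g.1 : V →ₗ[F] V) = W
    · exact Or.inl ⟨hs, hg⟩
    refine Or.inr (not_or.mpr ⟨hs, fun h' => ?_⟩)
    have h := H44.even_inf_map_iff hQ hgen (m := Module.finrank F W) (by omega) g hW hW rfl rfl
    have hd : dickson g = 1 := by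
      rw [mem_commutator_iff hQ hgen (by omega)] at hg
      exact hg.1
    rw [h', hinf, inf_idem, finrank_bot, Nat.sub_self, Nat.sub_zero] at h
    simp [hd, ← Nat.not_odd_iff_even, hodd] at h
  · have hpos : 2 ≤ Module.finrank F W := by omega
    obtain ⟨u, hu, hu0⟩ := Submodule.exists_mem_ne_zero_of_ne_bot (p := W) (fun h => by
      rw [h, finrank_bot] at hpos; omega)
    obtain ⟨z, hz, hzu⟩ : ∃ z ∈ W, z ∉ Submodule.span F {u} := by
      by_contra hcon
      push Not at hcon
      have h := Submodule.finrank_mono (show W ≤ Submodule.span F {u} from hcon)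
      rw [finrank_span_singleton hu0] at h
      omega
    have huz : polB Q u z = 0 := polB_eq_zero_of_singular hW hu hz
    obtain ⟨v, hv, hvu⟩ : ∃ v ∈ W', polB Q v u ≠ 0 := by
      by_contra hcon
      push Not at hcon
      obtain ⟨y, hy⟩ := exists_polB_ne_zero hQ hu0
      have htop : W ⊔ W' = ⊤ := Submodule.eq_top_of_finrank_eq (by
        have h := Submodule.finrank_sup_add_finrank_inf_eq W W'
        rw [hinf, finrank_bot] at h; omega)
      obtain ⟨p, hp, p', hp', rfl⟩ := Submodule.mem_sup.mp (htop ▸ Submodule.mem_top : y ∈ W ⊔ W')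
      apply hy
      rw [map_add, polB_eq_zero_of_singular hW hu hp, polB_comm, hcon p' hp', add_zero]
    refine ⟨eichler Q u z, ⟨orthStab_mem_iff.mpr fun x hx => ?_, ?_⟩, ?_⟩
    · rw [eichler_apply (hW u hu) huz, polB_eq_zero_of_singular hW hx hu]
      simp only [zero_smul, mul_zero, add_zero, sub_zero]
      exact sub_mem hx (W.smul_mem _ hu)
    · change eichler Q u z ∈ commutator (orthGroup Q)
      rw [commutator_eq_eichlerSub hQ (by omega)]
      exact eichler_mem (hW u hu) huz
    · rw [not_or]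
      have himg := fun (X : Submodule F V) (h : W'.map ((eichler Q u z).1 : V →ₗ[F] V) = X) =>
        h.le (Submodule.mem_map_of_mem hv)
      simp only [LinearEquiv.coe_coe, eichler_apply (hW u hu) huz, hW z hz, zero_mul, zero_smul,
        sub_zero] at himg
      constructor
      · intro h
        have h1 : polB Q v u • z - polB Q v z • u ∈ W ⊓ W' :=
          ⟨sub_mem (W.smul_mem _ hz) (W.smul_mem _ hu), by
            simpa [add_sub_assoc] using sub_mem (himg _ h) hv⟩
        rw [hinf, Submodule.mem_bot, sub_eq_zero] at h1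
        apply hzu
        refine Submodule.mem_span_singleton.mpr ⟨(polB Q v u)⁻¹ * polB Q v z, ?_⟩
        rw [← smul_smul, ← h1, smul_smul, inv_mul_cancel₀ hvu, one_smul]
      · intro h
        have h2 : v ∈ W := by
          have := add_mem (sub_mem (himg _ h) (W.smul_mem (polB Q v u) hz))
            (W.smul_mem (polB Q v z) hu)
          convert this using 1
          abel
        have h3 : v ∈ W ⊓ W' := ⟨h2, hv⟩
        rw [hinf, Submodule.mem_bot] at h3
        exact hvu (by rw [h3, map_zero, LinearMap.zero_apply])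
  · have hW0 : W ≠ ⊥ := fun h => by rw [h, finrank_bot] at hk; omega
    have := (sing_stab_maximal hQ (by omega) hW (fun X hX hd => by
      have := two_mul_finrank_singular_le hQ X hX; omega) hW0).1
    obtain ⟨g, hg, hgK⟩ := SetLike.exists_of_lt this
    exact ⟨g, hg, hgK⟩

end H45
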