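import Mathlib
import Cfsg.Agent.H45.NonMax
import Cfsg.Agent.H45.OmegaTools

/-!
# `Sp₂(2) ⊗ Sp_{n₂}(2)` lies in the normaliser of an element of order three of `Ω⁺_{2n₂}(2)`
-/

set_option autoImplicit false
set_option linter.unusedSectionVars false

namespace H45

open H43
open scoped Matrix Kronecker

/-- The elements conjugating `W` to itself or to its inverse. -/
def pmNorm {G : Type*} [Group G] (W : G) : Subgroup G where
  carrier := {g | g * W = W * g ∨ g * W = W⁻¹ * g}
  one_mem' := Or.inl (by simp)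
  inv_mem' := by
    intro a ha
    rcases ha with h | h
    · left
      calc a⁻¹ * W = a⁻¹ * (W * a) * a⁻¹ := by group
        _ = a⁻¹ * (a * W) * a⁻¹ := by rw [h]
        _ = W * a⁻¹ := by group
    · right
      calc a⁻¹ * W = W⁻¹ * (W * a⁻¹ * W) := by group
        _ = W⁻¹ * (a⁻¹ * W⁻¹ * W) := by
          congr 2
          calc W * a⁻¹ = a⁻¹ * (a * W) * a⁻¹ := by group
            _ = a⁻¹ * (W⁻¹ * a) * a⁻¹ := by rw [h]
            _ = a⁻¹ * W⁻¹ := by group
        _ = W⁻¹ * a⁻¹ := by group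
  mul_mem' := by
    intro a b ha hb
    have inv_case : ∀ x : G, x * W = W⁻¹ * x → x * W⁻¹ = W * x := by
      intro x h
      calc x * W⁻¹ = W * (W⁻¹ * x) * W⁻¹ := by group
        _ = W * (x * W) * W⁻¹ := by rw [h]
        _ = W * x := by group
    have comm_case : ∀ x : G, x * W = W * x → x * W⁻¹ = W⁻¹ * x := by
      intro x h
      calc x * W⁻¹ = W⁻¹ * (W * x) * W⁻¹ := by group
        _ = W⁻¹ * (x * W) * W⁻¹ := by rw [h]
        _ = W⁻¹ * x := by group
    simp only [Set.mem_setOf_eq] at ha hb ⊢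
    rcases ha with ha | ha <;> rcases hb with hb | hb
    · left; rw [mul_assoc, hb, ← mul_assoc, ha, mul_assoc]
    · right; rw [mul_assoc, hb, ← mul_assoc, comm_case a ha, mul_assoc]
    · right; rw [mul_assoc, hb, ← mul_assoc, ha, mul_assoc]
    · left; rw [mul_assoc, hb, ← mul_assoc, inv_case a ha, mul_assoc]

/-- The non-singular two by two matrices over two elements permute the two eigenlines of order three. -/
lemma gl2_two_cases {F : Type*} [Field F] [Fintype F] (hF : Fintype.card F = 2)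
    (M : Matrix (Fin 2) (Fin 2) F) (hM : M.det ≠ 0) :
    (M 0 1 = M 1 0 ∧ M 0 0 + M 0 1 = M 1 1) ∨ (M 0 0 = M 1 1 ∧ M 0 1 = M 0 0 + M 1 0) := by
  classical
  have h2 : (1 : F) + 1 = 0 := by
    have := FiniteField.cast_card_eq_zero F
    rw [hF] at this
    norm_num at this ⊢
    exact this
  have hb : ∀ x : F, x = 0 ∨ x = 1 := fun x => by
    by_contra hc
    push Not at hc
    have h3 : ({0, 1, x} : Finset F).card ≤ 2 := hF ▸ Finset.card_le_univ _
    rw [Finset.card_eq_three.mpr ⟨0, 1, x, zero_ne_one, hc.1.symm, hc.2.symm, rfl⟩] at h3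
    omega
  rw [Matrix.det_fin_two] at hM
  rcases hb (M 0 0) with a | a <;> rcases hb (M 0 1) with b | b <;>
    rcases hb (M 1 0) with c | c <;> rcases hb (M 1 1) with d | d <;>
    simp only [a, b, c, d] at hM ⊢ <;> simp_all

/-- The action of an isometry in the stabiliser of a tensor decomposition. -/
theorem tensor_orth_apply {F : Type*} [Field F] {ι : Type} [Fintype ι] [DecidableEq ι]
    {q : QuadraticForm F (ι → F)} {n₁ n₂ : ℕ} {e : ι ≃ Fin n₁ × Fin n₂}
    {P : Matrix.GeneralLinearGroup ι F} {g : orthGroup q}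
    (hgT : toGL q g ∈ Cfsg.Geo.tensorProductSubgroup n₁ n₂ e P) :
    ∃ (a : GL (Fin n₁) F) (b : GL (Fin n₂) F), ∀ X : Fin n₁ × Fin n₂ → F,
      g.1 ((P : Matrix ι ι F).mulVec (X ∘ e)) = (P : Matrix ι ι F).mulVec
        ((((a : Matrix (Fin n₁) (Fin n₁) F) ⊗ₖ (b : Matrix (Fin n₂) (Fin n₂) F)).mulVec X) ∘ e) := by
  obtain ⟨g1, ⟨k, ⟨a, b, hab⟩, rfl⟩, hg1⟩ := hgT
  refine ⟨a, b, fun X => ?_⟩
  rw [← toGL_apply q g, ← hg1, ← hab]
  show ((P * Cfsg.Geo.glReindex e.symm k * P⁻¹ : Matrix.GeneralLinearGroup ι F) :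
    Matrix ι ι F).mulVec _ = _
  rw [Matrix.mulVec_mulVec, ← Units.val_mul, inv_mul_cancel_right, Units.val_mul,
    ← Matrix.mulVec_mulVec]
  congr 1
  show ((k : Matrix (Fin n₁ × Fin n₂) (Fin n₁ × Fin n₂) F).submatrix e e).mulVec _ = _
  rw [Matrix.submatrix_mulVec_equiv]
  congr 2
  funext p
  simp

set_option maxHeartbeats 800000 in
theorem even_tensor_two_nonmax {F : Type*} [Field F] [Fintype F] {ι : Type} [Fintype ι]
    [DecidableEq ι] (hF : Fintype.card F = 2) (hn : 13 ≤ Fintype.card ι)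
    (q : QuadraticForm F (ι → F)) (hq : (polB q).Nondegenerate) (n₂ : ℕ) (h3n : 2 < n₂)
    (e : ι ≃ Fin 2 × Fin n₂) (P : Matrix.GeneralLinearGroup ι F)
    (f₁ : (Fin 2 → F) → (Fin 2 → F) → F) (f₂ : (Fin n₂ → F) → (Fin n₂ → F) → F)
    (hf₁ : Cfsg.Geo.IsSymplecticForm f₁) (hf₂ : Cfsg.Geo.IsSymplecticForm f₂)
    (hT : Cfsg.Geo.IsTensorFormStructure id (QuadraticMap.polar ⇑q) f₁ f₂ e P)
    (hpure : ∀ (x₁ : Fin 2 → F) (x₂ : Fin n₂ → F), q (Matrix.mulVec (P : Matrix ι ι F)
      ((fun a : Fin 2 × Fin n₂ => x₁ a.1 * x₂ a.2) ∘ e)) = 0) :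
    ∃ K : Subgroup (Matrix.GeneralLinearGroup ι F),
      Cfsg.Geo.tensorProductSubgroup 2 n₂ e P ⊓ Cfsg.Geo.omegaGL ⇑q < K ∧
        K < Cfsg.Geo.omegaGL ⇑q := by
  classical
  have h2 : (2 : F) = 0 := by
    have := FiniteField.cast_card_eq_zero F
    rw [hF] at this
    exact_mod_cast this
  have hb : ∀ x : F, x = 0 ∨ x = 1 := fun x => by
    by_contra hc
    push Not at hc
    have h3 : ({0, 1, x} : Finset F).card ≤ 2 := hF ▸ Finset.card_le_univ _
    rw [Finset.card_eq_three.mpr ⟨0, 1, x, zero_ne_one, hc.1.symm, hc.2.symm, rfl⟩] at h3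
    omega
  obtain ⟨c, hc, hT⟩ := hT
  obtain rfl : c = 1 := (hb c).resolve_left hc
  let β₂ : LinearMap.BilinForm F (Fin n₂ → F) := LinearMap.mk₂ F f₂ hf₂.bilinear.add_left
    hf₂.bilinear.smul_left hf₂.bilinear.add_right hf₂.bilinear.smul_right
  have hG2 : ∀ u v, u ⬝ᵥ (Cfsg.Geo.gramMatrix f₂).mulVec v = β₂ u v := by
    intro u v
    have hG : Cfsg.Geo.gramMatrix f₂ = LinearMap.toMatrix₂' F β₂ := by
      ext p r
      rw [LinearMap.toMatrix₂'_apply]
      rfl
    rw [hG, ← Matrix.toLinearMap₂'_apply', Matrix.toLinearMap₂'_toMatrix']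
  have hsym : ∀ u v, β₂ u v = β₂ v u := fun u v =>
    (hf₂.skew u v).trans (by
      show -f₂ v u = f₂ v u
      rw [neg_eq_iff_add_eq_zero]
      linear_combination f₂ v u * h2)
  have halt : ∀ u, β₂ u u = 0 := hf₂.alternating
  have hJ : Cfsg.Geo.gramMatrix f₁ = !![0, 1; 1, 0] := by
    let β₁ : LinearMap.BilinForm F (Fin 2 → F) := LinearMap.mk₂ F f₁ hf₁.bilinear.add_left
      hf₁.bilinear.smul_left hf₁.bilinear.add_right hf₁.bilinear.smul_right
    have h00 : ∀ i, f₁ (Pi.single i 1) (Pi.single i 1) = 0 := fun i => hf₁.alternating _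
    have h10 : f₁ (Pi.single (1 : Fin 2) 1) (Pi.single 0 1) =
        f₁ (Pi.single (0 : Fin 2) 1) (Pi.single 1 1) := by
      rw [hf₁.skew, neg_eq_iff_add_eq_zero]
      linear_combination f₁ (Pi.single (0 : Fin 2) 1) (Pi.single 1 1) * h2
    have h01 : f₁ (Pi.single (0 : Fin 2) 1) (Pi.single 1 1) = 1 := by
      rcases hb (f₁ (Pi.single (0 : Fin 2) 1) (Pi.single 1 1)) with h | h
      · exfalso
        obtain ⟨x, hx⟩ := (hf₁.nondegenerate (Pi.single (0 : Fin 2) 1) (by simp)).2
        apply hx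
        have : β₁ (Pi.single (0 : Fin 2) 1) = 0 := (Pi.basisFun F (Fin 2)).ext fun i => by
          fin_cases i <;> simp [β₁, h00, h]
        exact LinearMap.congr_fun this x
      · exact h
    ext i j
    fin_cases i <;> fin_cases j <;> simp [Cfsg.Geo.gramMatrix, h00, h01, h10]
  -- coordinates
  let Φ : (Fin 2 × Fin n₂ → F) ≃ₗ[F] (ι → F) := (LinearEquiv.funCongrLeft F F e).trans
    (Matrix.toLinearEquiv' (P : Matrix ι ι F) P.invertible)
  have hΦ : ∀ X, Φ X = (P : Matrix ι ι F).mulVec (X ∘ e) := fun X => rfl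
  let E : (Fin n₂ → F) → (Fin n₂ → F) → (ι → F) := fun u v =>
    Φ (fun x => if x.1 = 0 then u x.2 else v x.2)
  have hEdef : ∀ u v, E u v = Φ (fun x => if x.1 = 0 then u x.2 else v x.2) := fun _ _ => rfl
  have hE1 : ∀ i : Fin 2, i ≠ 0 → i = 1 := fun i hi => by omega
  have hEinj : ∀ u v u' v', E u v = E u' v' → u = u' ∧ v = v' := fun u v u' v' h => by
    have h' := Φ.injective h
    exact ⟨funext fun p => by simpa using congrFun h' (0, p),
      funext fun p => by simpa using congrFun h' (1, p)⟩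
  have hEsurj : ∀ z, ∃ u v, z = E u v := fun z => by
    obtain ⟨X, rfl⟩ := Φ.surjective z
    refine ⟨fun p => X (0, p), fun p => X (1, p), congrArg Φ (funext fun x => ?_)⟩
    obtain ⟨i, p⟩ := x
    by_cases hi : i = 0
    · simp [hi]
    · simp [hE1 i hi]
  have hEadd : ∀ u v u' v', E u v + E u' v' = E (u + u') (v + v') := fun u v u' v' => by
    rw [hEdef, hEdef, hEdef, ← map_add]
    congr 1
    funext x
    simp only [Pi.add_apply]
    split_ifs <;> rfl
  have hEpol : ∀ u v u' v', polB q (E u v) (E u' v') = β₂ u v' + β₂ v u' := by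
    intro u v u' v'
    rw [polB_apply, hEdef, hEdef, hΦ, hΦ]
    refine (hT _ _).trans ?_
    rw [← hG2, ← hG2]
    simp [Cfsg.Geo.formOfGram, Fintype.sum_prod_type, Fin.sum_univ_two, hJ, dotProduct,
      Matrix.mulVec, Finset.mul_sum, mul_assoc]
  have hEq : ∀ u v, q (E u v) = β₂ u v := by
    intro u v
    have h0 : ∀ u, q (E u 0) = 0 := fun u => by
      rw [hEdef, hΦ]
      convert hpure ![1, 0] u using 4
      funext x
      obtain ⟨i, p⟩ := x
      fin_cases i <;> simp
    have h1 : ∀ v, q (E 0 v) = 0 := fun v => by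
      rw [hEdef, hΦ]
      convert hpure ![0, 1] v using 4
      funext x
      obtain ⟨i, p⟩ := x
      fin_cases i <;> simp
    have := hEadd u 0 0 v
    rw [add_zero, zero_add] at this
    rw [← this, qmap_add, h0, h1, hEpol]
    simp
  -- the element of order three
  let L : (Fin 2 × Fin n₂ → F) →ₗ[F] (Fin 2 × Fin n₂ → F) :=
    { toFun := fun X x => if x.1 = 0 then X (1, x.2) else X (0, x.2) + X (1, x.2)
      map_add' := fun X Y => by
        funext x
        simp only [Pi.add_apply]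
        split_ifs <;> ring
      map_smul' := fun r X => by
        funext x
        simp only [Pi.smul_apply, smul_eq_mul, RingHom.id_apply]
        split_ifs <;> ring }
  let L' : (Fin 2 × Fin n₂ → F) →ₗ[F] (Fin 2 × Fin n₂ → F) := L.comp L
  have hL3 : ∀ X, L (L (L X)) = X := fun X => by
    funext ⟨i, p⟩
    fin_cases i <;> simp [L] <;> grind
  let Le : (Fin 2 × Fin n₂ → F) ≃ₗ[F] (Fin 2 × Fin n₂ → F) :=
    LinearEquiv.ofLinear L L' (LinearMap.ext hL3) (LinearMap.ext hL3)
  let We : (ι → F) ≃ₗ[F] (ι → F) := (Φ.symm.trans Le).trans Φ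
  have hWE : ∀ u v, We (E u v) = E v (u + v) := fun u v => by
    simp only [We, LinearEquiv.trans_apply, hEdef, LinearEquiv.symm_apply_apply]
    rfl
  let W : orthGroup q := ⟨We, fun z => by
    obtain ⟨u, v, rfl⟩ := hEsurj z
    rw [hWE, hEq, hEq, map_add, halt, add_zero, hsym]⟩
  have hW : ∀ u v, W.1 (E u v) = E v (u + v) := hWE
  have hWi : ∀ u v, (W⁻¹).1 (E u v) = E (u + v) u := fun u v => by
    have h : W.1 (E (u + v) u) = E u v := by
      rw [hW]
      congr 1
      funext p
      simp only [Pi.add_apply]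
      linear_combination u p * h2
    rw [← h, ← orth_mul_apply, inv_mul_cancel, orth_one_apply]
  -- vectors
  obtain ⟨u, v, huv⟩ : ∃ u v, β₂ u v = 1 := by
    have hne : (Pi.single (⟨0, by omega⟩ : Fin n₂) 1 : Fin n₂ → F) ≠ 0 := by simp
    obtain ⟨x, hx⟩ := (hf₂.nondegenerate _ hne).2
    exact ⟨_, x, (hb _).resolve_left hx⟩
  obtain ⟨w, hwk, hw0⟩ := Submodule.exists_mem_ne_zero_of_ne_bot
    (p := LinearMap.ker ((β₂.flip u).prod (β₂.flip v))) (LinearMap.ker_ne_bot_of_finrank_lt (by
      rw [Module.finrank_prod, Module.finrank_self, Module.finrank_fin_fun]; omega))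
  simp only [LinearMap.mem_ker, LinearMap.prod_apply, Prod.ext_iff] at hwk
  obtain ⟨hwu, hwv⟩ := hwk
  replace hwu : β₂ w u = 0 := hwu
  replace hwv : β₂ w v = 0 := hwv
  have hvu : β₂ v u = 1 := by rw [hsym, huv]
  have huw : β₂ u w = 0 := by rw [hsym, hwu]
  have hvw : β₂ v w = 0 := by rw [hsym, hwv]
  set a := E u v with ha
  set b := E (u + w) v with hb'
  have hqa : q a = 1 := by rw [ha, hEq, huv]
  have hqb : q b = 1 := by rw [hb', hEq, map_add, LinearMap.add_apply, huv, hwv, add_zero]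
  have hqWa : q (W.1 a) = 1 := by rw [orth_qmap, hqa]
  have hrefl : ∀ d : ι → F, q d = 1 → ∀ x, (refl q d).1 x = x + polB q x d • d := by
    intro d hd x
    rw [refl_apply, hd, inv_one, one_mul, sub_eq_add_neg, ← neg_smul]
    congr 2
    rw [neg_eq_iff_add_eq_zero]
    linear_combination polB q x d * h2
  have hgen : ReflGenerates F (ι → F) := Or.inr (by rw [Module.finrank_pi]; omega)
  have hpair : ∀ d d' : ι → F, q d = 1 → q d' = 1 →
      refl q d * refl q d' ∈ commutator (orthGroup q) := fun d d' hd hd' =>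
    refl_mul_refl_mem_commutator hq hgen (by rw [Module.finrank_pi]; omega)
      (by rw [hd]; exact one_ne_zero) (by rw [hd']; exact one_ne_zero) (by rw [hd, hd'])
  refine exists_between_of_orth q _ (pmNorm W ⊓ commutator (orthGroup q)) inf_le_right ?_ ?_ ?_
  · intro g hg hgT
    refine ⟨?_, hg⟩
    obtain ⟨bm, am, hgX'⟩ := tensor_orth_apply hgT
    set B := (bm : Matrix (Fin 2) (Fin 2) F) with hB
    set A := (am : Matrix (Fin n₂) (Fin n₂) F) with hA
    have hgX : ∀ X, g.1 (Φ X) = Φ ((B ⊗ₖ A).mulVec X) := hgX'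
    have hgE : ∀ u v, g.1 (E u v) = E (B 0 0 • A.mulVec u + B 0 1 • A.mulVec v)
        (B 1 0 • A.mulVec u + B 1 1 • A.mulVec v) := by
      intro u v
      rw [hEdef, hEdef, hgX]
      congr 1
      funext ⟨i, p⟩
      simp only [Matrix.mulVec, dotProduct, Fintype.sum_prod_type, Fin.sum_univ_two,
        Matrix.kroneckerMap_apply, hB, hA, Pi.add_apply, Pi.smul_apply, smul_eq_mul, Finset.mul_sum]
      fin_cases i <;> simp [mul_assoc]
    have hdet : B.det ≠ 0 := ((Matrix.isUnit_iff_isUnit_det _).1 bm.isUnit).ne_zero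
    rcases gl2_two_cases hF B hdet with ⟨c1, c2⟩ | ⟨c1, c2⟩
    · left
      refine orth_ext fun z => ?_
      obtain ⟨x, y, rfl⟩ := hEsurj z
      rw [orth_mul_apply, orth_mul_apply, hW, hgE, hgE, hW]
      congr 1 <;> funext p <;>
        simp only [Matrix.mulVec_add, Pi.add_apply, Pi.smul_apply, smul_eq_mul]
      · grind
      · grind
    · right
      refine orth_ext fun z => ?_
      obtain ⟨x, y, rfl⟩ := hEsurj z
      rw [orth_mul_apply, orth_mul_apply, hW, hgE, hgE, hWi]
      congr 1 <;> funext p <;>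
        simp only [Matrix.mulVec_add, Pi.add_apply, Pi.smul_apply, smul_eq_mul]
      · grind
      · grind
  · refine ⟨refl q a * refl q (W.1 a), ⟨Or.inl (orth_ext fun x => ?_), hpair _ _ hqa hqWa⟩,
      fun hgT => ?_⟩
    · have haW : polB q (W.1 a) a = 1 := by
        rw [ha, hW, hEpol]
        simp [halt, hvu]
      have hWW : W.1 (W.1 a) = a + W.1 a := by
        rw [ha, hW, hW, hEadd]
      have hf : ∀ x, (refl q a * refl q (W.1 a)).1 x =
          x + polB q x (W.1 a) • W.1 a + (polB q x a + polB q x (W.1 a)) • a := by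
        intro x
        rw [orth_mul_apply, hrefl _ hqWa, hrefl _ hqa, map_add, LinearMap.add_apply, map_smul,
          LinearMap.smul_apply, haW, smul_eq_mul, mul_one]
      have h1 : polB q (W.1 x) (W.1 a) = polB q x a := orth_polB_map W x a
      have h2' : polB q (W.1 x) a = polB q x a + polB q x (W.1 a) := by
        have h := orth_polB_map W x (W.1 a)
        rw [hWW, map_add, h1] at h
        linear_combination h - polB q x a * h2
      rw [orth_mul_apply (refl q a * refl q (W.1 a)) W, orth_mul_apply W, hf, hf, h1, h2', map_add,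
        map_add, map_smul, map_smul, hWW]
      funext p
      simp only [Pi.add_apply, Pi.smul_apply, smul_eq_mul]
      grind
    obtain ⟨bm, am, hgX'⟩ := tensor_orth_apply hgT
    have hgX : ∀ X, (refl q a * refl q (W.1 a)).1 (Φ X) = Φ (((bm : Matrix (Fin 2) (Fin 2) F) ⊗ₖ
        (am : Matrix (Fin n₂) (Fin n₂) F)).mulVec X) := hgX'
    have hrow : ∀ (y : Fin n₂ → F) (i : Fin 2) (p : Fin n₂),
        ((bm : Matrix (Fin 2) (Fin 2) F) ⊗ₖ (am : Matrix (Fin n₂) (Fin n₂) F)).mulVec
          (fun x => if x.1 = 0 then y x.2 else (0 : Fin n₂ → F) x.2) (i, p) =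
          (bm : Matrix (Fin 2) (Fin 2) F) i 0 * (am : Matrix (Fin n₂) (Fin n₂) F).mulVec y p := by
      intro y i p
      simp [Matrix.mulVec, dotProduct, Fintype.sum_prod_type, Fin.sum_univ_two,
        Finset.mul_sum, mul_assoc]
    have hfw : (refl q a * refl q (W.1 a)).1 (E w 0) = E w 0 := by
      rw [orth_mul_apply,
        refl_fix (show polB q (E w 0) (W.1 a) = 0 by rw [ha, hW, hEpol]; simp [hwu, hwv]),
        refl_fix (show polB q (E w 0) a = 0 by rw [ha, hEpol]; simp [hwv])]
    have hfu : (refl q a * refl q (W.1 a)).1 (E u 0) = E (u + v) (u + v) := by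
      have h11 : (1 : F) + 1 = 0 := by linear_combination h2
      rw [orth_mul_apply, hrefl _ hqWa, ha, hW, hEpol,
        show β₂ u (u + v) + β₂ (0 : Fin n₂ → F) v = 1 by simp [halt, huv], one_smul, hEadd,
        zero_add, hrefl _ hqa, ha, hEpol,
        show β₂ (u + v) v + β₂ (u + v) u = 0 by simp [halt, huv, hvu, h11], zero_smul, add_zero]
    rw [hEdef, hgX] at hfw
    rw [hEdef u 0, hgX, hEdef] at hfu
    obtain ⟨p, hp⟩ : ∃ p, w p ≠ 0 := Function.ne_iff.1 hw0
    have e0 := congrFun (Φ.injective hfw) (0, p)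
    have e1 := congrFun (Φ.injective hfw) (1, p)
    rw [hrow] at e0 e1
    simp only [if_true, Pi.zero_apply] at e0
    simp only [one_ne_zero, if_false, Pi.zero_apply] at e1
    have hb10 : (bm : Matrix (Fin 2) (Fin 2) F) 1 0 = 0 :=
      (mul_eq_zero.1 e1).resolve_right fun h => hp (by rw [← e0, h, mul_zero])
    have huv0 : u + v = 0 := funext fun r => by
      have := congrFun (Φ.injective hfu) (1, r)
      simp only [hrow, hb10, zero_mul, one_ne_zero, if_false] at this
      exact this.symm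
    have : β₂ (u + v) v = 1 := by rw [map_add, LinearMap.add_apply, halt, huv, add_zero]
    rw [huv0, map_zero, LinearMap.zero_apply] at this
    exact zero_ne_one this
  · refine ⟨refl q a * refl q b, hpair _ _ hqa hqb, fun hgK => ?_⟩
    have hfix : (refl q a * refl q b).1 (E v 0) = E v 0 := by
      rw [orth_mul_apply,
        refl_fix (show polB q (E v 0) b = 0 by rw [hb', hEpol]; simp [halt]),
        refl_fix (show polB q (E v 0) a = 0 by rw [ha, hEpol]; simp [halt])]
    have hmv : (refl q a * refl q b).1 (E 0 v) = E w v := by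
      rw [orth_mul_apply, hrefl _ hqb, hb', hEpol,
        show β₂ 0 v + β₂ v (u + w) = 1 by simp [hvu, hvw], one_smul, hEadd, zero_add,
        hrefl _ hqa, ha, hEpol,
        show β₂ (u + w) v + β₂ (v + v) u = 1 by
          simp [huv, hwv, hvu]; linear_combination h2, one_smul, hEadd]
      congr 1 <;> funext p <;> simp only [Pi.add_apply] <;> grind
    rcases hgK.1 with h | h
    · have := congrArg (fun g : orthGroup q => g.1 (E v 0)) h
      simp only [orth_mul_apply, hfix, hW, add_zero, hmv] at this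
      exact hw0 (hEinj _ _ _ _ this).1
    · have := congrArg (fun g : orthGroup q => g.1 (E v 0)) h
      simp only [orth_mul_apply, hfix, hW, hWi, add_zero, hmv] at this
      have hwv' := (hEinj _ _ _ _ this).1
      rw [hwv', huv] at huw
      exact one_ne_zero huw

end H45
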