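import Mathlib
import Cfsg.Prelude.Def_GeometricClasses
import Cfsg.Agent.H45.Alt
import Cfsg.Agent.H45.GL

/-!
# Orthogonal decompositions for a bilinear form: projections and permuting isometries
-/

set_option autoImplicit false
set_option linter.unusedSectionVars false

namespace H45

open scoped Matrix
open Cfsg Cfsg.Geo

variable {ι : Type} [Fintype ι] [DecidableEq ι] {F : Type*} [Field F]
variable {f : (ι → F) → (ι → F) → F} (hf : IsBilinearForm f)

include hf

lemma bl_sum_left {κ : Type*} (s : Finset κ) (x : κ → ι → F) (v : ι → F) :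
    f (∑ k ∈ s, x k) v = ∑ k ∈ s, f (x k) v := by
  exact LinearMap.map_sum₂ (bil hf) s x v

lemma bl_sum_right {κ : Type*} (s : Finset κ) (x : κ → ι → F) (v : ι → F) :
    f v (∑ k ∈ s, x k) = ∑ k ∈ s, f v (x k) :=
  map_sum (bil hf v) x s

/-- Orthogonal projection onto a non-degenerate subspace. -/
lemma exists_proj {W : Submodule F (ι → F)} (hW : IsNondegenerateOn f W) :
    ∃ π : (ι → F) →ₗ[F] (ι → F), ∀ x, π x ∈ W ∧ ∀ w ∈ W, f (π x) w = f x w := by
  let B : (ι → F) →ₗ[F] Module.Dual F W := (bil hf).compl₂ W.subtype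
  let B' : W →ₗ[F] Module.Dual F W := B.comp W.subtype
  have hinj : Function.Injective B' := by
    refine (injective_iff_map_eq_zero B').mpr fun a ha => ?_
    by_contra hne
    obtain ⟨x, hx, hfx⟩ := (hW a a.2 (by simpa using hne)).2
    exact hfx (LinearMap.congr_fun ha ⟨x, hx⟩)
  let e := LinearEquiv.ofBijective B' ⟨hinj,
    (LinearMap.injective_iff_surjective_of_finrank_eq_finrank
      (Subspace.dual_finrank_eq).symm).mp hinj⟩
  refine ⟨W.subtype.comp (e.symm.toLinearMap.comp B), fun x => ⟨Submodule.coe_mem _, fun w hw => ?_⟩⟩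
  have h := LinearMap.congr_fun (e.apply_symm_apply (B x)) ⟨w, hw⟩
  exact h

variable {t k : ℕ} {D : Fin t → Submodule F (ι → F)}
  (hD : IsNondegenerateMDecomposition f k D)

/-- The projection onto the `i`-th member of an orthogonal decomposition. -/
noncomputable def proj (i : Fin t) : (ι → F) →ₗ[F] (ι → F) :=
  (exists_proj hf (hD.nondegenerate i)).choose

lemma proj_mem (i : Fin t) (x : ι → F) : proj hf hD i x ∈ D i :=
  ((exists_proj hf (hD.nondegenerate i)).choose_spec x).1

lemma proj_spec (i : Fin t) (x : ι → F) {w : ι → F} (hw : w ∈ D i) :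
    f (proj hf hD i x) w = f x w :=
  ((exists_proj hf (hD.nondegenerate i)).choose_spec x).2 w hw

lemma eq_of_forall_left {i : Fin t} (hn : IsNondegenerateOn f (D i)) {a b : ι → F}
    (ha : a ∈ D i) (hb : b ∈ D i) (h : ∀ w ∈ D i, f a w = f b w) : a = b := by
  by_contra hne
  obtain ⟨x, hx, hfx⟩ := (hn _ (sub_mem ha hb) (sub_ne_zero.mpr hne)).2
  exact hfx (by rw [bl_sub_left hf, h x hx, sub_self])

include hD in
lemma proj_self {i : Fin t} {x : ι → F} (hx : x ∈ D i) : proj hf hD i x = x :=
  eq_of_forall_left hf (hD.nondegenerate i) (proj_mem hf hD i x) hx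
    fun _ hw => proj_spec hf hD i x hw

include hD in
lemma proj_other {i j : Fin t} (hij : i ≠ j) {x : ι → F} (hx : x ∈ D j) : proj hf hD i x = 0 :=
  eq_of_forall_left hf (hD.nondegenerate i) (proj_mem hf hD i x) (zero_mem _) fun w hw => by
    rw [proj_spec hf hD i x hw, bl_zero_left hf, hD.orthogonal j i (Ne.symm hij) x hx w hw]

include hD in
lemma sum_proj (x : ι → F) : ∑ i, proj hf hD i x = x := by
  have hx : x ∈ iSup D := hD.decomp.iSup_eq_top ▸ Submodule.mem_top
  induction hx using Submodule.iSup_induction' with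
  | mem i y hy =>
    rw [Finset.sum_eq_single i]
    · exact proj_self hf hD hy
    · intro j _ hj
      exact proj_other hf hD hj hy
    · simp
  | zero => simp
  | add y z _ _ hy hz => simp [Finset.sum_add_distrib, hy, hz]

include hD in
lemma proj_sum (c : Fin t → ι → F) (hc : ∀ i, c i ∈ D i) (j : Fin t) :
    proj hf hD j (∑ i, c i) = c j := by
  rw [map_sum, Finset.sum_eq_single j]
  · exact proj_self hf hD (hc j)
  · intro i _ hi
    exact proj_other hf hD (Ne.symm hi) (hc i)
  · simp

include hD in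
lemma form_eq_sum (x y : ι → F) :
    f x y = ∑ i, f (proj hf hD i x) (proj hf hD i y) := by
  conv_lhs => rw [← sum_proj hf hD y]
  rw [bl_sum_right hf]
  exact Finset.sum_congr rfl fun i _ => (proj_spec hf hD i x (proj_mem hf hD i y)).symm

include hD in
/-- Isometries between the members give an isometry permuting the members. -/
lemma exists_perm_isometry (hn : IsNondegenerateForm f) (σ : Equiv.Perm (Fin t))
    (φ : Fin t → (ι → F) →ₗ[F] (ι → F)) (hmem : ∀ i, ∀ x ∈ D i, φ i x ∈ D (σ i))
    (hiso : ∀ i, ∀ x ∈ D i, ∀ y ∈ D i, f (φ i x) (φ i y) = f x y) :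
    ∃ g ∈ preserving (Units.coeHom (Matrix ι ι F)) f,
      g ∈ decompositionStabilizer D ∧ ∀ i, ∀ x ∈ D i, act g x = φ i x := by
  let L : (ι → F) →ₗ[F] (ι → F) := ∑ i, (φ i).comp (proj hf hD i)
  have hL : ∀ x, L x = ∑ i, φ i (proj hf hD i x) := fun x => by simp [L]
  have hpres : ∀ x y, f (L x) (L y) = f x y := by
    intro x y
    rw [hL, hL, bl_sum_left hf, form_eq_sum hf hD x y]
    refine Finset.sum_congr rfl fun i _ => ?_
    rw [bl_sum_right hf, Finset.sum_eq_single i]
    · exact hiso i _ (proj_mem hf hD i x) _ (proj_mem hf hD i y)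
    · intro j _ hj
      exact hD.orthogonal _ _ (fun h => hj (σ.injective h).symm) _
        (hmem i _ (proj_mem hf hD i x)) _ (hmem j _ (proj_mem hf hD j y))
    · simp
  have hinj : Function.Injective L := by
    refine (injective_iff_map_eq_zero L).mpr fun x hx => ?_
    by_contra hne
    obtain ⟨y, hy⟩ := (hn x hne).2
    exact hy (by rw [← hpres, hx, bl_zero_left hf])
  have hval : ∀ i, ∀ x ∈ D i, L x = φ i x := by
    intro i x hx
    rw [hL, Finset.sum_eq_single i]
    · rw [proj_self hf hD hx]
    · intro j _ hj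
      rw [proj_other hf hD hj hx, map_zero]
    · simp
  refine ⟨glOf L hinj, fun u v => ?_, ?_, fun i x hx => by rw [act_glOf, hval i x hx]⟩
  · change f (act (glOf L hinj) u) (act (glOf L hinj) v) = f u v
    rw [act_glOf, act_glOf, hpres]
  · refine mem_decompositionStabilizer_of_maps_into hD.decomp.finrank_eq σ fun i x hx => ?_
    rw [act_glOf, hval i x hx]
    exact hmem i x hx

end H45
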