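import Mathlib
import Cfsg.Prelude.Def_ClassicalGeometry
import Cfsg.Prelude.Def_GeometricClasses
import Cfsg.Agent.H45.Alt

/-!
# The standard symplectic form as a non-degenerate alternating form
-/

set_option autoImplicit false

namespace H45

open scoped Matrix
open Cfsg Cfsg.Geo

variable (m : ℕ) (F : Type*) [Field F]

lemma sympForm_eq (u v : Fin m ⊕ Fin m → F) :
    sympForm m F u v = ∑ i, (u (.inr i) * v (.inl i) - u (.inl i) * v (.inr i)) := by
  simp only [sympForm, Matrix.J, dotProduct, Fintype.sum_sum_type, Matrix.mulVec,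
    Matrix.fromBlocks_apply₁₁, Matrix.fromBlocks_apply₁₂, Matrix.fromBlocks_apply₂₁,
    Matrix.fromBlocks_apply₂₂, Matrix.zero_apply, Matrix.neg_apply, Matrix.one_apply]
  simp [Finset.sum_sub_distrib]
  ring

lemma sympForm_bilinear : IsBilinearForm (sympForm m F) where
  add_left x y v := by simp [sympForm, add_dotProduct]
  smul_left c x v := by simp [sympForm, smul_dotProduct]
  add_right v x y := by simp [sympForm, Matrix.mulVec_add, dotProduct_add]
  smul_right c v x := by simp [sympForm, Matrix.mulVec_smul, dotProduct_smul]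

lemma sympForm_self (v : Fin m ⊕ Fin m → F) : sympForm m F v v = 0 := by
  rw [sympForm_eq]
  exact Finset.sum_eq_zero fun i _ => by ring

lemma sympForm_nondegenerate : IsNondegenerateForm (sympForm m F) := by
  classical
  intro v hv
  obtain ⟨j, hj⟩ := Function.ne_iff.mp hv
  cases j with
  | inl i =>
    refine ⟨⟨Pi.single (.inr i) 1, ?_⟩, ⟨Pi.single (.inr i) 1, ?_⟩⟩
    · rw [sympForm_eq, Finset.sum_eq_single i]
      · simpa using hj
      · intro b _ hb
        simp [hb]
      · simp
    · rw [sympForm_eq, Finset.sum_eq_single i]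
      · simpa using hj
      · intro b _ hb
        simp [hb]
      · simp
  | inr i =>
    refine ⟨⟨Pi.single (.inl i) 1, ?_⟩, ⟨Pi.single (.inl i) 1, ?_⟩⟩
    · rw [sympForm_eq, Finset.sum_eq_single i]
      · simpa using hj
      · intro b _ hb
        simp [hb]
      · simp
    · rw [sympForm_eq, Finset.sum_eq_single i]
      · simpa using hj
      · intro b _ hb
        simp [hb]
      · simp

variable {m F}

/-- The symplectic transvection as an element of the general linear group. -/
abbrev stv (a : Fin m ⊕ Fin m → F) (c : F) : Matrix.GeneralLinearGroup (Fin m ⊕ Fin m) F :=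
  tv (sympForm_bilinear m F) (sympForm_self m F) a c

lemma stv_mem (a : Fin m ⊕ Fin m → F) (c : F) : stv a c ∈ spGL m F :=
  tv_mem_preserving _ _ a c

lemma mem_spGL {g : Matrix.GeneralLinearGroup (Fin m ⊕ Fin m) F} :
    g ∈ spGL m F ↔ ∀ u v, sympForm m F (act g u) (act g v) = sympForm m F u v :=
  Iff.rfl

/-- A subgroup containing all symplectic transvections contains the symplectic group. -/
theorem spGL_le_of_stv_mem {M : Subgroup (Matrix.GeneralLinearGroup (Fin m ⊕ Fin m) F)}
    (hM : ∀ a c, a ≠ 0 → stv a c ∈ M) : spGL m F ≤ M :=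
  preserving_le_of_tv_mem _ _ (sympForm_nondegenerate m F) hM

end H45
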