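import Mathlib
import Cfsg.Prelude.Def_GeometricClasses
import Cfsg.Agent.H45.SympForm
import Cfsg.Agent.H45.Decomp
import Cfsg.Agent.H45.AltIso

/-!
# Transvection directions and the stabiliser of a symplectic decomposition
-/

set_option autoImplicit false
set_option linter.unusedSectionVars false

namespace H45

open scoped Matrix
open Cfsg Cfsg.Geo

variable {m : ℕ} {F : Type*} [Field F]

/-- The vectors all of whose transvections lie in `M`. -/
def tvDirections (M : Subgroup (Matrix.GeneralLinearGroup (Fin m ⊕ Fin m) F)) :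
    Set (Fin m ⊕ Fin m → F) := {v | ∀ c, stv v c ∈ M}

lemma tvDirections_act {M : Subgroup (Matrix.GeneralLinearGroup (Fin m ⊕ Fin m) F)}
    (hM : M ≤ spGL m F) {g : Matrix.GeneralLinearGroup (Fin m ⊕ Fin m) F} (hg : g ∈ M)
    {v : Fin m ⊕ Fin m → F} (hv : v ∈ tvDirections M) : act g v ∈ tvDirections M := by
  intro c
  have h : stv (act g v) c = g * stv v c * g⁻¹ := gl_ext fun x => by
    rw [act_mul, act_mul, act_tv, act_tv, act_add, act_smul, act_act_inv,
      ← mem_spGL.mp (hM hg) (act g⁻¹ x) v, act_act_inv]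
  rw [h]
  exact mul_mem (mul_mem hg (hv c)) (inv_mem hg)

lemma tvDirections_add_smul {M : Subgroup (Matrix.GeneralLinearGroup (Fin m ⊕ Fin m) F)}
    (hM : M ≤ spGL m F) {u w : Fin m ⊕ Fin m → F} (hu : u ∈ tvDirections M)
    (hw : w ∈ tvDirections M) (huw : sympForm m F w u ≠ 0) (μ : F) :
    w + μ • u ∈ tvDirections M := by
  have h := tvDirections_act hM (hu (μ / sympForm m F w u)) hw
  rwa [act_tv, div_mul_cancel₀ _ huw] at h

variable {t k : ℕ} {D : Fin t → Submodule F (Fin m ⊕ Fin m → F)}
  (hD : IsNondegenerateMDecomposition (sympForm m F) k D)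

include hD

lemma stv_member_mem {i : Fin t} {a : Fin m ⊕ Fin m → F} (ha : a ∈ D i) (c : F) :
    stv a c ∈ decompositionStabilizer D ⊓ spGL m F := by
  refine ⟨mem_decompositionStabilizer_of_maps_into hD.decomp.finrank_eq 1 fun j x hx => ?_,
    stv_mem a c⟩
  rw [act_tv, Equiv.Perm.one_apply]
  by_cases hji : j = i
  · subst hji
    exact add_mem hx (Submodule.smul_mem _ _ ha)
  · rw [hD.orthogonal j i hji x hx a ha, mul_zero, zero_smul, add_zero]
    exact hx

lemma exists_swap (i j : Fin t) : ∃ g ∈ decompositionStabilizer D ⊓ spGL m F,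
    ∀ l, ∀ x ∈ D l, act g x ∈ D (Equiv.swap i j l) := by
  have hb := sympForm_bilinear m F
  have h : ∀ l, ∃ φ : (Fin m ⊕ Fin m → F) →ₗ[F] (Fin m ⊕ Fin m → F),
      (∀ x ∈ D l, φ x ∈ D (Equiv.swap i j l)) ∧
      ∀ x ∈ D l, ∀ y ∈ D l, sympForm m F (φ x) (φ y) = sympForm m F x y := fun l =>
    exists_alt_isometry hb (sympForm_self m F) k _ _ (hD.decomp.finrank_eq l)
      (hD.decomp.finrank_eq _) (hD.nondegenerate l) (hD.nondegenerate _)
  choose φ h1 h2 using h
  obtain ⟨g, hg, hgD, hgval⟩ :=
    exists_perm_isometry hb hD (sympForm_nondegenerate m F) (Equiv.swap i j) φ h1 h2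
  exact ⟨g, ⟨hgD, hg⟩, fun l x hx => by rw [hgval l x hx]; exact h1 l x hx⟩

/-- The members in which a vector has a non-zero component. -/
noncomputable def support (v : Fin m ⊕ Fin m → F) : Finset (Fin t) :=
  haveI := Classical.decPred fun i => proj (sympForm_bilinear m F) hD i v ≠ 0
  Finset.univ.filter fun i => proj (sympForm_bilinear m F) hD i v ≠ 0

lemma mem_support {v : Fin m ⊕ Fin m → F} {i : Fin t} :
    i ∈ support hD v ↔ proj (sympForm_bilinear m F) hD i v ≠ 0 := by
  simp [support]

variable {M : Subgroup (Matrix.GeneralLinearGroup (Fin m ⊕ Fin m) F)}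
  (hHM : decompositionStabilizer D ⊓ spGL m F ≤ M) (hM : M ≤ spGL m F)

include hHM hM

lemma member_mem_tvDirections {i : Fin t} {a : Fin m ⊕ Fin m → F} (ha : a ∈ D i) :
    a ∈ tvDirections M := fun c => hHM (stv_member_mem hD ha c)

/-- A non-zero component can be replaced by any non-zero vector of its member. -/
lemma replace_component {u : Fin m ⊕ Fin m → F} (hu : u ∈ tvDirections M) (i : Fin t)
    (hi : proj (sympForm_bilinear m F) hD i u ≠ 0) {a : Fin m ⊕ Fin m → F} (ha : a ∈ D i)
    (ha0 : a ≠ 0) : u - proj (sympForm_bilinear m F) hD i u + a ∈ tvDirections M := by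
  have hb := sympForm_bilinear m F
  have hsk := alt_skew hb (sympForm_self m F)
  have step : ∀ v ∈ tvDirections M, ∀ b ∈ D i,
      sympForm m F (proj hb hD i v) b ≠ 0 →
        v - proj hb hD i v + b ∈ tvDirections M := by
    intro v hv b hb' hne
    set c := proj hb hD i v with hc
    have hd : b - c ∈ D i := sub_mem hb' (proj_mem hb hD i v)
    have hval : sympForm m F v (b - c) = sympForm m F c b := by
      rw [← proj_spec hb hD i v hd, ← hc, bl_sub_right hb, sympForm_self, sub_zero]
    have := tvDirections_add_smul hM (member_mem_tvDirections hD hHM hM hd) hv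
      (by rw [hval]; exact hne) 1
    rw [one_smul] at this
    rwa [show v - c + b = v + (b - c) by abel]
  set c := proj (sympForm_bilinear m F) hD i u with hc
  by_cases hca : sympForm m F c a ≠ 0
  · exact step u hu a ha hca
  push Not at hca
  obtain ⟨x, hx, hxc⟩ := (hD.nondegenerate i c (proj_mem hb hD i u) hi).1
  obtain ⟨y, hy, hya⟩ := (hD.nondegenerate i a ha ha0).1
  obtain ⟨b, hbD, hbc, hba⟩ : ∃ b ∈ D i, sympForm m F b c ≠ 0 ∧ sympForm m F b a ≠ 0 := by
    by_cases h1 : sympForm m F x a ≠ 0
    · exact ⟨x, hx, hxc, h1⟩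
    by_cases h2 : sympForm m F y c ≠ 0
    · exact ⟨y, hy, h2, hya⟩
    push Not at h1 h2
    refine ⟨x + y, add_mem hx hy, ?_, ?_⟩
    · rw [hb.add_left, h2, add_zero]; exact hxc
    · rw [hb.add_left, h1, zero_add]; exact hya
  have h1 := step u hu b hbD (by rw [hsk, neg_ne_zero]; exact hbc)
  have hpb : proj hb hD i (u - c + b) = b := by
    rw [map_add, map_sub, proj_self hb hD hbD, proj_self hb hD (proj_mem hb hD i u), ← hc,
      sub_self, zero_add]
  have h2 := step _ h1 a ha (by rw [hpb]; exact hba)
  rw [hpb] at h2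
  rwa [show u - c + a = u - c + b - b + a by abel]

/-- All vectors with the same support as a direction are directions. -/
lemma same_support {u v : Fin m ⊕ Fin m → F} (hu : u ∈ tvDirections M)
    (h : support hD u = support hD v) : v ∈ tvDirections M := by
  classical
  have hb := sympForm_bilinear m F
  suffices key : ∀ s : Finset (Fin t),
      u + ∑ l ∈ s, (proj hb hD l v - proj hb hD l u) ∈ tvDirections M by
    have := key Finset.univ
    rw [Finset.sum_sub_distrib, sum_proj hb hD, sum_proj hb hD] at this
    simpa using this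
  intro s
  induction s using Finset.induction with
  | empty => simpa using hu
  | insert l s hl ih =>
    rw [Finset.sum_insert hl]
    set w := u + ∑ j ∈ s, (proj hb hD j v - proj hb hD j u) with hw
    have hwl : proj hb hD l w = proj hb hD l u := by
      rw [hw, map_add, map_sum, Finset.sum_eq_zero, add_zero]
      intro j hj
      have hjl : l ≠ j := fun e => hl (e ▸ hj)
      exact proj_other hb hD hjl (sub_mem (proj_mem hb hD j v) (proj_mem hb hD j u))
    rw [show u + (proj hb hD l v - proj hb hD l u + ∑ j ∈ s, (proj hb hD j v - proj hb hD j u))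
      = w - proj hb hD l u + proj hb hD l v by rw [hw]; abel]
    by_cases hl0 : proj hb hD l u = 0
    · have : proj hb hD l v = 0 := by
        have := h ▸ (mem_support hD (v := u) (i := l))
        rw [mem_support] at this
        by_contra hne
        exact (this.mp hne) hl0
      simpa [hl0, this] using ih
    · have hv0 : proj hb hD l v ≠ 0 := by
        rw [← mem_support hD, ← h, mem_support]
        exact hl0
      rw [← hwl]
      exact replace_component hD hHM hM ih l (by rw [hwl]; exact hl0) (proj_mem hb hD l v) hv0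

end H45
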