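import Cfsg.Agent.H46.ClsMain
import Cfsg.Agent.H51.FormAsch.Basic
import Cfsg.Agent.H45.SympDecomp

/-!
From the structures preserved by a group of symplectic similitudes to the geometric classes of the
symplectic group.
-/

set_option autoImplicit false
set_option linter.style.haveILetI false
set_option linter.unusedSectionVars false
set_option maxHeartbeats 1000000

open Cfsg.Geo
open scoped Matrix Kronecker MatrixGroups

namespace H45

open H46

variable {F : Type*} [Field F] [Fintype F] {m : ℕ}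

theorem sympForm_eq_frm : Cfsg.sympForm m F = frm (RingEquiv.refl F) (Matrix.J (Fin m) F) := by
  funext u v
  rw [frm, formOfGram_eq]
  rfl

theorem isSymplecticForm_std : IsSymplecticForm (Cfsg.sympForm m F) := by
  refine ⟨sympForm_bilinear m F, fun v w => ?_, sympForm_self m F, sympForm_nondegenerate m F⟩
  have h := sympForm_self m F (v + w)
  rw [(sympForm_bilinear m F).add_left, (sympForm_bilinear m F).add_right,
    (sympForm_bilinear m F).add_right, sympForm_self m F, sympForm_self m F] at h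
  linear_combination h

theorem cf_J : CF (RingEquiv.refl F) (Matrix.J (Fin m) F) := by
  refine ⟨(Matrix.isUnit_iff_isUnit_det _).2 (Matrix.isUnit_det_J _ _), fun _ => rfl,
    Or.inr ⟨rfl, Matrix.J_transpose _ _, fun i => ?_⟩⟩
  cases i <;> simp [Matrix.J, Matrix.fromBlocks]

theorem le_similarity_of_le_spGL {H : Subgroup (GL (Fin m ⊕ Fin m) F)} (hH : H ≤ Cfsg.spGL m F) :
    H ≤ similarityGroup (frm (RingEquiv.refl F) (Matrix.J (Fin m) F)) := by
  intro g hg
  refine ⟨1, fun u v => ?_⟩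
  rw [Units.val_one, one_mul, ← sympForm_eq_frm]
  exact hH hg u v

theorem isSymmetricForm_gram {ι : Type} [Fintype ι] [DecidableEq ι] {M : Matrix ι ι F}
    (hM : IsUnit M) (hs : Mᵀ = M) : IsSymmetricForm (frm (RingEquiv.refl F) M) := by
  refine ⟨⟨frm_add_left, frm_smul_left, frm_add_right, fun c v x => frm_smul_right c v x⟩,
    fun u v => ?_, formOfGram_nondegenerate _ M hM⟩
  rw [frm_swap_mat, hs]
  rfl

/-- In characteristic two a pair of complementary totally singular halves carries a quadratic form. -/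
theorem exists_quad_of_pair {ι : Type} [Fintype ι] [DecidableEq ι] {f : (ι → F) → (ι → F) → F}
    (hf : IsSymplecticForm f) (h2 : (2 : F) = 0) {k : ℕ} {D : Fin 2 → Submodule F (ι → F)}
    (hD : IsMDecomposition k D) (hts : ∀ i, IsTotallySingularFor f (D i)) :
    ∃ Q : (ι → F) → F, IsNondegenerateQuadraticForm Q ∧ (∀ u v, QuadraticMap.polar Q u v = f u v) ∧
      decompositionStabilizer D ⊓ similarityGroup f ≤ quadSimilarityGroup Q := by
  classical
  have hcompl : IsCompl (D 0) (D 1) := by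
    refine ⟨hD.indep.pairwiseDisjoint (by decide : (0 : Fin 2) ≠ 1), codisjoint_iff.2 ?_⟩
    rw [← hD.iSup_eq_top]
    refine le_antisymm (sup_le (le_iSup D 0) (le_iSup D 1)) (iSup_le fun i => ?_)
    fin_cases i
    exacts [le_sup_left, le_sup_right]
  let p0 : (ι → F) →ₗ[F] (ι → F) := (D 0).projection (D 1) hcompl
  set θ : Matrix ι ι F := LinearMap.toMatrix' p0 with hθdef
  have hθ : ∀ v, θ *ᵥ v = p0 v := fun v => by rw [hθdef, ← Matrix.toLin'_apply, Matrix.toLin'_toMatrix']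
  have hmem0 : ∀ v, θ *ᵥ v ∈ D 0 := fun v => by rw [hθ]; exact Submodule.projection_apply_mem hcompl v
  have hmem1 : ∀ v, (1 - θ) *ᵥ v ∈ D 1 := fun v => by
    rw [Matrix.sub_mulVec, Matrix.one_mulVec, hθ]
    have h := Submodule.projection_apply_mem hcompl.symm v
    rwa [show (D 1).projection (D 0) hcompl.symm v = v - p0 v from by
      rw [eq_sub_iff_add_eq, add_comm]; exact Submodule.projection_add_projection_eq_self hcompl v] at h
  have hsum : ∀ v, θ *ᵥ v + (1 - θ) *ᵥ v = v := fun v => by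
    rw [← Matrix.add_mulVec, add_sub_cancel, Matrix.one_mulVec]
  have hadj : H51.FormAsch.IsAdj f θ (1 - θ) := by
    intro u v
    conv_lhs => rw [← hsum v]
    conv_rhs => rw [← hsum u]
    rw [hf.bilinear.add_right, hf.bilinear.add_left, hts 0 _ (hmem0 u) _ (hmem0 v),
      hts 1 _ (hmem1 u) _ (hmem1 v), zero_add, add_zero]
  obtain ⟨Q, hQ, hp, hle⟩ := H51.FormAsch.quad_of_half hf h2
    (G := decompositionStabilizer D ⊓ similarityGroup f) inf_le_right hadj (by
    rintro g ⟨⟨s, hs⟩, -⟩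
    have hmap : ∀ i, ∀ v ∈ D i, (g : Matrix ι ι F) *ᵥ v ∈ D (s i) := fun i v hv => by
      rw [← hs i]
      exact ⟨v, hv, Matrix.toLin'_apply _ _⟩
    have huniq : ∀ v a b, a ∈ D 0 → b ∈ D 1 → v = a + b → θ *ᵥ v = a := by
      intro v a b ha hb hv
      rw [hθ, hv, map_add, Submodule.projection_apply_of_mem_left hcompl ha,
        Submodule.projection_apply_of_mem_right hcompl hb, add_zero]
    have hgi : ∀ v, (g : Matrix ι ι F) *ᵥ (((g⁻¹ : GL ι F) : Matrix ι ι F) *ᵥ v) = v := fun v => by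
      rw [Matrix.mulVec_mulVec, ← Units.val_mul, mul_inv_cancel, Units.val_one, Matrix.one_mulVec]
    have hsplit : ∀ v, v = (g : Matrix ι ι F) *ᵥ (θ *ᵥ (((g⁻¹ : GL ι F) : Matrix ι ι F) *ᵥ v)) +
        (g : Matrix ι ι F) *ᵥ ((1 - θ) *ᵥ (((g⁻¹ : GL ι F) : Matrix ι ι F) *ᵥ v)) := fun v => by
      rw [← Matrix.mulVec_add, hsum, hgi]
    have hperm : ∀ s : Equiv.Perm (Fin 2), s = 1 ∨ (s 0 = 1 ∧ s 1 = 0) := by decide
    rcases hperm s with rfl | ⟨h0, h1⟩
    · left
      apply Matrix.ext_of_mulVec_single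
      intro i
      set v : ι → F := Pi.single i 1
      rw [glConj_apply, ← Matrix.mulVec_mulVec, ← Matrix.mulVec_mulVec]
      exact (huniq v _ _ (hmap 0 _ (hmem0 _)) (hmap 1 _ (hmem1 _)) (hsplit v)).symm
    · right
      apply Matrix.ext_of_mulVec_single
      intro i
      set v : ι → F := Pi.single i 1
      have h3 := huniq v _ _ (h1 ▸ hmap 1 _ (hmem1 (((g⁻¹ : GL ι F) : Matrix ι ι F) *ᵥ v)))
        (h0 ▸ hmap 0 _ (hmem0 (((g⁻¹ : GL ι F) : Matrix ι ι F) *ᵥ v))) ((hsplit v).trans (add_comm _ _))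
      rw [glConj_apply, ← Matrix.mulVec_mulVec, ← Matrix.mulVec_mulVec, Matrix.sub_mulVec,
        Matrix.one_mulVec, h3]
      conv_rhs => arg 1; rw [hsplit v]
      rw [add_sub_cancel_right])
  exact ⟨Q, hQ, hp, hle⟩

/-- A symplectic group preserving a structure lies in a class member. -/
theorem inSymplecticClass_of_geometric {H : Subgroup (GL (Fin m ⊕ Fin m) F)} (hH : H ≤ Cfsg.spGL m F)
    (hg : ClsGeometric (RingEquiv.refl F) (Matrix.J (Fin m) F) H) :
    ∃ M, InSymplecticClass m F M ∧ H ≤ M := by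
  have hf := sympForm_eq_frm (F := F) (m := m)
  have hid : ((RingEquiv.refl F : F ≃+* F) : F → F) = id := rfl
  cases hg with
  | totSing W hb ht hts h => exact ⟨_, Or.inl (Or.inl ⟨W, hb, hf ▸ hts, rfl⟩), le_inf h hH⟩
  | nondegSub W hb ht hnd hd h =>
    refine ⟨_, Or.inl (Or.inr (Or.inl ⟨W, hb, hf ▸ hnd, ?_, rfl⟩)), le_inf h hH⟩
    simp only [Fintype.card_sum, Fintype.card_fin] at hd
    omega
  | decomp t k D hD h =>
    exact ⟨_, Or.inl (Or.inr (Or.inr (Or.inl ⟨t, k, D, hf ▸ hD, rfl⟩))), le_inf h hH⟩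
  | tsPair k D hD hts h =>
    have hkm : k = m := by
      have hc : Fintype.card (Fin m ⊕ Fin m) = 2 * k := by
        classical
        have hint : DirectSum.IsInternal D :=
          DirectSum.isInternal_submodule_of_iSupIndep_of_iSup_eq_top hD.indep hD.iSup_eq_top
        let b := hint.collectedBasis fun i => Module.finBasisOfFinrankEq F (D i) (hD.finrank_eq i)
        rw [← Module.finrank_fintype_fun_eq_card F, Module.finrank_eq_card_basis b]
        simp
      simp only [Fintype.card_sum, Fintype.card_fin] at hc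
      omega
    subst hkm
    by_cases hodd : Odd (Fintype.card F)
    · exact ⟨_, Or.inl (Or.inr (Or.inr (Or.inr (Or.inl ⟨D, hodd, hD, hf ▸ hts, rfl⟩)))), le_inf h hH⟩
    · have h2 : (2 : F) = 0 := by
        by_contra h'
        exact hodd (two_ne_zero_iff_odd.1 h')
      obtain ⟨Q, hQ, hp, hle⟩ := exists_quad_of_pair isSymplecticForm_std h2 hD (hf ▸ hts)
      exact ⟨_, Or.inl (Or.inr (Or.inr (Or.inr (Or.inr (Or.inr (Or.inr ⟨Q, hodd, hQ, hp, rfl⟩)))))),
        le_inf ((le_inf h (hf ▸ le_similarity_of_le_spGL hH)).trans hle) hH⟩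
  | selfField r K hσ hr hK hsa halt hd h =>
    exact ⟨_, Or.inr (Or.inl ⟨r, K, hr, hK, hf ▸ hsa, hf ▸ halt, rfl⟩), le_inf h hH⟩
  | twistField r K hr hK hcl hs hu hd h =>
    obtain ⟨rfl, hodd, hns⟩ := hs rfl
    exact ⟨_, Or.inr (Or.inr (Or.inl ⟨K, hodd, hK, hf ▸ hcl, hf ▸ hns, rfl⟩)), le_inf h hH⟩
  | tensor n₁ n₂ e P M₁ M₂ h1 h2 hg hM₁ hM₂ hs hu h =>
    obtain ⟨hsym, hodd, h3⟩ := hs rfl
    refine ⟨_, Or.inr (Or.inr (Or.inr (Or.inl ⟨n₁, n₂, e, P, frm (RingEquiv.refl F) M₁,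
      frm (RingEquiv.refl F) M₂, hodd, h3, hM₁.symplectic rfl, isSymmetricForm_gram hM₂ hsym, ?_, rfl⟩))),
      le_inf h hH⟩
    refine ⟨1, one_ne_zero, fun x y => ?_⟩
    rw [one_mul, gramMatrix_frm, gramMatrix_frm, hf, frm_coords, hg, ← hid]
  | subfield F₁ r P ζ hr hc hζ hrat h =>
    exact ⟨_, Or.inl (Or.inr (Or.inr (Or.inr (Or.inr (Or.inl
      ⟨F₁, r, P, ζ, hr, hc, hζ, hf ▸ hrat, rfl⟩))))), le_inf h hH⟩
  | sympType r k p e R hR habs hiso hk hn hp hchar hq hrp hs hu h =>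
    obtain ⟨rfl, rfl, hz, hcard, hmin⟩ := hs rfl
    refine ⟨_, Or.inl (Or.inr (Or.inr (Or.inr (Or.inr (Or.inr (Or.inl
      ⟨R, p, k, hR, habs, fun x hx => ⟨1, fun u v => ?_⟩, hp, hp.odd_of_ne_two (fun hp2 => hrp hp2.symm),
        by rw [hq, pow_one], hcard, hz, hmin, rfl⟩)))))), le_inf h hH⟩
    rw [Units.val_one, one_mul, hf]
    exact hiso x hx u v
  | power a t e P M₁ ha ht c hc hgram hM₁ hs hu h =>
    obtain ⟨hodd, htodd, ht3, hex⟩ := hs rfl
    refine ⟨_, Or.inr (Or.inr (Or.inr (Or.inr ⟨a, t, e, P, frm (RingEquiv.refl F) M₁, hodd, htodd, ht3, hex,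
      hM₁.symplectic rfl, ?_, rfl⟩))), le_inf h hH⟩
    refine ⟨c, hc, fun x y => ?_⟩
    rw [gramMatrix_frm, hf, frm_coords, hgram, frm, formOfGram_smul_gram, formOfGram, ← hid]
    rfl
  | quad Q hσ he hQ hp h =>
    exact ⟨_, Or.inl (Or.inr (Or.inr (Or.inr (Or.inr (Or.inr (Or.inr
      ⟨Q, he, hQ, fun u v => by rw [hf]; exact hp u v, rfl⟩)))))), le_inf h hH⟩

end H45
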