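import Mathlib
import Cfsg.Prelude.Def_Classical
import Cfsg.Prelude.Def_LieClassical
import Cfsg.Agent.H50.Form
import Cfsg.Agent.H44.Classify

/-!
# Tools for embedding unitary and orthogonal groups into orthogonal groups
-/

set_option autoImplicit false
set_option linter.unusedSectionVars false

namespace H45

open scoped Matrix
open Cfsg

/-- A faithful linear action preserving `R`, transported to coordinates, gives an embedding. -/
lemma exists_embed {F : Type*} [Field F] {ι : Type} [Fintype ι] [DecidableEq ι] {G : Type*}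
    [Group G] {W : Type*} [AddCommGroup W] [Module F W] (Q : (ι → F) → F) (R : W → F)
    (ρ : G →* Module.End F W) (hρ : Function.Injective ρ) (hR : ∀ g w, R (ρ g w) = R w)
    (φ : W ≃ₗ[F] (ι → F)) (hφ : ∀ w, Q (φ w) = R w) :
    ∃ ψ : G →* ↥(isometryGroup F Q), Function.Injective ψ := by
  let T : Module.End F W →* Matrix ι ι F :=
    ((LinearMap.toMatrixAlgEquiv' (R := F) (n := ι)).toMulEquiv.toMonoidHom).comp
      φ.conjRingEquiv.toMonoidHom
  have hT : Function.Injective T :=
    (LinearMap.toMatrixAlgEquiv' (R := F) (n := ι)).injective.comp φ.conjRingEquiv.injective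
  let ψ := (T.comp ρ).toHomUnits
  have hψ : ∀ g v, ((ψ g : Matrix.GeneralLinearGroup ι F) : Matrix ι ι F) *ᵥ v =
      φ (ρ g (φ.symm v)) := fun g v => by
    simp [ψ, T, MonoidHom.coe_toHomUnits, LinearEquiv.conjRingEquiv, LinearMap.toMatrixAlgEquiv',
      LinearEquiv.conj_apply]
  refine ⟨ψ.codRestrict (isometryGroup F Q) fun g => ?_, fun a b hab => ?_⟩
  · intro u _
    change Q ((ψ g : Matrix ι ι F) *ᵥ u) = Q u
    rw [hψ, hφ, hR, ← hφ, LinearEquiv.apply_symm_apply]
  · apply hρ
    apply hT
    exact congrArg Units.val (congrArg Subtype.val hab)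

/-- A field with `q` elements embeds into one with `q²` elements, onto the fixed field of `x ↦ x^q`. -/
lemma exists_fixed_embedding {K F : Type*} [Field K] [Fintype K] [Field F] [Fintype F] {q : ℕ}
    (hK : Fintype.card K = q ^ 2) (hF : Fintype.card F = q) :
    ∃ i : F →+* K, (∀ x, i x ^ q = i x) ∧ ∀ y : K, y ^ q = y → ∃ x, i x = y := by
  classical
  let S := RingHom.eqLocusField (H50.conjHom hK) (RingHom.id K)
  have hS : Nat.card S = q := by
    rw [← H50.card_fixed hK]
    exact Nat.card_congr (Equiv.subtypeEquivRight fun x => Iff.rfl)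
  have : Fintype S := Fintype.ofFinite S
  have hcard : Fintype.card F = Fintype.card S := by rw [hF, ← hS, Nat.card_eq_fintype_card]
  let e : F ≃+* S := FiniteField.ringEquivOfCardEq hcard
  refine ⟨S.subtype.comp e.toRingHom, fun x => (e x).2, fun y hy => ?_⟩
  refine ⟨e.symm ⟨y, hy⟩, ?_⟩
  simp

/-- An anisotropic binary form is the norm form in a suitable basis `1, ω`. -/
lemma exists_norm_root {K F : Type*} [Field K] [Fintype K] [Field F] [Fintype F] {q : ℕ}
    (hK : Fintype.card K = q ^ 2) (hF : Fintype.card F = q) (i : F →+* K)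
    (hfix : ∀ x, i x ^ q = i x) (hsurj : ∀ y : K, y ^ q = y → ∃ x, i x = y) (a b : F)
    (hab : ∀ z₁ z₂ : F, z₁ ^ 2 + a * z₁ * z₂ + b * z₂ ^ 2 = 0 → z₁ = 0 ∧ z₂ = 0) :
    ∃ ω : K, ω ^ q ≠ ω ∧ ω + ω ^ q = i a ∧ ω * ω ^ q = i b := by
  classical
  obtain ⟨θ, hθ⟩ : ∃ θ : K, θ ^ q ≠ θ := by
    by_contra hcon
    push Not at hcon
    have h1 := H50.card_fixed (q := q) hK
    rw [Nat.card_congr (Equiv.subtypeUnivEquiv hcon), Nat.card_eq_fintype_card, hK] at h1
    have := H50.two_le hK
    nlinarith
  have hfixT : (θ + θ ^ q) ^ q = θ + θ ^ q := H50.trace_fixed hK θ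
  have hfixN : (θ * θ ^ q) ^ q = θ * θ ^ q := by rw [mul_pow, H50.pow_q_pow_q hK, mul_comm]
  obtain ⟨T, hT⟩ := hsurj _ hfixT
  obtain ⟨N, hN⟩ := hsurj _ hfixN
  have hnorm : ∀ x y : F, i (x ^ 2 + T * x * y + N * y ^ 2) = (i x + i y * θ) * (i x + i y * θ) ^ q := by
    intro x y
    rw [H50.add_pow_q hK, mul_pow, hfix, hfix]
    simp only [map_add, map_mul, map_pow, hT, hN]
    ring
  have han : ∀ z₁ z₂ : F, z₁ ^ 2 + T * z₁ * z₂ + N * z₂ ^ 2 = 0 → z₁ = 0 ∧ z₂ = 0 := by
    intro x y h
    have h1 := hnorm x y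
    rw [h, map_zero, eq_comm, mul_eq_zero, pow_eq_zero_iff (H50.q_ne_zero hK), or_self] at h1
    by_cases hy : y = 0
    · subst hy
      simp at h1
      exact ⟨h1, rfl⟩
    · exfalso
      apply hθ
      have hiy : i y ≠ 0 := fun h0 => hy (i.injective (by rw [h0, map_zero]))
      have hθ' : θ = i (-x / y) := by
        rw [map_div₀, map_neg, eq_div_iff hiy]
        linear_combination h1
      rw [hθ', hfix]
  obtain ⟨ζ, ψ₁, hζ, hψ₁⟩ := H44.binary_elliptic_normal (H44.binForm T N)
    (H44.binForm_polarSep han) (H44.binForm_anisotropic han)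
  obtain ⟨ψ₂, hψ₂⟩ := H44.binary_elliptic_unique hζ (H44.binForm a b)
    (H44.binForm_polarSep hab) (H44.binForm_anisotropic hab)
  let ψ := ψ₂.trans ψ₁.symm
  have hψ : ∀ z, H44.binForm a b z = H44.binForm T N (ψ z) := fun z => by
    rw [hψ₂, hψ₁]; simp [ψ]
  let L : (Fin 2 → F) → K := fun z => i (ψ z 0) + i (ψ z 1) * θ
  have hL : ∀ x y : F, L ![x, y] = i x * L ![1, 0] + i y * L ![0, 1] := by
    intro x y
    have e : (![x, y] : Fin 2 → F) = x • ![1, 0] + y • ![0, 1] := by
      ext k; fin_cases k <;> simp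
    simp only [L]
    rw [e]
    simp only [map_add ψ, map_smul ψ, Pi.add_apply, Pi.smul_apply, smul_eq_mul, map_add, map_mul]
    ring
  have hkey : ∀ x y : F, i (x ^ 2 + a * x * y + b * y ^ 2) =
      (i x * L ![1, 0] + i y * L ![0, 1]) * (i x * L ![1, 0] + i y * L ![0, 1]) ^ q := by
    intro x y
    have h := hψ ![x, y]
    rw [H44.binForm_apply, H44.binForm_apply] at h
    simp at h
    rw [← hL, h, hnorm]
  have h10 := hkey 1 0
  simp at h10
  have hl1 : L ![1, 0] ≠ 0 := fun h0 => by rw [h0] at h10; simp at h10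
  set ω := L ![0, 1] / L ![1, 0] with hω
  have hkey' : ∀ x y : F, i (x ^ 2 + a * x * y + b * y ^ 2) =
      (i x + i y * ω) * (i x + i y * ω) ^ q := by
    intro x y
    have e : i x * L ![1, 0] + i y * L ![0, 1] = L ![1, 0] * (i x + i y * ω) := by
      rw [hω]; field_simp
    rw [hkey, e, mul_pow]
    linear_combination (-((i x + i y * ω) * (i x + i y * ω) ^ q)) * h10
  have e01 := hkey' 0 1
  have e11 := hkey' 1 1
  simp [map_add, map_mul, map_pow] at e01 e11
  rw [H50.add_pow_q hK, one_pow] at e11
  refine ⟨ω, fun hfx => ?_, by linear_combination e01 - e11, e01.symm⟩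
  obtain ⟨w, hw⟩ := hsurj ω hfx
  have h := hkey' (-w) 1
  rw [map_one, map_neg, one_mul, hw, neg_add_cancel, zero_mul, map_eq_zero] at h
  exact one_ne_zero (hab _ _ h).2

/-- Two complementary totally singular halves identify a form with the hyperbolic one. -/
lemma exists_plus_coords {F : Type*} [Field F] {W : Type*} [AddCommGroup W] [Module F W]
    [FiniteDimensional F W] (R : QuadraticForm F W) {m : ℕ}
    (hn : ∀ v, (∀ x, QuadraticMap.polar R v x = 0) → v = 0)
    (hdim : Module.finrank F W = 2 * m) (A B : Submodule F W)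
    (hA : ∀ a ∈ A, R a = 0) (hB : ∀ b ∈ B, R b = 0) (hAm : Module.finrank F A = m)
    (hsup : A ⊔ B = ⊤) (hinf : A ⊓ B = ⊥) :
    ∃ φ : W ≃ₗ[F] (Fin m ⊕ Fin m → F), ∀ w, quadFormPlus m F (φ w) = R w := by
  classical
  have hc : IsCompl A B := ⟨disjoint_iff.mpr hinf, codisjoint_iff.mpr hsup⟩
  let b := Module.finBasisOfFinrankEq F A hAm
  let pA := A.projectionOnto B hc
  let L : W →ₗ[F] (Fin m ⊕ Fin m → F) :=
    { toFun := fun w => Sum.elim (fun j => b.repr (pA w) j)
        (fun j => QuadraticMap.polar R (b j : W) w)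
      map_add' := fun x y => by
        ext j; cases j <;> simp [QuadraticMap.polar_add_right]
      map_smul' := fun c x => by
        ext j; cases j <;> simp [QuadraticMap.polar_smul_right] }
  have hQ : ∀ w, quadFormPlus m F (L w) = R w := by
    intro w
    set a : A := pA w with ha
    have hrest : w - (a : W) ∈ B := by
      have hker : pA (w - (a : W)) = 0 := by
        rw [map_sub, Submodule.projectionOnto_apply_left hc a, ← ha, sub_self]
      exact (Submodule.projectionOnto_apply_eq_zero_iff hc).mp hker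
    have h1 : R w = QuadraticMap.polar R (a : W) w := by
      have h2 := hA a a.2
      have h3 := hB _ hrest
      have hself : QuadraticMap.polar R (a : W) (a : W) = 0 := by
        rw [QuadraticMap.polar_self, h2, smul_zero]
      have e : R w = R (a : W) + R (w - (a : W)) + QuadraticMap.polar R (a : W) (w - (a : W)) := by
        simp [QuadraticMap.polar]
      rw [e, h2, h3, QuadraticMap.polar_sub_right, hself]
      ring
    have h2 : (a : W) = ∑ j, b.repr a j • (b j : W) := by
      have h' := congrArg Subtype.val (b.sum_repr a)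
      rw [Submodule.coe_sum] at h'
      simp only [Submodule.coe_smul] at h'
      exact h'.symm
    rw [h1, h2]
    simp only [← QuadraticMap.polarBilin_apply_apply, map_sum, map_smul, LinearMap.sum_apply,
      LinearMap.smul_apply, smul_eq_mul]
    simp [quadFormPlus, L, ← ha]
  have hinj : Function.Injective L := by
    refine (injective_iff_map_eq_zero L).mpr fun w hw => ?_
    have hwB : w ∈ B := by
      refine (Submodule.projectionOnto_apply_eq_zero_iff hc).mp ?_
      change pA w = 0
      apply b.repr.injective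
      ext j
      simpa [L] using congrFun hw (Sum.inl j)
    apply hn
    intro x
    obtain ⟨a, ha, c, hcm, rfl⟩ := Submodule.mem_sup.mp (hsup ▸ (Submodule.mem_top : x ∈ (⊤ : Submodule F W)))
    have e2 : QuadraticMap.polar R w c = 0 := by
      simp [QuadraticMap.polar, hB _ hwB, hB _ hcm, hB _ (add_mem hwB hcm)]
    rw [QuadraticMap.polar_add_right, e2, add_zero, QuadraticMap.polar_comm]
    have : (⟨a, ha⟩ : A) = ∑ j, b.repr ⟨a, ha⟩ j • b j := (b.sum_repr _).symm
    have h' := congrArg Subtype.val this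
    rw [Submodule.coe_sum] at h'
    simp only [Submodule.coe_smul] at h'
    change a = _ at h'
    rw [h']
    simp only [← QuadraticMap.polarBilin_apply_apply, map_sum, map_smul, LinearMap.sum_apply,
      LinearMap.smul_apply, smul_eq_mul]
    refine Finset.sum_eq_zero fun j _ => ?_
    have := congrFun hw (Sum.inr j)
    simp [L] at this
    simp [this]
  exact ⟨LinearEquiv.ofBijective L ⟨hinj, (LinearMap.injective_iff_surjective_of_finrank_eq_finrank
    (by rw [hdim, Module.finrank_fintype_fun_eq_card, Fintype.card_sum, Fintype.card_fin]; omega)).mp hinj⟩, hQ⟩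

end H45
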