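import Cfsg.Agent.H93.Fi22Order
import Cfsg.Agent.H65.Fischer.Orders
import Cfsg.Agent.H65.Fischer.Simple

/-!
From nine members with the diagram Y332 and the three relators to the presented group.
-/

set_option autoImplicit false

namespace H45
namespace FiIso

open Cfsg Spor

/-- positions of the generators -/
def idx : Fi22.Gen → ℕ
  | .a => 0
  | .b => 1
  | .c => 2
  | .d => 3
  | .e => 4
  | .f => 5
  | .g => 6
  | .h => 7
  | .i => 8

/-- joined positions -/
def joined : List (ℕ × ℕ) := [(0, 1), (1, 0), (1, 2), (2, 1), (2, 3), (3, 2), (3, 4), (4, 3),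
  (3, 7), (7, 3), (4, 5), (5, 4), (5, 6), (6, 5), (7, 8), (8, 7)]

/-- nine members satisfying the relations of the presentation -/
structure Rels {G : Type*} [Group G] (D : Set G) (x : ℕ → G) : Prop where
  mem : ∀ i < 9, x i ∈ D
  comm : ∀ i < 9, ∀ j < 9, (Commute (x i) (x j) ↔ joined.contains (i, j) = false)
  spider : (x 3 * x 2 * x 1 * x 3 * x 4 * x 5 * x 3 * x 7 * x 8) ^ 10 = 1
  left : (x 0 * x 1 * x 2 * x 3 * x 4 * x 5 * x 7) ^ 9 = 1
  right : (x 1 * x 2 * x 3 * x 4 * x 5 * x 6 * x 7) ^ 9 = 1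

theorem label_cases : ∀ u v : Fi22.Gen,
    (u = v ∧ coxLabel Fi22.edges u v = 1) ∨
      (coxLabel Fi22.edges u v = 2 ∧ joined.contains (idx u, idx v) = false) ∨
      (coxLabel Fi22.edges u v = 3 ∧ joined.contains (idx u, idx v) = true) := by
  intro u v; cases u <;> cases v <;> decide +kernel

theorem idx_lt : ∀ u : Fi22.Gen, idx u < 9 := by
  intro u; cases u <;> decide

variable {G : Type*} [Group G] {D : Set G} {x : ℕ → G}

theorem sq (hD : IsThreeTranspositionGroup D) {d : G} (hd : d ∈ D) : d * d = 1 := by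
  have h := pow_orderOf_eq_one d
  rwa [hD.1.1 d hd, pow_two] at h

theorem relators_hold (hD : IsThreeTranspositionGroup D) (hr : Rels D x) :
    ∀ r ∈ coxRelators Fi22.edges ∪ {r | r ∈ Fi22.extra},
      FreeGroup.lift (fun g => x (idx g)) r = 1 := by
  rintro r (⟨u, -, v, -, rfl⟩ | hr')
  · rw [map_pow, map_mul, FreeGroup.lift_apply_of, FreeGroup.lift_apply_of]
    have hu := hr.mem _ (idx_lt u)
    have hv := hr.mem _ (idx_lt v)
    rcases label_cases u v with ⟨rfl, h⟩ | ⟨h, hj⟩ | ⟨h, hj⟩ <;> rw [h]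
    · rw [pow_one]; exact sq hD hu
    · rw [pow_two]
      have hc := (hr.comm _ (idx_lt u) _ (idx_lt v)).2 hj
      calc x (idx u) * x (idx v) * (x (idx u) * x (idx v))
          = x (idx u) * (x (idx v) * x (idx u)) * x (idx v) := by group
        _ = x (idx u) * (x (idx u) * x (idx v)) * x (idx v) := by rw [hc.eq]
        _ = (x (idx u) * x (idx u)) * (x (idx v) * x (idx v)) := by group
        _ = 1 := by rw [sq hD hu, sq hD hv, one_mul]
    · rcases hD.1.2 _ hu _ hv with h2 | h3
      · exfalso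
        have hc : Commute (x (idx u)) (x (idx v)) := by
          have hi : ∀ {d : G}, d ∈ D → d⁻¹ = d := fun hd => inv_eq_of_mul_eq_one_right (sq hD hd)
          rw [pow_two] at h2
          have := eq_inv_of_mul_eq_one_left h2
          rw [mul_inv_rev, hi hu, hi hv] at this
          exact this
        rw [(hr.comm _ (idx_lt u) _ (idx_lt v)).1 hc] at hj
        exact Bool.false_ne_true hj
      · exact h3
  · simp only [Fi22.extra, List.mem_cons, List.not_mem_nil, or_false, Set.mem_setOf_eq] at hr'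
    rcases hr' with rfl | rfl | rfl <;>
      simp only [map_pow, map_mul, FreeGroup.lift_apply_of, idx]
    exacts [hr.spider, hr.left, hr.right]

/-- The presented group is isomorphic to a group of type M(22) carrying such members. -/
theorem exists_iso [Finite G] (hD : IsThreeTranspositionGroup D) (hp : IsPrimitiveUnderConj D)
    (h22 : IsOfTypeM22 G D) (hr : Rels D x) :
    ∃ e : Fi22 ≃* G, e '' conjugatesOf (PresentedGroup.of Fi22.Gen.a) = D := by
  let f : Fi22 →* G := PresentedGroup.toGroup (relators_hold hD hr)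
  obtain ⟨hsimp, hcard⟩ := H93.Fi22Order.isFi22
  haveI := hsimp
  haveI : Finite Fi22 := H93.Fi22Order.card_le.1
  have hker : f.ker = ⊥ := by
    rcases hsimp.eq_bot_or_eq_top_of_normal f.ker inferInstance with h | h
    · exact h
    · exfalso
      have h1 : f (PresentedGroup.of Fi22.Gen.a) = 1 := by
        rw [← MonoidHom.mem_ker, h]; exact Subgroup.mem_top _
      have h2 : x 0 = 1 := by
        rw [← h1]
        exact (PresentedGroup.toGroup.of (f := fun g => x (idx g)) (relators_hold hD hr) (x := Fi22.Gen.a)).symm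
      have := hD.1.1 _ (hr.mem 0 (by norm_num))
      rw [h2, orderOf_one] at this
      norm_num at this
  have hinj : Function.Injective f := (MonoidHom.ker_eq_bot_iff f).1 hker
  have hbij : Function.Bijective f := by
    refine hinj.bijective_of_nat_card_le ?_
    rw [H65.Fischer.card_m22 hD hp h22, hcard]
    decide +kernel
  refine ⟨MulEquiv.ofBijective f hbij, ?_⟩
  have ha : MulEquiv.ofBijective f hbij (PresentedGroup.of Fi22.Gen.a) = x 0 :=
    PresentedGroup.toGroup.of (f := fun g => x (idx g)) (relators_hold hD hr) (x := Fi22.Gen.a)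
  ext y
  constructor
  · rintro ⟨z, hz, rfl⟩
    obtain ⟨g, rfl⟩ := isConj_iff.1 hz
    rw [map_mul, map_mul, map_inv, ha]
    exact hD.2.1 _ _ (hr.mem 0 (by norm_num))
  · intro hy
    obtain ⟨g, hg⟩ := hp.1 (x 0) (hr.mem 0 (by norm_num)) y hy
    obtain ⟨g', rfl⟩ := (MulEquiv.ofBijective f hbij).surjective g
    refine ⟨g' * PresentedGroup.of Fi22.Gen.a * g'⁻¹, isConj_iff.2 ⟨g', rfl⟩, ?_⟩
    rw [map_mul, map_mul, map_inv, ha, hg]

/-- Isomorphism with the presented group. -/
theorem isoFi22 [Finite G] (hD : IsThreeTranspositionGroup D) (hp : IsPrimitiveUnderConj D)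
    (h22 : IsOfTypeM22 G D) (hr : Rels D x) : IsoFi22 G := by
  obtain ⟨e, -⟩ := exists_iso hD hp h22 hr
  exact ⟨e.symm⟩

/-- Two groups of type M(22) with such members are isomorphic respecting the transpositions. -/
theorem exists_iso_pair {G₂ : Type*} [Group G₂] [Finite G] [Finite G₂] {D₂ : Set G₂} {y : ℕ → G₂}
    (hD : IsThreeTranspositionGroup D) (hp : IsPrimitiveUnderConj D) (h22 : IsOfTypeM22 G D)
    (hr : Rels D x) (hD₂ : IsThreeTranspositionGroup D₂) (hp₂ : IsPrimitiveUnderConj D₂)
    (h22₂ : IsOfTypeM22 G₂ D₂) (hr₂ : Rels D₂ y) : ∃ e : G ≃* G₂, e '' D = D₂ := by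
  obtain ⟨e, he⟩ := exists_iso hD hp h22 hr
  obtain ⟨e₂, he₂⟩ := exists_iso hD₂ hp₂ h22₂ hr₂
  refine ⟨e.symm.trans e₂, ?_⟩
  rw [← he₂, ← he, Set.image_image]
  exact Set.image_congr fun z _ => congrArg e₂ (e.symm_apply_apply z)

end FiIso
end H45
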