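import Mathlib
import Cfsg.Agent.H45.OmegaTools

/-!
# The standard form, signed permutations and their invariants

The sum of squares on `F^n`, the group of signed permutations inside its orthogonal group, and the
subgroups fixing the coordinate vectors outside a given set.
-/

set_option autoImplicit false
set_option linter.unusedSectionVars false

namespace H45
namespace Frame

open H43
open scoped Matrix symmDiff

variable {F : Type*} [Field F] {n : ℕ}

/-- The sum of squares. -/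
noncomputable def qStd (n : ℕ) (F : Type*) [Field F] : QuadraticForm F (Fin n → F) :=
  QuadraticMap.weightedSumSquares F fun _ : Fin n => (1 : F)

lemma qStd_apply (x : Fin n → F) : qStd n F x = x ⬝ᵥ x := by
  simp [qStd, dotProduct]

lemma polB_qStd (x y : Fin n → F) : polB (qStd n F) x y = 2 * (x ⬝ᵥ y) := by
  rw [polB_apply, QuadraticMap.polar, qStd_apply, qStd_apply, qStd_apply, add_dotProduct,
    dotProduct_add, dotProduct_add, dotProduct_comm y x]
  ring

lemma qStd_nondeg (h2 : (2 : F) ≠ 0) : (polB (qStd n F)).Nondegenerate := by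
  have key : ∀ x : Fin n → F, (∀ y, polB (qStd n F) x y = 0) → x = 0 := fun x hx => by
    funext i
    have := hx (Pi.single i 1)
    simpa [polB_qStd, h2] using this
  exact ⟨key, fun x hx => key x fun y => by rw [polB_comm]; exact hx y⟩

/-- The coordinate vectors. -/
def ev (i : Fin n) : Fin n → F := Pi.single i 1

lemma ev_self (i : Fin n) : (ev i : Fin n → F) i = 1 := by simp [ev]

lemma ev_ne {i k : Fin n} (h : k ≠ i) : (ev i : Fin n → F) k = 0 := by simp [ev, h]

lemma ev_dot (i : Fin n) (x : Fin n → F) : ev i ⬝ᵥ x = x i := by simp [ev]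

lemma dot_ev (x : Fin n → F) (i : Fin n) : x ⬝ᵥ ev i = x i := by simp [ev]

lemma q_ev (i : Fin n) : qStd n F (ev i) = 1 := by rw [qStd_apply, ev_dot, ev_self]

lemma ev_ne_zero (i : Fin n) : (ev i : Fin n → F) ≠ 0 := fun h => by
  have := congrFun h i
  simp [ev_self] at this

lemma ev_injective : Function.Injective (ev : Fin n → Fin n → F) := by
  intro i j h
  by_contra hne
  have := congrFun h i
  simp [ev_self, ev_ne hne] at this

lemma ev_eq_neg_ev {i j : Fin n} (h : (ev i : Fin n → F) = -ev j) : i = j := by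
  by_contra hne
  have := congrFun h i
  simp [ev_self, ev_ne hne] at this

lemma sum_ev (x : Fin n → F) : x = ∑ k, x k • ev k := by
  funext j
  simp [ev, Pi.single_apply]

lemma orth_dot (h2 : (2 : F) ≠ 0) (g : orthGroup (qStd n F)) (x y : Fin n → F) :
    g.1 x ⬝ᵥ g.1 y = x ⬝ᵥ y := by
  have := orth_polB_map g x y
  rw [polB_qStd, polB_qStd] at this
  exact mul_left_cancel₀ h2 this

lemma orth_apply_eq (g : orthGroup (qStd n F)) (x : Fin n → F) :
    g.1 x = ∑ k, x k • g.1 (ev k) := by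
  conv_lhs => rw [sum_ev x]
  simp [map_sum, map_smul]

lemma orth_ext_ev {g h : orthGroup (qStd n F)} (H : ∀ k, g.1 (ev k) = h.1 (ev k)) : g = h :=
  orth_ext fun x => by rw [orth_apply_eq g x, orth_apply_eq h x]; simp [H]

/-! ### Reflections in unit vectors -/

lemma refl_unit {z : Fin n → F} (hz : qStd n F z = 1) (x : Fin n → F) :
    (refl (qStd n F) z).1 x = x - (2 * (x ⬝ᵥ z)) • z := by
  rw [refl_apply, hz, inv_one, one_mul, polB_qStd]

lemma refl_ev_apply (a : Fin n) (x : Fin n → F) (k : Fin n) :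
    (refl (qStd n F) (ev a)).1 x k = if k = a then -x k else x k := by
  rw [refl_unit (q_ev a), dot_ev]
  by_cases h : k = a
  · subst h; simp [ev_self]; ring
  · simp [h, ev_ne h]

/-! ### Sign changes -/

/-- The sign change on a set of coordinates, as a linear map. -/
def diagLin (S : Finset (Fin n)) : (Fin n → F) →ₗ[F] (Fin n → F) where
  toFun x k := if k ∈ S then -x k else x k
  map_add' x y := by funext k; simp only [Pi.add_apply]; split_ifs <;> ring
  map_smul' a x := by funext k; simp only [Pi.smul_apply, smul_eq_mul, RingHom.id_apply]; split_ifs <;> ring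

lemma diagLin_invol (S : Finset (Fin n)) : Function.Involutive (diagLin (F := F) S) := by
  intro x; funext k
  show (if k ∈ S then -(if k ∈ S then -x k else x k) else (if k ∈ S then -x k else x k)) = x k
  split_ifs <;> simp

/-- The sign change on a set of coordinates. -/
noncomputable def dg (S : Finset (Fin n)) : orthGroup (qStd n F) :=
  ⟨LinearEquiv.ofInvolutive (diagLin S) (diagLin_invol S), fun x => by
    show qStd n F (fun k => if k ∈ S then -x k else x k) = qStd n F x
    rw [qStd_apply, qStd_apply]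
    refine Finset.sum_congr rfl fun k _ => ?_
    dsimp only
    split_ifs <;> ring⟩

lemma dg_apply (S : Finset (Fin n)) (x : Fin n → F) (k : Fin n) :
    (dg S : orthGroup (qStd n F)).1 x k = if k ∈ S then -x k else x k := rfl

lemma dg_ev (S : Finset (Fin n)) (i : Fin n) :
    (dg S : orthGroup (qStd n F)).1 (ev i : Fin n → F) = if i ∈ S then -ev i else ev i := by
  funext k
  rw [dg_apply]
  rcases eq_or_ne k i with rfl | h
  · split_ifs <;> simp [ev_self]
  · split_ifs <;> simp [ev_ne h]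

lemma dg_empty : (dg ∅ : orthGroup (qStd n F)) = 1 :=
  orth_ext fun x => funext fun k => by rw [dg_apply]; simp [orth_one_apply]

lemma dg_mul (S T : Finset (Fin n)) : (dg S * dg T : orthGroup (qStd n F)) = dg (S ∆ T) := by
  refine orth_ext fun x => funext fun k => ?_
  rw [orth_mul_apply, dg_apply, dg_apply, dg_apply]
  by_cases h1 : k ∈ S <;> by_cases h2 : k ∈ T <;> simp [h1, h2, Finset.mem_symmDiff]

lemma dg_sq (S : Finset (Fin n)) : (dg S * dg S : orthGroup (qStd n F)) = 1 := by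
  rw [dg_mul, symmDiff_self, ← dg_empty]; rfl

lemma dg_inv (S : Finset (Fin n)) : (dg S : orthGroup (qStd n F))⁻¹ = dg S :=
  inv_eq_of_mul_eq_one_left (dg_sq S)

lemma dg_comm (S T : Finset (Fin n)) : (dg S * dg T : orthGroup (qStd n F)) = dg T * dg S := by
  rw [dg_mul, dg_mul, symmDiff_comm]

lemma dg_injective (h2 : (2 : F) ≠ 0) :
    Function.Injective (dg : Finset (Fin n) → orthGroup (qStd n F)) := by
  intro S T h
  ext k
  have hk : (dg S : orthGroup (qStd n F)).1 (ev k : Fin n → F) k = (dg T : orthGroup (qStd n F)).1 (ev k) k := by rw [h]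
  rw [dg_apply, dg_apply, ev_self] at hk
  have hne : (-1 : F) ≠ 1 := fun hh => h2 (by linear_combination -hh)
  by_cases h1 : k ∈ S <;> by_cases h3 : k ∈ T <;> simp [h1, h3] at hk ⊢
  · exact hne hk
  · exact hne hk.symm

lemma refl_ev_eq_dg (a : Fin n) : refl (qStd n F) (ev a) = dg {a} :=
  orth_ext fun x => funext fun k => by rw [refl_ev_apply, dg_apply]; simp

/-! ### Permutations of the coordinates -/

/-- A permutation of the coordinates. -/
noncomputable def pm (σ : Equiv.Perm (Fin n)) : orthGroup (qStd n F) :=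
  ⟨LinearEquiv.funCongrLeft F F σ.symm, fun x => by
    show qStd n F (fun k => x (σ.symm k)) = qStd n F x
    rw [qStd_apply, qStd_apply]
    exact Equiv.sum_comp σ.symm fun k => x k * x k⟩

lemma pm_apply (σ : Equiv.Perm (Fin n)) (x : Fin n → F) (k : Fin n) :
    (pm σ : orthGroup (qStd n F)).1 x k = x (σ.symm k) := rfl

lemma pm_ev (σ : Equiv.Perm (Fin n)) (i : Fin n) :
    (pm σ : orthGroup (qStd n F)).1 (ev i : Fin n → F) = ev (σ i) := by
  funext k
  rw [pm_apply]
  rcases eq_or_ne k (σ i) with rfl | h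
  · simp [ev_self]
  · rw [ev_ne h, ev_ne]
    exact fun e => h (by rw [← e, Equiv.apply_symm_apply])

lemma pm_mul (σ τ : Equiv.Perm (Fin n)) : (pm (σ * τ) : orthGroup (qStd n F)) = pm σ * pm τ :=
  orth_ext_ev fun k => by rw [orth_mul_apply, pm_ev, pm_ev, pm_ev, Equiv.Perm.mul_apply]

lemma pm_one : (pm 1 : orthGroup (qStd n F)) = 1 :=
  orth_ext_ev fun k => by rw [pm_ev, orth_one_apply]; rfl

lemma pm_dg (σ : Equiv.Perm (Fin n)) (S : Finset (Fin n)) :
    (pm σ * dg S : orthGroup (qStd n F)) = dg (S.map σ.toEmbedding) * pm σ := by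
  refine orth_ext_ev fun k => ?_
  rw [orth_mul_apply, orth_mul_apply, dg_ev, pm_ev, dg_ev]
  by_cases h : k ∈ S
  · simp [h, map_neg, pm_ev]
  · simp [h, pm_ev]

lemma pm_swap (h2 : (2 : F) ≠ 0) {a b : Fin n} (hab : a ≠ b) :
    (pm (Equiv.swap a b) : orthGroup (qStd n F)) = refl (qStd n F) (ev a - ev b) := by
  have hq : qStd n F (ev a - ev b) = 2 := by
    rw [qmap_sub, q_ev, q_ev, polB_qStd, ev_dot, ev_ne hab]; ring
  refine orth_ext_ev fun k => ?_
  rw [pm_ev, refl_apply, hq, polB_qStd, dotProduct_sub, dot_ev, dot_ev, ← mul_assoc,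
    inv_mul_cancel₀ h2, one_mul]
  rcases eq_or_ne k a with rfl | ha
  · rw [Equiv.swap_apply_left, ev_self, ev_ne hab.symm]; simp
  rcases eq_or_ne k b with rfl | hb
  · rw [Equiv.swap_apply_right, ev_self, ev_ne hab]; simp
  · rw [Equiv.swap_apply_of_ne_of_ne ha hb, ev_ne ha.symm, ev_ne hb.symm]; simp

/-! ### Invariants -/

section invariants

variable [Fintype F]

lemma invHom_refl_ev (h2 : (2 : F) ≠ 0) (a : Fin n) :
    invHom (qStd_nondeg (n := n) h2) (reflGenerates_of_two_ne_zero h2) (refl (qStd n F) (ev a)) =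
      (Multiplicative.ofAdd 1, 1) := by
  rw [invHom_refl _ _ (by rw [q_ev]; exact one_ne_zero), q_ev, sqc_one]

lemma invHom_dg (h2 : (2 : F) ≠ 0) (S : Finset (Fin n)) :
    invHom (qStd_nondeg (n := n) h2) (reflGenerates_of_two_ne_zero h2) (dg S) =
      (Multiplicative.ofAdd (S.card : ZMod 2), 1) := by
  induction S using Finset.induction_on with
  | empty => rw [dg_empty, map_one]; simp; rfl
  | insert a S ha ih =>
    have h : (dg (insert a S) : orthGroup (qStd n F)) = refl (qStd n F) (ev a) * dg S := by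
      rw [refl_ev_eq_dg, dg_mul]
      congr 1
      ext k
      by_cases hk : k = a <;> simp [Finset.mem_symmDiff, hk, ha]
    rw [h, map_mul, invHom_refl_ev h2, ih, Finset.card_insert_of_notMem ha]
    refine Prod.ext ?_ (mul_one _)
    show Multiplicative.ofAdd (1 : ZMod 2) * Multiplicative.ofAdd (S.card : ZMod 2) = _
    rw [← ofAdd_add, add_comm]
    simp

lemma dg_mem_commutator (h2 : (2 : F) ≠ 0) (hn : 2 ≤ n) {S : Finset (Fin n)} (hS : Even S.card) :
    (dg S : orthGroup (qStd n F)) ∈ commutator (orthGroup (qStd n F)) := by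
  rw [commutator_eq_invKer (qStd_nondeg h2) (reflGenerates_of_two_ne_zero h2)
    (by rw [Module.finrank_fin_fun]; exact hn), MonoidHom.mem_ker, invHom_dg h2]
  rw [(ZMod.natCast_eq_zero_iff_even).mpr hS]
  rfl

lemma pm_mem_commutator (h2 : (2 : F) ≠ 0) (hn : 2 ≤ n) {σ : Equiv.Perm (Fin n)}
    (hσ : Equiv.Perm.sign σ = 1) :
    (pm σ : orthGroup (qStd n F)) ∈ commutator (orthGroup (qStd n F)) := by
  have hQ := qStd_nondeg (F := F) (n := n) h2
  have hgen := reflGenerates_of_two_ne_zero (F := F) (V := Fin n → F) h2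
  set s : Multiplicative (ZMod 2) × SqClass F := (Multiplicative.ofAdd 1, sqc 2)
  have hs : s * s = 1 := Prod.ext (by show Multiplicative.ofAdd (1 : ZMod 2) * Multiplicative.ofAdd 1 = 1; rfl)
    (sqClass_mul_self _)
  have key : ∀ τ : Equiv.Perm (Fin n), invHom hQ hgen (pm τ) =
      if Equiv.Perm.sign τ = 1 then 1 else s := by
    intro τ
    induction τ using Equiv.Perm.swap_induction_on with
    | one => rw [pm_one, map_one]; simp
    | swap_mul τ a b hab ih =>
      have hq : qStd n F (ev a - ev b) = 2 := by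
        rw [qmap_sub, q_ev, q_ev, polB_qStd, ev_dot, ev_ne hab]; ring
      rw [pm_mul, map_mul, ih, pm_swap h2 hab, invHom_refl hQ hgen (by rw [hq]; exact h2), hq,
        Equiv.Perm.sign_mul, Equiv.Perm.sign_swap hab]
      rcases Int.units_eq_one_or (Equiv.Perm.sign τ) with h | h <;> rw [h]
      · simp [s]
      · rw [if_neg (by decide), if_pos (by decide)]
        exact hs
  rw [commutator_eq_invKer hQ hgen (by rw [Module.finrank_fin_fun]; exact hn), MonoidHom.mem_ker,
    key, if_pos hσ]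

end invariants

/-! ### Signed permutations -/

/-- The signed permutations. -/
def Mon (n : ℕ) (F : Type*) [Field F] : Subgroup (orthGroup (qStd n F)) where
  carrier := {g | ∃ (σ : Equiv.Perm (Fin n)) (S : Finset (Fin n)), g = dg S * pm σ}
  mul_mem' := by
    rintro a b ⟨σ, S, rfl⟩ ⟨τ, T, rfl⟩
    refine ⟨σ * τ, S ∆ T.map σ.toEmbedding, ?_⟩
    rw [← dg_mul, pm_mul, mul_assoc (dg S), ← mul_assoc (pm σ), pm_dg]
    simp only [mul_assoc]
  one_mem' := ⟨1, ∅, by rw [dg_empty, pm_one, one_mul]⟩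
  inv_mem' := by
    rintro a ⟨σ, S, rfl⟩
    refine ⟨σ⁻¹, S.map (σ⁻¹).toEmbedding, ?_⟩
    have h : (pm σ : orthGroup (qStd n F))⁻¹ = pm σ⁻¹ :=
      inv_eq_of_mul_eq_one_left (by rw [← pm_mul, inv_mul_cancel, pm_one])
    rw [mul_inv_rev, dg_inv, h, pm_dg]

lemma dg_mem_mon (S : Finset (Fin n)) : (dg S : orthGroup (qStd n F)) ∈ Mon n F :=
  ⟨1, S, by rw [pm_one, mul_one]⟩

lemma pm_mem_mon (σ : Equiv.Perm (Fin n)) : (pm σ : orthGroup (qStd n F)) ∈ Mon n F :=
  ⟨σ, ∅, by rw [dg_empty, one_mul]⟩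

lemma dg_pm_ev (S : Finset (Fin n)) (σ : Equiv.Perm (Fin n)) (k : Fin n) :
    (dg S * pm σ : orthGroup (qStd n F)).1 (ev k) = if σ k ∈ S then -ev (σ k) else ev (σ k) := by
  rw [orth_mul_apply, pm_ev, dg_ev]

/-- Images of coordinate vectors up to sign determine membership. -/
lemma mem_mon_of_forall {g : orthGroup (qStd n F)}
    (h : ∀ i, ∃ j, g.1 (ev i) = ev j ∨ g.1 (ev i) = -ev j) : g ∈ Mon n F := by
  classical
  choose σ hσ using h
  have hinj : Function.Injective σ := by
    intro a b hab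
    have hg := g.1.injective
    rcases hσ a with h1 | h1 <;> rcases hσ b with h3 | h3
    · exact ev_injective (hg (h1.trans (hab ▸ h3.symm)))
    · exact ev_eq_neg_ev (hg (by rw [map_neg, h3, h1, hab, neg_neg]))
    · exact (ev_eq_neg_ev (hg (by rw [map_neg, h1, h3, hab, neg_neg]))).symm
    · exact ev_injective (hg (h1.trans (hab ▸ h3.symm)))
  let τ := Equiv.ofBijective σ (Finite.injective_iff_bijective.mp hinj)
  refine ⟨τ, (Finset.univ.filter fun i => g.1 (ev i) = -ev (σ i)).map τ.toEmbedding, ?_⟩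
  refine orth_ext_ev fun k => ?_
  rw [dg_pm_ev]
  have hm : τ k ∈ (Finset.univ.filter fun i => g.1 (ev i) = -ev (σ i)).map τ.toEmbedding ↔
      g.1 (ev k) = -ev (σ k) := by simp
  by_cases hc : g.1 (ev k) = -ev (σ k)
  · rw [if_pos (hm.mpr hc), hc]; rfl
  · rw [if_neg (fun e => hc (hm.mp e)), (hσ k).resolve_right hc]; rfl

lemma exists_image_of_mem_mon {g : orthGroup (qStd n F)} (hg : g ∈ Mon n F) (i : Fin n) :
    ∃ j, g.1 (ev i) = ev j ∨ g.1 (ev i) = -ev j := by
  obtain ⟨σ, S, rfl⟩ := hg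
  refine ⟨σ i, ?_⟩
  rw [dg_pm_ev]
  split_ifs <;> simp

open Classical in
/-- The permutation underlying a signed permutation. -/
noncomputable def pr (g : orthGroup (qStd n F)) : Equiv.Perm (Fin n) :=
  if h : g ∈ Mon n F then h.choose else 1

lemma pr_dg_pm (S : Finset (Fin n)) (σ : Equiv.Perm (Fin n)) :
    pr (dg S * pm σ : orthGroup (qStd n F)) = σ := by
  have h : (dg S * pm σ : orthGroup (qStd n F)) ∈ Mon n F := ⟨σ, S, rfl⟩
  obtain ⟨T, hT⟩ := h.choose_spec
  rw [pr, dif_pos h]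
  refine Equiv.ext fun k => ?_
  have e := congrArg (fun g : orthGroup (qStd n F) => g.1 (ev k)) hT
  simp only [dg_pm_ev] at e
  split_ifs at e
  · exact (ev_injective (neg_injective e)).symm
  · exact (ev_eq_neg_ev e.symm)
  · exact (ev_eq_neg_ev e).symm
  · exact (ev_injective e).symm

lemma pr_spec {g : orthGroup (qStd n F)} (hg : g ∈ Mon n F) : ∃ S, g = dg S * pm (pr g) := by
  obtain ⟨σ, S, rfl⟩ := hg
  exact ⟨S, by rw [pr_dg_pm]⟩

lemma pr_ev {g : orthGroup (qStd n F)} (hg : g ∈ Mon n F) (k : Fin n) :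
    g.1 (ev k) = ev (pr g k) ∨ g.1 (ev k) = -ev (pr g k) := by
  obtain ⟨S, hS⟩ := pr_spec hg
  rw [hS, dg_pm_ev, pr_dg_pm]
  split_ifs <;> simp

lemma pr_mul {g h : orthGroup (qStd n F)} (hg : g ∈ Mon n F) (hh : h ∈ Mon n F) :
    pr (g * h) = pr g * pr h := by
  obtain ⟨σ, S, rfl⟩ := hg
  obtain ⟨τ, T, rfl⟩ := hh
  have : (dg S * pm σ * (dg T * pm τ) : orthGroup (qStd n F)) =
      dg (S ∆ T.map σ.toEmbedding) * pm (σ * τ) := by
    rw [← dg_mul, pm_mul, mul_assoc (dg S), ← mul_assoc (pm σ), pm_dg]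
    simp only [mul_assoc]
  rw [this, pr_dg_pm, pr_dg_pm, pr_dg_pm]

lemma pr_dg (S : Finset (Fin n)) : pr (dg S : orthGroup (qStd n F)) = 1 := by
  have := pr_dg_pm (F := F) S 1
  rwa [pm_one, mul_one] at this

lemma pr_pm (σ : Equiv.Perm (Fin n)) : pr (pm σ : orthGroup (qStd n F)) = σ := by
  have := pr_dg_pm (F := F) ∅ σ
  rwa [dg_empty, one_mul] at this

lemma eq_dg_of_pr {g : orthGroup (qStd n F)} (hg : g ∈ Mon n F) (h : pr g = 1) : ∃ S, g = dg S := by
  obtain ⟨S, hS⟩ := pr_spec hg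
  exact ⟨S, by rw [hS, h, pm_one, mul_one]⟩

lemma pr_conj {g h : orthGroup (qStd n F)} (hg : g ∈ Mon n F) (hh : h ∈ Mon n F) :
    pr (g * h * g⁻¹) = pr g * pr h * (pr g)⁻¹ := by
  have e : pr g⁻¹ = (pr g)⁻¹ := by
    refine eq_inv_of_mul_eq_one_left ?_
    rw [← pr_mul (inv_mem hg) hg, inv_mul_cancel, ← dg_empty, pr_dg]
  rw [pr_mul (mul_mem hg hh) (inv_mem hg), pr_mul hg hh, e]

lemma mon_conj_dg {g : orthGroup (qStd n F)} (hg : g ∈ Mon n F) (S : Finset (Fin n)) :
    g * dg S * g⁻¹ = dg (S.map (pr g).toEmbedding) := by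
  obtain ⟨σ, T, rfl⟩ := hg
  rw [pr_dg_pm, mul_assoc (dg T) (pm σ), pm_dg, mul_inv_rev, ← mul_assoc (dg T), mul_assoc,
    mul_inv_cancel_left, dg_comm, dg_inv, mul_assoc, dg_sq, mul_one]

/-! ### The subgroups fixing coordinate vectors -/

/-- The isometries fixing the coordinate vectors outside a set. -/
def Fx (L : Finset (Fin n)) : Subgroup (orthGroup (qStd n F)) where
  carrier := {g | ∀ k, k ∉ L → g.1 (ev k) = ev k}
  mul_mem' {a b} ha hb k hk := by rw [orth_mul_apply, hb k hk, ha k hk]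
  one_mem' k _ := rfl
  inv_mem' {a} ha k hk := by
    conv_lhs => rw [← ha k hk]
    exact orth_inv_apply_self a _

/-- Vanishing outside a set. -/
def Sup (L : Finset (Fin n)) (x : Fin n → F) : Prop := ∀ k, k ∉ L → x k = 0

lemma mem_fx {L : Finset (Fin n)} {g : orthGroup (qStd n F)} :
    g ∈ Fx L ↔ ∀ k, k ∉ L → g.1 (ev k) = ev k := Iff.rfl

lemma fx_mono {L L' : Finset (Fin n)} (h : L ⊆ L') : (Fx L : Subgroup (orthGroup (qStd n F))) ≤ Fx L' :=
  fun _ hg k hk => hg k fun hk' => hk (h hk')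

lemma sup_ev {L : Finset (Fin n)} {i : Fin n} (hi : i ∈ L) : Sup L (ev i : Fin n → F) :=
  fun _ hk => ev_ne fun e => hk (e ▸ hi)

lemma sup_fx (h2 : (2 : F) ≠ 0) {L : Finset (Fin n)} {g : orthGroup (qStd n F)} (hg : g ∈ Fx L)
    {x : Fin n → F} (hx : Sup L x) : Sup L (g.1 x) := fun k hk => by
  rw [← dot_ev (g.1 x) k, ← hg k hk, orth_dot h2, dot_ev, hx k hk]

lemma fx_fix {P : Finset (Fin n)} {g : orthGroup (qStd n F)} (hg : g ∈ Fx P)
    {x : Fin n → F} (hx : ∀ k ∈ P, x k = 0) : g.1 x = x := by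
  rw [orth_apply_eq g x]
  conv_rhs => rw [sum_ev x]
  refine Finset.sum_congr rfl fun k _ => ?_
  by_cases hk : k ∈ P
  · rw [hx k hk, zero_smul, zero_smul]
  · rw [hg k hk]

lemma dg_mem_fx {L S : Finset (Fin n)} (h : S ⊆ L) : (dg S : orthGroup (qStd n F)) ∈ Fx L :=
  fun k hk => by rw [dg_ev, if_neg fun hk' => hk (h hk')]

lemma pm_mem_fx {L : Finset (Fin n)} {σ : Equiv.Perm (Fin n)} (h : ∀ k, k ∉ L → σ k = k) :
    (pm σ : orthGroup (qStd n F)) ∈ Fx L :=
  fun k hk => by rw [pm_ev, h k hk]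

lemma pr_fix {L : Finset (Fin n)} {g : orthGroup (qStd n F)} (hg : g ∈ Mon n F) (hL : g ∈ Fx L)
    {k : Fin n} (hk : k ∉ L) : pr g k = k := by
  rcases pr_ev hg k with h | h <;> rw [hL k hk] at h
  · exact (ev_injective h).symm
  · exact (ev_eq_neg_ev h).symm

lemma subset_of_dg_mem_fx (h2 : (2 : F) ≠ 0) {L S : Finset (Fin n)}
    (h : (dg S : orthGroup (qStd n F)) ∈ Fx L) : S ⊆ L := by
  intro k hk
  by_contra hkL
  have := congrFun (h k hkL) k
  rw [dg_apply, if_pos hk, ev_self] at this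
  exact h2 (by linear_combination -this)

/-- The frame stabiliser in the commutator subgroup. -/
noncomputable def HS (n : ℕ) (F : Type*) [Field F] : Subgroup (orthGroup (qStd n F)) :=
  Mon n F ⊓ commutator (orthGroup (qStd n F))

lemma dg_mem_HS [Fintype F] (h2 : (2 : F) ≠ 0) (hn : 2 ≤ n) {S : Finset (Fin n)}
    (hS : Even S.card) : (dg S : orthGroup (qStd n F)) ∈ HS n F :=
  ⟨dg_mem_mon S, dg_mem_commutator h2 hn hS⟩

lemma pm_mem_HS [Fintype F] (h2 : (2 : F) ≠ 0) (hn : 2 ≤ n) {σ : Equiv.Perm (Fin n)}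
    (hσ : Equiv.Perm.sign σ = 1) : (pm σ : orthGroup (qStd n F)) ∈ HS n F :=
  ⟨pm_mem_mon σ, pm_mem_commutator h2 hn hσ⟩

end Frame
end H45
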