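import Mathlib
import Cfsg.Agent.H45.OmegaTools

/-!
# Rotation groups of a three-dimensional non-degenerate subspace

The stabiliser of a non-isotropic vector among the rotations is abelian and cyclic when finite, is
inverted by what maps the vector to its negative, and two unipotent rotations with different fixed
lines act transitively on the unit vectors when the field has prime order.
-/

set_option autoImplicit false
set_option linter.unusedSectionVars false

namespace H45
namespace Frame

open H43

variable {F : Type*} [Field F] {V : Type*} [AddCommGroup V] [Module F V] [FiniteDimensional F V]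
  {Q : QuadraticForm F V}

lemma resid_refl_inv_of_finrank_one (hQ : (polB Q).Nondegenerate) (h2 : (2 : F) ≠ 0)
    {g : orthGroup Q} (h : Module.finrank F (resid g) = 1) : g * g = 1 := by
  obtain ⟨q, hq, hq0⟩ := Submodule.exists_mem_ne_zero_of_ne_bot (p := resid g) (fun e => by
    rw [e, finrank_bot] at h; omega)
  have hspan : ∀ y ∈ resid g, ∃ c : F, c • q = y := fun y hy => by
    obtain ⟨c, hc⟩ := (finrank_eq_one_iff_of_nonzero' (⟨q, hq⟩ : resid g)
      (fun e => hq0 (congrArg Subtype.val e))).mp h ⟨y, hy⟩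
    exact ⟨c, congrArg Subtype.val hc⟩
  have hker : ∀ x, polB Q x q = 0 → g.1 x = x := by
    intro x hx
    rw [← mem_ker_resMap, ← LinearMap.BilinForm.orthogonal_orthogonal hQ (polB_isRefl Q)
      (LinearMap.ker (resMap g)), ← resid_eq_orth_fixed hQ g, mem_orth_iff]
    intro y hy
    obtain ⟨c, rfl⟩ := hspan y hy
    rw [map_smul, LinearMap.smul_apply, polB_comm, hx, smul_zero]
  obtain ⟨x0, hx0⟩ := hq
  have hQq : Q q ≠ 0 := by
    intro h0
    have h1 := qmap_resMap g x0
    rw [hx0, h0] at h1
    have h3 := hker x0 h1.symm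
    exact hq0 (by rw [← hx0, resMap_apply, h3, sub_self])
  obtain ⟨c, hc⟩ := hspan _ (resMap_mem g q)
  have hgq : g.1 q = (1 - c) • q := by
    rw [resMap_apply] at hc
    rw [sub_smul, one_smul, hc, sub_sub_cancel]
  have hne : (1 - c) ≠ 1 := by
    intro h1
    rw [h1, one_smul] at hgq
    have h3 : polB Q q q = 0 := polB_fixed_resid hgq ⟨x0, hx0⟩
    rw [polB_self, mul_eq_zero] at h3
    exact h2 (h3.resolve_right hQq)
  have hsq : (1 - c) * (1 - c) = 1 := by
    have := orth_qmap g q
    rw [hgq, qmap_smul] at this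
    exact mul_right_cancel₀ hQq (this.trans (one_mul _).symm)
  have hneg : g.1 q = -q := by
    rw [hgq, (mul_self_eq_one_iff.mp hsq).resolve_left hne, neg_one_smul]
  refine orth_ext fun x => ?_
  rw [orth_mul_apply, orth_one_apply]
  obtain ⟨a, ha⟩ := hspan _ (resMap_mem g x)
  have hgx : g.1 x = x - a • q := by rw [ha, resMap_apply, sub_sub_cancel]
  rw [hgx, map_sub, map_smul, hgx, hneg, smul_neg]
  abel

section rot

variable [Finite F] (U : Submodule F V)

/-- The rotations of `U`. -/
def Rot (Q : QuadraticForm F V) (U : Submodule F V) (g : orthGroup Q) : Prop :=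
  (∀ y ∈ (polB Q).orthogonal U, g.1 y = y) ∧ dickson g = 1

variable (hQ : (polB Q).Nondegenerate) (h2 : (2 : F) ≠ 0)
  (hU : U ⊓ (polB Q).orthogonal U = ⊥) (hU3 : Module.finrank F U = 3)

include hQ h2 hU hU3

omit [Finite F] in
lemma rot_ext {g h : orthGroup Q} (hg : ∀ y ∈ (polB Q).orthogonal U, g.1 y = y)
    (hh : ∀ y ∈ (polB Q).orthogonal U, h.1 y = y) (H : ∀ y ∈ U, g.1 y = h.1 y) : g = h := by
  have htop : U ⊔ (polB Q).orthogonal U = ⊤ := by
    apply Submodule.eq_top_of_finrank_eq
    have h1 := Submodule.finrank_sup_add_finrank_inf_eq U ((polB Q).orthogonal U)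
    rw [hU, finrank_bot] at h1
    have h3 := finrank_orth_add hQ U
    omega
  refine orth_ext fun x => ?_
  obtain ⟨u, hu, y, hy, rfl⟩ := Submodule.mem_sup.mp (htop ▸ Submodule.mem_top (x := x))
  rw [map_add, map_add, H u hu, hg y hy, hh y hy]

omit [Finite F] in
lemma rot_maps {g : orthGroup Q} (hg : ∀ y ∈ (polB Q).orthogonal U, g.1 y = y) {u : V}
    (hu : u ∈ U) : g.1 u ∈ U := by
  rw [← LinearMap.BilinForm.orthogonal_orthogonal hQ (polB_isRefl Q) U, mem_orth_iff]
  intro y hy
  rw [← hg y hy, orth_polB_map, polB_comm]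
  exact hy u hu

omit [Finite F] in
lemma rot_resid_le {g : orthGroup Q} (hg : ∀ y ∈ (polB Q).orthogonal U, g.1 y = y) :
    resid g ≤ U := by
  intro x hx
  rw [← LinearMap.BilinForm.orthogonal_orthogonal hQ (polB_isRefl Q) U, mem_orth_iff]
  exact fun y hy => polB_fixed_resid (hg y hy) hx

omit [Finite F] in
lemma finrank_resid_rot_le {g : orthGroup Q} (hg : Rot Q U g) :
    Module.finrank F (resid g) = 0 ∨ Module.finrank F (resid g) = 2 := by
  have h1 := Submodule.finrank_mono (rot_resid_le U hQ h2 hU hU3 hg.1)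
  rw [hU3] at h1
  have h := hg.2
  rw [dickson] at h
  have h0 : (Module.finrank F (resid g) : ZMod 2) = 0 := h
  obtain ⟨r, hr⟩ := (ZMod.natCast_eq_zero_iff_even).mp h0
  omega

omit [Finite F] in
/-- A rotation has an axis. -/
lemma exists_axis {g : orthGroup Q} (hg : Rot Q U g) : ∃ a ∈ U, a ≠ 0 ∧ g.1 a = a := by
  have hle : Module.finrank F (LinearMap.range ((resMap g).comp U.subtype)) ≤ 2 := by
    refine le_trans (Submodule.finrank_mono ?_)
      (show Module.finrank F (resid g) ≤ 2 by
        rcases finrank_resid_rot_le U hQ h2 hU hU3 hg with h | h <;> omega)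
    rintro _ ⟨u, rfl⟩
    exact resMap_mem g u.1
  have hdim := ((resMap g).comp U.subtype).finrank_range_add_finrank_ker
  rw [hU3] at hdim
  obtain ⟨u, hu, hu0⟩ := Submodule.exists_mem_ne_zero_of_ne_bot
    (p := LinearMap.ker ((resMap g).comp U.subtype)) (fun e => by
      rw [e, finrank_bot] at hdim; omega)
  refine ⟨u.1, u.2, fun e => hu0 (Subtype.ext e), ?_⟩
  exact mem_ker_resMap.mp hu

omit [Finite F] in
/-- The axis is unique. -/
lemma axis_unique {g : orthGroup Q} (hg : Rot Q U g) (hne : g ≠ 1) {a b : V} (ha : a ∈ U)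
    (ha0 : a ≠ 0) (hga : g.1 a = a) (hb : b ∈ U) (hgb : g.1 b = b) : ∃ c : F, b = c • a := by
  by_contra hcon
  push Not at hcon
  have h2' : Module.finrank F (resid g) = 2 :=
    (finrank_resid_rot_le U hQ h2 hU hU3 hg).resolve_left fun h =>
      hne (eq_one_of_resid_eq_bot (Submodule.finrank_eq_zero.mp h))
  let K := Submodule.span F ({a, b} : Set V)
  have hli : LinearIndependent F ![a, b] :=
    (LinearIndependent.pair_iff' ha0).mpr fun c hc => hcon c hc.symm
  have hK2 : Module.finrank F K = 2 := by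
    have := finrank_span_eq_card hli
    rwa [Matrix.range_cons, Matrix.range_cons, Matrix.range_empty, Set.union_empty,
      Set.singleton_union, Fintype.card_fin] at this
  have hKU : K ≤ U := Submodule.span_le.mpr fun x hx => by
    rcases hx with rfl | rfl <;> assumption
  have hperp : resid g ≤ (polB Q).orthogonal K := by
    intro x hx
    rw [mem_orth_iff]
    intro y hy
    induction hy using Submodule.span_induction with
    | mem y hy =>
      rcases hy with rfl | rfl
      · exact polB_fixed_resid hga hx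
      · exact polB_fixed_resid hgb hx
    | zero => simp
    | add y z _ _ hy hz => rw [map_add, LinearMap.add_apply, hy, hz, add_zero]
    | smul c y _ hy => rw [map_smul, LinearMap.smul_apply, hy, smul_zero]
  have h4 : resid g ⊔ (polB Q).orthogonal U ≤ (polB Q).orthogonal K :=
    sup_le hperp fun x hx y hy => hx y (hKU hy)
  have h5 := Submodule.finrank_sup_add_finrank_inf_eq (resid g) ((polB Q).orthogonal U)
  rw [(eq_bot_iff.mpr (hU ▸ inf_le_inf_right _ (rot_resid_le U hQ h2 hU hU3 hg.1)) :
    resid g ⊓ (polB Q).orthogonal U = ⊥), finrank_bot, h2'] at h5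
  have h6 := Submodule.finrank_mono h4
  have h7 := finrank_orth_add hQ U
  have h8 := finrank_orth_add hQ K
  omega

omit [Finite F] in
lemma rot_axis_mul {g : orthGroup Q} (hg : ∀ y ∈ (polB Q).orthogonal U, g.1 y = y)
    (hd : dickson g = Multiplicative.ofAdd 1) {a : V} (ha : a ∈ U) (ha0 : Q a ≠ 0)
    (hga : g.1 a = a) : g * g = 1 := by
  refine resid_refl_inv_of_finrank_one hQ h2 ?_
  have h1 : (Module.finrank F (resid g) : ZMod 2) = 1 := hd
  have hle : resid g < U := by
    refine lt_of_le_of_ne (rot_resid_le U hQ h2 hU hU3 hg) fun e => ?_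
    have := polB_fixed_resid hga (e ▸ ha : a ∈ resid g)
    rw [polB_self] at this
    exact ha0 ((mul_eq_zero.mp this).resolve_left h2)
  have h3 := Submodule.finrank_lt_finrank_of_lt hle
  rw [hU3] at h3
  interval_cases hr : Module.finrank F (resid g)
  · exact absurd h1 (by decide)
  · rfl
  · exact absurd h1 (by decide)

omit [Finite F] in
lemma exists_perp_two (x y : V) :
    ∃ q ∈ U, q ≠ 0 ∧ polB Q q x = 0 ∧ polB Q q y = 0 := by
  let f : U →ₗ[F] F × F :=
    (((polB Q).flip x).comp U.subtype).prod (((polB Q).flip y).comp U.subtype)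
  have h1 := f.finrank_range_add_finrank_ker
  have h3 := (LinearMap.range f).finrank_le
  rw [Module.finrank_prod, Module.finrank_self] at h3
  rw [hU3] at h1
  obtain ⟨q, hq, hq0⟩ := Submodule.exists_mem_ne_zero_of_ne_bot (p := LinearMap.ker f)
    (fun e => by rw [e, finrank_bot] at h1; omega)
  exact ⟨q.1, q.2, fun e => hq0 (Subtype.ext e), congrArg Prod.fst (LinearMap.mem_ker.mp hq),
    congrArg Prod.snd (LinearMap.mem_ker.mp hq)⟩

omit [Finite F] in
lemma exists_pair {q : V} (hq : q ∈ U) (hq0 : q ≠ 0) : ∃ y ∈ U, polB Q q y ≠ 0 := by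
  by_contra h
  push Not at h
  have : q ∈ U ⊓ (polB Q).orthogonal U := ⟨hq, fun y hy => by
    show polB Q y q = 0
    rw [polB_comm]; exact h y hy⟩
  rw [hU] at this
  exact hq0 ((Submodule.mem_bot F).mp this)

omit [Finite F] in
/-- An orthogonal basis of `U` containing a given vector. -/
lemma exists_orth_frame {a : V} (ha : a ∈ U) (ha0 : Q a ≠ 0) :
    ∃ p ∈ U, ∃ q ∈ U, Q p ≠ 0 ∧ Q q ≠ 0 ∧ polB Q p a = 0 ∧ polB Q q a = 0 ∧ polB Q p q = 0 ∧
      ∀ y ∈ U, ∃ x₁ x₂ x₃ : F, y = x₁ • a + x₂ • p + x₃ • q := by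
  obtain ⟨q₁, hq₁, hq₁0, hq₁a, -⟩ := exists_perp_two U hQ h2 hU hU3 a a
  obtain ⟨p, hp, hpa, hp0⟩ : ∃ p ∈ U, polB Q p a = 0 ∧ Q p ≠ 0 := by
    by_cases h : Q q₁ = 0
    · obtain ⟨y, hy, hy1⟩ := exists_pair U hQ h2 hU hU3 hq₁ hq₁0
      have haa : polB Q a a ≠ 0 := by rw [polB_self]; exact mul_ne_zero h2 ha0
      set y' := y - (polB Q y a / polB Q a a) • a with hy'
      have hy'a : polB Q y' a = 0 := by
        rw [hy', map_sub, map_smul, LinearMap.sub_apply, LinearMap.smul_apply, smul_eq_mul,
          div_mul_cancel₀ _ haa, sub_self]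
      have hpair : polB Q y' q₁ = polB Q q₁ y := by
        rw [hy', map_sub, map_smul, LinearMap.sub_apply, LinearMap.smul_apply, polB_comm a q₁,
          hq₁a, smul_zero, sub_zero, polB_comm]
      set t := (1 - Q y') / polB Q y' q₁ with ht
      refine ⟨y' + t • q₁, U.add_mem (U.sub_mem hy (U.smul_mem _ ha)) (U.smul_mem _ hq₁), ?_, ?_⟩
      · rw [map_add, map_smul, LinearMap.add_apply, LinearMap.smul_apply, hy'a, hq₁a, smul_zero,
          add_zero]
      · rw [qmap_add_smul, h, mul_zero, add_zero, ht, div_mul_cancel₀ _ (by rw [hpair]; exact hy1)]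
        simp
    · exact ⟨q₁, hq₁, hq₁a, h⟩
  obtain ⟨q, hq, hq0, hqa, hqp⟩ := exists_perp_two U hQ h2 hU hU3 a p
  have hind : LinearIndependent F ![a, p, q] := by
    rw [Fintype.linearIndependent_iff]
    intro c hc
    simp only [Fin.sum_univ_three, Matrix.cons_val_zero, Matrix.cons_val_one, Matrix.cons_val] at hc
    have e0 : c 0 = 0 := by
      have := congrArg (fun z => polB Q z a) hc
      simp only [map_add, map_smul, LinearMap.add_apply, LinearMap.smul_apply, hpa, hqa,
        smul_zero, add_zero, map_zero, LinearMap.zero_apply, polB_self, smul_eq_mul, mul_zero] at this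
      exact (mul_eq_zero.mp this).resolve_right (mul_ne_zero h2 ha0)
    have e1 : c 1 = 0 := by
      have := congrArg (fun z => polB Q z p) hc
      simp only [map_add, map_smul, LinearMap.add_apply, LinearMap.smul_apply, polB_comm a p, hpa,
        hqp, smul_zero, add_zero, zero_add, map_zero, LinearMap.zero_apply, polB_self,
        smul_eq_mul, mul_zero] at this
      exact (mul_eq_zero.mp this).resolve_right (mul_ne_zero h2 hp0)
    have e2 : c 2 = 0 := by
      rw [e0, e1, zero_smul, zero_smul, zero_add, zero_add] at hc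
      exact (smul_eq_zero.mp hc).resolve_right hq0
    intro i; fin_cases i <;> assumption
  have hspan : Submodule.span F (Set.range ![a, p, q]) = U := by
    refine Submodule.eq_of_le_of_finrank_le (Submodule.span_le.mpr ?_) ?_
    · rintro _ ⟨i, rfl⟩; fin_cases i <;> assumption
    · rw [finrank_span_eq_card hind, hU3, Fintype.card_fin]
  have hex : ∀ y ∈ U, ∃ x₁ x₂ x₃ : F, y = x₁ • a + x₂ • p + x₃ • q := by
    intro y hy
    rw [← hspan, Submodule.mem_span_range_iff_exists_fun] at hy
    obtain ⟨c, rfl⟩ := hy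
    exact ⟨c 0, c 1, c 2, by simp [Fin.sum_univ_three]⟩
  refine ⟨p, hp, q, hq, hp0, ?_, hpa, hqa, by rw [polB_comm]; exact hqp, hex⟩
  intro h0
  obtain ⟨y, hy, hy1⟩ := exists_pair U hQ h2 hU hU3 hq hq0
  obtain ⟨x₁, x₂, x₃, rfl⟩ := hex y hy
  exact hy1 (by simp [map_add, map_smul, hqa, hqp, polB_self, h0])

/-- An odd element inverts the rotations about the same axis. -/
lemma odd_inverts {a : V} (ha : a ∈ U) (ha0 : Q a ≠ 0) {s g : orthGroup Q}
    (hs : ∀ y ∈ (polB Q).orthogonal U, s.1 y = y) (hsd : dickson s = Multiplicative.ofAdd 1)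
    (hsa : s.1 a = a) (hg : Rot Q U g) (hga : g.1 a = a) : s * g * s⁻¹ = g⁻¹ := by
  have h1 : s * s = 1 := rot_axis_mul U hQ h2 hU hU3 hs hsd ha ha0 hsa
  have h3 : g * s * (g * s) = 1 := rot_axis_mul U hQ h2 hU hU3
    (fun y hy => by rw [orth_mul_apply, hs y hy, hg.1 y hy])
    (by
      have := map_mul (invHom hQ (reflGenerates_of_two_ne_zero h2)) g s
      rw [invHom_apply, invHom_apply, invHom_apply] at this
      have := congrArg Prod.fst this
      simp only [Prod.fst_mul] at this
      rw [this, hg.2, hsd, one_mul])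
    ha ha0 (by rw [orth_mul_apply, hsa, hga])
  rw [inv_eq_of_mul_eq_one_left h1]
  calc s * g * s = g⁻¹ * (g * s * (g * s)) := by group
    _ = g⁻¹ := by rw [h3, mul_one]

lemma dickson_mul_rot (g h : orthGroup Q) : dickson (g * h) = dickson g * dickson h := by
  have := map_mul (invHom hQ (reflGenerates_of_two_ne_zero h2)) g h
  rw [invHom_apply, invHom_apply, invHom_apply] at this
  exact congrArg Prod.fst this

lemma rot_mul {g h : orthGroup Q} (hg : Rot Q U g) (hh : Rot Q U h) : Rot Q U (g * h) :=
  ⟨fun y hy => by rw [orth_mul_apply, hh.1 y hy, hg.1 y hy],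
    by rw [dickson_mul_rot U hQ h2 hU hU3, hg.2, hh.2, one_mul]⟩

lemma rot_inv {g : orthGroup Q} (hg : Rot Q U g) : Rot Q U g⁻¹ :=
  ⟨fun y hy => by conv_lhs => rw [← hg.1 y hy]; rw [orth_inv_apply_self],
    by
      have h := dickson_mul_rot U hQ h2 hU hU3 g⁻¹ g
      rw [inv_mul_cancel, dickson_one, hg.2, mul_one] at h
      exact h.symm⟩

omit [Finite F] in
lemma refl_fix_orth {p : V} (hp : p ∈ U) :
    ∀ y ∈ (polB Q).orthogonal U, (refl Q p).1 y = y :=
  fun y hy => refl_fix (by rw [polB_comm]; exact hy p hp)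

/-- The rotations about an axis commute. -/
lemma rot_comm {a : V} (ha : a ∈ U) (ha0 : Q a ≠ 0) {g k : orthGroup Q} (hg : Rot Q U g)
    (hga : g.1 a = a) (hk : Rot Q U k) (hka : k.1 a = a) : g * k = k * g := by
  obtain ⟨p, hp, q, -, hp0, -, hpa, -, -, -⟩ := exists_orth_frame U hQ h2 hU hU3 ha ha0
  have hrf := refl_fix_orth U hQ h2 hU hU3 hp
  have hra : (refl Q p).1 a = a := refl_fix (by rw [polB_comm]; exact hpa)
  have h1 := odd_inverts U hQ h2 hU hU3 ha ha0 hrf (dickson_refl hQ hp0) hra hk hka
  have h3 := odd_inverts U hQ h2 hU hU3 ha ha0 (s := g * refl Q p)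
    (fun y hy => by rw [orth_mul_apply, hrf y hy, hg.1 y hy])
    (by rw [dickson_mul_rot U hQ h2 hU hU3, hg.2, dickson_refl hQ hp0, one_mul])
    (by rw [orth_mul_apply, hra, hga]) hk hka
  have h4 : g * k⁻¹ * g⁻¹ = k⁻¹ := by
    calc g * k⁻¹ * g⁻¹ = g * (refl Q p * k * (refl Q p)⁻¹) * g⁻¹ := by rw [h1]
      _ = (g * refl Q p) * k * (g * refl Q p)⁻¹ := by group
      _ = k⁻¹ := h3
  have h5 := congrArg (fun z => z⁻¹) h4
  simp only [mul_inv_rev, inv_inv] at h5
  calc g * k = (g * (k * g⁻¹)) * g := by group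
    _ = k * g := by rw [h5]

/-- A rotation negating the axis is an involution inverting the rotations about it. -/
lemma rot_neg_axis {a : V} (ha : a ∈ U) (ha0 : Q a ≠ 0) {g : orthGroup Q} (hg : Rot Q U g)
    (hga : g.1 a = -a) :
    g * g = 1 ∧ ∀ k, Rot Q U k → k.1 a = a → g * k * g⁻¹ = k⁻¹ := by
  set r := refl Q a with hr
  have hrf := refl_fix_orth U hQ h2 hU hU3 ha
  have hcomm : r * g = g * r := by
    have h1 := refl_conj g a
    rw [hga, refl_neg] at h1
    calc r * g = g * r * g⁻¹ * g := by rw [h1]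
      _ = g * r := by group
  have hsa : (g * r).1 a = a := by rw [orth_mul_apply, refl_self ha0, map_neg, hga, neg_neg]
  have hsf : ∀ y ∈ (polB Q).orthogonal U, (g * r).1 y = y :=
    fun y hy => by rw [orth_mul_apply, hrf y hy, hg.1 y hy]
  have hsd : dickson (g * r) = Multiplicative.ofAdd 1 := by
    rw [dickson_mul_rot U hQ h2 hU hU3, hg.2, dickson_refl hQ ha0, one_mul]
  refine ⟨?_, fun k hk hka => ?_⟩
  · have := rot_axis_mul U hQ h2 hU hU3 hsf hsd ha ha0 hsa
    calc g * g = g * (r * r) * g := by rw [refl_sq, mul_one]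
      _ = (g * r) * (r * g) := by group
      _ = (g * r) * (g * r) := by rw [hcomm]
      _ = 1 := this
  · have h1 := odd_inverts U hQ h2 hU hU3 ha ha0 hsf hsd hsa hk hka
    have h3 : r * k * r⁻¹ = k := by
      have := refl_conj k a
      rw [hka] at this
      calc r * k * r⁻¹ = (k * r * k⁻¹) * k * r⁻¹ := by rw [this]
        _ = k := by group
    calc g * k * g⁻¹ = g * (r * k * r⁻¹) * g⁻¹ := by rw [h3]
      _ = (g * r) * k * (g * r)⁻¹ := by group
      _ = k⁻¹ := h1

/-- The rotations about an axis embed into the units of a field. -/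
lemma exists_rot_char {a : V} (ha : a ∈ U) (ha0 : Q a ≠ 0) :
    ∃ φ : orthGroup Q → AlgebraicClosure F,
      (∀ g k, Rot Q U g → g.1 a = a → Rot Q U k → k.1 a = a → φ (g * k) = φ g * φ k) ∧
      φ 1 = 1 ∧ ∀ g, Rot Q U g → g.1 a = a → φ g = 1 → g = 1 := by
  obtain ⟨p, hp, q, hq, hp0, hq0, hpa, hqa, hpq, hex⟩ := exists_orth_frame U hQ h2 hU hU3 ha ha0
  set K := AlgebraicClosure F
  let ι := algebraMap F K
  obtain ⟨ω, hω⟩ := IsAlgClosed.exists_eq_mul_self (ι (-(Q q) / Q p))
  have hω0 : ω ≠ 0 := by
    rintro rfl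
    rw [mul_zero, map_eq_zero, div_eq_zero_iff, neg_eq_zero] at hω
    exact hω.elim hq0 hp0
  have hP : polB Q p p ≠ 0 := by rw [polB_self]; exact mul_ne_zero h2 hp0
  have hR : polB Q q q ≠ 0 := by rw [polB_self]; exact mul_ne_zero h2 hq0
  let α : orthGroup Q → F := fun g => polB Q (g.1 p) p / polB Q p p
  let β : orthGroup Q → F := fun g => polB Q (g.1 p) q / polB Q q q
  have hgp : ∀ g, Rot Q U g → g.1 a = a → g.1 p = α g • p + β g • q := by
    intro g hg hga
    obtain ⟨x₁, x₂, x₃, hx⟩ := hex _ (rot_maps U hQ h2 hU hU3 hg.1 hp)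
    have h1 : polB Q (g.1 p) a = 0 := by
      conv_lhs => rw [← hga]
      rw [orth_polB_map]; exact hpa
    have e1 : x₁ * polB Q a a = 0 := by
      rw [hx] at h1
      simpa [map_add, map_smul, hpa, hqa] using h1
    have ex1 : x₁ = 0 :=
      (mul_eq_zero.mp e1).resolve_right (by rw [polB_self]; exact mul_ne_zero h2 ha0)
    rw [ex1, zero_smul, zero_add] at hx
    have e2 : α g = x₂ := by
      simp only [α, hx, map_add, map_smul, LinearMap.add_apply, LinearMap.smul_apply,
        polB_comm q p, hpq, smul_zero, add_zero, smul_eq_mul, mul_zero, mul_div_assoc, div_self hP,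
        mul_one]
    have e3 : β g = x₃ := by
      simp only [β, hx, map_add, map_smul, LinearMap.add_apply, LinearMap.smul_apply, hpq,
        smul_zero, zero_add, smul_eq_mul, mul_zero, mul_div_assoc, div_self hR, mul_one]
    rw [hx, e2, e3]
  have hgq : ∀ g, Rot Q U g → g.1 a = a → g.1 q = (-(β g) * Q q / Q p) • p + α g • q := by
    intro g hg hga
    have hrf := refl_fix_orth U hQ h2 hU hU3 hq
    have hss := rot_axis_mul U hQ h2 hU hU3 (g := g * refl Q q)
      (fun y hy => by rw [orth_mul_apply, hrf y hy, hg.1 y hy])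
      (by rw [dickson_mul_rot U hQ h2 hU hU3, hg.2, dickson_refl hQ hq0, one_mul]) ha ha0
      (by rw [orth_mul_apply, refl_fix (by rw [polB_comm]; exact hqa), hga])
    set s := g * refl Q q with hs
    have hsp : s.1 p = g.1 p := by rw [hs, orth_mul_apply, refl_fix hpq]
    have hsq : s.1 q = -g.1 q := by rw [hs, orth_mul_apply, refl_self hq0, map_neg]
    have hsym : polB Q (s.1 q) p = polB Q q (s.1 p) := by
      conv_rhs => rw [← orth_polB_map s q (s.1 p), ← orth_mul_apply, hss, orth_one_apply]
    obtain ⟨y₁, y₂, y₃, hy⟩ := hex _ (rot_maps U hQ h2 hU hU3 hg.1 hq)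
    have h1 : polB Q (g.1 q) a = 0 := by
      conv_lhs => rw [← hga]
      rw [orth_polB_map]; exact hqa
    have ey1 : y₁ = 0 := by
      rw [hy] at h1
      have e1 : y₁ * polB Q a a = 0 := by simpa [map_add, map_smul, hpa, hqa] using h1
      exact (mul_eq_zero.mp e1).resolve_right (by rw [polB_self]; exact mul_ne_zero h2 ha0)
    rw [ey1, zero_smul, zero_add] at hy
    have ey2 : y₂ = -(β g) * Q q / Q p := by
      rw [hsq, hsp, hy, hgp g hg hga] at hsym
      simp only [map_neg, map_add, map_smul, LinearMap.neg_apply, LinearMap.add_apply,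
        LinearMap.smul_apply, polB_comm q p, hpq, polB_self, smul_eq_mul, mul_zero, zero_add,
        add_zero] at hsym
      rw [eq_div_iff hp0]
      exact mul_left_cancel₀ h2 (by linear_combination -hsym)
    have hpp := congrArg (fun z : orthGroup Q => z.1 p) hss
    simp only [orth_mul_apply, orth_one_apply, hsp, hgp g hg hga, map_add, map_smul, hsq, hy]
      at hpp
    have hcq := congrArg (fun z => polB Q z q) hpp
    simp only [map_add, map_smul, map_neg, LinearMap.add_apply, LinearMap.smul_apply,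
      LinearMap.neg_apply, hpq, smul_eq_mul, mul_zero, zero_add] at hcq
    have ey3 : β g ≠ 0 → y₃ = α g := fun hb =>
      mul_left_cancel₀ (mul_ne_zero hb hR) (by linear_combination -hcq)
    by_cases hb : β g = 0
    · have ey2' : y₂ = 0 := by rw [ey2, hb]; simp
      rw [ey2', zero_smul, zero_add] at hy
      have hgp' := hgp g hg hga
      rw [hb, zero_smul, add_zero] at hgp'
      have ha1 : α g * α g = 1 := by
        have := orth_qmap g p
        rw [hgp', qmap_smul] at this
        exact mul_right_cancel₀ hp0 (this.trans (one_mul _).symm)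
      have hy1 : y₃ * y₃ = 1 := by
        have := orth_qmap g q
        rw [hy, qmap_smul] at this
        exact mul_right_cancel₀ hq0 (this.trans (one_mul _).symm)
      by_contra hne
      have hy3 : y₃ ≠ α g := fun e => hne (by rw [hy, hb, e]; simp)
      have key : ∃ v ∈ U, Q v ≠ 0 ∧ g = refl Q v := by
        rcases mul_self_eq_one_iff.mp ha1 with h | h <;>
          rcases mul_self_eq_one_iff.mp hy1 with h' | h'
        · exact absurd (h'.trans h.symm) hy3
        · refine ⟨q, hq, hq0, rot_ext U hQ h2 hU hU3 hg.1 hrf fun y hy' => ?_⟩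
          obtain ⟨z₁, z₂, z₃, rfl⟩ := hex y hy'
          rw [map_add, map_add, map_add, map_add, map_smul, map_smul, map_smul, map_smul, map_smul,
            map_smul, hga, hgp', hy, h, h', refl_self hq0, refl_fix hpq,
            refl_fix (by rw [polB_comm]; exact hqa)]
          simp
        · refine ⟨p, hp, hp0, rot_ext U hQ h2 hU hU3 hg.1 (refl_fix_orth U hQ h2 hU hU3 hp)
            fun y hy' => ?_⟩
          obtain ⟨z₁, z₂, z₃, rfl⟩ := hex y hy'
          rw [map_add, map_add, map_add, map_add, map_smul, map_smul, map_smul, map_smul, map_smul,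
            map_smul, hga, hgp', hy, h, h', refl_self hp0,
            refl_fix (x := q) (by rw [polB_comm]; exact hpq),
            refl_fix (x := a) (by rw [polB_comm]; exact hpa)]
          simp
        · exact absurd (h'.trans h.symm) hy3
      obtain ⟨v, -, hv, rfl⟩ := key
      have := hg.2
      rw [dickson_refl hQ hv] at this
      exact absurd this (by decide)
    · rw [hy, ey2, ey3 hb]
  refine ⟨fun g => ι (α g) + ι (β g) * ω, ?_, ?_, ?_⟩
  · intro g k hg hga hk hka
    have hkp := hgp (g * k) (rot_mul U hQ h2 hU hU3 hg hk) (by rw [orth_mul_apply, hka, hga])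
    rw [orth_mul_apply, hgp k hk hka, map_add, map_smul, map_smul, hgp g hg hga, hgq g hg hga]
      at hkp
    have e1 := congrArg (fun z => polB Q z p) hkp
    have e2 := congrArg (fun z => polB Q z q) hkp
    simp only [map_add, map_smul, LinearMap.add_apply, LinearMap.smul_apply, polB_comm q p, hpq,
      smul_eq_mul, mul_zero, add_zero, zero_add] at e1 e2
    have f1 : α (g * k) = α g * α k + (-(Q q) / Q p) * (β g * β k) :=
      mul_right_cancel₀ hP (by linear_combination -e1)
    have f2 : β (g * k) = β g * α k + α g * β k :=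
      mul_right_cancel₀ hR (by linear_combination -e2)
    show ι _ + ι _ * ω = _
    rw [f1, f2, map_add, map_mul, map_mul, hω, map_mul, map_add, map_mul, map_mul]
    ring
  · show ι (α 1) + ι (β 1) * ω = 1
    simp [α, β, orth_one_apply, hpq, hP]
  · intro g hg hga h
    simp only at h
    have hnorm : α g * α g - β g * β g * (-(Q q) / Q p) = 1 := by
      have := orth_qmap g p
      rw [hgp g hg hga, qmap_add, qmap_smul, qmap_smul, map_smul, map_smul, LinearMap.smul_apply,
        hpq, smul_zero, smul_zero, add_zero] at this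
      field_simp
      linear_combination this
    have hbar : ι (α g) - ι (β g) * ω = 1 := by
      have hn := congrArg ι hnorm
      rw [map_sub, map_mul, map_mul, map_mul, hω, map_one] at hn
      linear_combination hn - (ι (α g) - ι (β g) * ω) * h
    have hK2 : (2 : K) ≠ 0 := by
      intro e
      exact h2 (ι.injective (by rw [map_ofNat, map_zero]; exact e))
    have hb : β g = 0 := by
      have : (2 : K) * (ι (β g) * ω) = 0 := by linear_combination h - hbar
      exact (map_eq_zero ι).mp ((mul_eq_zero.mp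
        ((mul_eq_zero.mp this).resolve_left hK2)).resolve_right hω0)
    have hal : α g = 1 := by
      rw [hb, map_zero, zero_mul, add_zero, ← map_one ι] at h
      exact ι.injective h
    refine rot_ext U hQ h2 hU hU3 hg.1 (fun y _ => orth_one_apply y) fun y hy => ?_
    obtain ⟨x₁, x₂, x₃, rfl⟩ := hex y hy
    rw [orth_one_apply, map_add, map_add, map_smul, map_smul, map_smul, hga, hgp g hg hga,
      hgq g hg hga, hb, hal]
    simp

end rot

section trans

variable [Fintype F] {p : ℕ}

lemma exists_natCast_eq (hcard : Fintype.card F = p) (hp : p.Prime) (x : F) :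
    ∃ k : ℕ, (k : F) = x := by
  haveI : Fact p.Prime := ⟨hp⟩
  obtain ⟨q, hq⟩ := CharP.exists F
  obtain ⟨k, hk, hqk⟩ := FiniteField.card F q
  haveI := hq
  have hqp : q = p := by
    have h1 : q ∣ p := hcard ▸ hqk ▸ dvd_pow_self q k.ne_zero
    exact (Nat.prime_dvd_prime_iff_eq hk hp).mp h1
  subst hqp
  have hinj : Function.Injective (fun i : Fin q => ((i : ℕ) : F)) := fun i j h =>
    Fin.ext ((Nat.ModEq.eq_of_lt_of_lt ((CharP.natCast_eq_natCast F q).mp h) i.2 j.2))
  have := ((Fintype.bijective_iff_injective_and_card _).mpr ⟨hinj, by simp [hcard]⟩).2 x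
  obtain ⟨i, hi⟩ := this
  exact ⟨i, hi⟩

variable (U : Submodule F V) (hQ : (polB Q).Nondegenerate) (h2 : (2 : F) ≠ 0)
  (hU : U ⊓ (polB Q).orthogonal U = ⊥) (hU3 : Module.finrank F U = 3)

include hQ h2 hU hU3

lemma unip_coeffs (hcard : Fintype.card F = p) (hp : p.Prime) {z : orthGroup Q} (hz : Rot Q U z)
    (hz1 : z ≠ 1) (hzp : z ^ p = 1) {v v' w : V} (hv : v ∈ U) (hv' : v' ∈ U) (hw : w ∈ U)
    (hQv : Q v = 0) (hQv' : Q v' = 0) (hP : polB Q v v' ≠ 0) (hwv : polB Q w v = 0)
    (hwv' : polB Q w v' = 0) (hQw : Q w ≠ 0)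
    (hex : ∀ y ∈ U, ∃ a b c : F, y = a • v + b • w + c • v') (hzv : z.1 v = v) :
    ∃ A B C : F, A ≠ 0 ∧ B ≠ 0 ∧ z.1 w = w + A • v ∧ z.1 v' = v' + B • w + C • v := by
  have hv0 : v ≠ 0 := by rintro rfl; simp at hP
  have hvv : polB Q v v = 0 := by rw [polB_self, hQv, mul_zero]
  have hv'v' : polB Q v' v' = 0 := by rw [polB_self, hQv', mul_zero]
  have hww : polB Q w w ≠ 0 := by rw [polB_self]; exact mul_ne_zero h2 hQw
  obtain ⟨A, c, c', hA⟩ := hex _ (rot_maps U hQ h2 hU hU3 hz.1 hw)
  have hc' : c' = 0 := by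
    have h1 := orth_polB_map z w v
    rw [hzv, hA, hwv] at h1
    simp only [map_add, map_smul, LinearMap.add_apply, LinearMap.smul_apply, hvv, hwv,
      polB_comm v' v, smul_eq_mul, mul_zero, zero_add] at h1
    exact (mul_eq_zero.mp h1).resolve_right hP
  rw [hc', zero_smul, add_zero] at hA
  have hpow : ∀ k : ℕ, ∃ D : F, (z ^ k).1 w = D • v + c ^ k • w := by
    intro k
    induction k with
    | zero => exact ⟨0, by simp [orth_one_apply]⟩
    | succ k ih =>
      obtain ⟨D, hD⟩ := ih
      refine ⟨D + c ^ k * A, ?_⟩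
      rw [pow_succ', orth_mul_apply, hD, map_add, map_smul, map_smul, hzv, hA, smul_add,
        smul_smul, smul_smul, add_smul, pow_succ]
      abel
  obtain ⟨D, hD⟩ := hpow p
  rw [hzp, orth_one_apply] at hD
  have hcp : c ^ p = 1 := by
    have := congrArg (fun y => polB Q y w) hD
    simp only [map_add, map_smul, LinearMap.add_apply, LinearMap.smul_apply, polB_comm v w, hwv,
      smul_eq_mul, mul_zero, zero_add] at this
    exact mul_right_cancel₀ hww (by rw [← this, one_mul])
  have hc : c = 1 := by rw [← FiniteField.pow_card c, hcard, hcp]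
  rw [hc, one_smul] at hA
  have hA0 : A ≠ 0 := by
    rintro rfl
    rw [zero_smul, zero_add] at hA
    obtain ⟨e, he⟩ := axis_unique U hQ h2 hU hU3 hz hz1 hv hv0 hzv hw hA
    exact hQw (by rw [he, qmap_smul, hQv, mul_zero])
  obtain ⟨C, B, c₂, hB⟩ := hex _ (rot_maps U hQ h2 hU hU3 hz.1 hv')
  have hc₂ : c₂ = 1 := by
    have h1 := orth_polB_map z v' v
    rw [hzv, hB] at h1
    simp only [map_add, map_smul, LinearMap.add_apply, LinearMap.smul_apply, hvv, hwv,
      polB_comm v' v, smul_eq_mul, mul_zero, zero_add] at h1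
    exact mul_right_cancel₀ hP (by rw [h1, one_mul])
  rw [hc₂, one_smul] at hB
  refine ⟨A, B, C, hA0, ?_, by rw [hA, add_comm], by rw [hB]; abel⟩
  rintro rfl
  have h1 := orth_polB_map z w v'
  rw [hA, hB, hwv'] at h1
  simp only [map_add, map_smul, LinearMap.add_apply, LinearMap.smul_apply, hvv, hwv, hwv',
    polB_comm v w, smul_eq_mul, mul_zero, zero_mul, zero_add, add_zero] at h1
  exact hA0 ((mul_eq_zero.mp h1).resolve_right hP)

lemma unip_step (hcard : Fintype.card F = p) (hp : p.Prime) {z : orthGroup Q} (hz : Rot Q U z)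
    (hz1 : z ≠ 1) (hzp : z ^ p = 1) {v v' w : V} (hv : v ∈ U) (hv' : v' ∈ U) (hw : w ∈ U)
    (hQv : Q v = 0) (hQv' : Q v' = 0) (hP : polB Q v v' ≠ 0) (hwv : polB Q w v = 0)
    (hwv' : polB Q w v' = 0) (hQw : Q w ≠ 0)
    (hex : ∀ y ∈ U, ∃ a b c : F, y = a • v + b • w + c • v') (hzv : z.1 v = v)
    (S : V → Prop) (hS : ∀ y ∈ U, Q y = 1 → S y → S (z.1 y)) {a b c : F}
    (hy : Q (a • v + b • w + c • v') = 1) (hSy : S (a • v + b • w + c • v')) :
    (c ≠ 0 → ∀ b' a' : F, Q (a' • v + b' • w + c • v') = 1 → S (a' • v + b' • w + c • v')) ∧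
      (c = 0 → ∀ a' : F, S (a' • v + b • w + c • v')) := by
  have hval : ∀ a b c : F, Q (a • v + b • w + c • v') = b * b * Q w + a * c * polB Q v v' := by
    intro a b c
    simp only [qmap_add, qmap_smul, map_add, map_smul, LinearMap.add_apply, LinearMap.smul_apply,
      hQv, hQv', polB_comm v w, hwv, hwv', smul_eq_mul]
    ring
  obtain ⟨A, B, C, hA, hB, hzw, hzv'⟩ := unip_coeffs U hQ h2 hU hU3 hcard hp hz hz1 hzp hv hv' hw
    hQv hQv' hP hwv hwv' hQw hex hzv
  have hmem : a • v + b • w + c • v' ∈ U :=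
    U.add_mem (U.add_mem (U.smul_mem _ hv) (U.smul_mem _ hw)) (U.smul_mem _ hv')
  have hiter : ∀ k : ℕ, ∃ e : F,
      (z ^ k).1 (a • v + b • w + c • v') = e • v + (b + k * (c * B)) • w + c • v' ∧
      S ((z ^ k).1 (a • v + b • w + c • v')) ∧ (c = 0 → e = a + k * (b * A)) := by
    intro k
    induction k with
    | zero => exact ⟨a, by simp [orth_one_apply], by simpa [orth_one_apply] using hSy, by simp⟩
    | succ k ih =>
      obtain ⟨e, he, hSe, hc0⟩ := ih
      refine ⟨e + (b + k * (c * B)) * A + c * C, ?_, ?_, ?_⟩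
      · rw [pow_succ', orth_mul_apply, he, map_add, map_add, map_smul, map_smul, map_smul, hzv,
          hzw, hzv', Nat.cast_succ]
        module
      · rw [pow_succ', orth_mul_apply]
        refine hS _ ?_ (by rw [orth_qmap]; exact hy) hSe
        rw [he]
        exact U.add_mem (U.add_mem (U.smul_mem _ hv) (U.smul_mem _ hw)) (U.smul_mem _ hv')
      · intro h0
        rw [hc0 h0, h0, Nat.cast_succ]; ring
  refine ⟨fun hc b' a' hy' => ?_, fun hc a' => ?_⟩
  · obtain ⟨k, hk⟩ := exists_natCast_eq hcard hp ((b' - b) / (c * B))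
    obtain ⟨e, he, hSe, -⟩ := hiter k
    have hb' : b + (k : F) * (c * B) = b' := by
      rw [hk, div_mul_cancel₀ _ (mul_ne_zero hc hB), add_sub_cancel]
    rw [hb'] at he
    have h1 : Q (e • v + b' • w + c • v') = 1 := by rw [← he, orth_qmap]; exact hy
    rw [hval] at h1 hy'
    have : e = a' := mul_right_cancel₀ (mul_ne_zero hc hP) (by linear_combination h1 - hy')
    rwa [he, this] at hSe
  · subst hc
    rw [hval] at hy
    have hb : b ≠ 0 := by rintro rfl; simp at hy
    obtain ⟨k, hk⟩ := exists_natCast_eq hcard hp ((a' - a) / (b * A))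
    obtain ⟨e, he, hSe, hc0⟩ := hiter k
    rw [hc0 rfl, hk, div_mul_cancel₀ _ (mul_ne_zero hb hA), add_sub_cancel] at he
    rw [he] at hSe
    simpa using hSe

/-- Two unipotent rotations with different fixed lines are transitive on unit vectors. -/
theorem unip_trans (hcard : Fintype.card F = p) (hp : p.Prime) (hp5 : 5 ≤ p)
    {z z' : orthGroup Q} (hz : Rot Q U z) (hz' : Rot Q U z') (hz1 : z ≠ 1) (hz1' : z' ≠ 1)
    (hzp : z ^ p = 1) (hzp' : z' ^ p = 1) {v v' : V} (hv : v ∈ U) (hv' : v' ∈ U)
    (hQv : Q v = 0) (hQv' : Q v' = 0) (hind : ∀ c : F, v' ≠ c • v) (hv0 : v ≠ 0)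
    (hzv : z.1 v = v) (hzv' : z'.1 v' = v')
    (S : V → Prop) (hS : ∀ y ∈ U, Q y = 1 → S y → S (z.1 y) ∧ S (z'.1 y))
    {y₀ : V} (hy₀ : y₀ ∈ U) (hQy₀ : Q y₀ = 1) (hSy₀ : S y₀) :
    ∀ y ∈ U, Q y = 1 → S y := by
  classical
  obtain ⟨w, hw, hw0, hwv, hwv'⟩ := exists_perp_two U hQ h2 hU hU3 v v'
  have hP : polB Q v v' ≠ 0 := by
    intro h0
    have hU2 : Module.finrank F (Submodule.span F ({v, v'} : Set V)) = 2 := by
      have := finrank_span_eq_card ((LinearIndependent.pair_iff' hv0).mpr
        (fun c hc => hind c hc.symm))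
      rwa [Matrix.range_cons, Matrix.range_cons, Matrix.range_empty, Set.union_empty,
        Set.singleton_union, Fintype.card_fin] at this
    set T := Submodule.span F ({v, v'} : Set V) with hT
    have hTU : T ≤ U := Submodule.span_le.mpr fun x hx => by rcases hx with rfl | rfl <;> assumption
    have hTT : T ≤ (polB Q).orthogonal T := by
      rw [hT, Submodule.span_le]
      intro x hx y hy
      induction hy using Submodule.span_induction with
      | mem y hy =>
        rcases hx with rfl | rfl <;> rcases hy with rfl | rfl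
        all_goals first
          | exact h0
          | (rw [polB_comm]; exact h0)
          | (rw [polB_self, hQv, mul_zero]; done)
          | (rw [polB_self, hQv', mul_zero]; done)
      | zero => simp
      | add y z _ _ hy hz => rw [map_add, LinearMap.add_apply, hy, hz, add_zero]
      | smul c y _ hy => rw [map_smul, LinearMap.smul_apply, hy, smul_zero]
    have h4 : T ⊔ (polB Q).orthogonal U ≤ (polB Q).orthogonal T :=
      sup_le hTT fun x hx y hy => hx y (hTU hy)
    have h5 := Submodule.finrank_sup_add_finrank_inf_eq T ((polB Q).orthogonal U)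
    rw [(eq_bot_iff.mpr (hU ▸ inf_le_inf_right _ hTU) : T ⊓ (polB Q).orthogonal U = ⊥),
      finrank_bot, hU2] at h5
    have h6 := Submodule.finrank_mono h4
    have h7 := finrank_orth_add hQ U
    have h8 := finrank_orth_add hQ T
    omega
  have hvv : polB Q v v = 0 := by rw [polB_self, hQv, mul_zero]
  have hv'v' : polB Q v' v' = 0 := by rw [polB_self, hQv', mul_zero]
  have hli : LinearIndependent F ![v, w, v'] := by
    rw [Fintype.linearIndependent_iff]
    intro c hc
    simp only [Fin.sum_univ_three, Matrix.cons_val_zero, Matrix.cons_val_one, Matrix.cons_val] at hc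
    have e2 : c 2 = 0 := by
      have := congrArg (fun y => polB Q y v) hc
      simp only [map_add, map_smul, LinearMap.add_apply, LinearMap.smul_apply, hvv, hwv,
        polB_comm v' v, smul_eq_mul, mul_zero, zero_add, map_zero, LinearMap.zero_apply] at this
      exact (mul_eq_zero.mp this).resolve_right hP
    have e0 : c 0 = 0 := by
      have := congrArg (fun y => polB Q y v') hc
      simp only [map_add, map_smul, LinearMap.add_apply, LinearMap.smul_apply, hwv', hv'v',
        smul_eq_mul, mul_zero, add_zero, map_zero, LinearMap.zero_apply] at this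
      exact (mul_eq_zero.mp this).resolve_right hP
    have e1 : c 1 = 0 := by
      rw [e0, e2, zero_smul, zero_smul, zero_add, add_zero] at hc
      exact (smul_eq_zero.mp hc).resolve_right hw0
    intro i; fin_cases i <;> assumption
  have hspan : Submodule.span F (Set.range ![v, w, v']) = U := by
    refine Submodule.eq_of_le_of_finrank_le (Submodule.span_le.mpr ?_) ?_
    · rintro _ ⟨i, rfl⟩; fin_cases i <;> assumption
    · rw [finrank_span_eq_card hli, hU3, Fintype.card_fin]
  have hex : ∀ y ∈ U, ∃ a b c : F, y = a • v + b • w + c • v' := by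
    intro y hy
    rw [← hspan, Submodule.mem_span_range_iff_exists_fun] at hy
    obtain ⟨c, rfl⟩ := hy
    exact ⟨c 0, c 1, c 2, by simp [Fin.sum_univ_three]⟩
  have hQw : Q w ≠ 0 := by
    intro h0
    obtain ⟨y, hy, hy1⟩ := exists_pair U hQ h2 hU hU3 hw hw0
    obtain ⟨a, b, c, rfl⟩ := hex y hy
    exact hy1 (by simp [map_add, map_smul, hwv, hwv', polB_self, h0])
  set ω := Q w
  set P := polB Q v v' with hPdef
  have hval : ∀ a b c : F, Q (a • v + b • w + c • v') = b * b * ω + a * c * P := by
    intro a b c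
    simp only [qmap_add, qmap_smul, map_add, map_smul, LinearMap.add_apply, LinearMap.smul_apply,
      hQv, hQv', polB_comm v w, hwv, hwv', smul_eq_mul, ω, P]
    ring
  have st1 : ∀ {a b c : F}, Q (a • v + b • w + c • v') = 1 → S (a • v + b • w + c • v') → _ :=
    fun hy hSy => unip_step U hQ h2 hU hU3 hcard hp hz hz1 hzp hv hv' hw hQv hQv' hP hwv hwv' hQw
      hex hzv S (fun y hy hQy hy' => (hS y hy hQy hy').1) hy hSy
  have hswap : ∀ a b c : F, c • v' + b • w + a • v = a • v + b • w + c • v' := fun a b c => by abel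
  have st2 : ∀ {a b c : F}, Q (a • v + b • w + c • v') = 1 → S (a • v + b • w + c • v') → a ≠ 0 →
      ∀ b' c' : F, Q (a • v + b' • w + c' • v') = 1 → S (a • v + b' • w + c' • v') := by
    intro a b c hy hSy ha b' c' hy'
    have := (unip_step U hQ h2 hU hU3 hcard hp hz' hz1' hzp' hv' hv hw hQv' hQv
      (by rw [polB_comm]; exact hP) hwv' hwv hQw
      (fun y hy => by
        obtain ⟨a, b, c, rfl⟩ := hex y hy
        exact ⟨c, b, a, (hswap a b c).symm⟩) hzv' S (fun y hy hQy hy' => (hS y hy hQy hy').2)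
      (a := c) (b := b) (c := a) (by rw [hswap]; exact hy) (by rw [hswap]; exact hSy)).1 ha b' c'
      (by rw [hswap]; exact hy')
    rwa [hswap] at this
  let Good : F → Prop := fun c => c ≠ 0 ∧ S ((c * P)⁻¹ • v + (0 : F) • w + c • v')
  have hgood : ∀ {a b c : F}, Q (a • v + b • w + c • v') = 1 → S (a • v + b • w + c • v') →
      c ≠ 0 → Good c := fun {a b c} hy hSy hc => ⟨hc, (st1 hy hSy).1 hc 0 _
        (by rw [hval]; field_simp; ring)⟩
  have hgv : ∀ {c : F}, c ≠ 0 → Q ((c * P)⁻¹ • v + (0 : F) • w + c • v') = 1 := fun hc => by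
    rw [hval]; field_simp; ring
  obtain ⟨c₀, hc₀⟩ : ∃ c, Good c := by
    obtain ⟨a, b, c, rfl⟩ := hex y₀ hy₀
    by_cases hc : c = 0
    · subst hc
      have h1 := (st1 hQy₀ hSy₀).2 rfl 1
      have hb : b * b * ω = 1 := by
        have := hQy₀; rw [hval] at this; linear_combination this
      have h2' : Q ((1 : F) • v + b • w + (0 : F) • v') = 1 := by rw [hval]; linear_combination hb
      have h3 : Q ((1 : F) • v + (0 : F) • w + P⁻¹ • v') = 1 := by rw [hval]; field_simp; ring
      exact ⟨_, hgood h3 (st2 h2' h1 one_ne_zero 0 P⁻¹ h3) (inv_ne_zero hP)⟩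
    · exact ⟨c, hgood hQy₀ hSy₀ hc⟩
  have hmul : ∀ s : F, 1 - ω * (s * s) ≠ 0 → ∀ c, Good c → Good (c * (1 - ω * (s * s))) := by
    rintro s hs c ⟨hc, hSc⟩
    have hy : Q ((c * P)⁻¹ • v + s • w + (c * (1 - ω * (s * s))) • v') = 1 := by
      rw [hval]; field_simp; ring
    exact hgood hy (st2 (hgv hc) hSc (inv_ne_zero (mul_ne_zero hc hP)) s _ hy) (mul_ne_zero hc hs)
  let K0 : Submonoid Fˣ :=
    { carrier := {m | ∀ c, Good c → Good (c * (m : F))}
      mul_mem' := fun {a b} ha hb c hc => by
        rw [Units.val_mul, ← mul_assoc]; exact hb _ (ha c hc)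
      one_mem' := fun c hc => by simpa using hc }
  let K : Subgroup Fˣ :=
    { K0 with
      inv_mem' := fun {m} hm => by
        have h1 : m⁻¹ = m ^ (orderOf m - 1) := inv_eq_of_mul_eq_one_right (by
          rw [← pow_succ', Nat.sub_add_cancel (orderOf_pos m), pow_orderOf_eq_one])
        rw [h1]; exact K0.pow_mem hm _ }
  have hchar : ringChar F ≠ 2 := fun h => h2 (by
    have := ringChar.Nat.cast_ringChar (R := F)
    rw [h] at this
    exact_mod_cast this)
  have hKtop : K = ⊤ := by
    by_contra hne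
    have hdvd := Subgroup.card_subgroup_dvd_card K
    have hlt : Nat.card K ≠ Nat.card Fˣ := fun e => hne (Subgroup.eq_top_of_card_eq K e)
    obtain ⟨r, hr⟩ := hdvd
    have hu : Nat.card Fˣ = p - 1 := by rw [Nat.card_units, Nat.card_eq_fintype_card, hcard]
    have hr2 : 2 ≤ r := by
      rcases r with _ | _ | r
      · rw [mul_zero] at hr; omega
      · rw [show (0 : ℕ) + 1 = 1 from rfl, mul_one] at hr; exact absurd hr.symm hlt
      · omega
    -- the multipliers fill at least half
    set Kf : Finset F := (Finset.univ.filter fun m : Fˣ => m ∈ K).map ⟨Units.val, Units.val_injective⟩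
    have hKf : Kf.card = Nat.card K := by
      rw [Finset.card_map, Nat.card_eq_fintype_card, Fintype.card_subtype]
    have hmem : ∀ s : F, 1 - ω * (s * s) ≠ 0 → 1 - ω * (s * s) ∈ Kf := fun s hs =>
      Finset.mem_map.mpr ⟨Units.mk0 _ hs, Finset.mem_filter.mpr
        ⟨Finset.mem_univ _, fun c hc => hmul s hs c hc⟩, rfl⟩
    set D := Finset.univ.filter fun s : F => 1 - ω * (s * s) ≠ 0
    have hD : p ≤ D.card + 2 := by
      have h1 := Finset.card_filter_add_card_filter_not (s := (Finset.univ : Finset F))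
        (p := fun s : F => 1 - ω * (s * s) ≠ 0)
      rw [Finset.card_univ, hcard] at h1
      have h3 : (Finset.univ.filter fun s : F => ¬ (1 - ω * (s * s) ≠ 0)).card ≤ 2 := by
        by_cases he : ∃ r : F, ω * (r * r) = 1
        · obtain ⟨r, hr⟩ := he
          refine le_trans (Finset.card_le_card (t := {r, -r}) fun s hs => ?_) Finset.card_le_two
          rw [Finset.mem_filter, not_ne_iff, sub_eq_zero] at hs
          simp only [Finset.mem_insert, Finset.mem_singleton]
          exact mul_self_eq_mul_self_iff.mp (mul_left_cancel₀ hQw (hs.2.symm.trans hr.symm))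
        · rw [Finset.card_eq_zero.mpr (Finset.filter_eq_empty_iff.mpr fun s _ => by
            rw [not_ne_iff, sub_eq_zero]; exact fun e => he ⟨s, e.symm⟩)]
          omega
      change p ≤ (Finset.univ.filter fun s : F => 1 - ω * (s * s) ≠ 0).card + 2
      omega
    have hfib : D.card ≤ 2 * Kf.card := by
      refine Finset.card_le_mul_card_image_of_maps_to (f := fun s => 1 - ω * (s * s))
        (fun s hs => hmem s (Finset.mem_filter.mp hs).2) 2 fun b _ => ?_
      by_cases he : ∃ r, 1 - ω * (r * r) = b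
      · obtain ⟨r, hr⟩ := he
        refine le_trans (Finset.card_le_card (t := {r, -r}) fun s hs => ?_) Finset.card_le_two
        simp only [Finset.mem_insert, Finset.mem_singleton]
        exact mul_self_eq_mul_self_iff.mp (mul_left_cancel₀ hQw
          (by linear_combination hr - (Finset.mem_filter.mp hs).2))
      · rw [Finset.card_eq_zero.mpr (Finset.filter_eq_empty_iff.mpr fun s _ h => he ⟨s, h⟩)]
        omega
    have hodd : Odd p := hp.odd_of_ne_two (by omega)
    obtain ⟨m, hm⟩ := hodd
    have hr2' : r = 2 := by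
      have h1 : Nat.card K * r = p - 1 := by rw [← hr, hu]
      have h3 : m ≤ Nat.card K := by omega
      have h4 : Nat.card K * r = 2 * m := by omega
      nlinarith
    have hKm : Nat.card K = m := by rw [hr2'] at hr; omega
    -- all multipliers are squares
    have hsq : ∀ s : F, 1 - ω * (s * s) ≠ 0 → IsSquare (1 - ω * (s * s)) := by
      intro s hs
      have h1 : Units.mk0 _ hs ∈ K := fun c hc => hmul s hs c hc
      have h3 : (⟨_, h1⟩ : K) ^ Nat.card K = 1 := pow_card_eq_one'
      have h4 : (1 - ω * (s * s)) ^ m = 1 := by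
        rw [hKm] at h3
        have h5 : (((⟨_, h1⟩ : K) ^ m : K) : Fˣ).val = ((1 : K) : Fˣ).val :=
          congrArg (fun u : K => ((u : Fˣ) : F)) h3
        rw [SubgroupClass.coe_pow, Units.val_pow_eq_pow_val] at h5
        exact h5
      rw [FiniteField.isSquare_iff hchar hs, show Fintype.card F / 2 = m by omega]
      exact h4
    obtain ⟨ν, hν⟩ := FiniteField.exists_nonsquare hchar
    have hν0 : ν ≠ 0 := by rintro rfl; exact hν IsSquare.zero
    obtain ⟨s, t, ht, hst⟩ : ∃ s t : F, t ≠ 0 ∧ ω * (s * s) + ν * (t * t) = 1 := by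
      obtain ⟨a, b, hab⟩ := FiniteField.exists_root_sum_quadratic
        (f := Polynomial.C ω * Polynomial.X ^ 2 - Polynomial.C 1)
        (g := Polynomial.C ν * Polynomial.X ^ 2)
        (by
          rw [Polynomial.degree_sub_eq_left_of_degree_lt]
          · rw [Polynomial.degree_C_mul_X_pow 2 hQw]; rfl
          · rw [Polynomial.degree_C_mul_X_pow 2 hQw, Polynomial.degree_C one_ne_zero]; decide)
        (by rw [Polynomial.degree_C_mul_X_pow 2 hν0]; rfl)
        (by rw [hcard]; omega)
      have hab' : ω * (a * a) + ν * (b * b) = 1 := by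
        simp only [Polynomial.eval_sub, Polynomial.eval_mul, Polynomial.eval_C,
          Polynomial.eval_pow, Polynomial.eval_X] at hab
        linear_combination hab
      by_cases hb : b = 0
      · obtain ⟨e, he0, he⟩ : ∃ e : F, e ≠ 0 ∧ 1 + ν * (e * e) ≠ 0 := by
          by_contra hcon
          push Not at hcon
          have e1 := hcon 1 one_ne_zero
          have e2 := hcon 2 h2
          have h3 : ((3 : ℕ) : F) ≠ 0 := by
            intro h3
            haveI : CharP F (ringChar F) := ringChar.charP F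
            have hd := (CharP.cast_eq_zero_iff F (ringChar F) 3).mp h3
            have hrp : ringChar F = p := by
              obtain ⟨k, hk, hqk⟩ := FiniteField.card F (ringChar F)
              have h1 : ringChar F ∣ p := hcard ▸ hqk ▸ dvd_pow_self _ k.ne_zero
              exact (Nat.prime_dvd_prime_iff_eq hk hp).mp h1
            rw [hrp] at hd
            have := Nat.le_of_dvd (by omega) hd
            omega
          refine hν0 ((mul_eq_zero.mp (show ((3 : ℕ) : F) * ν = 0 by
            push_cast; linear_combination e2 - e1)).resolve_left h3)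
        have hb' : ω * (a * a) = 1 := by rw [hb] at hab'; linear_combination hab'
        refine ⟨a * (1 - ν * (e * e)) / (1 + ν * (e * e)), 2 * e / (1 + ν * (e * e)),
          div_ne_zero (mul_ne_zero h2 he0) he, ?_⟩
        rw [div_mul_div_comm, div_mul_div_comm, mul_div_assoc', mul_div_assoc', ← add_div,
          div_eq_one_iff_eq (mul_ne_zero he he)]
        linear_combination (1 - ν * (e * e)) ^ 2 * hb'
      · exact ⟨a, b, hb, hab'⟩
    have hval' : 1 - ω * (s * s) = ν * (t * t) := by linear_combination -hst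
    have hne' : 1 - ω * (s * s) ≠ 0 := hval' ▸ mul_ne_zero hν0 (mul_ne_zero ht ht)
    obtain ⟨e, he⟩ := hsq s hne'
    rw [hval'] at he
    exact hν ⟨e / t, by field_simp; linear_combination he⟩
  have hall : ∀ c : F, c ≠ 0 → Good c := by
    intro c hc
    have := (show Units.mk0 (c / c₀) (div_ne_zero hc hc₀.1) ∈ K by rw [hKtop]; trivial) c₀ hc₀
    rwa [Units.val_mk0, mul_div_cancel₀ _ hc₀.1] at this
  intro y hy hQy
  obtain ⟨a, b, c, rfl⟩ := hex y hy
  by_cases hc : c = 0
  · subst hc
    have hb : b * b * ω = 1 := by rw [hval] at hQy; linear_combination hQy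
    have h2' : Q ((1 : F) • v + b • w + (0 : F) • v') = 1 := by rw [hval]; linear_combination hb
    obtain ⟨-, hS1⟩ := hall P⁻¹ (inv_ne_zero hP)
    have h1 := hgv (inv_ne_zero hP)
    rw [inv_mul_cancel₀ hP, inv_one] at hS1 h1
    have h3 := st2 h1 hS1 one_ne_zero b 0 h2'
    exact (st1 h2' h3).2 rfl a
  · exact (st1 (hgv hc) (hall c hc).2).1 hc b a hQy

end trans

end Frame
end H45
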