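import Mathlib
import Cfsg.Agent.H45.FrameRot
import Cfsg.Agent.H39.TIClassify

/-!
# Filling the unit sphere of a three-dimensional space

A set of unit vectors of `⟨a, b, u⟩` closed under its own reflections and under exchanging `a` and
`b` contains every unit vector once it contains a vector outside the octahedral configurations.
-/

set_option autoImplicit false
set_option linter.unusedSectionVars false

namespace H45
namespace Frame

open H43

lemma perm_four_squares : ∀ x y : Equiv.Perm (Fin 4), x ^ 4 = 1 → x ^ 2 ≠ 1 → y ^ 4 = 1 →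
    y ^ 2 ≠ 1 → x ^ 2 * y ^ 2 = y ^ 2 * x ^ 2 := by
  decide +kernel

lemma alt_four_no_four : ∀ x : alternatingGroup (Fin 4), x ^ 4 = 1 → x ^ 2 = 1 := by
  decide +kernel

lemma alt_five_no_four : ∀ x : alternatingGroup (Fin 5), x ^ 4 = 1 → x ^ 2 = 1 := by
  decide +kernel

variable {F : Type*} [Field F] [Fintype F] {V : Type*} [AddCommGroup V] [Module F V]
  [FiniteDimensional F V] {Q : QuadraticForm F V}

lemma finite_orth : Finite (orthGroup Q) :=
  haveI : Finite V := Module.finite_of_finite F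
  finite_orthGroup

set_option maxHeartbeats 2000000 in
/-- The sphere lemma. -/
theorem sphere_subset {p : ℕ} (hcard : Fintype.card F = p) (hp : p.Prime) (hp5 : 5 ≤ p)
    (hQ : (polB Q).Nondegenerate) (h2 : (2 : F) ≠ 0) {a b u : V} {δ : F} (hQa : Q a = 1)
    (hQb : Q b = 1) (hQu : Q u = δ) (hδ : δ ≠ 0) (hab : polB Q a b = 0) (hau : polB Q a u = 0)
    (hbu : polB Q b u = 0) (S : V → Prop)
    (hneg : ∀ y, S y → S (-y))
    (href : ∀ x y, x ∈ Submodule.span F ({a, b, u} : Set V) →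
      y ∈ Submodule.span F ({a, b, u} : Set V) → S x → S y → Q x = 1 → Q y = 1 →
      S ((refl Q x).1 y))
    (hSa : S a)
    (htau : ∀ y ∈ Submodule.span F ({a, b, u} : Set V), S y → S ((refl Q (a - b)).1 y))
    {z₁ z₂ : F} (hQz : Q (z₁ • a + z₂ • b + u) = 1) (hSz : S (z₁ • a + z₂ • b + u))
    (hne : z₁ ≠ 0 ∨ z₂ ≠ 0) (hex₁ : ¬ (z₁ = 0 ∧ 2 * (z₂ * z₂) = 1))
    (hex₂ : ¬ (z₂ = 0 ∧ 2 * (z₁ * z₁) = 1))
    (hex₄ : ¬ (4 * (z₁ * z₁) = 1 ∧ 4 * (z₂ * z₂) = 1)) :
    ∀ y ∈ Submodule.span F ({a, b, u} : Set V), Q y = 1 → S y := by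
  classical
  haveI : Finite (orthGroup Q) := finite_orth
  haveI : Fact p.Prime := ⟨hp⟩
  set U := Submodule.span F ({a, b, u} : Set V) with hUdef
  have haU : a ∈ U := Submodule.subset_span (by simp)
  have hbU : b ∈ U := Submodule.subset_span (by simp)
  have huU : u ∈ U := Submodule.subset_span (by simp)
  have hcomb : ∀ y ∈ U, ∃ x₁ x₂ x₃ : F, y = x₁ • a + x₂ • b + x₃ • u := by
    intro y hy
    obtain ⟨x₁, y', hy', rfl⟩ := Submodule.mem_span_insert.mp hy
    obtain ⟨x₂, y'', hy'', rfl⟩ := Submodule.mem_span_insert.mp hy'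
    obtain ⟨x₃, rfl⟩ := Submodule.mem_span_singleton.mp hy''
    exact ⟨x₁, x₂, x₃, (add_assoc _ _ _).symm⟩
  have hpa : ∀ x₁ x₂ x₃ : F, polB Q (x₁ • a + x₂ • b + x₃ • u) a = 2 * x₁ := by
    intro x₁ x₂ x₃
    simp [map_add, map_smul, polB_self, hQa, polB_comm b a, hab, polB_comm u a, hau, mul_comm]
  have hpb : ∀ x₁ x₂ x₃ : F, polB Q (x₁ • a + x₂ • b + x₃ • u) b = 2 * x₂ := by
    intro x₁ x₂ x₃
    simp [map_add, map_smul, polB_self, hQb, hab, polB_comm u b, hbu, mul_comm]
  have hpu : ∀ x₁ x₂ x₃ : F, polB Q (x₁ • a + x₂ • b + x₃ • u) u = 2 * δ * x₃ := by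
    intro x₁ x₂ x₃
    simp [map_add, map_smul, polB_self, hQu, hau, hbu, mul_comm]
  have huniq : ∀ x₁ x₂ x₃ y₁ y₂ y₃ : F,
      x₁ • a + x₂ • b + x₃ • u = y₁ • a + y₂ • b + y₃ • u → x₁ = y₁ ∧ x₂ = y₂ ∧ x₃ = y₃ := by
    intro x₁ x₂ x₃ y₁ y₂ y₃ h
    refine ⟨mul_left_cancel₀ h2 ?_, mul_left_cancel₀ h2 ?_,
      mul_left_cancel₀ (mul_ne_zero h2 hδ) ?_⟩
    · rw [← hpa x₁ x₂ x₃, ← hpa y₁ y₂ y₃, h]
    · rw [← hpb x₁ x₂ x₃, ← hpb y₁ y₂ y₃, h]
    · rw [← hpu x₁ x₂ x₃, ← hpu y₁ y₂ y₃, h]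
  have hU : U ⊓ (polB Q).orthogonal U = ⊥ := by
    rw [eq_bot_iff]
    rintro y ⟨hy, hy'⟩
    obtain ⟨x₁, x₂, x₃, rfl⟩ := hcomb y hy
    have e1 : polB Q (x₁ • a + x₂ • b + x₃ • u) a = 0 := by rw [polB_comm]; exact hy' a haU
    have e2 : polB Q (x₁ • a + x₂ • b + x₃ • u) b = 0 := by rw [polB_comm]; exact hy' b hbU
    have e3 : polB Q (x₁ • a + x₂ • b + x₃ • u) u = 0 := by rw [polB_comm]; exact hy' u huU
    rw [hpa] at e1; rw [hpb] at e2; rw [hpu] at e3
    rw [Submodule.mem_bot, (mul_eq_zero.mp e1).resolve_left h2,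
      (mul_eq_zero.mp e2).resolve_left h2,
      (mul_eq_zero.mp e3).resolve_left (mul_ne_zero h2 hδ)]
    simp
  have hU3 : Module.finrank F U = 3 := by
    have hli : LinearIndependent F ![a, b, u] := by
      rw [Fintype.linearIndependent_iff]
      intro c hc
      simp only [Fin.sum_univ_three, Matrix.cons_val_zero, Matrix.cons_val_one, Matrix.cons_val] at hc
      have := huniq (c 0) (c 1) (c 2) 0 0 0 (by rw [hc]; simp)
      intro i; fin_cases i
      exacts [this.1, this.2.1, this.2.2]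
    have h := finrank_span_eq_card hli
    rwa [Fintype.card_fin, Matrix.range_cons, Matrix.range_cons, Matrix.range_cons, Matrix.range_empty,
      Set.union_empty, Set.singleton_union, Set.singleton_union] at h
  -- the group
  let Γ₀ : Submonoid (orthGroup Q) :=
    { carrier := {g | Rot Q U g ∧ ∀ y ∈ U, Q y = 1 → S y → S (g.1 y)}
      mul_mem' := fun {g h} hg hh => ⟨rot_mul U hQ h2 hU hU3 hg.1 hh.1, fun y hy hQy hSy => by
        rw [orth_mul_apply]
        exact hg.2 _ (rot_maps U hQ h2 hU hU3 hh.1.1 hy) (by rw [orth_qmap]; exact hQy)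
          (hh.2 y hy hQy hSy)⟩
      one_mem' := ⟨⟨fun _ _ => rfl, dickson_one⟩, fun y _ _ h => h⟩ }
  let Γ : Subgroup (orthGroup Q) :=
    { Γ₀ with
      inv_mem' := fun {g} hg => by
        have h1 : g⁻¹ = g ^ (orderOf g - 1) := inv_eq_of_mul_eq_one_right (by
          rw [← pow_succ', Nat.sub_add_cancel (orderOf_pos g), pow_orderOf_eq_one])
        rw [h1]; exact Γ₀.pow_mem hg _ }
  have hrot : ∀ g : Γ, Rot Q U g.1 := fun g => g.2.1
  set nU := refl Q a * refl Q b * refl Q u with hnU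
  have hQab : Q (a - b) = 2 := by rw [qmap_sub, hQa, hQb, hab]; ring
  have hfixU : ∀ x ∈ U, ∀ y ∈ (polB Q).orthogonal U, (refl Q x).1 y = y :=
    fun x hx => refl_fix_orth U hQ h2 hU hU3 hx
  have hnneg : ∀ y ∈ U, nU.1 y = -y := by
    intro y hy
    obtain ⟨x₁, x₂, x₃, rfl⟩ := hcomb y hy
    have ea : nU.1 a = -a := by
      rw [hnU, orth_mul_apply, orth_mul_apply, refl_fix hau, refl_fix hab,
        refl_self (by rw [hQa]; exact one_ne_zero)]
    have eb : nU.1 b = -b := by
      rw [hnU, orth_mul_apply, orth_mul_apply, refl_fix hbu,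
        refl_self (by rw [hQb]; exact one_ne_zero), map_neg,
        refl_fix (v := a) (by rw [polB_comm]; exact hab)]
    have eu : nU.1 u = -u := by
      rw [hnU, orth_mul_apply, orth_mul_apply, refl_self (by rw [hQu]; exact hδ), map_neg, map_neg,
        refl_fix (v := b) (by rw [polB_comm]; exact hbu),
        refl_fix (v := a) (by rw [polB_comm]; exact hau)]
    rw [map_add, map_add, map_smul, map_smul, map_smul, ea, eb, eu]
    simp only [smul_neg, neg_add]
  have hhalf : ∀ x ∈ U, Q x ≠ 0 → Rot Q U (refl Q x * nU) := by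
    intro x hx hx0
    refine ⟨fun y hy => ?_, ?_⟩
    · rw [orth_mul_apply, hnU, orth_mul_apply, orth_mul_apply, hfixU u huU y hy, hfixU b hbU y hy,
        hfixU a haU y hy, hfixU x hx y hy]
    · rw [dickson_mul_rot U hQ h2 hU hU3, hnU, dickson_mul_rot U hQ h2 hU hU3,
        dickson_mul_rot U hQ h2 hU hU3, dickson_refl hQ hx0,
        dickson_refl hQ (by rw [hQa]; exact one_ne_zero),
        dickson_refl hQ (by rw [hQb]; exact one_ne_zero), dickson_refl hQ (by rw [hQu]; exact hδ)]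
      decide
  have hmemh : ∀ x ∈ U, Q x = 1 → S x → refl Q x * nU ∈ Γ := fun x hx hQx hSx =>
    ⟨hhalf x hx (by rw [hQx]; exact one_ne_zero), fun y hy hQy hSy => by
      rw [orth_mul_apply, hnneg y hy]
      exact href x (-y) hx (U.neg_mem hy) hSx (hneg y hSy) hQx (by rw [qmap_neg]; exact hQy)⟩
  have hmemt : refl Q (a - b) * nU ∈ Γ :=
    ⟨hhalf _ (U.sub_mem haU hbU) (by rw [hQab]; exact h2), fun y hy hQy hSy => by
      rw [orth_mul_apply, hnneg y hy, map_neg]
      exact hneg _ (htau y hy hSy)⟩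
  set zz := z₁ • a + z₂ • b + u with hzz
  have hzU : zz ∈ U := U.add_mem (U.add_mem (U.smul_mem _ haU) (U.smul_mem _ hbU)) huU
  let ha' : Γ := ⟨_, hmemh a haU hQa hSa⟩
  let hz' : Γ := ⟨_, hmemh zz hzU hQz hSz⟩
  let r4 : Γ := ⟨_, hmemt⟩ * ha'
  have r4a : r4.1.1 a = -b := by
    show (refl Q (a - b) * nU * (refl Q a * nU)).1 a = -b
    rw [orth_mul_apply, orth_mul_apply (refl Q a), hnneg a haU, map_neg (refl Q a).1,
      refl_self (by rw [hQa]; exact one_ne_zero), neg_neg, orth_mul_apply, hnneg a haU, map_neg,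
      refl_apply, hQab, map_sub, polB_self, hQa, hab, sub_zero, mul_one, inv_mul_cancel₀ h2,
      one_smul]
    abel
  have r4b : r4.1.1 b = a := by
    show (refl Q (a - b) * nU * (refl Q a * nU)).1 b = a
    rw [orth_mul_apply, orth_mul_apply (refl Q a), hnneg b hbU, map_neg,
      refl_fix (v := a) (by rw [polB_comm]; exact hab), map_neg, orth_mul_apply, hnneg b hbU,
      map_neg, neg_neg, refl_apply, hQab, map_sub, polB_self, hQb, polB_comm b a, hab, zero_sub,
      mul_one, mul_neg, inv_mul_cancel₀ h2, neg_smul, one_smul]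
    abel
  have r4u : r4.1.1 u = u := by
    show (refl Q (a - b) * nU * (refl Q a * nU)).1 u = u
    rw [orth_mul_apply, orth_mul_apply (refl Q a), hnneg u huU, map_neg,
      refl_fix (v := a) (by rw [polB_comm]; exact hau), map_neg, orth_mul_apply, hnneg u huU,
      map_neg, neg_neg, refl_fix (v := a - b)
        (by rw [map_sub, polB_comm, hau, polB_comm, hbu, sub_zero])]
  have r4sq : ∀ x₁ x₂ x₃ : F, (r4 ^ 2 : Γ).1.1 (x₁ • a + x₂ • b + x₃ • u) =
      (-x₁) • a + (-x₂) • b + x₃ • u := by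
    intro x₁ x₂ x₃
    rw [sq]
    show r4.1.1 (r4.1.1 _) = _
    simp only [map_add, map_smul, map_neg, r4a, r4b, r4u, smul_neg, neg_smul]
  have h2one : (-1 : F) ≠ 1 := fun hh => h2 (by linear_combination -hh)
  have r4sq_ne : (r4 ^ 2 : Γ) ≠ 1 := by
    intro e
    have h := r4sq 1 0 0
    rw [e] at h
    exact h2one (huniq _ _ _ _ _ _ h).1.symm
  have r4four : (r4 : Γ) ^ 4 = 1 := by
    apply Subtype.ext
    refine rot_ext U hQ h2 hU hU3 (hrot (r4 ^ 4)).1 (fun _ _ => rfl) fun y hy => ?_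
    obtain ⟨x₁, x₂, x₃, rfl⟩ := hcomb y hy
    rw [show (4 : ℕ) = 2 + 2 from rfl, pow_add]
    show (r4 ^ 2 : Γ).1.1 ((r4 ^ 2 : Γ).1.1 _) = _
    rw [r4sq, r4sq, neg_neg, neg_neg]
    rfl
  have r4ne : (r4 : Γ) ≠ 1 := fun e => r4sq_ne (by rw [e, one_pow])
  have fixu : ∀ c ∈ U, r4.1.1 c = c → ∃ t : F, c = t • u := fun c hc h =>
    axis_unique U hQ h2 hU hU3 (hrot r4) (fun e => r4ne (Subtype.ext e)) huU
      (fun e => hδ (by rw [← hQu, e, QuadraticMap.map_zero])) r4u hc h
  -- the element of order `p`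
  by_cases hP : ∃ g : Γ, g ≠ 1 ∧ g ^ p = 1
  · obtain ⟨g, hg1, hgp⟩ := hP
    obtain ⟨v, hv, hv0, hgv⟩ := exists_axis U hQ h2 hU hU3 (hrot g)
    have hg1' : g.1 ≠ 1 := fun e => hg1 (Subtype.ext e)
    have hgp' : g.1 ^ p = 1 := by rw [← Subgroup.coe_pow, hgp]; rfl
    have hQv : Q v = 0 := by
      by_contra hQv
      obtain ⟨φ, hφm, hφ1, hφi⟩ := exists_rot_char U hQ h2 hU hU3 hv hQv
      have hpow : ∀ k, Rot Q U (g.1 ^ k) ∧ (g.1 ^ k).1 v = v ∧ φ (g.1 ^ k) = φ g.1 ^ k := by
        intro k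
        induction k with
        | zero => exact ⟨by rw [pow_zero]; exact hrot 1, rfl, by rw [pow_zero, pow_zero, hφ1]⟩
        | succ k ih =>
          refine ⟨by rw [pow_succ]; exact rot_mul U hQ h2 hU hU3 ih.1 (hrot g), ?_, ?_⟩
          · rw [pow_succ, orth_mul_apply, hgv, ih.2.1]
          · rw [pow_succ, pow_succ, hφm _ _ ih.1 ih.2.1 (hrot g) hgv, ih.2.2]
      have h1 := (hpow p).2.2
      rw [hgp', hφ1] at h1
      haveI : CharP F p := by
        obtain ⟨q, hq⟩ := CharP.exists F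
        obtain ⟨k, hk, hqk⟩ := FiniteField.card F q
        have h3 : q ∣ p := hcard ▸ hqk ▸ dvd_pow_self q k.ne_zero
        rwa [(Nat.prime_dvd_prime_iff_eq hk hp).mp h3] at hq
      haveI : CharP (AlgebraicClosure F) p := charP_of_injective_algebraMap' F p
      have h3 : φ g.1 = 1 := frobenius_inj (AlgebraicClosure F) p (by
        rw [frobenius_def, frobenius_def, one_pow, ← h1])
      exact hg1' (hφi _ (hrot g) hgv h3)
    obtain ⟨h, hh⟩ : ∃ h : Γ, ∀ c : F, h.1.1 v ≠ c • v := by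
      obtain ⟨x₁, x₂, x₃, rfl⟩ := hcomb v hv
      by_contra hcon
      push Not at hcon
      obtain ⟨c, hc⟩ := hcon (r4 ^ 2)
      rw [r4sq, smul_add, smul_add, smul_smul, smul_smul, smul_smul] at hc
      obtain ⟨e1, e2, e3⟩ := huniq _ _ _ _ _ _ hc
      have hval : x₁ * x₁ + x₂ * x₂ + x₃ * x₃ * δ = 0 := by
        rw [← hQv]
        simp [qmap_add, qmap_smul, map_add, map_smul, hQa, hQb, hQu, hab, hau, hbu]
      by_cases hx3 : x₃ = 0
      · obtain ⟨d, hd⟩ := hcon ha'
        have ea : (refl Q a * nU).1 (x₁ • a + x₂ • b + x₃ • u) = x₁ • a + (-x₂) • b + (-x₃) • u := by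
          rw [orth_mul_apply, hnneg _ hv, map_neg, map_add, map_add, map_smul, map_smul, map_smul,
            refl_self (by rw [hQa]; exact one_ne_zero),
            refl_fix (v := a) (x := b) (by rw [polB_comm]; exact hab),
            refl_fix (v := a) (x := u) (by rw [polB_comm]; exact hau)]
          module
        change (refl Q a * nU).1 _ = _ at hd
        rw [ea, smul_add, smul_add, smul_smul, smul_smul, smul_smul] at hd
        obtain ⟨d1, d2, -⟩ := huniq _ _ _ _ _ _ hd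
        have hx1 : x₁ ≠ 0 := fun h0 => by
          rw [h0, hx3] at hval
          have hx2 : x₂ = 0 := mul_self_eq_zero.mp (by linear_combination hval)
          exact hv0 (by rw [h0, hx2, hx3]; simp)
        have hd' : d = 1 := mul_right_cancel₀ hx1 (by linear_combination -d1)
        rw [hd', one_mul] at d2
        have hx2 : x₂ = 0 := mul_left_cancel₀ h2 (by linear_combination -d2)
        rw [hx2, hx3] at hval
        exact hx1 (mul_self_eq_zero.mp (by linear_combination hval))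
      · have hc1 : c = 1 := mul_right_cancel₀ hx3 (by linear_combination -e3)
        rw [hc1, one_mul] at e1 e2
        have h1 : x₁ = 0 := mul_left_cancel₀ h2 (by linear_combination -e1)
        have h3 : x₂ = 0 := mul_left_cancel₀ h2 (by linear_combination -e2)
        rw [h1, h3] at hval
        exact mul_ne_zero (mul_ne_zero hx3 hx3) hδ (by linear_combination hval)
    refine unip_trans U hQ h2 hU hU3 hcard hp hp5 (hrot g) (hrot (h * g * h⁻¹)) hg1'
      (fun e => hg1 ?_) hgp' ?_ hv (rot_maps U hQ h2 hU hU3 (hrot h).1 hv) hQv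
      (by rw [orth_qmap]; exact hQv) hh hv0 hgv ?_ S
      (fun y hy hQy hSy => ⟨g.2.2 y hy hQy hSy, (h * g * h⁻¹).2.2 y hy hQy hSy⟩) haU hQa hSa
    · have e' : h * g * h⁻¹ = 1 := Subtype.ext e
      exact conj_eq_one_iff.mp e'
    · show (h * g * h⁻¹ : Γ).1 ^ p = 1
      rw [← Subgroup.coe_pow, conj_pow, hgp, mul_one, mul_inv_cancel]
      rfl
    · show (h.1 * g.1 * h.1⁻¹).1 (h.1.1 v) = h.1.1 v
      rw [orth_mul_apply, orth_mul_apply, orth_inv_apply_self, hgv]
  -- no element of order `p`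
  exfalso
  push Not at hP
  have hss : ∀ g : Γ, g ≠ 1 → g ^ p ≠ 1 := fun g hg => hP g hg
  have haxis : ∀ g : Γ, g ≠ 1 → ∃ c ∈ U, Q c ≠ 0 ∧ g.1.1 c = c ∧
      ∀ y ∈ U, g.1.1 y = y → ∃ t : F, y = t • c := by
    intro g hg
    have hg' : g.1 ≠ 1 := fun e => hg (Subtype.ext e)
    obtain ⟨c, hc, hc0, hgc⟩ := exists_axis U hQ h2 hU hU3 (hrot g)
    have huni : ∀ y ∈ U, g.1.1 y = y → ∃ t : F, y = t • c :=
      fun y hy h => axis_unique U hQ h2 hU hU3 (hrot g) hg' hc hc0 hgc hy h
    refine ⟨c, hc, ?_, hgc, huni⟩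
    intro hQc
    obtain ⟨y, hy, hy1⟩ := exists_pair U hQ h2 hU hU3 hc hc0
    set N := orderOf g with hN
    have hNne : (N : F) ≠ 0 := by
      intro h0
      obtain ⟨q, hq⟩ := CharP.exists F
      obtain ⟨k, hk, hqk⟩ := FiniteField.card F q
      haveI := hq
      have h3 : q ∣ p := hcard ▸ hqk ▸ dvd_pow_self q k.ne_zero
      rw [CharP.cast_eq_zero_iff F q, (Nat.prime_dvd_prime_iff_eq hk hp).mp h3] at h0
      obtain ⟨m, hm⟩ := h0
      have hNpos : 0 < N := orderOf_pos g
      refine hss (g ^ m) (pow_ne_one_of_lt_orderOf ?_ ?_) (by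
        rw [← pow_mul, mul_comm, ← hm, hN, pow_orderOf_eq_one])
      · rintro rfl; simp at hm; omega
      · rw [← hN, hm]
        rcases Nat.eq_zero_or_pos m with h | h
        · subst h; simp at hm; omega
        · nlinarith [hp.two_le]
    let Py := ∑ k ∈ Finset.range N, (g ^ k : Γ).1.1 y
    have hPyU : Py ∈ U := U.sum_mem fun k _ => rot_maps U hQ h2 hU hU3 (hrot (g ^ k)).1 hy
    have hPfix : g.1.1 Py = Py := by
      have h1 : g.1.1 Py = ∑ k ∈ Finset.range N, (g ^ (k + 1) : Γ).1.1 y := by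
        rw [map_sum]
        refine Finset.sum_congr rfl fun k _ => ?_
        rw [pow_succ']; rfl
      have h3 := Finset.sum_range_succ' (fun k => (g ^ k : Γ).1.1 y) N
      have h4 := Finset.sum_range_succ (fun k => (g ^ k : Γ).1.1 y) N
      rw [h4, ← h1, show (g ^ N : Γ) = 1 by rw [hN, pow_orderOf_eq_one], pow_zero] at h3
      exact (add_right_cancel h3).symm
    obtain ⟨t, ht⟩ := huni Py hPyU hPfix
    have hk : ∀ k : ℕ, (g ^ k : Γ).1.1 c = c := by
      intro k
      induction k with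
      | zero => rfl
      | succ k ih => rw [pow_succ]; show (g ^ k : Γ).1.1 (g.1.1 c) = c; rw [hgc, ih]
    have h1 : polB Q Py c = (N : F) * polB Q y c := by
      rw [map_sum, LinearMap.sum_apply, Finset.sum_congr rfl fun k _ => show
        polB Q ((g ^ k : Γ).1.1 y) c = polB Q y c by
          conv_lhs => rw [← hk k]
          exact orth_polB_map _ y c, Finset.sum_const, Finset.card_range, nsmul_eq_mul]
    rw [ht, map_smul, LinearMap.smul_apply, polB_self, hQc, mul_zero, smul_zero] at h1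
    exact mul_ne_zero hNne (by rw [polB_comm]; exact hy1) h1.symm
  let T : Γ → Subgroup Γ := fun x =>
    { carrier := {g | ∀ v ∈ U, x.1.1 v = v → g.1.1 v = v}
      mul_mem' := fun {g h} hg hh v hv hxv => by
        show g.1.1 (h.1.1 v) = v
        rw [hh v hv hxv, hg v hv hxv]
      one_mem' := fun _ _ _ => rfl
      inv_mem' := fun {g} hg v hv hxv => by
        show (g.1⁻¹).1 v = v
        conv_lhs => rw [← hg v hv hxv]
        rw [orth_inv_apply_self] }
  have hTmem : ∀ {x g : Γ} {c : V}, c ∈ U → x.1.1 c = c →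
      (∀ y ∈ U, x.1.1 y = y → ∃ t : F, y = t • c) → (g ∈ T x ↔ g.1.1 c = c) := by
    intro x g c hc hxc hu
    refine ⟨fun h => h c hc hxc, fun h v hv hxv => ?_⟩
    obtain ⟨t, rfl⟩ := hu v hv hxv
    rw [map_smul, h]
  have hnorm : ∀ {x g : Γ}, x ≠ 1 → g ∈ Subgroup.normalizer (T x : Set Γ) → ∀ c ∈ U, Q c ≠ 0 →
      x.1.1 c = c → (∀ y ∈ U, x.1.1 y = y → ∃ t : F, y = t • c) →
      g.1.1 c = c ∨ g.1.1 c = -c := by
    intro x g hx hg c hc hQc hxc hu
    have h1 : g⁻¹ * x * g⁻¹⁻¹ ∈ T x :=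
      (Subgroup.mem_normalizer_iff.mp (inv_mem hg) x).mp fun v _ h => h
    obtain ⟨c', hc', hQc', hc'fix, hu'⟩ := haxis (g⁻¹ * x * g⁻¹⁻¹) (fun e => hx (conj_eq_one_iff.mp e))
    obtain ⟨t, ht⟩ := hu' c hc ((hTmem hc hxc hu).mp h1)
    have h3 : x.1.1 (g.1.1 c') = g.1.1 c' := by
      have h4 : (g.1⁻¹ * x.1 * g.1⁻¹⁻¹).1 c' = c' := hc'fix
      rw [inv_inv, orth_mul_apply, orth_mul_apply] at h4
      conv_rhs => rw [← h4, orth_apply_inv_self]
    obtain ⟨s, hs⟩ := hu _ (rot_maps U hQ h2 hU hU3 (hrot g).1 hc') h3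
    have hgc : g.1.1 c = (t * s) • c := by rw [ht, map_smul, hs, smul_smul, ← ht]
    have hsq : (t * s) * (t * s) = 1 := by
      have := orth_qmap g.1 c
      rw [hgc, qmap_smul] at this
      exact mul_right_cancel₀ hQc (this.trans (one_mul _).symm)
    rcases mul_self_eq_one_iff.mp hsq with h | h <;> rw [hgc, h]
    · exact Or.inl (one_smul _ _)
    · exact Or.inr (by rw [neg_one_smul])
  let hTI : H39.TIData Γ p := by
    refine
      { T := T
        mem := fun x v _ h => h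
        eq_of_mem := ?_
        map_conj := ?_
        comm := ?_
        pow_p := fun hx hxp _ => absurd hxp (hss _ hx)
        comm_p := fun hx hxp _ => absurd hxp (hss _ hx)
        cyclic := ?_
        normalizer_ss := ?_
        outside := ?_
        borel := fun hz hzp => absurd hzp (hss _ hz) }
    · intro x y hx hy hy1
      obtain ⟨c, hc, hQc, hxc, hu⟩ := haxis x hx
      obtain ⟨c', hc', -, hyc', hu'⟩ := haxis y hy1
      have hyc : y.1.1 c = c := (hTmem hc hxc hu).mp hy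
      have hu2 : ∀ w ∈ U, y.1.1 w = w → ∃ t : F, w = t • c := by
        intro w hw hyw
        obtain ⟨t, ht⟩ := hu' w hw hyw
        obtain ⟨s, hs⟩ := hu' c hc hyc
        have hs0 : s ≠ 0 := fun e => hQc (by rw [hs, e, zero_smul, QuadraticMap.map_zero])
        exact ⟨t / s, by rw [ht, hs, smul_smul, div_mul_cancel₀ _ hs0]⟩
      ext g
      rw [hTmem hc hyc hu2, hTmem hc hxc hu]
    · intro g x
      ext k
      rw [Subgroup.mem_map_equiv]
      show (∀ v ∈ U, (g.1 * x.1 * g.1⁻¹).1 v = v → k.1.1 v = v) ↔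
        ∀ v ∈ U, x.1.1 v = v → (g.1⁻¹ * k.1 * g.1).1 v = v
      constructor
      · intro h v hv hxv
        rw [orth_mul_apply, orth_mul_apply, h _ (rot_maps U hQ h2 hU hU3 (hrot g).1 hv)
          (by rw [orth_mul_apply, orth_mul_apply, orth_inv_apply_self, hxv]), orth_inv_apply_self]
      · intro h v hv hxv
        rw [orth_mul_apply, orth_mul_apply] at hxv
        have h1 := h _ (rot_maps U hQ h2 hU hU3 (hrot g⁻¹).1 hv) (by
          show x.1.1 ((g.1⁻¹).1 v) = (g.1⁻¹).1 v
          conv_rhs => rw [← hxv, orth_inv_apply_self])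
        rw [orth_mul_apply, orth_mul_apply] at h1
        change (g.1⁻¹).1 (k.1.1 (g.1.1 ((g.1⁻¹).1 v))) = (g.1⁻¹).1 v at h1
        rw [orth_apply_inv_self] at h1
        exact (g.1⁻¹).1.injective h1
    · intro x y w hx hy hw
      obtain ⟨c, hc, hQc, hxc, hu⟩ := haxis x hx
      exact Subtype.ext (rot_comm U hQ h2 hU hU3 hc hQc (hrot y) ((hTmem hc hxc hu).mp hy) (hrot w)
        ((hTmem hc hxc hu).mp hw))
    · intro x hx
      obtain ⟨c, hc, hQc, hxc, hu⟩ := haxis x (fun e => hx (by rw [e, one_pow]))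
      obtain ⟨φ, hφm, hφ1, hφi⟩ := exists_rot_char U hQ h2 hU hU3 hc hQc
      let f : T x →* AlgebraicClosure F :=
        { toFun := fun g => φ g.1.1
          map_one' := hφ1
          map_mul' := fun g k => hφm _ _ (hrot g.1) ((hTmem hc hxc hu).mp g.2) (hrot k.1)
            ((hTmem hc hxc hu).mp k.2) }
      have hcom : ∀ g k : T x, g * k = k * g := fun g k => Subtype.ext (Subtype.ext
        (rot_comm U hQ h2 hU hU3 hc hQc (hrot g.1) ((hTmem hc hxc hu).mp g.2) (hrot k.1)
          ((hTmem hc hxc hu).mp k.2)))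
      refine isCyclic_of_injective_ringHom f ?_
      intro g k hgk
      have h1 : φ (g * k⁻¹).1.1 = 1 := by
        have e1 : f (g * k⁻¹) = 1 := by
          rw [map_mul, hgk, ← map_mul, mul_inv_cancel, map_one]
        exact e1
      have := hφi _ (hrot (g * k⁻¹).1) ((hTmem hc hxc hu).mp (g * k⁻¹).2) h1
      exact mul_inv_eq_one.mp (Subtype.ext (Subtype.ext this))
    · intro x g hx hg hgn
      have hx1 : x ≠ 1 := fun e => hx (by rw [e, one_pow])
      obtain ⟨c, hc, hQc, hxc, hu⟩ := haxis x hx1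
      have hgc : g.1.1 c = -c :=
        (hnorm hx1 hg c hc hQc hxc hu).resolve_left fun h => hgn ((hTmem hc hxc hu).mpr h)
      have h := rot_neg_axis U hQ h2 hU hU3 hc hQc (hrot g) hgc
      refine ⟨Subtype.ext (by rw [sq]; exact h.1), fun y hy => Subtype.ext ?_⟩
      exact h.2 _ (hrot y) ((hTmem hc hxc hu).mp hy)
    · intro x g h hx hg hh hgn hhn
      have hx1 : x ≠ 1 := fun e => hx (by rw [e, one_pow])
      obtain ⟨c, hc, hQc, hxc, hu⟩ := haxis x hx1
      have hgc : g.1.1 c = -c :=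
        (hnorm hx1 hg c hc hQc hxc hu).resolve_left fun h => hgn ((hTmem hc hxc hu).mpr h)
      have hhc : h.1.1 c = -c :=
        (hnorm hx1 hh c hc hQc hxc hu).resolve_left fun h => hhn ((hTmem hc hxc hu).mpr h)
      exact (hTmem hc hxc hu).mpr (by
        show g.1.1 (h.1.1 c) = c
        rw [hhc, map_neg, hgc, neg_neg])
  haveI : Fintype Γ := Fintype.ofFinite _
  have hG : 1 < Nat.card Γ := Finite.one_lt_card_iff_nontrivial.2 ⟨⟨r4, 1, r4ne⟩⟩
  have hfixall : (∀ g : Γ, g.1.1 u = u ∨ g.1.1 u = -u) → False := by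
    intro h
    have h1 : hz'.1.1 u = (2 * δ * z₁) • a + (2 * δ * z₂) • b + (2 * δ - 1) • u := by
      show (refl Q zz * nU).1 u = _
      rw [orth_mul_apply, hnneg u huU, map_neg, refl_apply, hQz, inv_one, one_mul,
        polB_comm u zz, hzz]
      have := hpu z₁ z₂ 1
      rw [one_smul, mul_one] at this
      rw [this]
      module
    have key : ∀ e : F, hz'.1.1 u = (0 : F) • a + (0 : F) • b + e • u → False := by
      intro e he
      rw [h1] at he
      obtain ⟨e1, e2, -⟩ := huniq _ _ _ _ _ _ he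
      rcases hne with h0 | h0
      · exact h0 ((mul_eq_zero.mp e1).resolve_left (mul_ne_zero h2 hδ))
      · exact h0 ((mul_eq_zero.mp e2).resolve_left (mul_ne_zero h2 hδ))
    rcases h hz' with h' | h'
    · exact key 1 (by rw [h']; simp)
    · exact key (-1) (by rw [h']; simp)
  rcases (H39.TIData.classify_ss hTI hG hss) with h | ⟨x, hx, h⟩ | ⟨x, hx, h⟩ | ⟨z, hz, hzp, -⟩ |
    h | h | h | ⟨z, -, hz, hzp, -⟩
  · omega
  · have hx1 : x ≠ 1 := fun e => hx (by rw [e, one_pow])
    obtain ⟨c, hc, hQc, hxc, hu⟩ := haxis x hx1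
    have hTx : hTI.T x = T x := rfl
    obtain ⟨t, ht⟩ := fixu c hc ((hTmem hc hxc hu).mp (by rw [← hTx, h]; trivial))
    have ht0 : t ≠ 0 := fun e => hQc (by rw [ht, e, zero_smul, QuadraticMap.map_zero])
    refine hfixall fun g => Or.inl ?_
    have h1 : g.1.1 c = c := (hTmem hc hxc hu).mp (by rw [← hTx, h]; trivial)
    rw [ht, map_smul] at h1
    exact smul_right_injective V ht0 h1
  · have hx1 : x ≠ 1 := fun e => hx (by rw [e, one_pow])
    obtain ⟨c, hc, hQc, hxc, hu⟩ := haxis x hx1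
    have hnt : ∀ g : Γ, g ∈ Subgroup.normalizer (hTI.T x : Set Γ) := by
      have := Subgroup.normal_of_index_eq_two h
      intro g
      rw [Subgroup.normalizer_eq_top]
      trivial
    have hr4 : r4 ∈ hTI.T x := by
      by_contra hn
      exact r4sq_ne (hTI.normalizer_ss hx (hnt r4) hn).1
    obtain ⟨t, ht⟩ := fixu c hc ((hTmem hc hxc hu).mp hr4)
    have ht0 : t ≠ 0 := fun e => hQc (by rw [ht, e, zero_smul, QuadraticMap.map_zero])
    refine hfixall fun g => ?_
    rcases hnorm hx1 (hnt g) c hc hQc hxc hu with h1 | h1 <;> rw [ht, map_smul] at h1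
    · exact Or.inl (smul_right_injective V ht0 h1)
    · exact Or.inr (smul_right_injective V ht0 (h1.trans (smul_neg t u).symm))
  · exact hss z hz hzp
  · obtain ⟨e⟩ := h
    exact r4sq_ne (e.injective (by
      rw [map_pow, map_one]
      exact alt_four_no_four _ (by rw [← map_pow, r4four, map_one])))
  · obtain ⟨e⟩ := h
    -- the squares of the elements of order four commute
    have hsqc : ∀ g h : Γ, Commute (g * r4 ^ 2 * g⁻¹) (h * r4 ^ 2 * h⁻¹) := by
      intro g h
      have key : ∀ g : Γ, g * r4 ^ 2 * g⁻¹ = (g * r4 * g⁻¹) ^ 2 ∧ e (g * r4 * g⁻¹) ^ 4 = 1 ∧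
          e (g * r4 * g⁻¹) ^ 2 ≠ 1 := fun g => ⟨conj_pow.symm,
        by rw [← map_pow, conj_pow, r4four, mul_one, mul_inv_cancel, map_one],
        fun hc => r4sq_ne (by
          rw [← map_pow, ← map_one e] at hc
          have := e.injective hc
          rw [conj_pow] at this
          exact conj_eq_one_iff.mp this)⟩
      rw [Commute, SemiconjBy, (key g).1, (key h).1]
      apply e.injective
      rw [map_mul, map_mul, map_pow, map_pow]
      exact perm_four_squares _ _ (key g).2.1 (key g).2.2 (key h).2.1 (key h).2.2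
    set k := r4 ^ 2 with hk
    have hku : k.1.1 u = u := by
      have := r4sq 0 0 1
      simpa [hk] using this
    -- if two conjugates commute, each maps the axis of the other to a multiple
    have hmove : ∀ g h : Γ, ∃ t : F,
        (g * k * g⁻¹ : Γ).1.1 (h.1.1 u) = t • h.1.1 u := by
      intro g h
      have hne' : (h * k * h⁻¹ : Γ).1 ≠ 1 := fun e' => r4sq_ne
        (conj_eq_one_iff.mp (Subtype.ext e'))
      have hfix : (h * k * h⁻¹ : Γ).1.1 (h.1.1 u) = h.1.1 u := by
        show h.1.1 (k.1.1 ((h.1⁻¹).1 (h.1.1 u))) = _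
        rw [orth_inv_apply_self, hku]
      have hhu : h.1.1 u ∈ U := rot_maps U hQ h2 hU hU3 (hrot h).1 huU
      refine axis_unique U hQ h2 hU hU3 (hrot _) hne' hhu
        (fun e' => hδ ?_) hfix (rot_maps U hQ h2 hU hU3 (hrot _).1 hhu) ?_
      · rw [← hQu, ← orth_qmap h.1 u, e', QuadraticMap.map_zero]
      · rw [← orth_mul_apply, ← Subgroup.coe_mul, (hsqc h g).eq, Subgroup.coe_mul, orth_mul_apply,
          hfix]
    have h1 : hz'.1.1 u = (2 * δ * z₁) • a + (2 * δ * z₂) • b + (2 * δ - 1) • u := by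
      show (refl Q zz * nU).1 u = _
      rw [orth_mul_apply, hnneg u huU, map_neg, refl_apply, hQz, inv_one, one_mul,
        polB_comm u zz, hzz]
      have := hpu z₁ z₂ 1
      rw [one_smul, mul_one] at this
      rw [this]
      module
    obtain ⟨t, ht⟩ := hmove 1 hz'
    rw [one_mul, inv_one, mul_one, h1, r4sq, smul_add, smul_add, smul_smul, smul_smul, smul_smul]
      at ht
    obtain ⟨e1, e2, e3⟩ := huniq _ _ _ _ _ _ ht
    have hd : 2 * δ = 1 := by
      by_contra hd
      have ht1 : t = 1 := mul_right_cancel₀ (sub_ne_zero.mpr hd) (by linear_combination -e3)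
      rcases hne with h0 | h0
      · exact mul_ne_zero (mul_ne_zero h2 (mul_ne_zero h2 hδ)) h0
          (by rw [ht1] at e1; linear_combination -e1)
      · exact mul_ne_zero (mul_ne_zero h2 (mul_ne_zero h2 hδ)) h0
          (by rw [ht1] at e2; linear_combination -e2)
    have hw1 : hz'.1.1 u = z₁ • a + z₂ • b + (0 : F) • u := by rw [h1, hd]; simp
    have hw2 : (ha' * hz' : Γ).1.1 u = z₁ • a + (-z₂) • b + (0 : F) • u := by
      show (refl Q a * nU).1 (hz'.1.1 u) = _
      rw [hw1, orth_mul_apply, hnneg _ (U.add_mem (U.add_mem (U.smul_mem _ haU)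
        (U.smul_mem _ hbU)) (U.smul_mem _ huU)), map_neg, map_add, map_add, map_smul, map_smul,
        map_smul, refl_self (by rw [hQa]; exact one_ne_zero),
        refl_fix (v := a) (x := b) (by rw [polB_comm]; exact hab),
        refl_fix (v := a) (x := u) (by rw [polB_comm]; exact hau)]
      module
    obtain ⟨s, hs⟩ := hmove hz' (ha' * hz')
    have hQz' : z₁ * z₁ + z₂ * z₂ + δ = 1 := by
      rw [← hQz, hzz]
      simp [qmap_add, qmap_smul, map_add, map_smul, hQa, hQb, hQu, hab, hau, hbu]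
    have hhalf2 : 2 * (z₁ * z₁ + z₂ * z₂) = 1 := by linear_combination 2 * hQz' - hd
    have hfix : (hz' * k * hz'⁻¹ : Γ).1.1 (hz'.1.1 u) = hz'.1.1 u := by
      show hz'.1.1 (k.1.1 ((hz'.1⁻¹).1 (hz'.1.1 u))) = _
      rw [orth_inv_apply_self, hku]
    have hp2 := orth_polB_map (hz' * k * hz'⁻¹ : Γ).1 ((ha' * hz' : Γ).1.1 u) (hz'.1.1 u)
    rw [hs, hfix, map_smul, LinearMap.smul_apply, smul_eq_mul, hw1, hw2] at hp2
    simp only [map_add, map_smul, LinearMap.add_apply, LinearMap.smul_apply, polB_self, hQa, hQb,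
      hab, polB_comm b a, hau, hbu, polB_comm u a, polB_comm u b, zero_smul, smul_eq_mul, map_zero,
      LinearMap.zero_apply, mul_zero, add_zero, zero_add, mul_one] at hp2
    by_cases hs1 : s = 1
    · obtain ⟨c, hc⟩ := axis_unique U hQ h2 hU hU3 (hrot (hz' * k * hz'⁻¹))
        (fun e' => r4sq_ne (conj_eq_one_iff.mp (Subtype.ext e')))
        (rot_maps U hQ h2 hU hU3 (hrot hz').1 huU)
        (fun e' => hδ (by rw [← hQu, ← orth_qmap hz'.1 u, e', QuadraticMap.map_zero])) hfix
        (rot_maps U hQ h2 hU hU3 (hrot (ha' * hz')).1 huU) (by rw [hs, hs1, one_smul])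
      rw [hw1, hw2, smul_add, smul_add, smul_smul, smul_smul, smul_smul] at hc
      obtain ⟨c1, c2, -⟩ := huniq _ _ _ _ _ _ hc
      by_cases h0 : z₁ = 0
      · exact hex₁ ⟨h0, by rw [h0] at hhalf2; linear_combination hhalf2⟩
      · have hc1 : c = 1 := mul_right_cancel₀ h0 (by linear_combination -c1)
        rw [hc1, one_mul] at c2
        have h3 : z₂ = 0 := mul_left_cancel₀ h2 (by linear_combination -c2)
        exact hex₂ ⟨h3, by rw [h3] at hhalf2; linear_combination hhalf2⟩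
    · have h3 : z₁ * z₁ - z₂ * z₂ = 0 :=
        mul_left_cancel₀ (mul_ne_zero h2 (sub_ne_zero.mpr hs1)) (by linear_combination hp2)
      exact hex₄ ⟨by linear_combination hhalf2 + 2 * h3, by linear_combination hhalf2 - 2 * h3⟩
  · obtain ⟨e⟩ := h
    exact r4sq_ne (e.injective (by
      rw [map_pow, map_one]
      exact alt_five_no_four _ (by rw [← map_pow, r4four, map_one])))
  · exact hss z hz hzp

end Frame
end H45
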