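import Mathlib
import Cfsg.Agent.H45.FrameBase

/-!
# An overgroup of the frame stabiliser moves into the stabiliser of a coordinate vector

The sign changes form a subgroup with centralisers inside the frame stabiliser as long as no
element outside it fixes a coordinate line; then comparing two classes of involutions by means of
products of even and odd order gives a contradiction.
-/

set_option autoImplicit false
set_option linter.unusedSectionVars false

namespace H45
namespace Frame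

open H43
open scoped Matrix symmDiff

/-! ### Permutation groups -/

section perms

variable {α : Type*} [Fintype α] [DecidableEq α]

/-- Commuting permutations of a set, normalised by its alternating group, are trivial. -/
lemma abel_normalised_trivial (N : Set (Equiv.Perm α)) (P : Finset α) (hP : 5 ≤ P.card)
    (hcomm : ∀ σ ∈ N, ∀ τ ∈ N, σ * τ = τ * σ)
    (hconj : ∀ σ ∈ N, ∀ t : Equiv.Perm α, Equiv.Perm.sign t = 1 → (∀ k, k ∉ P → t k = k) →
      t * σ * t⁻¹ ∈ N)
    (hfix : ∀ σ ∈ N, ∀ k, k ∉ P → σ k = k) {σ : Equiv.Perm α} (hσ : σ ∈ N) : σ = 1 := by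
  by_contra hne
  obtain ⟨a, ha⟩ : ∃ a, σ a ≠ a := by
    by_contra h; push Not at h; exact hne (Equiv.ext h)
  set b := σ a with hb
  have haP : a ∈ P := by by_contra h; exact ha (hfix σ hσ a h)
  have hbP : b ∈ P := by
    by_contra h
    exact ha (σ.injective (hfix σ hσ b h))
  have hpick : ∀ s : Finset α, s.card ≤ 4 → ∃ d ∈ P, d ∉ s := fun s hs =>
    Finset.exists_mem_notMem_of_card_lt_card (lt_of_le_of_lt hs (by omega))
  -- a three-cycle on `P`
  have three : ∀ x y z : α, x ∈ P → y ∈ P → z ∈ P → x ≠ y → y ≠ z → z ≠ x →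
      ∃ t : Equiv.Perm α, Equiv.Perm.sign t = 1 ∧ (∀ k, k ∉ P → t k = k) ∧ t x = y ∧ t y = z ∧
        t z = x ∧ ∀ k, k ≠ x → k ≠ y → k ≠ z → t k = k := by
    intro x y z hx hy hz hxy hyz hzx
    refine ⟨Equiv.swap x z * Equiv.swap x y, ?_, ?_, ?_, ?_, ?_, ?_⟩
    · rw [Equiv.Perm.sign_mul, Equiv.Perm.sign_swap hzx.symm, Equiv.Perm.sign_swap hxy]; rfl
    · intro k hk
      have h1 : k ≠ x := fun e => hk (e ▸ hx)
      have h2 : k ≠ y := fun e => hk (e ▸ hy)
      have h3 : k ≠ z := fun e => hk (e ▸ hz)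
      simp [Equiv.Perm.mul_apply, Equiv.swap_apply_of_ne_of_ne h1 h2,
        Equiv.swap_apply_of_ne_of_ne h1 h3]
    · simp [Equiv.Perm.mul_apply, Equiv.swap_apply_of_ne_of_ne hxy.symm hyz]
    · simp [Equiv.Perm.mul_apply]
    · simp [Equiv.Perm.mul_apply, Equiv.swap_apply_of_ne_of_ne hzx hyz.symm]
    · intro k h1 h2 h3
      simp [Equiv.Perm.mul_apply, Equiv.swap_apply_of_ne_of_ne h1 h2,
        Equiv.swap_apply_of_ne_of_ne h1 h3]
  -- every point of `P` is an image of `a` under a member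
  have hreach : ∀ x ∈ P, x = a ∨ ∃ μ ∈ N, μ a = x := by
    intro x hx
    by_cases hxa : x = a
    · exact Or.inl hxa
    right
    by_cases hxb : x = b
    · exact ⟨σ, hσ, hxb.symm⟩
    obtain ⟨d, hdP, hd⟩ := hpick {a, b, x} (le_trans Finset.card_le_three (by omega))
    simp only [Finset.mem_insert, Finset.mem_singleton, not_or] at hd
    obtain ⟨t, hs, hf, h1, -, -, hrest⟩ := three b x d hbP hx hdP (fun e => hxb e.symm)
      (fun e => hd.2.2 e.symm) hd.2.1
    refine ⟨t * σ * t⁻¹, hconj σ hσ t hs hf, ?_⟩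
    have hta : t a = a := hrest a (fun e => ha e.symm) (fun e => hxa e.symm) (fun e => hd.1 e.symm)
    have : t⁻¹ a = a := by conv_lhs => rw [← hta]; rw [Equiv.Perm.inv_def, Equiv.symm_apply_apply]
    rw [Equiv.Perm.mul_apply, Equiv.Perm.mul_apply, this, ← hb, h1]
  have huniq : ∀ τ ∈ N, τ a = σ a → τ = σ := by
    intro τ hτ h
    refine Equiv.ext fun x => ?_
    by_cases hx : x ∈ P
    · rcases hreach x hx with rfl | ⟨μ, hμ, rfl⟩
      · exact h
      · have e1 := congrFun (congrArg DFunLike.coe (hcomm τ hτ μ hμ)) a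
        have e2 := congrFun (congrArg DFunLike.coe (hcomm σ hσ μ hμ)) a
        simp only [Equiv.Perm.mul_apply] at e1 e2
        rw [e1, e2, h]
    · rw [hfix τ hτ x hx, hfix σ hσ x hx]
  obtain ⟨c, hcP, hc⟩ := hpick {a, b} (le_trans Finset.card_le_two (by omega))
  simp only [Finset.mem_insert, Finset.mem_singleton, not_or] at hc
  set c' := σ c with hc'
  have hcc : c' ≠ c := by
    intro e
    rcases hreach c hcP with h | ⟨μ, hμ, h⟩
    · exact hc.1 h
    · have e2 := congrFun (congrArg DFunLike.coe (hcomm σ hσ μ hμ)) a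
      simp only [Equiv.Perm.mul_apply] at e2
      rw [h, ← hc', e, ← hb] at e2
      exact ha (μ.injective (h.trans e2).symm)
  -- `σ` commutes with every three-cycle fixing `a` and `b`
  have hcm : ∀ t : Equiv.Perm α, Equiv.Perm.sign t = 1 → (∀ k, k ∉ P → t k = k) → t a = a →
      t b = b → ∀ k, t (σ k) = σ (t k) := by
    intro t hs hfx hta htb k
    have h' : t⁻¹ a = a := by
      conv_lhs => rw [← hta]; rw [Equiv.Perm.inv_def, Equiv.symm_apply_apply]
    have e := huniq _ (hconj σ hσ t hs hfx)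
      (by rw [Equiv.Perm.mul_apply, Equiv.Perm.mul_apply, h', ← hb, htb])
    conv_rhs => rw [← e]
    simp [Equiv.Perm.mul_apply]
  have hsb : σ b = a := by
    by_contra hne'
    have hxb : σ b ≠ b := fun e => ha (σ.injective (e.trans hb))
    have hxP : σ b ∈ P := by
      by_contra h
      exact hxb ((σ.injective (hfix σ hσ _ h)))
    obtain ⟨d, hdP, hd⟩ := hpick {a, b, σ b} (le_trans Finset.card_le_three (by omega))
    obtain ⟨f, hfP, hf⟩ := hpick {a, b, σ b, d} (le_trans Finset.card_le_four (by omega))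
    simp only [Finset.mem_insert, Finset.mem_singleton, not_or] at hd hf
    obtain ⟨t, hs, hfx, h1, -, -, hrest⟩ := three (σ b) d f hxP hdP hfP (fun e => hd.2.2 e.symm)
      (fun e => hf.2.2.2 e.symm) hf.2.2.1
    have hta : t a = a := hrest a (fun e => hne' e.symm) (fun e => hd.1 e.symm) (fun e => hf.1 e.symm)
    have htb : t b = b := hrest b (fun e => hxb e.symm) (fun e => hd.2.1 e.symm)
      (fun e => hf.2.1 e.symm)
    have h3 := hcm t hs hfx hta htb b
    rw [h1, htb] at h3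
    exact hd.2.2 h3
  have hsc : σ c' = c := by
    rcases hreach c hcP with h | ⟨μ, hμ, h⟩
    · exact absurd h hc.1
    · have e1 := congrFun (congrArg DFunLike.coe (hcomm σ hσ μ hμ)) a
      simp only [Equiv.Perm.mul_apply] at e1
      rw [h, ← hc', ← hb] at e1
      have e2 := congrFun (congrArg DFunLike.coe (hcomm σ hσ μ hμ)) b
      simp only [Equiv.Perm.mul_apply] at e2
      rw [hsb, h, ← e1] at e2
      exact e2
  have hca : c' ≠ a := fun e => hc.2 (σ.injective ((hc'.symm.trans e).trans hsb.symm))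
  have hcb : c' ≠ b := fun e => hc.1 (σ.injective ((hc'.symm.trans e).trans hb))
  have hc'P : c' ∈ P := by
    by_contra h
    exact hcc (σ.injective (hfix σ hσ _ h))
  obtain ⟨d, hdP, hd⟩ := hpick {a, b, c, c'} (le_trans Finset.card_le_four (by omega))
  simp only [Finset.mem_insert, Finset.mem_singleton, not_or] at hd
  obtain ⟨t, hs, hfx, h1, h2, -, hrest⟩ := three c c' d hcP hc'P hdP (fun e => hcc e.symm)
    (fun e => hd.2.2.2 e.symm) hd.2.2.1
  have hta : t a = a := hrest a (fun e => hc.1 e.symm) (fun e => hca e.symm) (fun e => hd.1 e.symm)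
  have htb : t b = b := hrest b (fun e => hc.2 e.symm) (fun e => hcb e.symm) (fun e => hd.2.1 e.symm)
  have h3 := hcm t hs hfx hta htb c
  rw [h1, ← hc', h2, hsc] at h3
  exact hd.2.2.1 h3

/-- The order of a group of permutations of exponent two. -/
lemma sq_card_le (k : ℕ) : ∀ (A : Subgroup (Equiv.Perm α)) (S : Finset α), S.card ≤ k →
    (∀ σ ∈ A, σ * σ = 1) → (∀ σ ∈ A, ∀ x, x ∉ S → σ x = x) → Nat.card A ^ 2 ≤ 2 ^ S.card := by
  induction k with
  | zero =>
    intro A S hS _ hfix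
    have : A = ⊥ := by
      rw [Subgroup.eq_bot_iff_forall]
      intro σ hσ
      exact Equiv.ext fun x => hfix σ hσ x (by
        rw [Finset.card_eq_zero.mp (Nat.le_zero.mp hS)]; simp)
    rw [this, Subgroup.card_bot, one_pow]
    exact Nat.one_le_two_pow
  | succ k ih =>
    intro A S hS hsq hfix
    by_cases hbot : A = ⊥
    · rw [hbot, Subgroup.card_bot, one_pow]; exact Nat.one_le_two_pow
    obtain ⟨s, hs, hs1⟩ : ∃ s ∈ A, s ≠ 1 := by
      rw [Subgroup.eq_bot_iff_forall] at hbot; push Not at hbot; exact hbot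
    obtain ⟨a, ha⟩ : ∃ a, s a ≠ a := by
      by_contra h; push Not at h; exact hs1 (Equiv.ext h)
    have hinv : ∀ σ ∈ A, σ⁻¹ = σ := fun σ hσ => inv_eq_of_mul_eq_one_left (hsq σ hσ)
    have hcomm : ∀ σ ∈ A, ∀ τ ∈ A, σ * τ = τ * σ := by
      intro σ hσ τ hτ
      have := hinv _ (mul_mem hσ hτ)
      rw [mul_inv_rev, hinv σ hσ, hinv τ hτ] at this
      exact this.symm
    classical
    set O : Finset α := S.filter fun x => ∃ σ ∈ A, σ a = x with hO
    have hmemO : ∀ σ ∈ A, σ a ∈ O := by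
      intro σ hσ
      refine Finset.mem_filter.mpr ⟨?_, σ, hσ, rfl⟩
      by_contra h
      have h1 := hfix σ hσ _ h
      have h2 : σ a = a := σ.injective h1
      rw [h2] at h
      exact ha (hfix s hs a h)
    have hOfix : ∀ σ ∈ A, σ a = a → ∀ x ∈ O, σ x = x := by
      intro σ hσ h x hx
      obtain ⟨-, μ, hμ, rfl⟩ := Finset.mem_filter.mp hx
      have := congrFun (congrArg DFunLike.coe (hcomm σ hσ μ hμ)) a
      simp only [Equiv.Perm.mul_apply] at this
      rw [this, h]
    set A' := A ⊓ MulAction.stabilizer (Equiv.Perm α) a with hA'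
    have hlt : (S \ O).card ≤ k := by
      have haO : a ∈ O := by simpa using hmemO 1 A.one_mem
      have : (S \ O).card < S.card := Finset.card_lt_card (Finset.sdiff_ssubset
        (Finset.filter_subset _ _) ⟨a, haO⟩)
      omega
    have hA'fix : ∀ σ ∈ A', ∀ x, x ∉ S \ O → σ x = x := by
      rintro σ ⟨hσ, hσa⟩ x hx
      by_cases hxS : x ∈ S
      · exact hOfix σ hσ hσa x (by by_contra h; exact hx (Finset.mem_sdiff.mpr ⟨hxS, h⟩))
      · exact hfix σ hσ x hxS
    have h' := ih A' (S \ O) hlt (fun σ hσ => hsq σ hσ.1) hA'fix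
    have hle : Nat.card A ≤ O.card * Nat.card A' := by
      have hchoice : ∀ x : O, ∃ μ ∈ A, μ a = x.1 := fun x => (Finset.mem_filter.mp x.2).2
      choose μ hμ hμa using hchoice
      have hmem : ∀ τ : A, (μ ⟨τ.1 a, hmemO τ.1 τ.2⟩)⁻¹ * τ.1 ∈ A' := fun τ =>
        Subgroup.mem_inf.mpr ⟨A.mul_mem (A.inv_mem (hμ _)) τ.2, by
          show (μ _)⁻¹ (τ.1 a) = a
          rw [Equiv.Perm.inv_eq_iff_eq, hμa]⟩
      let f : A → O × A' := fun τ => (⟨τ.1 a, hmemO τ.1 τ.2⟩, ⟨_, hmem τ⟩)
      have hf : Function.Injective f := by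
        intro τ τ' h
        have h1 : (⟨τ.1 a, hmemO τ.1 τ.2⟩ : O) = ⟨τ'.1 a, hmemO τ'.1 τ'.2⟩ := congrArg Prod.fst h
        have h2 := congrArg (fun z : O × A' => (z.2 : Equiv.Perm α)) h
        simp only [f, h1] at h2
        exact Subtype.ext (mul_left_cancel h2)
      have := Nat.card_le_card_of_injective f hf
      rwa [Nat.card_prod, Nat.card_eq_fintype_card (α := O), Fintype.card_coe] at this
    have hO3 : O.card ≠ 3 := by
      intro h3
      have ha' : a ∈ O := by simpa using hmemO 1 A.one_mem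
      have hsa : s a ∈ O := hmemO s hs
      obtain ⟨c, hc, hcn⟩ := Finset.exists_mem_notMem_of_card_lt_card (s := {a, s a}) (t := O)
        (lt_of_le_of_lt Finset.card_le_two (by omega))
      simp only [Finset.mem_insert, Finset.mem_singleton, not_or] at hcn
      obtain ⟨-, μ, hμ, hμc⟩ := Finset.mem_filter.mp hc
      have hscO : s c ∈ O := by
        rw [← hμc, ← Equiv.Perm.mul_apply]
        exact hmemO _ (mul_mem hs hμ)
      have hO' : O = {a, s a, c} := by
        refine (Finset.eq_of_subset_of_card_le ?_ ?_).symm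
        · intro x hx
          simp only [Finset.mem_insert, Finset.mem_singleton] at hx
          rcases hx with rfl | rfl | rfl <;> assumption
        · rw [h3, Finset.card_eq_three.mpr ⟨a, s a, c, fun e => ha e.symm, fun e => hcn.1 e.symm,
            fun e => hcn.2 e.symm, rfl⟩]
      rw [hO'] at hscO
      simp only [Finset.mem_insert, Finset.mem_singleton] at hscO
      have hssa : s (s a) = a := by rw [← Equiv.Perm.mul_apply, hsq s hs]; rfl
      rcases hscO with e | e | e
      · exact hcn.2 (s.injective (e.trans hssa.symm))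
      · exact hcn.1 (s.injective e)
      · have h4 := congrFun (congrArg DFunLike.coe (hcomm s hs μ hμ)) a
        simp only [Equiv.Perm.mul_apply] at h4
        rw [hμc, e, ← hμc] at h4
        exact ha (μ.injective h4).symm
    have hOsub : O ⊆ S := Finset.filter_subset _ _
    have hsum : (S \ O).card + O.card = S.card := Finset.card_sdiff_add_card_eq_card hOsub
    have hpow : O.card ^ 2 ≤ 2 ^ O.card := by
      have aux : ∀ m : ℕ, 4 ≤ m → m ^ 2 ≤ 2 ^ m := by
        intro m hm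
        induction m, hm using Nat.le_induction with
        | base => norm_num
        | succ m hm ihm => rw [pow_succ 2 m]; nlinarith
      rcases (show O.card = 0 ∨ O.card = 1 ∨ O.card = 2 ∨ 4 ≤ O.card by omega) with h | h | h | h
      all_goals first | exact aux _ h | simp [h]
    calc Nat.card A ^ 2 ≤ (O.card * Nat.card A') ^ 2 := Nat.pow_le_pow_left hle 2
      _ = O.card ^ 2 * Nat.card A' ^ 2 := mul_pow _ _ _
      _ ≤ 2 ^ O.card * 2 ^ (S \ O).card := Nat.mul_le_mul hpow h'
      _ = 2 ^ S.card := by rw [← pow_add, add_comm, hsum]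

/-- An even permutation of `L` carrying one subset to another of the same size. -/
lemma exists_even_map (L S S' : Finset α) (hS : S ⊆ L) (hS' : S' ⊆ L) (h : S.card = S'.card)
    (h2 : 2 ≤ S.card) :
    ∃ σ : Equiv.Perm α, Equiv.Perm.sign σ = 1 ∧ (∀ k, k ∉ L → σ k = k) ∧
      S'.map σ.toEmbedding = S := by
  classical
  let e : {x : L // x.1 ∈ S'} ≃ {x : L // x.1 ∈ S} := Fintype.equivOfCardEq (by
    have hc : ∀ T : Finset α, T ⊆ L → Fintype.card {x : L // x.1 ∈ T} = T.card := by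
      intro T hT
      rw [← Fintype.card_coe T]
      exact Fintype.card_congr
        ⟨fun x => ⟨x.1.1, x.2⟩, fun y => ⟨⟨y.1, hT y.2⟩, y.2⟩, fun x => rfl, fun y => rfl⟩
    rw [hc S' hS', hc S hS, h])
  let σ₀ : Equiv.Perm α := Equiv.Perm.ofSubtype e.extendSubtype
  have hfix : ∀ k, k ∉ L → σ₀ k = k := fun k hk => Equiv.Perm.ofSubtype_apply_of_not_mem _ hk
  have hmap : S'.map σ₀.toEmbedding = S := by
    refine Finset.eq_of_subset_of_card_le ?_ (by rw [Finset.card_map, h])
    intro x hx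
    obtain ⟨y, hy, rfl⟩ := Finset.mem_map.mp hx
    show σ₀ y ∈ S
    rw [Equiv.Perm.ofSubtype_apply_of_mem _ (hS' hy)]
    exact e.extendSubtype_mem ⟨y, hS' hy⟩ hy
  rcases Int.units_eq_one_or (Equiv.Perm.sign σ₀) with hs | hs
  · exact ⟨σ₀, hs, hfix, hmap⟩
  obtain ⟨c, hc, d, hd, hcd⟩ := Finset.one_lt_card.mp (show 1 < S.card by omega)
  refine ⟨Equiv.swap c d * σ₀, ?_, fun k hk => ?_, ?_⟩
  · rw [Equiv.Perm.sign_mul, Equiv.Perm.sign_swap hcd, hs]; rfl
  · rw [Equiv.Perm.mul_apply, hfix k hk, Equiv.swap_apply_of_ne_of_ne (fun e => hk (by rw [e]; exact hS hc))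
      (fun e => hk (by rw [e]; exact hS hd))]
  · refine Finset.eq_of_subset_of_card_le ?_ (by rw [Finset.card_map, h])
    intro x hx
    obtain ⟨y, hy, rfl⟩ := Finset.mem_map.mp hx
    show Equiv.swap c d (σ₀ y) ∈ S
    have hy' : σ₀ y ∈ S := hmap ▸ Finset.mem_map.mpr ⟨y, hy, rfl⟩
    rcases eq_or_ne (σ₀ y) c with e1 | e1
    · rw [e1, Equiv.swap_apply_left]; exact hd
    rcases eq_or_ne (σ₀ y) d with e2 | e2
    · rw [e2, Equiv.swap_apply_right]; exact hc
    · rw [Equiv.swap_apply_of_ne_of_ne e1 e2]; exact hy'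

end perms

/-! ### The main step -/

section step

variable {F : Type*} [Field F] [Fintype F] {n : ℕ}

/-- The number of vectors supported in a set. -/
lemma card_sup (S : Finset (Fin n)) :
    Nat.card {x : Fin n → F // Sup S x} = Fintype.card F ^ S.card := by
  classical
  let e : {x : Fin n → F // Sup S x} ≃ (S → F) :=
    { toFun := fun x k => x.1 k.1
      invFun := fun f => ⟨fun k => if h : k ∈ S then f ⟨k, h⟩ else 0, fun k hk => dif_neg hk⟩
      left_inv := fun x => Subtype.ext (funext fun k => by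
        by_cases h : k ∈ S
        · exact dif_pos h
        · exact (dif_neg h).trans (x.2 k h).symm)
      right_inv := fun f => funext fun k => dif_pos k.2 }
  rw [Nat.card_congr e, Nat.card_eq_fintype_card, Fintype.card_fun, Fintype.card_coe]

lemma neg_fixed (h2 : (2 : F) ≠ 0) {a : F} (h : -a = a) : a = 0 := by
  rcases mul_eq_zero.mp (show (2 : F) * a = 0 by linear_combination -h) with h' | h'
  · exact absurd h' h2
  · exact h'

/-- An element commuting with a sign change preserves its eigenspaces. -/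
lemma sup_of_commute (h2 : (2 : F) ≠ 0) {S : Finset (Fin n)} {g : orthGroup (qStd n F)}
    (hg : Commute g (dg S)) {x : Fin n → F} :
    (Sup S x → Sup S (g.1 x)) ∧ ((∀ k ∈ S, x k = 0) → ∀ k ∈ S, g.1 x k = 0) := by
  have key : ∀ k, g.1 ((dg S : orthGroup (qStd n F)).1 x) k =
      if k ∈ S then -(g.1 x k) else g.1 x k := fun k => by
    rw [← dg_apply, ← orth_mul_apply, ← orth_mul_apply, hg.eq]
  constructor
  · intro hx k hk
    have hd : (dg S : orthGroup (qStd n F)).1 x = -x := funext fun l => by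
      rw [dg_apply, Pi.neg_apply]
      split_ifs with h
      · rfl
      · rw [hx l h, neg_zero]
    have := key k
    rw [hd, map_neg, if_neg hk] at this
    exact neg_fixed h2 this
  · intro hx k hk
    have hd : (dg S : orthGroup (qStd n F)).1 x = x := funext fun l => by
      rw [dg_apply]
      split_ifs with h
      · rw [hx l h, neg_zero]
      · rfl
    have := key k
    rw [hd, if_pos hk] at this
    exact neg_fixed h2 this.symm

lemma card_eq_of_conj (h2 : (2 : F) ≠ 0) {S S' : Finset (Fin n)} {g : orthGroup (qStd n F)}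
    (h : g * dg S * g⁻¹ = dg S') : S.card = S'.card := by
  have hle : ∀ (A B : Finset (Fin n)) (f : orthGroup (qStd n F)), f * dg A * f⁻¹ = dg B →
      A.card ≤ B.card := by
    intro A B f hf
    have hmap : ∀ x, Sup A x → Sup B (f.1 x) := by
      intro x hx k hk
      have e : f.1 ((dg A : orthGroup (qStd n F)).1 x) k =
          (dg B : orthGroup (qStd n F)).1 (f.1 x) k := by
        rw [← orth_mul_apply, ← orth_mul_apply, ← hf, inv_mul_cancel_right]
      have hd : (dg A : orthGroup (qStd n F)).1 x = -x := funext fun l => by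
        rw [dg_apply, Pi.neg_apply]
        split_ifs with h
        · rfl
        · rw [hx l h, neg_zero]
      rw [hd, map_neg, dg_apply, if_neg hk] at e
      exact neg_fixed h2 e
    have := Nat.card_le_card_of_injective
      (fun x : {x : Fin n → F // Sup A x} => (⟨f.1 x.1, hmap x.1 x.2⟩ : {x : Fin n → F // Sup B x}))
      (fun x y e => Subtype.ext (f.1.injective (congrArg Subtype.val e)))
    rw [card_sup, card_sup] at this
    exact (Nat.pow_le_pow_iff_right Fintype.one_lt_card).mp this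
  refine le_antisymm (hle S S' g h) (hle S' S g⁻¹ ?_)
  rw [← h]; group

variable (h2 : (2 : F) ≠ 0) (M : Subgroup (orthGroup (qStd n F))) (hM : HS n F ≤ M)
  (L : Finset (Fin n)) (hL : 9 ≤ L.card)
  (hA : ∀ g ∈ M, g ∈ Fx L → (∃ k ∈ L, g.1 (ev k) = ev k ∨ g.1 (ev k) = -ev k) → g ∈ HS n F)

include h2 hM hL hA

lemma mem_of_axis {g : orthGroup (qStd n F)} (hg : g ∈ M) (hgL : g ∈ Fx L) {i j : Fin n}
    (hi : i ∈ L) (hj : j ∈ L) (h : g.1 (ev i) = ev j ∨ g.1 (ev i) = -ev j) : g ∈ HS n F := by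
  by_cases hij : j = i
  · subst hij; exact hA g hg hgL ⟨j, hi, h⟩
  have hn : 2 ≤ n := le_trans (by omega) (le_trans hL (le_of_le_of_eq (Finset.card_le_univ L)
    (Fintype.card_fin n)))
  obtain ⟨c, hc, hc'⟩ := Finset.exists_mem_notMem_of_card_lt_card (s := {i, j}) (t := L)
    (lt_of_le_of_lt Finset.card_le_two (by omega))
  obtain ⟨d, hd, hd'⟩ := Finset.exists_mem_notMem_of_card_lt_card (s := {i, j, c}) (t := L)
    (lt_of_le_of_lt Finset.card_le_three (by omega))
  simp only [Finset.mem_insert, Finset.mem_singleton, not_or] at hc' hd'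
  set σ := Equiv.swap j i * Equiv.swap c d with hσ
  have hcd : c ≠ d := fun e => hd'.2.2 e.symm
  have hsign : Equiv.Perm.sign σ = 1 := by
    rw [hσ, Equiv.Perm.sign_mul, Equiv.Perm.sign_swap hij, Equiv.Perm.sign_swap hcd]; rfl
  have hfix : ∀ k, k ∉ L → σ k = k := fun k hk => by
    have hkc : k ≠ c := fun e => hk (by rw [e]; exact hc)
    have hkd : k ≠ d := fun e => hk (by rw [e]; exact hd)
    have hkj : k ≠ j := fun e => hk (by rw [e]; exact hj)
    have hki : k ≠ i := fun e => hk (by rw [e]; exact hi)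
    rw [hσ, Equiv.Perm.mul_apply, Equiv.swap_apply_of_ne_of_ne hkc hkd,
      Equiv.swap_apply_of_ne_of_ne hkj hki]
  have hσj : σ j = i := by
    rw [hσ, Equiv.Perm.mul_apply, Equiv.swap_apply_of_ne_of_ne (fun e => hc'.2 e.symm)
      (fun e => hd'.2.1 e.symm), Equiv.swap_apply_left]
  have hp := pm_mem_HS h2 hn hsign
  have hpg : pm σ * g ∈ HS n F := by
    refine hA _ (mul_mem (hM hp) hg) (mul_mem (pm_mem_fx hfix) hgL) ⟨i, hi, ?_⟩
    rw [orth_mul_apply]
    rcases h with h | h <;> rw [h]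
    · rw [pm_ev, hσj]; exact Or.inl rfl
    · rw [map_neg, pm_ev, hσj]; exact Or.inr rfl
  have := mul_mem (inv_mem hp) hpg
  rwa [inv_mul_cancel_left] at this

/-- Centralisers of sign changes lie in the frame stabiliser. -/
lemma mem_of_commute {S : Finset (Fin n)} (hS : S ⊆ L) (hne : S.Nonempty) (hneL : S ≠ L)
    {g : orthGroup (qStd n F)} (hg : g ∈ M) (hgL : g ∈ Fx L) (hc : Commute g (dg S)) :
    g ∈ HS n F := by
  classical
  have hn : 2 ≤ n := le_trans (by omega) (le_trans hL (le_of_le_of_eq (Finset.card_le_univ L)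
    (Fintype.card_fin n)))
  have hR0 : (L \ S).Nonempty := Finset.sdiff_nonempty.mpr fun h => hneL (Finset.Subset.antisymm hS h)
  obtain ⟨P, R, hP, hPR, hR, hRne, hunion⟩ : ∃ P R : Finset (Fin n), 5 ≤ P.card ∧
      ((P = S ∧ R = L \ S) ∨ (P = L \ S ∧ R = S)) ∧ (∀ k ∈ R, k ∈ L ∧ k ∉ P) ∧ R.Nonempty ∧
      (∀ k ∈ L, k ∈ P ∨ k ∈ R) := by
    by_cases h6 : 5 ≤ S.card
    · exact ⟨S, L \ S, h6, Or.inl ⟨rfl, rfl⟩,
        fun k hk => ⟨(Finset.mem_sdiff.mp hk).1, (Finset.mem_sdiff.mp hk).2⟩, hR0,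
        fun k hk => by by_cases h : k ∈ S <;> simp [h, hk]⟩
    · refine ⟨L \ S, S, ?_, Or.inr ⟨rfl, rfl⟩,
        fun k hk => ⟨hS hk, fun h => (Finset.mem_sdiff.mp h).2 hk⟩, hne,
        fun k hk => by by_cases h : k ∈ S <;> simp [h, hk]⟩
      have := Finset.card_sdiff_add_card_eq_card hS
      omega
  have hPL : P ⊆ L := by
    rcases hPR with ⟨rfl, -⟩ | ⟨rfl, -⟩
    · exact hS
    · exact Finset.sdiff_subset
  have hpres : ∀ f : orthGroup (qStd n F), f ∈ Fx L → Commute f (dg S) → ∀ x,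
      (Sup P x → Sup P (f.1 x)) ∧ (Sup R x → Sup R (f.1 x)) := by
    intro f hf hfc x
    have h1 : Sup S x → Sup S (f.1 x) := (sup_of_commute h2 hfc).1
    have h3 : Sup (L \ S) x → Sup (L \ S) (f.1 x) := by
      intro hx k hk
      by_cases hkS : k ∈ S
      · exact (sup_of_commute h2 hfc).2
          (fun l hl => hx l fun h => (Finset.mem_sdiff.mp h).2 hl) k hkS
      · exact sup_fx h2 hf (fun l hl => hx l fun h => hl (Finset.mem_sdiff.mp h).1) k
          fun h => hk (Finset.mem_sdiff.mpr ⟨h, hkS⟩)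
    rcases hPR with ⟨rfl, rfl⟩ | ⟨rfl, rfl⟩
    · exact ⟨h1, h3⟩
    · exact ⟨h3, h1⟩
  have key : ∀ f ∈ M, f ∈ Fx L → Commute f (dg S) → ∀ η ∈ HS n F, η ∈ Fx P →
      f * η * f⁻¹ ∈ HS n F ∧ f * η * f⁻¹ ∈ Fx P := by
    intro f hf hfL hfc η hη hηP
    have hfixR : ∀ k ∈ R, (f * η * f⁻¹).1 (ev k) = ev k := by
      intro k hk
      rw [orth_mul_apply, orth_mul_apply, fx_fix hηP ?_, orth_apply_inv_self]
      intro l hl
      exact (hpres _ (inv_mem hfL) hfc.inv_left _).2 (sup_ev hk) l fun h => (hR l h).2 hl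
    have hP' : f * η * f⁻¹ ∈ Fx P := by
      intro k hk
      by_cases hkL : k ∈ L
      · exact hfixR k ((hunion k hkL).resolve_left hk)
      · exact mul_mem (mul_mem hfL (fx_mono hPL hηP)) (inv_mem hfL) k hkL
    refine ⟨?_, hP'⟩
    obtain ⟨k, hk⟩ := hRne
    have hc' : f * η * f⁻¹ * η⁻¹ ∈ HS n F := by
      refine hA _ (mul_mem (mul_mem (mul_mem hf (hM hη)) (inv_mem hf)) (inv_mem (hM hη)))
        (mul_mem (fx_mono hPL hP') (inv_mem (fx_mono hPL hηP))) ⟨k, (hR k hk).1, Or.inl ?_⟩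
      rw [orth_mul_apply, inv_mem hηP k (hR k hk).2, hfixR k hk]
    have := mul_mem hc' hη
    rwa [inv_mul_cancel_right] at this
  have hdiag : ∀ f ∈ M, f ∈ Fx L → Commute f (dg S) → ∀ T ⊆ P, Even T.card →
      pr (f * dg T * f⁻¹) = 1 := by
    intro f hf hfL hfc T hT hTe
    have kk : ∀ T : Finset (Fin n), T ⊆ P → Even T.card →
        f * dg T * f⁻¹ ∈ HS n F ∧ f * dg T * f⁻¹ ∈ Fx P := fun T hT hTe =>
      key f hf hfL hfc _ (dg_mem_HS h2 hn hTe) (dg_mem_fx hT)
    refine abel_normalised_trivial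
      {σ | ∃ T, T ⊆ P ∧ Even T.card ∧ σ = pr (f * dg T * f⁻¹)} P hP ?_ ?_ ?_ ⟨T, hT, hTe, rfl⟩
    · rintro _ ⟨T, hT, hTe, rfl⟩ _ ⟨T', hT', hTe', rfl⟩
      rw [← pr_mul (kk T hT hTe).1.1 (kk T' hT' hTe').1.1,
        ← pr_mul (kk T' hT' hTe').1.1 (kk T hT hTe).1.1]
      congr 1
      rw [show f * dg T * f⁻¹ * (f * dg T' * f⁻¹) = f * (dg T * dg T') * f⁻¹ by group,
        show f * dg T' * f⁻¹ * (f * dg T * f⁻¹) = f * (dg T' * dg T) * f⁻¹ by group, dg_comm]
    · rintro _ ⟨T, hT, hTe, rfl⟩ t ht htP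
      obtain ⟨hη, hηP⟩ := key f⁻¹ (inv_mem hf) (inv_mem hfL) hfc.inv_left (pm t)
        (pm_mem_HS h2 hn ht) (pm_mem_fx htP)
      refine ⟨T.map (pr (f⁻¹ * pm t * f⁻¹⁻¹)).toEmbedding, ?_, by rw [Finset.card_map]; exact hTe, ?_⟩
      · intro x hx
        obtain ⟨y, hy, rfl⟩ := Finset.mem_map.mp hx
        show pr (f⁻¹ * pm t * f⁻¹⁻¹) y ∈ P
        by_contra hc'
        have h1 := pr_fix hη.1 hηP hc'
        rw [(pr (f⁻¹ * pm t * f⁻¹⁻¹)).injective h1] at hc'
        exact hc' (hT hy)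
      · rw [← mon_conj_dg hη.1]
        conv_lhs => rw [← pr_pm (F := F) t, ← pr_conj (pm_mem_mon t) (kk T hT hTe).1.1]
        congr 1
        group
    · rintro _ ⟨T, hT, hTe, rfl⟩ k hk
      exact pr_fix (kk T hT hTe).1.1 (kk T hT hTe).2 hk
  obtain ⟨p, hp⟩ := Finset.card_pos.mp (show 0 < P.card by omega)
  set v := g.1 (ev p) with hv
  have hvP : Sup P v := (hpres g hgL hc _).1 (sup_ev hp)
  have hone : ∀ i j, v i ≠ 0 → v j ≠ 0 → i = j := by
    intro i j hi hj
    by_contra hij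
    have hiP : i ∈ P := by by_contra h; exact hi (hvP i h)
    obtain ⟨m, hm, hm'⟩ := Finset.exists_mem_notMem_of_card_lt_card (s := {i, j}) (t := P)
      (lt_of_le_of_lt Finset.card_le_two (by omega))
    simp only [Finset.mem_insert, Finset.mem_singleton, not_or] at hm'
    have hTe : Even ({i, m} : Finset (Fin n)).card := by
      rw [Finset.card_pair fun e => hm'.1 e.symm]; exact even_two
    have hTP : ({i, m} : Finset (Fin n)) ⊆ P := by
      intro x hx
      simp only [Finset.mem_insert, Finset.mem_singleton] at hx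
      rcases hx with rfl | rfl <;> assumption
    have h1 := hdiag g⁻¹ (inv_mem hg) (inv_mem hgL) hc.inv_left _ hTP hTe
    obtain ⟨T', hT'⟩ := eq_dg_of_pr
      (key g⁻¹ (inv_mem hg) (inv_mem hgL) hc.inv_left _ (dg_mem_HS h2 hn hTe) (dg_mem_fx hTP)).1.1 h1
    have e : (dg {i, m} : orthGroup (qStd n F)) * g = g * dg T' := by rw [← hT']; group
    have e2 := congrArg (fun z : orthGroup (qStd n F) => z.1 (ev p)) e
    simp only [orth_mul_apply, dg_ev, ← hv] at e2
    split_ifs at e2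
    · have := congrFun e2 j
      rw [map_neg, ← hv, Pi.neg_apply, dg_apply, if_neg (by simp [Ne.symm hij, Ne.symm hm'.2])] at this
      exact hj (neg_fixed h2 this.symm)
    · have := congrFun e2 i
      rw [← hv, dg_apply, if_pos (by simp)] at this
      exact hi (neg_fixed h2 this)
  obtain ⟨i, hi⟩ : ∃ i, v i ≠ 0 := by
    by_contra h
    push Not at h
    have h0 : g.1 (ev p) = 0 := funext h
    exact ev_ne_zero p (g.1.injective (by rw [h0, map_zero]))
  have hvi : v = v i • ev i := by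
    funext k
    rcases eq_or_ne k i with rfl | hk
    · simp [ev_self]
    · rw [Pi.smul_apply, ev_ne hk, smul_zero]
      by_contra h
      exact hk (hone k i h hi)
  have hiP : i ∈ P := by by_contra h; exact hi (hvP i h)
  refine mem_of_axis h2 M hM L hL hA hg hgL (hPL hp) (hPL hiP) ?_
  have hsq : v i * v i = 1 := by
    have := orth_dot h2 g (ev p) (ev p)
    rwa [← hv, hvi, smul_dotProduct, dotProduct_smul, ev_dot, ev_dot, ev_self, ev_self,
      smul_eq_mul, smul_eq_mul, mul_one] at this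
  rw [← hv, hvi]
  rcases mul_self_eq_one_iff.mp hsq with h | h <;> rw [h] <;> simp

/-- Elements carrying a sign change to a sign change. -/
lemma mem_of_diag_conj {S S' : Finset (Fin n)} (hS : S ⊆ L) (hS2 : 2 ≤ S.card) (hneL : S ≠ L)
    {g : orthGroup (qStd n F)} (hg : g ∈ M) (hgL : g ∈ Fx L) (h : g * dg S * g⁻¹ = dg S') :
    g ∈ HS n F := by
  have hn : 2 ≤ n := le_trans (by omega) (le_trans hL (le_of_le_of_eq (Finset.card_le_univ L)
    (Fintype.card_fin n)))
  have hS' : S' ⊆ L := subset_of_dg_mem_fx h2 (h ▸ mul_mem (mul_mem hgL (dg_mem_fx hS)) (inv_mem hgL))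
  have hcard := card_eq_of_conj h2 h
  obtain ⟨σ, hσ, hfix, hmap⟩ := exists_even_map L S' S hS' hS hcard.symm (by omega)
  have hp := pm_mem_HS h2 hn hσ
  have hh : pm σ * dg S * (pm σ)⁻¹ = (dg S' : orthGroup (qStd n F)) := by
    rw [pm_dg, hmap, mul_inv_cancel_right]
  have := mem_of_commute h2 M hM L hL hA hS (Finset.card_pos.mp (by omega)) hneL
    (mul_mem (inv_mem (hM hp)) hg) (mul_mem (inv_mem (pm_mem_fx hfix)) hgL)
    (g := (pm σ)⁻¹ * g) (by
      show (pm σ)⁻¹ * g * dg S = dg S * ((pm σ)⁻¹ * g)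
      have e : g * dg S = dg S' * g := by rw [← h, inv_mul_cancel_right]
      have e' : (pm σ)⁻¹ * dg S' = (dg S : orthGroup (qStd n F)) * (pm σ)⁻¹ := by rw [← hh]; group
      rw [mul_assoc, e, ← mul_assoc, e', mul_assoc])
  have := mul_mem hp this
  rwa [mul_inv_cancel_left] at this

/-- A pair of sign changes goes into the frame stabiliser only under its elements. -/
lemma mem_of_pair_conj {a b : Fin n} (ha : a ∈ L) (hb : b ∈ L) (hab : a ≠ b)
    {g : orthGroup (qStd n F)} (hg : g ∈ M) (hgL : g ∈ Fx L)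
    (h : g * dg {a, b} * g⁻¹ ∈ HS n F) : g ∈ HS n F := by
  classical
  have hn : 2 ≤ n := le_trans (by omega) (le_trans hL (le_of_le_of_eq (Finset.card_le_univ L)
    (Fintype.card_fin n)))
  have habL : ({a, b} : Finset (Fin n)) ⊆ L := by
    intro x hx
    simp only [Finset.mem_insert, Finset.mem_singleton] at hx
    rcases hx with rfl | rfl <;> assumption
  have hab2 : ({a, b} : Finset (Fin n)).card = 2 := Finset.card_pair hab
  have habne : ({a, b} : Finset (Fin n)) ≠ L := fun e => by rw [← e] at hL; omega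
  set w := g * dg {a, b} * g⁻¹ with hw
  have hwL : w ∈ Fx L := mul_mem (mul_mem hgL (dg_mem_fx habL)) (inv_mem hgL)
  set σ := pr w with hσ
  by_cases hσ1 : σ = 1
  · obtain ⟨S', hS'⟩ := eq_dg_of_pr h.1 hσ1
    exact mem_of_diag_conj h2 M hM L hL hA habL hab2.ge habne hg hgL hS'
  set Mv := L.filter fun k => σ k ≠ k with hMv
  have hσσ : ∀ k, σ (σ k) = k := fun k => by
    rw [← Equiv.Perm.mul_apply, hσ, ← pr_mul h.1 h.1, hw,
      show g * dg {a, b} * g⁻¹ * (g * dg {a, b} * g⁻¹) = g * (dg {a, b} * dg {a, b}) * g⁻¹ by group,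
      dg_sq, mul_one, mul_inv_cancel, ← dg_empty, pr_dg]
    rfl
  have hcardMv : Mv.card ≤ 4 := by
    by_contra hlt
    obtain ⟨i1, hi1⟩ := Finset.card_pos.mp (show 0 < Mv.card by omega)
    obtain ⟨i2, hi2, hi2'⟩ := Finset.exists_mem_notMem_of_card_lt_card (s := {i1, σ i1}) (t := Mv)
      (lt_of_le_of_lt Finset.card_le_two (by omega))
    obtain ⟨i3, hi3, hi3'⟩ := Finset.exists_mem_notMem_of_card_lt_card
      (s := {i1, σ i1, i2, σ i2}) (t := Mv) (lt_of_le_of_lt Finset.card_le_four (by omega))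
    simp only [Finset.mem_insert, Finset.mem_singleton, not_or] at hi2' hi3'
    rw [hMv, Finset.mem_filter] at hi1 hi2 hi3
    set A := g.1 (ev a) with hA'
    set B := g.1 (ev b) with hB'
    have hv : ∀ i, ∃ α β : F, ev i - w.1 (ev i) = α • A + β • B := by
      intro i
      refine ⟨2 * (g⁻¹).1 (ev i) a, 2 * (g⁻¹).1 (ev i) b, ?_⟩
      conv_lhs => rw [hw, orth_mul_apply, orth_mul_apply, ← orth_apply_inv_self g (ev i),
        orth_inv_apply_self, ← map_sub]
      rw [hA', hB', ← map_smul, ← map_smul, ← map_add]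
      congr 1
      funext k
      rw [Pi.sub_apply, Pi.add_apply, Pi.smul_apply, Pi.smul_apply, dg_apply]
      rcases eq_or_ne k a with rfl | hka
      · simp [ev_self, ev_ne hab]; ring
      rcases eq_or_ne k b with rfl | hkb
      · simp [ev_self, ev_ne hka]; ring
      · simp [hka, hkb, ev_ne hka, ev_ne hkb]
    have hentry : ∀ i m, σ i ≠ m → ((ev i : Fin n → F) - w.1 (ev i)) m = if m = i then (1 : F) else 0 := by
      intro i m him
      rw [Pi.sub_apply]
      have h0 : w.1 (ev i) m = 0 := by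
        rcases pr_ev h.1 i with e | e <;> rw [e]
        · exact ev_ne fun e' => him e'.symm
        · rw [Pi.neg_apply, ev_ne fun e' => him e'.symm, neg_zero]
      rw [h0, sub_zero]
      split_ifs with hm
      · rw [hm, ev_self]
      · exact ev_ne hm
    obtain ⟨α1, β1, h1⟩ := hv i1
    obtain ⟨α2, β2, h2'⟩ := hv i2
    obtain ⟨α3, β3, h3⟩ := hv i3
    have n12 : i2 ≠ i1 := hi2'.1
    have n13 : i3 ≠ i1 := hi3'.1
    have n23 : i3 ≠ i2 := hi3'.2.2.1
    have s12 : σ i1 ≠ i2 := fun e => hi2'.2 e.symm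
    have s21 : σ i2 ≠ i1 := fun e => hi2'.2 (by rw [← e, hσσ])
    have s13 : σ i1 ≠ i3 := fun e => hi3'.2.1 e.symm
    have s31 : σ i3 ≠ i1 := fun e => hi3'.2.1 (by rw [← e, hσσ])
    have s23 : σ i2 ≠ i3 := fun e => hi3'.2.2.2 e.symm
    have s32 : σ i3 ≠ i2 := fun e => hi3'.2.2.2 (by rw [← e, hσσ])
    have a11 := hentry i1 i1 hi1.2
    have a12 := hentry i1 i2 s12
    have a13 := hentry i1 i3 s13
    have a21 := hentry i2 i1 s21
    have a22 := hentry i2 i2 hi2.2
    have a23 := hentry i2 i3 s23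
    have a31 := hentry i3 i1 s31
    have a32 := hentry i3 i2 s32
    have a33 := hentry i3 i3 hi3.2
    simp only [h1, h2', h3, Pi.add_apply, Pi.smul_apply, smul_eq_mul, if_pos, if_neg n12,
      if_neg n12.symm, if_neg n13, if_neg n13.symm, if_neg n23, if_neg n23.symm]
      at a11 a12 a13 a21 a22 a23 a31 a32 a33
    have hz : A i1 * B i2 - A i2 * B i1 = 0 := by
      linear_combination (A i3 * B i2 - B i3 * A i2) * a31 + (B i3 * A i1 - A i3 * B i1) * a32
        + (A i2 * B i1 - A i1 * B i2) * a33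
    exact one_ne_zero (show (1 : F) = 0 by
      linear_combination (α1 * β2 - α2 * β1) * hz - (α2 * A i2 + β2 * B i2) * a11 - a22
        + (α2 * A i1 + β2 * B i1) * a12)
  set T := L \ Mv with hT
  have hTcard : L.card ≤ T.card + 4 := by
    have := Finset.card_sdiff_add_card_eq_card (Finset.filter_subset (fun k => σ k ≠ k) L)
    rw [← hMv, ← hT] at this
    omega
  have hTL : T ⊆ L := Finset.sdiff_subset
  have hMvmem : ∀ x ∈ Mv, x ∈ L ∧ σ x ≠ x := fun x hx => by
    rwa [hMv, Finset.mem_filter] at hx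
  have hTfix : ∀ x ∈ T, σ x = x := by
    intro x hx
    rw [hT, Finset.mem_sdiff, hMv, Finset.mem_filter] at hx
    by_contra hne
    exact hx.2 ⟨hx.1, hne⟩
  have hmv : ∃ k ∈ L, σ k ≠ k := by
    by_contra h'
    push Not at h'
    refine hσ1 (Equiv.ext fun k => ?_)
    by_cases hk : k ∈ L
    · exact h' k hk
    · exact pr_fix h.1 hwL hk
  -- one pair of moved points may be added to `T`, if the moved points are more than a pair
  obtain ⟨X, i₁, hX, hXne⟩ : ∃ (X : Finset (Fin n)) (i₁ : Fin n),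
      ((X = ∅ ∧ Mv.card ≤ 2) ∨ (i₁ ∈ Mv ∧ X = {i₁, σ i₁})) ∧ ∃ k ∈ L, k ∉ T ∧ k ∉ X := by
    obtain ⟨k, hk, hkm⟩ := hmv
    have hkM : k ∈ Mv := by rw [hMv]; exact Finset.mem_filter.mpr ⟨hk, hkm⟩
    have hkT : k ∉ T := fun h => hkm (hTfix k h)
    by_cases hle : Mv.card ≤ 2
    · exact ⟨∅, k, Or.inl ⟨rfl, hle⟩, k, hk, hkT, by simp⟩
    · obtain ⟨k', hk', hk''⟩ := Finset.exists_mem_notMem_of_card_lt_card (s := {k, σ k}) (t := Mv)
        (lt_of_le_of_lt Finset.card_le_two (by omega))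
      have hk3 : k' ∈ L := by rw [hMv] at hk'; exact (Finset.mem_filter.mp hk').1
      exact ⟨{k, σ k}, k, Or.inr ⟨hkM, rfl⟩, k', hk3,
        fun h => (hMvmem k' hk').2 (hTfix k' h), hk''⟩
  have hXL : X ⊆ L := by
    rcases hX with ⟨rfl, -⟩ | ⟨hi, rfl⟩
    · simp
    · intro x hx
      have hi' := hMvmem i₁ hi
      simp only [Finset.mem_insert, Finset.mem_singleton] at hx
      rcases hx with rfl | rfl
      · exact hi'.1
      · by_contra hc
        exact hi'.2 (σ.injective (pr_fix h.1 hwL hc))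
  let Ok : Finset (Fin n) → Prop := fun S => S ⊆ T ∪ X ∧ (∀ x ∈ S, σ x ∈ S) ∧ Even S.card
  have hOkL : ∀ S, Ok S → S ⊆ L := fun S hS => hS.1.trans (Finset.union_subset hTL hXL)
  have hOkne : ∀ S, Ok S → S ≠ L := by
    intro S hS e
    obtain ⟨k, hk, hk1, hk2⟩ := hXne
    rcases Finset.mem_union.mp (hS.1 (e ▸ hk)) with h | h
    · exact hk1 h
    · exact hk2 h
  have hmem : ∀ S, Ok S → g⁻¹ * dg S * g ∈ HS n F := by
    intro S hS
    refine mem_of_commute h2 M hM L hL hA habL (Finset.card_pos.mp (by omega)) habne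
      (mul_mem (mul_mem (inv_mem hg) (hM (dg_mem_HS h2 hn hS.2.2))) hg)
      (mul_mem (mul_mem (inv_mem hgL) (dg_mem_fx (hOkL S hS))) hgL) ?_
    have e : w * dg S = dg S * w := by
      have hmap : S.map σ.toEmbedding = S := by
        refine Finset.eq_of_subset_of_card_le ?_ (by rw [Finset.card_map])
        intro x hx
        obtain ⟨y, hy, rfl⟩ := Finset.mem_map.mp hx
        exact hS.2.1 y hy
      calc w * dg S = (w * dg S * w⁻¹) * w := by group
        _ = dg S * w := by rw [mon_conj_dg h.1, ← hσ, hmap]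
    show g⁻¹ * dg S * g * dg {a, b} = dg {a, b} * (g⁻¹ * dg S * g)
    calc g⁻¹ * dg S * g * dg {a, b} = g⁻¹ * (dg S * w) * g := by rw [hw]; group
      _ = g⁻¹ * (w * dg S) * g := by rw [e]
      _ = dg {a, b} * (g⁻¹ * dg S * g) := by rw [hw]; group
  by_cases hker : ∃ S, Ok S ∧ S ≠ ∅ ∧ pr (g⁻¹ * dg S * g) = 1
  · obtain ⟨S, hS, hSne, hS1⟩ := hker
    obtain ⟨S', hS'⟩ := eq_dg_of_pr (hmem S hS).1 hS1
    have h2S : 2 ≤ S.card := by
      have := Finset.card_pos.mpr (Finset.nonempty_iff_ne_empty.mpr hSne)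
      obtain ⟨r, hr⟩ := hS.2.2
      omega
    have := mem_of_diag_conj h2 M hM L hL hA (hOkL S hS) h2S (hOkne S hS) (inv_mem hg)
      (inv_mem hgL) (g := g⁻¹) (by rw [inv_inv]; exact hS')
    simpa using inv_mem this
  exfalso
  push Not at hker
  have hokd : ∀ S S', Ok S → Ok S' → Ok (S ∆ S') := by
    intro S S' hS hS'
    refine ⟨fun x hx => ?_, fun x hx => ?_, ?_⟩
    · rcases Finset.mem_symmDiff.mp hx with h | h
      · exact hS.1 h.1
      · exact hS'.1 h.1
    · have hb : ∀ {R}, Ok R → σ x ∈ R → x ∈ R := fun hR h => hσσ x ▸ hR.2.1 _ h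
      rcases Finset.mem_symmDiff.mp hx with h | h
      · exact Finset.mem_symmDiff.mpr (Or.inl ⟨hS.2.1 x h.1, fun h' => h.2 (hb hS' h')⟩)
      · exact Finset.mem_symmDiff.mpr (Or.inr ⟨hS'.2.1 x h.1, fun h' => h.2 (hb hS h')⟩)
    · have h1 : (S ∆ S').card = (S \ S').card + (S' \ S).card :=
        Finset.card_union_of_disjoint disjoint_sdiff_sdiff
      have h3 := Finset.card_sdiff_add_card_inter S S'
      have h4 := Finset.card_sdiff_add_card_inter S' S
      rw [Finset.inter_comm] at h4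
      obtain ⟨r, hr⟩ := hS.2.2
      obtain ⟨r', hr'⟩ := hS'.2.2
      exact ⟨r + r' - (S ∩ S').card, by omega⟩
  have hmulψ : ∀ S S', Ok S → Ok S' →
      pr (g⁻¹ * dg S * g) * pr (g⁻¹ * dg S' * g) = pr (g⁻¹ * dg (S ∆ S') * g) := by
    intro S S' hS hS'
    rw [← pr_mul (hmem S hS).1 (hmem S' hS').1]
    congr 1
    rw [show g⁻¹ * dg S * g * (g⁻¹ * dg S' * g) = g⁻¹ * (dg S * dg S') * g by group, dg_mul]
  have hone' : pr (g⁻¹ * dg ∅ * g) = (1 : Equiv.Perm (Fin n)) := by
    rw [dg_empty, mul_one, inv_mul_cancel, ← dg_empty, pr_dg]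
  have hsq : ∀ S, Ok S → pr (g⁻¹ * dg S * g) * pr (g⁻¹ * dg S * g) = 1 := by
    intro S hS
    rw [hmulψ S S hS hS, symmDiff_self]
    exact hone'
  let A : Subgroup (Equiv.Perm (Fin n)) :=
    { carrier := {τ | ∃ S, Ok S ∧ τ = pr (g⁻¹ * dg S * g)}
      mul_mem' := by
        rintro _ _ ⟨S, hS, rfl⟩ ⟨S', hS', rfl⟩
        exact ⟨_, hokd S S' hS hS', hmulψ S S' hS hS'⟩
      one_mem' := ⟨∅, ⟨by simp, by simp, by simp⟩, hone'.symm⟩
      inv_mem' := by
        rintro _ ⟨S, hS, rfl⟩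
        exact ⟨S, hS, inv_eq_of_mul_eq_one_left (hsq S hS)⟩ }
  have hA2 : Nat.card A ^ 2 ≤ 2 ^ L.card := sq_card_le L.card A L le_rfl
    (by rintro _ ⟨S, hS, rfl⟩; exact hsq S hS)
    (by
      rintro _ ⟨S, hS, rfl⟩ x hx
      exact pr_fix (hmem S hS).1
        (mul_mem (mul_mem (inv_mem hgL) (dg_mem_fx (hOkL S hS))) hgL) hx)
  obtain ⟨a0, ha0⟩ := Finset.card_pos.mp (show 0 < T.card by omega)
  have ha0f : σ a0 = a0 := hTfix a0 ha0
  -- representatives: points of `T` other than `a0`, and one point of `X`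
  obtain ⟨E, hEX, hEc, hEu⟩ : ∃ E : Finset (Fin n), E ⊆ X ∧
      ((E.card = 1 ∧ ∀ x ∈ E, σ x ≠ x) ∨ (E.card = 0 ∧ Mv.card ≤ 2)) ∧
      ∀ x ∈ E, ∀ y ∈ E, x = y := by
    rcases hX with ⟨rfl, hle⟩ | ⟨hi, rfl⟩
    · exact ⟨∅, le_rfl, Or.inr ⟨rfl, hle⟩, by simp⟩
    · refine ⟨{i₁}, by simp, Or.inl ⟨rfl, fun x hx => ?_⟩, by simp⟩
      rw [Finset.mem_singleton.mp hx]
      exact (hMvmem i₁ hi).2
  have hEmv : ∀ x ∈ E, σ x ≠ x := by
    rcases hEc with ⟨-, h⟩ | ⟨h, -⟩
    · exact h
    · rw [Finset.card_eq_zero.mp h]; simp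
  have hXinv : ∀ x ∈ X, σ x ∈ X := by
    rcases hX with ⟨rfl, -⟩ | ⟨-, rfl⟩
    · simp
    · intro x hx
      simp only [Finset.mem_insert, Finset.mem_singleton] at hx ⊢
      rcases hx with rfl | rfl
      · exact Or.inr rfl
      · exact Or.inl (hσσ _)
  set D := T.erase a0 ∪ E with hD
  let orb : Finset (Fin n) → Finset (Fin n) := fun R => R ∪ R.map σ.toEmbedding
  let lift : Finset (Fin n) → Finset (Fin n) := fun R =>
    if Even (orb R).card then orb R else insert a0 (orb R)
  have horb : ∀ R ⊆ D, orb R ⊆ T ∪ X ∧ (∀ x ∈ orb R, σ x ∈ orb R) ∧ a0 ∉ orb R ∧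
      ∀ x ∈ D, (x ∈ orb R ↔ x ∈ R) := by
    intro R hR
    have himg : ∀ x, x ∈ R.map σ.toEmbedding ↔ σ x ∈ R := fun x => by
      rw [Finset.mem_map]
      exact ⟨fun ⟨y, hy, e⟩ => by rw [← e]; exact (hσσ y).symm ▸ hy,
        fun hy => ⟨σ x, hy, hσσ x⟩⟩
    have hcases : ∀ x ∈ D, (σ x = x ∧ x ∈ T ∧ x ≠ a0) ∨ (σ x ≠ x ∧ x ∈ E) := by
      intro x hx
      rcases Finset.mem_union.mp hx with h | h
      · exact Or.inl ⟨hTfix x (Finset.mem_of_mem_erase h), Finset.mem_of_mem_erase h,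
          (Finset.mem_erase.mp h).1⟩
      · exact Or.inr ⟨hEmv x h, h⟩
    have hsubD : ∀ x ∈ D, x ∈ T ∪ X ∧ σ x ∈ T ∪ X := by
      intro x hx
      rcases hcases x hx with ⟨hf, hT', -⟩ | ⟨-, hE⟩
      · rw [hf]; exact ⟨Finset.mem_union_left _ hT', Finset.mem_union_left _ hT'⟩
      · exact ⟨Finset.mem_union_right _ (hEX hE), Finset.mem_union_right _ (hXinv x (hEX hE))⟩
    refine ⟨fun x hx => ?_, fun x hx => ?_, fun hx => ?_, fun x hx => ?_⟩
    · rcases Finset.mem_union.mp hx with h | h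
      · exact (hsubD x (hR h)).1
      · have := (hsubD _ (hR ((himg x).mp h))).2
        rwa [hσσ] at this
    · rcases Finset.mem_union.mp hx with h | h
      · exact Finset.mem_union_right _ ((himg _).mpr (by rw [hσσ]; exact h))
      · exact Finset.mem_union_left _ ((himg x).mp h)
    · rcases Finset.mem_union.mp hx with h | h
      · rcases hcases a0 (hR h) with ⟨-, -, h'⟩ | ⟨h', -⟩
        · exact h' rfl
        · exact h' ha0f
      · have h' := hR ((himg a0).mp h)
        rw [ha0f] at h'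
        rcases hcases a0 h' with ⟨-, -, h'⟩ | ⟨h', -⟩
        · exact h' rfl
        · exact h' ha0f
    · refine ⟨fun h => ?_, fun h => Finset.mem_union_left _ h⟩
      rcases Finset.mem_union.mp h with h | h
      · exact h
      · have h' := (himg x).mp h
        rcases hcases x hx with ⟨hf, -, -⟩ | ⟨hf, hxE⟩
        · rwa [hf] at h'
        · rcases hcases _ (hR h') with ⟨e, -, -⟩ | ⟨-, hsE⟩
          · exact absurd (σ.injective e) hf
          · exact absurd (hEu _ hsE _ hxE) hf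
  have hlift : ∀ R ⊆ D, Ok (lift R) ∧ ∀ x ∈ D, (x ∈ lift R ↔ x ∈ R) := by
    intro R hR
    obtain ⟨h1, h2, h3, h4⟩ := horb R hR
    have ha0D : a0 ∉ D := fun h => by
      rcases Finset.mem_union.mp h with h | h
      · exact Finset.notMem_erase a0 T h
      · exact hEmv a0 h ha0f
    simp only [lift]
    split_ifs with he
    · exact ⟨⟨h1, h2, he⟩, h4⟩
    · refine ⟨⟨Finset.insert_subset (Finset.mem_union_left _ ha0) h1, fun x hx => ?_, ?_⟩,
        fun x hx => ?_⟩
      · rcases Finset.mem_insert.mp hx with rfl | h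
        · rw [ha0f]; exact Finset.mem_insert_self _ _
        · exact Finset.mem_insert_of_mem (h2 x h)
      · rw [Finset.card_insert_of_notMem h3]
        exact (Nat.not_even_iff_odd.mp he).add_one
      · rw [Finset.mem_insert, h4 x hx]
        exact or_iff_right fun e => ha0D (e ▸ hx)
  let φ : D.powerset → A := fun R =>
    ⟨pr (g⁻¹ * dg (lift R.1) * g), lift R.1, (hlift R.1 (Finset.mem_powerset.mp R.2)).1, rfl⟩
  have hφ : Function.Injective φ := by
    intro R R' hRR
    have hR := hlift R.1 (Finset.mem_powerset.mp R.2)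
    have hR' := hlift R'.1 (Finset.mem_powerset.mp R'.2)
    have e := congrArg Subtype.val hRR
    simp only [φ] at e
    have h1 : pr (g⁻¹ * dg (lift R.1 ∆ lift R'.1) * g) = 1 := by
      rw [← hmulψ _ _ hR.1 hR'.1, e]
      exact hsq _ hR'.1
    have hUU : lift R.1 ∆ lift R'.1 = ∅ := by
      by_contra hne
      exact hker _ (hokd _ _ hR.1 hR'.1) (Finset.nonempty_iff_ne_empty.mpr hne) h1
    have hUU' := symmDiff_eq_bot.mp hUU
    refine Subtype.ext (Finset.ext fun x => ⟨fun hx => ?_, fun hx => ?_⟩)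
    · have hxD := Finset.mem_powerset.mp R.2 hx
      exact (hR'.2 x hxD).mp (hUU' ▸ (hR.2 x hxD).mpr hx)
    · have hxD := Finset.mem_powerset.mp R'.2 hx
      exact (hR.2 x hxD).mp (hUU'.symm ▸ (hR'.2 x hxD).mpr hx)
  have hcardA := Nat.card_le_card_of_injective φ hφ
  rw [Nat.card_eq_fintype_card, Fintype.card_coe, Finset.card_powerset] at hcardA
  have h3 : (2 ^ D.card) ^ 2 ≤ 2 ^ L.card := (Nat.pow_le_pow_left hcardA 2).trans hA2
  rw [← pow_mul] at h3
  have := (Nat.pow_le_pow_iff_right one_lt_two).mp h3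
  have hDc : D.card + 1 = T.card + E.card := by
    rw [hD, Finset.card_union_of_disjoint]
    · have := Finset.card_erase_add_one ha0
      omega
    · exact Finset.disjoint_left.mpr fun x hx hx' =>
        hEmv x hx' (hTfix x (Finset.mem_of_mem_erase hx))
  have hsum := Finset.card_sdiff_add_card_eq_card (Finset.filter_subset (fun k => σ k ≠ k) L)
  rw [← hMv, ← hT] at hsum
  rcases hEc with ⟨h, -⟩ | ⟨h, h'⟩ <;> omega

/-- A sign change goes into the frame stabiliser only under its elements. -/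
lemma mem_of_conj {S : Finset (Fin n)} (hS : S ⊆ L) (hne : S.Nonempty) (hneL : S ≠ L)
    (hSe : Even S.card) {g : orthGroup (qStd n F)} (hg : g ∈ M) (hgL : g ∈ Fx L)
    (h : g * dg S * g⁻¹ ∈ HS n F) : g ∈ HS n F := by
  classical
  have hn : 2 ≤ n := le_trans (by omega) (le_trans hL (le_of_le_of_eq (Finset.card_le_univ L)
    (Fintype.card_fin n)))
  set w := g * dg S * g⁻¹ with hw
  have hwL : w ∈ Fx L := mul_mem (mul_mem hgL (dg_mem_fx hS)) (inv_mem hgL)
  set σ := pr w with hσ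
  have hσσ : ∀ k, σ (σ k) = k := fun k => by
    rw [← Equiv.Perm.mul_apply, hσ, ← pr_mul h.1 h.1, hw,
      show g * dg S * g⁻¹ * (g * dg S * g⁻¹) = g * (dg S * dg S) * g⁻¹ by group,
      dg_sq, mul_one, mul_inv_cancel, ← dg_empty, pr_dg]
    rfl
  obtain ⟨x, y, hx, hy, hxy, hσx⟩ : ∃ x y, x ∈ L ∧ y ∈ L ∧ x ≠ y ∧
      ({x, y} : Finset (Fin n)).map σ.toEmbedding = {x, y} := by
    by_cases hmv : ∃ x ∈ L, σ x ≠ x
    · obtain ⟨x, hx, hne'⟩ := hmv
      refine ⟨x, σ x, hx, ?_, fun e => hne' e.symm, ?_⟩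
      · by_contra hc
        exact hne' (σ.injective (pr_fix h.1 hwL hc))
      · rw [Finset.map_insert, Finset.map_singleton]
        simp [hσσ, Finset.pair_comm]
    · push Not at hmv
      obtain ⟨x, hx, y, hy, hxy⟩ := Finset.one_lt_card.mp (show 1 < L.card by omega)
      refine ⟨x, y, hx, hy, hxy, ?_⟩
      rw [Finset.map_insert, Finset.map_singleton]
      simp [hmv x hx, hmv y hy]
  have hxyL : ({x, y} : Finset (Fin n)) ⊆ L := by
    intro z hz
    simp only [Finset.mem_insert, Finset.mem_singleton] at hz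
    rcases hz with rfl | rfl <;> assumption
  have he : Even ({x, y} : Finset (Fin n)).card := by rw [Finset.card_pair hxy]; exact even_two
  have hcw : w * dg {x, y} = dg {x, y} * w :=
    calc w * dg {x, y} = (w * dg {x, y} * w⁻¹) * w := by group
      _ = dg {x, y} * w := by rw [mon_conj_dg h.1, ← hσ, hσx]
  have h' : g⁻¹ * dg {x, y} * g⁻¹⁻¹ ∈ HS n F := by
    refine mem_of_commute h2 M hM L hL hA hS hne hneL
      (mul_mem (mul_mem (inv_mem hg) (hM (dg_mem_HS h2 hn he))) (by simpa using hg))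
      (mul_mem (mul_mem (inv_mem hgL) (dg_mem_fx hxyL)) (by simpa using hgL)) ?_
    show g⁻¹ * dg {x, y} * g⁻¹⁻¹ * dg S = dg S * (g⁻¹ * dg {x, y} * g⁻¹⁻¹)
    calc g⁻¹ * dg {x, y} * g⁻¹⁻¹ * dg S = g⁻¹ * (dg {x, y} * w) * g := by rw [hw]; group
      _ = g⁻¹ * (w * dg {x, y}) * g := by rw [hcw]
      _ = dg S * (g⁻¹ * dg {x, y} * g⁻¹⁻¹) := by rw [hw]; group
  simpa using inv_mem (mem_of_pair_conj h2 M hM L hL hA hx hy hxy (inv_mem hg) (inv_mem hgL) h')

set_option maxHeartbeats 400000 in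
/-- Nothing outside the frame stabiliser fixes all coordinate vectors outside `L`. -/
theorem le_of_no_axis : ∀ g ∈ M, g ∈ Fx L → g ∈ HS n F := by
  classical
  intro g₀ hg₀ hg₀L
  by_contra hg₀H
  have hn : 2 ≤ n := le_trans (by omega) (le_trans hL (le_of_le_of_eq (Finset.card_le_univ L)
    (Fintype.card_fin n)))
  haveI : Finite (orthGroup (qStd n F)) := finite_orthGroup
  obtain ⟨s, hs24, hs⟩ : ∃ s : ℕ, (s = 2 ∨ s = 4) ∧ ∀ a : ℕ, L.card - s ≠ 2 ^ a := by
    by_cases h : ∀ a : ℕ, L.card - 2 ≠ 2 ^ a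
    · exact ⟨2, Or.inl rfl, h⟩
    push Not at h
    obtain ⟨a, ha⟩ := h
    refine ⟨4, Or.inr rfl, fun b hb => ?_⟩
    match a, b with
    | 0, _ => simp at ha; omega
    | _, 0 => simp at hb; omega
    | 1, _ => simp at ha; omega
    | _, 1 => simp at hb; omega
    | a + 2, b + 2 => simp only [pow_add] at ha hb; omega
  obtain ⟨K, hKL, hK⟩ := Finset.exists_subset_card_eq (show s ≤ L.card by omega)
  have hKne : K ≠ L := fun e => by rw [e] at hK; omega
  have hKe : Even K.card := by rcases hs24 with h | h <;> rw [hK, h] <;> decide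
  have hK0 : K.Nonempty := Finset.card_pos.mp (by omega)
  set e : orthGroup (qStd n F) := dg K with he
  let Good : Subgroup (orthGroup (qStd n F)) → Prop := fun Z =>
    (∀ z ∈ Z, z ∈ HS n F ∧ z ∈ Fx L ∧ z * z = 1 ∧ Commute z e) ∧
      ∃ g ∈ M, g ∈ Fx L ∧ g ∉ HS n F ∧ ∀ z ∈ Z, Commute g z
  have hbot : Good ⊥ := ⟨fun z hz => by
      rw [Subgroup.mem_bot.mp hz]
      exact ⟨one_mem _, one_mem _, mul_one 1, Commute.one_left _⟩,
    g₀, hg₀, hg₀L, hg₀H, fun z hz => by rw [Subgroup.mem_bot.mp hz]; exact Commute.one_right _⟩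
  obtain ⟨Z, hZ, hmax⟩ := (Set.toFinite {Z | Good Z}).exists_maximalFor
    (fun Z : Subgroup (orthGroup (qStd n F)) => Nat.card Z) _ ⟨⊥, hbot⟩
  obtain ⟨hZp, g, hg, hgL, hgH, hgZ⟩ := hZ
  have hZcomm : ∀ x ∈ Z, ∀ y ∈ Z, Commute x y := by
    intro x hx y hy
    have := inv_eq_of_mul_eq_one_left ((hZp _ (mul_mem hx hy)).2.2.1)
    rw [mul_inv_rev, inv_eq_of_mul_eq_one_left (hZp x hx).2.2.1,
      inv_eq_of_mul_eq_one_left (hZp y hy).2.2.1] at this
    exact this.symm
  have hKinv : ∀ z ∈ Z, K.map (pr z).toEmbedding = K := by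
    intro z hz
    apply dg_injective h2
    rw [← mon_conj_dg (hZp z hz).1.1, ← he, (hZp z hz).2.2.2.eq, mul_inv_cancel_right]
  -- a second invariant set
  obtain ⟨S, hSL, hSe, hSne, hSnL, hScard, hScard', hSinv⟩ : ∃ S : Finset (Fin n), S ⊆ L ∧
      Even S.card ∧ S.Nonempty ∧ S ≠ L ∧ S.card ≠ s ∧ S.card + s ≠ L.card ∧
      ∀ z ∈ Z, S.map (pr z).toEmbedding = S := by
    have hCcard : (L \ K).card = L.card - s := by rw [Finset.card_sdiff_of_subset hKL, hK]
    have hinvC : ∀ z ∈ Z, ∀ x ∈ L \ K, pr z x ∈ L \ K := by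
      intro z hz x hx
      obtain ⟨hxL, hxK⟩ := Finset.mem_sdiff.mp hx
      refine Finset.mem_sdiff.mpr ⟨?_, fun hc => hxK ?_⟩
      · by_contra hc
        have := (pr z).injective (pr_fix (hZp z hz).1.1 (hZp z hz).2.1 hc)
        rw [this] at hc
        exact hc hxL
      · rw [← hKinv z hz] at hc
        obtain ⟨y, hy, hyx⟩ := Finset.mem_map.mp hc
        exact (pr z).injective hyx ▸ hy
    by_cases hall : ∀ z ∈ Z, ∀ x ∈ L \ K, pr z x = x
    · obtain ⟨S, hSC, hS⟩ := Finset.exists_subset_card_eq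
        (show 6 - s ≤ (L \ K).card by omega)
      refine ⟨S, hSC.trans Finset.sdiff_subset, ?_, Finset.card_pos.mp (by omega),
        fun e => by rw [e] at hS; omega, by omega, by omega, fun z hz => ?_⟩
      · rcases hs24 with h | h <;> rw [hS, h] <;> decide
      · refine Finset.eq_of_subset_of_card_le ?_ (by rw [Finset.card_map])
        intro x hx
        obtain ⟨y, hy, rfl⟩ := Finset.mem_map.mp hx
        show pr z y ∈ S
        rw [hall z hz y (hSC hy)]; exact hy
    push Not at hall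
    obtain ⟨z₀, hz₀, a, haC, hmove⟩ := hall
    have hprsq : ∀ z ∈ Z, pr z * pr z = 1 := fun z hz => by
      rw [← pr_mul (hZp z hz).1.1 (hZp z hz).1.1, (hZp z hz).2.2.1, ← dg_empty, pr_dg]
    let Pz : Subgroup (Equiv.Perm (Fin n)) :=
      { carrier := {τ | ∃ z ∈ Z, pr z = τ}
        mul_mem' := by
          rintro _ _ ⟨z, hz, rfl⟩ ⟨z', hz', rfl⟩
          exact ⟨_, mul_mem hz hz', pr_mul (hZp z hz).1.1 (hZp z' hz').1.1⟩
        one_mem' := ⟨1, one_mem _, by rw [← dg_empty, pr_dg]⟩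
        inv_mem' := by
          rintro _ ⟨z, hz, rfl⟩
          exact ⟨z, hz, (inv_eq_of_mul_eq_one_left (hprsq z hz)).symm⟩ }
    have hP : IsPGroup 2 Pz := fun τ => ⟨1, by
      obtain ⟨_, z, hz, rfl⟩ := τ
      exact Subtype.ext (by rw [pow_one, Subgroup.coe_pow, sq, hprsq z hz]; rfl)⟩
    obtain ⟨k, hk⟩ := hP.card_orbit a
    set O : Finset (Fin n) := (MulAction.orbit Pz a).toFinite.toFinset with hO
    have hOk : O.card = 2 ^ k := by
      rw [← hk, Nat.card_eq_card_finite_toFinset]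
    have hmemO : ∀ x, x ∈ O ↔ ∃ z ∈ Z, pr z a = x := by
      intro x
      rw [hO, Set.Finite.mem_toFinset, MulAction.mem_orbit_iff]
      constructor
      · rintro ⟨⟨_, z, hz, rfl⟩, rfl⟩; exact ⟨z, hz, rfl⟩
      · rintro ⟨z, hz, rfl⟩; exact ⟨⟨pr z, z, hz, rfl⟩, rfl⟩
    have hOC : O ⊆ L \ K := fun x hx => by
      obtain ⟨z, hz, rfl⟩ := (hmemO x).mp hx
      exact hinvC z hz a haC
    have hk0 : k ≠ 0 := by
      intro h0
      rw [h0, pow_zero, Finset.card_eq_one] at hOk
      obtain ⟨c, hc⟩ := hOk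
      have h1 := (hmemO _).mpr ⟨z₀, hz₀, rfl⟩
      have h3 := (hmemO a).mpr ⟨1, one_mem _, by rw [← dg_empty, pr_dg]; rfl⟩
      rw [hc, Finset.mem_singleton] at h1 h3
      exact hmove (h1.trans h3.symm)
    have hOe : Even O.card := by rw [hOk]; exact (Nat.even_pow).mpr ⟨even_two, hk0⟩
    have hOne : O.card ≠ L.card - s := by rw [hOk]; exact (hs k).symm
    have hOinv : ∀ z ∈ Z, O.map (pr z).toEmbedding = O := by
      intro z hz
      refine Finset.eq_of_subset_of_card_le ?_ (by rw [Finset.card_map])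
      intro x hx
      obtain ⟨y, hy, rfl⟩ := Finset.mem_map.mp hx
      obtain ⟨z', hz', rfl⟩ := (hmemO y).mp hy
      exact (hmemO _).mpr ⟨z * z', mul_mem hz hz', by
        rw [pr_mul (hZp z hz).1.1 (hZp z' hz').1.1]; rfl⟩
    have hOpos : 0 < O.card := by rw [hOk]; exact Nat.two_pow_pos k
    have hOL : O.card ≤ (L \ K).card := Finset.card_le_card hOC
    by_cases hOs : O.card = s
    · have hd : Disjoint K O := Finset.disjoint_left.mpr fun x hx hx' =>
        (Finset.mem_sdiff.mp (hOC hx')).2 hx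
      have hcu : (K ∪ O).card = s + s := by rw [Finset.card_union_of_disjoint hd, hK, hOs]
      have h12 : L.card ≠ 3 * s := by
        intro h
        rcases hs24 with rfl | rfl
        · omega
        · exact hs 3 (by omega)
      refine ⟨K ∪ O, Finset.union_subset hKL (hOC.trans Finset.sdiff_subset), ⟨s, hcu⟩,
        Finset.card_pos.mp (by omega), fun e => by rw [e] at hcu; omega, by omega, by omega,
        fun z hz => by rw [Finset.map_union, hKinv z hz, hOinv z hz]⟩
    · exact ⟨O, hOC.trans Finset.sdiff_subset, hOe, Finset.card_pos.mp hOpos,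
        fun e => by rw [e] at hOL; omega, hOs, by omega, hOinv⟩
  set t := g * dg S * g⁻¹ with ht
  have hdS := dg_mem_HS (F := F) h2 hn hSe
  have htM : t ∈ M := mul_mem (mul_mem hg (hM hdS)) (inv_mem hg)
  have htL : t ∈ Fx L := mul_mem (mul_mem hgL (dg_mem_fx hSL)) (inv_mem hgL)
  have htH : t ∉ HS n F := fun h => hgH (mem_of_conj h2 M hM L hL hA hSL hSne hSnL hSe hg hgL h)
  have hSZ : ∀ z ∈ Z, Commute z (dg S) := by
    intro z hz
    show z * dg S = dg S * z
    calc z * dg S = (z * dg S * z⁻¹) * z := by group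
      _ = dg S * z := by rw [mon_conj_dg (hZp z hz).1.1, hSinv z hz]
  have htZ : ∀ z ∈ Z, Commute t z := fun z hz =>
    (((hgZ z hz).mul_left (hSZ z hz).symm).mul_left (hgZ z hz).inv_left)
  have ht2 : t * t = 1 := by
    rw [ht, show g * dg S * g⁻¹ * (g * dg S * g⁻¹) = g * (dg S * dg S) * g⁻¹ by group, dg_sq,
      mul_one, mul_inv_cancel]
  have he2 : e * e = 1 := dg_sq K
  have heinv : e⁻¹ = e := inv_eq_of_mul_eq_one_left he2
  set q := e * t with hq
  have heM : e ∈ M := hM (dg_mem_HS h2 hn hKe)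
  have heL : e ∈ Fx L := dg_mem_fx hKL
  have hqM : q ∈ M := mul_mem heM htM
  have hqL : q ∈ Fx L := mul_mem heL htL
  have heq : ∀ k : ℕ, e * q ^ k * e = (q ^ k)⁻¹ := by
    intro k
    have h1 : e * q * e⁻¹ = q⁻¹ := by
      rw [hq, mul_inv_rev, inv_eq_of_mul_eq_one_left ht2, ← mul_assoc, he2, one_mul]
    calc e * q ^ k * e = e * q ^ k * e⁻¹ := by rw [heinv]
      _ = (e * q * e⁻¹) ^ k := conj_pow.symm
      _ = (q ^ k)⁻¹ := by rw [h1, inv_pow]
  set N := orderOf q with hN
  have hNpos : 0 < N := orderOf_pos q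
  have hqN : q ^ N = 1 := pow_orderOf_eq_one q
  -- the involution in the centre of the dihedral group lies in `Z`
  have hcentral : ∀ m, N = 2 * m → q ^ m ∈ Z ∧ q ^ m ≠ 1 := by
    intro m hm
    have hz2 : q ^ m * q ^ m = 1 := by rw [← pow_add, ← two_mul, ← hm, hqN]
    refine ⟨?_, pow_ne_one_of_lt_orderOf (by omega) (by omega)⟩
    by_contra hnot
    set z := q ^ m with hz
    have hze : Commute z e := by
      have := heq m
      rw [← hz, inv_eq_of_mul_eq_one_left hz2] at this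
      show z * e = e * z
      conv_lhs => rw [← this, mul_assoc, he2, mul_one]
    have hzt : Commute z t := by
      have : t = e * q := by rw [hq, ← mul_assoc, he2, one_mul]
      rw [this]
      exact hze.mul_right ((Commute.refl q).pow_left m)
    have hzH : z ∈ HS n F :=
      mem_of_commute h2 M hM L hL hA hKL hK0 hKne (pow_mem hqM m) (pow_mem hqL m) hze
    have hzZ : ∀ y ∈ Z, Commute z y := fun y hy => by
      refine Commute.pow_left ?_ m
      exact ((hZp y hy).2.2.2.symm).mul_left (htZ y hy)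
    have hy2 : ∀ y ∈ Z, y * y = 1 := fun y hy => (hZp y hy).2.2.1
    have hx2 : ∀ x, z * x ∈ Z → Commute z x ∧ x * x = 1 := by
      intro x hx
      have hxx : x = z * (z * x) := by rw [← mul_assoc, hz2, one_mul]
      have hc : Commute z x := by rw [hxx]; exact (Commute.refl z).mul_right (hzZ _ hx)
      refine ⟨hc, ?_⟩
      have := hy2 _ hx
      rwa [mul_assoc, ← mul_assoc x z x, ← hc.eq, mul_assoc, ← mul_assoc z z, hz2, one_mul] at this
    let Z' : Subgroup (orthGroup (qStd n F)) :=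
      { carrier := {x | x ∈ Z ∨ z * x ∈ Z}
        mul_mem' := by
          rintro x y (hx | hx) (hy | hy)
          · exact Or.inl (mul_mem hx hy)
          · refine Or.inr ?_
            rw [← mul_assoc, (hzZ x hx).eq, mul_assoc]
            exact mul_mem hx hy
          · exact Or.inr (by rw [← mul_assoc]; exact mul_mem hx hy)
          · refine Or.inl ?_
            have h' := mul_mem hx hy
            rwa [(hx2 x hx).1.eq, mul_assoc, ← mul_assoc z z, hz2, one_mul] at h'
        one_mem' := Or.inl (one_mem _)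
        inv_mem' := by
          rintro x (hx | hx)
          · exact Or.inl (inv_mem hx)
          · exact Or.inr (by rw [inv_eq_of_mul_eq_one_left (hx2 x hx).2]; exact hx) }
    have hle : Z ≤ Z' := fun x hx => Or.inl hx
    have hlt : Z < Z' := lt_of_le_of_ne hle fun h => hnot (h ▸ Or.inr (by rw [hz2]; exact one_mem _))
    have hgood : Good Z' := by
      refine ⟨?_, t, htM, htL, htH, ?_⟩
      · rintro x (hx | hx)
        · exact hZp x hx
        · have hxx : x = z * (z * x) := by rw [← mul_assoc, hz2, one_mul]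
          refine ⟨?_, ?_, (hx2 x hx).2, ?_⟩
          · rw [hxx]; exact mul_mem hzH (hZp _ hx).1
          · rw [hxx]; exact mul_mem (pow_mem hqL m) (hZp _ hx).2.1
          · rw [hxx]; exact hze.mul_left (hZp _ hx).2.2.2
      · rintro x (hx | hx)
        · exact htZ x hx
        · rw [show x = z * (z * x) by rw [← mul_assoc, hz2, one_mul]]
          exact hzt.symm.mul_right (htZ _ hx)
    have hcard : Nat.card Z < Nat.card Z' :=
      Set.Finite.card_lt_card (Set.toFinite _) hlt
    exact absurd (hmax hgood hcard.le) (not_le.mpr hcard)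
  -- sign changes in `Z`
  have hdiagZ : ∀ R : Finset (Fin n), (dg R : orthGroup (qStd n F)) ∈ Z → R = ∅ ∨ R = L := by
    intro R hR
    by_contra hc
    push Not at hc
    exact hgH (mem_of_commute h2 M hM L hL hA (subset_of_dg_mem_fx h2 (hZp _ hR).2.1) hc.1 hc.2
      hg hgL (hgZ _ hR))
  have hclass : ∀ (S' : Finset (Fin n)) (z : orthGroup (qStd n F)), z ∈ Z → e * z = dg S' →
      z = 1 ∧ S'.card = s ∨ z ≠ 1 ∧ S'.card + s = L.card := by
    intro S' z hz h
    have hzR : z = dg (K ∆ S') := by rw [← dg_mul, ← he, ← h, ← mul_assoc, he2, one_mul]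
    have hR := hdiagZ _ (hzR ▸ hz)
    rcases hR with hR | hR
    · exact Or.inl ⟨by rw [hzR, hR, dg_empty], by rw [← symmDiff_eq_bot.mp hR, hK]⟩
    · refine Or.inr ⟨fun h1 => ?_, ?_⟩
      · rw [hzR, hR, ← dg_empty] at h1
        have := congrArg Finset.card (dg_injective h2 h1)
        rw [Finset.card_empty] at this
        omega
      · have : S' = L \ K := by
          ext x
          have hx0 : x ∈ K → x ∈ L := fun h => hKL h
          rw [Finset.mem_sdiff]
          rw [← hR, Finset.mem_symmDiff] at hx0 ⊢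
          constructor
          · intro h
            refine ⟨Or.inr ⟨h, fun hk => ?_⟩, fun hk => ?_⟩
            · exact (hx0 hk).elim (fun a => a.2 h) (fun a => a.2 hk)
            · exact (hx0 hk).elim (fun a => a.2 h) (fun a => a.2 hk)
          · exact fun ⟨a, b⟩ => a.elim (fun a => absurd a.1 b) (fun a => a.1)
        rw [this, Finset.card_sdiff_of_subset hKL, hK]
        omega
  -- the case of order divisible by four
  have hnot4 : ¬ 4 ∣ N := by
    rintro ⟨m, hm⟩
    obtain ⟨hzZ, hz1⟩ := hcentral (2 * m) (by omega)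
    set r := q ^ m with hr
    have hr2 : r * r = q ^ (2 * m) := by rw [hr, ← pow_add, two_mul]
    have hz2 := (hZp _ hzZ).2.2.1
    have hre : r * e * r⁻¹ = e * q ^ (2 * m) := by
      have h1 : e * r * e = r⁻¹ := heq m
      have h3 : r * e = e * r⁻¹ := by
        rw [← h1, ← mul_assoc e (e * r), ← mul_assoc e e, he2, one_mul]
      rw [h3, mul_assoc, ← mul_inv_rev, hr2, inv_eq_of_mul_eq_one_left hz2]
    have hrH : r ∈ HS n F := by
      refine mem_of_conj h2 M hM L hL hA hKL hK0 hKne hKe (pow_mem hqM m) (pow_mem hqL m) ?_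
      rw [hre]
      exact mul_mem (dg_mem_HS h2 hn hKe) (hZp _ hzZ).1
    have hdiag := mon_conj_dg hrH.1 K
    rw [← he, hre] at hdiag
    rcases hclass _ _ hzZ hdiag with ⟨h1, -⟩ | ⟨-, h1⟩
    · exact hz1 h1
    · rw [Finset.card_map, hK] at h1; omega
  -- the two classes meet modulo `Z`
  obtain ⟨j, z, hzZ, hj⟩ : ∃ j : ℕ, ∃ z ∈ Z, q ^ j * t * (q ^ j)⁻¹ = e * z := by
    have hbase : ∀ j : ℕ, q ^ j * t * (q ^ j)⁻¹ = q ^ (2 * j) * q⁻¹ * e := by
      intro j
      have h1 : t = q⁻¹ * e := by rw [hq, mul_inv_rev, inv_eq_of_mul_eq_one_left ht2, heinv,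
        mul_assoc, he2, mul_one]
      rw [h1, ← heq j, two_mul, pow_add]
      calc q ^ j * (q⁻¹ * e) * (e * q ^ j * e) = q ^ j * q⁻¹ * (e * e) * q ^ j * e := by group
        _ = q ^ j * q ^ j * q⁻¹ * e := by rw [he2, mul_one]; group
    rcases Nat.even_or_odd' N with ⟨m, hm | hm⟩
    · obtain ⟨hzZ, -⟩ := hcentral m hm
      rcases Nat.even_or_odd' m with ⟨r, hr | hr⟩
      · exact absurd ⟨r, by omega⟩ hnot4
      refine ⟨r + 1, q ^ m, hzZ, ?_⟩
      rw [hbase, show 2 * (r + 1) = m + 1 by omega, pow_succ, mul_inv_cancel_right]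
      exact (hZp _ hzZ).2.2.2.eq
    · refine ⟨m + 1, 1, one_mem _, ?_⟩
      rw [hbase, show 2 * (m + 1) = N + 1 by omega, pow_succ, mul_inv_cancel_right, hqN, one_mul,
        mul_one]
  have hez : e * z ∈ HS n F := mul_mem (dg_mem_HS h2 hn hKe) (hZp z hzZ).1
  have hug : q ^ j * g * dg S * (q ^ j * g)⁻¹ = e * z := by
    rw [← hj, ht]; group
  have hugH : q ^ j * g ∈ HS n F := mem_of_conj h2 M hM L hL hA hSL hSne hSnL hSe
    (mul_mem (pow_mem hqM j) hg) (mul_mem (pow_mem hqL j) hgL) (by rw [hug]; exact hez)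
  rw [mon_conj_dg hugH.1] at hug
  rcases hclass _ z hzZ hug.symm with ⟨-, h⟩ | ⟨-, h⟩
  · rw [Finset.card_map] at h; exact hScard h
  · rw [Finset.card_map] at h; exact hScard' h

end step

end Frame
end H45
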