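import Mathlib
import Cfsg.Agent.H45.FrameStep

/-!
# The unit vectors whose reflection pairs lie in an overgroup of the frame stabiliser
-/

set_option autoImplicit false
set_option linter.unusedSectionVars false

namespace H45
namespace Frame

open H43
open scoped Matrix symmDiff

variable {F : Type*} [Field F] {n : ℕ}

/-- The support of a vector. -/
noncomputable def supp (z : Fin n → F) : Finset (Fin n) := by
  classical exact Finset.univ.filter fun k => z k ≠ 0

lemma mem_supp {z : Fin n → F} {k : Fin n} : k ∈ supp z ↔ z k ≠ 0 := by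
  classical simp [supp]

lemma notMem_supp {z : Fin n → F} {k : Fin n} : k ∉ supp z ↔ z k = 0 := by
  rw [mem_supp, not_not]

/-- A coordinate vector up to sign, or half the sum of two of them up to scaling. -/
def Rootish (z : Fin n → F) : Prop :=
  (∃ i, z = ev i ∨ z = -ev i) ∨
    ∃ i j, i ≠ j ∧ 2 * (z i * z i) = 1 ∧ 2 * (z j * z j) = 1 ∧ ∀ k, k ≠ i → k ≠ j → z k = 0

lemma supp_card_le_two_of_rootish {z : Fin n → F} (h : Rootish z) : (supp z).card ≤ 2 := by
  rcases h with ⟨i, hi⟩ | ⟨i, j, -, -, -, h⟩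
  · refine le_trans (Finset.card_le_card (t := {i}) fun k hk => ?_) (by simp)
    rw [Finset.mem_singleton]
    by_contra hne
    rw [mem_supp] at hk
    rcases hi with rfl | rfl <;> simp [ev_ne hne] at hk
  · refine le_trans (Finset.card_le_card (t := {i, j}) fun k hk => ?_) Finset.card_le_two
    rw [Finset.mem_insert, Finset.mem_singleton]
    by_contra hne
    push Not at hne
    exact mem_supp.mp hk (h k hne.1 hne.2)

variable [Fintype F]

/-- The unit vectors whose reflection times a fixed coordinate reflection lies in `M`. -/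
def Wv (M : Subgroup (orthGroup (qStd n F))) (z : Fin n → F) : Prop :=
  qStd n F z = 1 ∧ ∀ i, refl (qStd n F) z * refl (qStd n F) (ev i) ∈ M

variable (h2 : (2 : F) ≠ 0) (hn : 7 ≤ n) (M : Subgroup (orthGroup (qStd n F))) (hM : HS n F ≤ M)

include h2 hn hM

lemma refl_ev_pair_mem (i j : Fin n) :
    refl (qStd n F) (ev i) * refl (qStd n F) (ev j) ∈ M := by
  refine hM ?_
  rw [refl_ev_eq_dg, refl_ev_eq_dg, dg_mul]
  refine dg_mem_HS h2 (by omega) ?_
  rcases eq_or_ne i j with rfl | h
  · simp
  · rw [show ({i} : Finset (Fin n)) ∆ {j} = {i, j} by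
      ext k; simp only [Finset.mem_symmDiff, Finset.mem_singleton, Finset.mem_insert]
      constructor
      · rintro (⟨a, -⟩ | ⟨a, -⟩) <;> simp [a]
      · rintro (rfl | rfl)
        · exact Or.inl ⟨rfl, h⟩
        · exact Or.inr ⟨rfl, h.symm⟩, Finset.card_pair h]
    exact even_two

lemma wv_of_one {z : Fin n → F} (hz : qStd n F z = 1) (i : Fin n)
    (h : refl (qStd n F) z * refl (qStd n F) (ev i) ∈ M) : Wv M z := by
  refine ⟨hz, fun j => ?_⟩
  have := mul_mem h (refl_ev_pair_mem h2 hn M hM i j)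
  rwa [mul_assoc, ← mul_assoc (refl _ (ev i)) (refl _ (ev i)), refl_sq, one_mul] at this

lemma wv_ev (i : Fin n) : Wv M (ev i) :=
  ⟨q_ev i, fun j => refl_ev_pair_mem h2 hn M hM i j⟩

lemma wv_neg {z : Fin n → F} (h : Wv M z) : Wv M (-z) :=
  ⟨by rw [qmap_neg, h.1], fun i => by rw [refl_neg]; exact h.2 i⟩

lemma wv_pair {z u : Fin n → F} (hz : Wv M z) (hu : Wv M u) :
    refl (qStd n F) z * refl (qStd n F) u ∈ M := by
  let o : Fin n := ⟨0, by omega⟩
  have := mul_mem (hz.2 o) (inv_mem (hu.2 o))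
  rwa [mul_inv_rev, refl_inv, refl_inv, mul_assoc, ← mul_assoc (refl _ (ev o)) (refl _ (ev o)),
    refl_sq, one_mul] at this

lemma wv_refl {z u : Fin n → F} (hz : Wv M z) (hu : Wv M u) :
    Wv M ((refl (qStd n F) z).1 u) := by
  refine ⟨by rw [orth_qmap]; exact hu.1, fun i => ?_⟩
  rw [← refl_conj, refl_inv, mul_assoc (refl _ z * refl _ u)]
  exact mul_mem (wv_pair h2 hn M hM hz hu) (hz.2 i)

lemma wv_dg (S : Finset (Fin n)) {z : Fin n → F} (hz : Wv M z) : Wv M ((dg S : orthGroup (qStd n F)).1 z) := by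
  induction S using Finset.induction_on with
  | empty => rw [dg_empty, orth_one_apply]; exact hz
  | insert a S ha ih =>
    have h : (dg (insert a S) : orthGroup (qStd n F)) = refl (qStd n F) (ev a) * dg S := by
      rw [refl_ev_eq_dg, dg_mul]
      congr 1
      ext k
      by_cases hk : k = a <;> simp [Finset.mem_symmDiff, hk, ha]
    rw [h, orth_mul_apply]
    exact wv_refl h2 hn M hM (wv_ev h2 hn M hM a) ih

lemma wv_map {g : orthGroup (qStd n F)} (hg : g ∈ M) {i j : Fin n} (hij : g.1 (ev i) = ev j)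
    {z : Fin n → F} (hz : Wv M z) : Wv M (g.1 z) := by
  refine wv_of_one h2 hn M hM (by rw [orth_qmap]; exact hz.1) j ?_
  rw [← refl_conj, ← hij, ← refl_conj,
    show g * refl (qStd n F) z * g⁻¹ * (g * refl (qStd n F) (ev i) * g⁻¹) =
      g * (refl (qStd n F) z * refl (qStd n F) (ev i)) * g⁻¹ by group]
  exact mul_mem (mul_mem hg (hz.2 i)) (inv_mem hg)

lemma wv_pm {σ : Equiv.Perm (Fin n)} (hσ : Equiv.Perm.sign σ = 1) {z : Fin n → F} (hz : Wv M z) :
    Wv M ((pm σ : orthGroup (qStd n F)).1 z) :=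
  wv_map h2 hn M hM (hM (pm_mem_HS h2 (by omega) hσ)) (pm_ev σ ⟨0, by omega⟩) hz

lemma wv_root {i j : Fin n} (hij : i ≠ j) {a : F} (ha : 2 * (a * a) = 1) :
    Wv M (a • (ev i + ev j)) := by
  have ha0 : a ≠ 0 := by rintro rfl; simp at ha
  have hq : qStd n F (a • (ev i + ev j)) = 1 := by
    rw [qmap_smul, qmap_add, q_ev, q_ev, polB_qStd, ev_dot, ev_ne hij]
    linear_combination ha
  have hq1 : qStd n F (ev j : Fin n → F) = 1 := q_ev j
  refine wv_of_one h2 hn M hM hq j (hM ⟨?_, ?_⟩)
  · rw [refl_smul _ ha0]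
    have hconj : (ev i + ev j : Fin n → F) = (dg {j} : orthGroup (qStd n F)).1 (ev i - ev j) := by
      rw [map_sub, dg_ev, dg_ev, if_neg (by simpa using hij), if_pos (by simp)]
      simp
    rw [hconj, ← refl_conj, ← pm_swap h2 hij, refl_ev_eq_dg]
    exact (Mon n F).mul_mem ((Mon n F).mul_mem ((Mon n F).mul_mem (dg_mem_mon _) (pm_mem_mon _))
      ((Mon n F).inv_mem (dg_mem_mon _))) (dg_mem_mon _)
  · exact refl_mul_refl_mem_commutator (qStd_nondeg h2) (reflGenerates_of_two_ne_zero h2)
      (by rw [Module.finrank_fin_fun]; omega) (by rw [hq]; exact one_ne_zero)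
      (by rw [hq1]; exact one_ne_zero) (by rw [hq, hq1])

/-- An overgroup of the frame stabiliser yields a new vector of bounded support. -/
theorem exists_wv_not_rootish (hn10 : 10 ≤ n) (hMO : M ≤ commutator (orthGroup (qStd n F))) (hne : ¬ M ≤ HS n F) :
    ∃ z, Wv M z ∧ ¬ Rootish z ∧ (supp z).card + 2 ≤ n := by
  classical
  have step : ∀ L : Finset (Fin n), 9 ≤ L.card → (∃ g ∈ M, g ∈ Fx L ∧ g ∉ HS n F) →
      ∃ k ∈ L, ∃ g ∈ M, g ∈ Fx (L.erase k) ∧ g ∉ HS n F := by
    rintro L hL ⟨g, hg, hgL, hgH⟩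
    by_contra hcon
    push Not at hcon
    refine hgH (le_of_no_axis h2 M hM L hL ?_ g hg hgL)
    rintro f hf hfL ⟨k, hk, hfk⟩
    obtain ⟨k', hk', hkk⟩ := Finset.exists_mem_notMem_of_card_lt_card (s := {k}) (t := L)
      (lt_of_le_of_lt (Finset.card_singleton k).le (by omega))
    rw [Finset.mem_singleton] at hkk
    rcases hfk with h | h
    · exact hcon k hk f hf fun l hl => by
        by_cases e : l = k
        · rw [e, h]
        · exact hfL l fun hl' => hl (Finset.mem_erase.mpr ⟨e, hl'⟩)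
    · have hd : (dg {k, k'} : orthGroup (qStd n F)) ∈ HS n F :=
        dg_mem_HS h2 (by omega) (by rw [Finset.card_pair (Ne.symm hkk)]; exact even_two)
      have := hcon k hk (f * dg {k, k'}) (mul_mem hf (hM hd)) fun l hl => by
        rw [orth_mul_apply]
        by_cases e : l = k
        · rw [e, dg_ev, if_pos (by simp), map_neg, h, neg_neg]
        · have hlL : l ∉ L := fun hl' => hl (Finset.mem_erase.mpr ⟨e, hl'⟩)
          rw [dg_ev, if_neg, hfL l hlL]
          simp only [Finset.mem_insert, Finset.mem_singleton, not_or]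
          exact ⟨e, fun e' => hlL (by rw [e']; exact hk')⟩
      have h' := mul_mem this (inv_mem hd)
      rwa [mul_inv_cancel_right] at h'
  obtain ⟨g₀, hg₀, hg₀H⟩ := SetLike.not_le_iff_exists.mp hne
  obtain ⟨k₁, hk₁, h₁⟩ := step Finset.univ (by simp; omega)
    ⟨g₀, hg₀, fun k hk => absurd (Finset.mem_univ k) hk, hg₀H⟩
  have c₁ : (Finset.univ.erase k₁).card + 1 = n := by
    rw [Finset.card_erase_add_one hk₁, Finset.card_univ, Fintype.card_fin]
  obtain ⟨k₂, hk₂, g, hg, hgL, hgH⟩ := step _ (by omega) h₁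
  have c₂ := Finset.card_erase_add_one hk₂
  set L := (Finset.univ.erase k₁).erase k₂ with hL
  have hLc : L.card + 2 = n := by omega
  obtain ⟨i, hi⟩ : ∃ i, ∀ j, g.1 (ev i) ≠ ev j ∧ g.1 (ev i) ≠ -ev j := by
    by_contra hcon
    push Not at hcon
    refine hgH ⟨mem_mon_of_forall fun i => ?_, hMO hg⟩
    obtain ⟨j, hj⟩ := hcon i
    exact ⟨j, (em (g.1 (ev i) = ev j)).imp id hj⟩
  have hiL : i ∈ L := by
    by_contra h
    exact (hi i).1 (hgL i h)
  obtain ⟨o, ho⟩ : ∃ o, o ∉ L := ⟨k₂, Finset.notMem_erase _ _⟩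
  have hgo := hgL o ho
  have hu : Wv M (g.1 (ev i)) := wv_map h2 hn M hM hg hgo (wv_ev h2 hn M hM i)
  have hsup : Sup L (g.1 (ev i)) := sup_fx h2 hgL (sup_ev hiL)
  by_cases hr : Rootish (g.1 (ev i))
  · rcases hr with ⟨j, hj⟩ | ⟨c, d, hcd, hc, hd, hrest⟩
    · exact absurd hj (by rintro (h | h); exacts [(hi j).1 h, (hi j).2 h])
    · set a := g.1 (ev i) c with ha
      have hoi : i ≠ o := fun e => ho (e ▸ hiL)
      refine ⟨g.1 (a • (ev i + ev o)), wv_map h2 hn M hM hg hgo (wv_root h2 hn M hM hoi hc), ?_, ?_⟩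
      all_goals
        have hval : g.1 (a • (ev i + ev o)) = a • (g.1 (ev i) + ev o) := by
          rw [map_smul, map_add, hgo]
      · intro hR
        have ha0 : a ≠ 0 := by rintro e; rw [e] at hc; simp at hc
        have hd0 : g.1 (ev i) d ≠ 0 := by rintro e; rw [e] at hd; simp at hd
        have hcL : c ∈ L := by by_contra h; exact ha0 (hsup c h)
        have hdL : d ∈ L := by by_contra h; exact hd0 (hsup d h)
        have hco : c ≠ o := fun e => ho (e ▸ hcL)
        have hdo : d ≠ o := fun e => ho (e ▸ hdL)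
        have h3 : ({c, d, o} : Finset (Fin n)) ⊆ supp (g.1 (a • (ev i + ev o))) := by
          intro k hk
          rw [mem_supp, hval, Pi.smul_apply, Pi.add_apply, smul_eq_mul]
          refine mul_ne_zero ha0 ?_
          simp only [Finset.mem_insert, Finset.mem_singleton] at hk
          rcases hk with rfl | rfl | rfl
          · rw [ev_ne hco, add_zero]; exact ha0
          · rw [ev_ne hdo, add_zero]; exact hd0
          · rw [ev_self, hsup k ho, zero_add]; exact one_ne_zero
        have h4 := Finset.card_le_card h3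
        rw [Finset.card_eq_three.mpr ⟨c, d, o, hcd, hco, hdo, rfl⟩] at h4
        have := supp_card_le_two_of_rootish hR
        omega
      · have h3 : supp (g.1 (a • (ev i + ev o))) ⊆ {c, d, o} := by
          intro k hk
          simp only [Finset.mem_insert, Finset.mem_singleton]
          by_contra hne
          push Not at hne
          rw [mem_supp, hval, Pi.smul_apply, Pi.add_apply, hrest k hne.1 hne.2.1,
            ev_ne hne.2.2, add_zero, smul_zero] at hk
          exact hk rfl
        have := (Finset.card_le_card h3).trans Finset.card_le_three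
        omega
  · refine ⟨_, hu, hr, ?_⟩
    have : supp (g.1 (ev i)) ⊆ L := fun k hk => by
      by_contra h
      exact mem_supp.mp hk (hsup k h)
    have := Finset.card_le_card this
    omega

end Frame
end H45
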