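import Mathlib
import Cfsg.Agent.H45.FrameW
import Cfsg.Agent.H45.FrameSphere

/-!
# From one new vector to the unit sphere of three coordinates
-/

set_option autoImplicit false
set_option linter.unusedSectionVars false

namespace H45
namespace Frame

open H43
open scoped Matrix symmDiff

variable {F : Type*} [Field F] [Fintype F] {n : ℕ} {p : ℕ}

/-- The unit sphere on some three coordinates. -/
def HasTriple (M : Subgroup (orthGroup (qStd n F))) : Prop :=
  ∃ i j l : Fin n, i ≠ j ∧ i ≠ l ∧ j ≠ l ∧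
    ∀ y : Fin n → F, qStd n F y = 1 → (∀ k, k ≠ i → k ≠ j → k ≠ l → y k = 0) → Wv M y

lemma natCast_ne_zero_of_lt (hcard : Fintype.card F = p) (hp : p.Prime) {k : ℕ} (hk : 0 < k)
    (hkp : k < p) : (k : F) ≠ 0 := by
  obtain ⟨q, hq⟩ := CharP.exists F
  obtain ⟨r, hr, hqr⟩ := FiniteField.card F q
  have h3 : q ∣ p := hcard ▸ hqr ▸ dvd_pow_self q r.ne_zero
  rw [(Nat.prime_dvd_prime_iff_eq hr hp).mp h3] at hq
  haveI := hq
  rw [Ne, CharP.cast_eq_zero_iff F p]
  exact fun h => absurd (Nat.le_of_dvd hk h) (by omega)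

lemma q_sum (y : Fin n → F) {s : Finset (Fin n)} (h : ∀ k, k ∉ s → y k = 0) :
    qStd n F y = ∑ k ∈ s, y k * y k := by
  rw [qStd_apply]
  exact (Finset.sum_subset (Finset.subset_univ s) fun k _ hk => by rw [h k hk, mul_zero]).symm

variable (hcard : Fintype.card F = p) (hp : p.Prime) (hp5 : 5 ≤ p) (h2 : (2 : F) ≠ 0)
  (hn : 7 ≤ n) (M : Subgroup (orthGroup (qStd n F))) (hM : HS n F ≤ M)

include hcard hp hp5 h2 hn hM

lemma num_ne {k : ℕ} (hk : 0 < k) (hk5 : k < 5) : (k : F) ≠ 0 :=
  natCast_ne_zero_of_lt hcard hp hk (by omega)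

/-- The sphere lemma in coordinates. -/
lemma wv_sphere {z : Fin n → F} (hz : Wv M z) {i j a b : Fin n} (hij : i ≠ j) (hab : a ≠ b)
    (hai : a ≠ i) (haj : a ≠ j) (hbi : b ≠ i) (hbj : b ≠ j) (hzab : z a = z b)
    (hsum : z i * z i + z j * z j ≠ 1) (hne : z i ≠ 0 ∨ z j ≠ 0)
    (hex₁ : ¬ (z i = 0 ∧ 2 * (z j * z j) = 1)) (hex₂ : ¬ (z j = 0 ∧ 2 * (z i * z i) = 1))
    (hex₄ : ¬ (4 * (z i * z i) = 1 ∧ 4 * (z j * z j) = 1))
    {y : Fin n → F} {s : F} (hy : qStd n F y = 1) (hrest : ∀ k, k ≠ i → k ≠ j → y k = s * z k) :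
    Wv M y := by
  set u : Fin n → F := z - z i • ev i - z j • ev j with hu
  have hui : u i = 0 := by simp [hu, ev_self, ev_ne hij]
  have huj : u j = 0 := by simp [hu, ev_self, ev_ne hij.symm]
  have huk : ∀ k, k ≠ i → k ≠ j → u k = z k := fun k h1 h2' => by
    simp [hu, ev_ne h1, ev_ne h2']
  have hdot1 : (ev i : Fin n → F) ⬝ᵥ ev j = 0 := by rw [ev_dot, ev_ne hij]
  have hz' : z = z i • ev i + z j • ev j + u := by rw [hu]; abel
  have hQu : qStd n F u = 1 - (z i * z i + z j * z j) := by
    have h1 := hz.1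
    rw [hz', qmap_add, qmap_add, qmap_smul, qmap_smul, q_ev, q_ev] at h1
    simp only [map_add, map_smul, LinearMap.add_apply, LinearMap.smul_apply, polB_qStd, hdot1,
      smul_eq_mul] at h1
    rw [ev_dot, ev_dot, hui, huj] at h1
    linear_combination h1
  refine sphere_subset hcard hp hp5 (qStd_nondeg h2) h2 (a := ev i) (b := ev j) (u := u)
    (δ := 1 - (z i * z i + z j * z j)) (q_ev i) (q_ev j) hQu
    (sub_ne_zero.mpr fun e => hsum e.symm)
    (by rw [polB_qStd, hdot1, mul_zero]) (by rw [polB_qStd, ev_dot, hui, mul_zero])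
    (by rw [polB_qStd, ev_dot, huj, mul_zero]) (Wv M)
    (fun w hw => wv_neg h2 hn M hM hw)
    (fun x w _ _ hx hw _ _ => wv_refl h2 hn M hM hx hw)
    (wv_ev h2 hn M hM i) ?_ (z₁ := z i) (z₂ := z j) (by rw [← hz']; exact hz.1)
    (by rw [← hz']; exact hz) hne hex₁ hex₂ hex₄ y ?_ hy
  · intro w hw hSw
    have hwa : w a = w b := by
      clear hSw
      induction hw using Submodule.span_induction with
      | mem x hx =>
        rcases hx with rfl | rfl | rfl
        · rw [ev_ne hai, ev_ne hbi]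
        · rw [ev_ne haj, ev_ne hbj]
        · rw [huk a hai haj, huk b hbi hbj, hzab]
      | zero => rfl
      | add x x' _ _ hx hx' => simp [hx, hx']
      | smul c x _ hx => simp [hx]
    have hsign : Equiv.Perm.sign (Equiv.swap i j * Equiv.swap a b) = 1 := by
      rw [Equiv.Perm.sign_mul, Equiv.Perm.sign_swap hij, Equiv.Perm.sign_swap hab]; rfl
    have hfix : (pm (Equiv.swap a b) : orthGroup (qStd n F)).1 w = w := by
      funext k
      rw [pm_apply, Equiv.symm_swap]
      rcases eq_or_ne k a with rfl | hka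
      · rw [Equiv.swap_apply_left, hwa]
      rcases eq_or_ne k b with rfl | hkb
      · rw [Equiv.swap_apply_right, hwa]
      · rw [Equiv.swap_apply_of_ne_of_ne hka hkb]
    have := wv_pm h2 hn M hM hsign hSw
    rwa [pm_mul, orth_mul_apply, hfix, pm_swap h2 hij] at this
  · have : y = y i • ev i + y j • ev j + s • u := by
      funext k
      rcases eq_or_ne k i with rfl | hki
      · simp [ev_self, ev_ne hij, hui]
      rcases eq_or_ne k j with rfl | hkj
      · simp [ev_self, ev_ne hki, huj]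
      · simp [ev_ne hki, ev_ne hkj, huk k hki hkj, hrest k hki hkj]
    rw [this]
    exact Submodule.add_mem _ (Submodule.add_mem _
      (Submodule.smul_mem _ _ (Submodule.subset_span (by simp)))
      (Submodule.smul_mem _ _ (Submodule.subset_span (by simp))))
      (Submodule.smul_mem _ _ (Submodule.subset_span (by simp)))

omit hcard hp hp5 h2 hM [Fintype F] in
lemma exists_two_zeros {z : Fin n → F} {m : Fin n} (hz : (supp z).card + 3 ≤ n) :
    ∃ a b, a ≠ b ∧ z a = 0 ∧ z b = 0 ∧ a ≠ m ∧ b ≠ m := by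
  have hc : ((supp z) ∪ {m}).card ≤ (supp z).card + 1 :=
    (Finset.card_union_le _ _).trans (by simp)
  obtain ⟨a, -, ha⟩ := Finset.exists_mem_notMem_of_card_lt_card (s := (supp z) ∪ {m})
    (t := Finset.univ) (by rw [Finset.card_univ, Fintype.card_fin]; omega)
  have hc' : ((supp z) ∪ {m} ∪ {a}).card ≤ (supp z).card + 2 :=
    (Finset.card_union_le _ _).trans (by rw [Finset.card_singleton]; omega)
  obtain ⟨b, -, hb⟩ := Finset.exists_mem_notMem_of_card_lt_card (s := (supp z) ∪ {m} ∪ {a})
    (t := Finset.univ) (by rw [Finset.card_univ, Fintype.card_fin]; omega)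
  simp only [Finset.mem_union, Finset.mem_singleton, not_or] at ha hb
  exact ⟨a, b, fun e => hb.2 e.symm, notMem_supp.mp ha.1, notMem_supp.mp hb.1.1, ha.2, hb.1.2⟩

lemma triple_of_three {z : Fin n → F} (hz : Wv M z) {i j l : Fin n} (hij : i ≠ j) (hil : i ≠ l)
    (hjl : j ≠ l) (hl0 : z l ≠ 0) (hz0 : ∀ k, k ≠ i → k ≠ j → k ≠ l → z k = 0)
    (hsum : z i * z i + z j * z j ≠ 1) (hne : z i ≠ 0 ∨ z j ≠ 0)
    (hex₁ : ¬ (z i = 0 ∧ 2 * (z j * z j) = 1)) (hex₂ : ¬ (z j = 0 ∧ 2 * (z i * z i) = 1))
    (hex₄ : ¬ (4 * (z i * z i) = 1 ∧ 4 * (z j * z j) = 1)) : HasTriple M := by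
  refine ⟨i, j, l, hij, hil, hjl, fun y hy hy0 => ?_⟩
  obtain ⟨a, -, ha⟩ := Finset.exists_mem_notMem_of_card_lt_card (s := {i, j, l})
    (t := (Finset.univ : Finset (Fin n)))
    (lt_of_le_of_lt Finset.card_le_three (by rw [Finset.card_univ, Fintype.card_fin]; omega))
  obtain ⟨b, -, hb⟩ := Finset.exists_mem_notMem_of_card_lt_card (s := {i, j, l, a})
    (t := (Finset.univ : Finset (Fin n)))
    (lt_of_le_of_lt Finset.card_le_four (by rw [Finset.card_univ, Fintype.card_fin]; omega))
  simp only [Finset.mem_insert, Finset.mem_singleton, not_or] at ha hb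
  refine wv_sphere hcard hp hp5 h2 hn M hM hz hij (fun e => hb.2.2.2 e.symm) ha.1 ha.2.1 hb.1
    hb.2.1 ((hz0 a ha.1 ha.2.1 ha.2.2).trans (hz0 b hb.1 hb.2.1 hb.2.2.1).symm) hsum hne hex₁
    hex₂ hex₄ hy
    (s := y l / z l) fun k hki hkj => ?_
  rcases eq_or_ne k l with rfl | hkl
  · rw [div_mul_cancel₀ _ hl0]
  · rw [hy0 k hki hkj hkl, hz0 k hki hkj hkl, mul_zero]

lemma triple_of_card_le_three {z : Fin n → F} (hz : Wv M z) (hr : ¬ Rootish z)
    (h3 : (supp z).card ≤ 3) : HasTriple M := by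
  have hq := q_sum z (s := supp z) (fun k hk => notMem_supp.mp hk)
  rw [hz.1] at hq
  have h4 : (supp z).card = 0 ∨ (supp z).card = 1 ∨ (supp z).card = 2 ∨ (supp z).card = 3 := by omega
  rcases h4 with h | h | h | h
  · rw [Finset.card_eq_zero.mp h, Finset.sum_empty] at hq; exact absurd hq one_ne_zero
  · obtain ⟨i, hi⟩ := Finset.card_eq_one.mp h
    rw [hi, Finset.sum_singleton] at hq
    have hzi : ∀ k, k ≠ i → z k = 0 := fun k hk => notMem_supp.mp (by simp [hi, hk])
    refine absurd (Or.inl ⟨i, (mul_self_eq_one_iff.mp hq.symm).imp (fun e => ?_) fun e => ?_⟩) hr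
    · funext k
      rcases eq_or_ne k i with rfl | hk
      · rw [e, ev_self]
      · rw [hzi k hk, ev_ne hk]
    · funext k
      rcases eq_or_ne k i with rfl | hk
      · rw [e, Pi.neg_apply, ev_self]
      · rw [hzi k hk, Pi.neg_apply, ev_ne hk, neg_zero]
  · obtain ⟨i, j, hij, hs⟩ := Finset.card_eq_two.mp h
    rw [hs, Finset.sum_pair hij] at hq
    have hzi : z i ≠ 0 := mem_supp.mp (by simp [hs])
    have hzj : z j ≠ 0 := mem_supp.mp (by simp [hs])
    have hrest : ∀ k, k ≠ i → k ≠ j → z k = 0 := fun k h1 h3 => notMem_supp.mp (by simp [hs, h1, h3])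
    obtain ⟨m, -, hm⟩ := Finset.exists_mem_notMem_of_card_lt_card (s := {i, j})
      (t := (Finset.univ : Finset (Fin n)))
      (lt_of_le_of_lt Finset.card_le_two (by rw [Finset.card_univ, Fintype.card_fin]; omega))
    simp only [Finset.mem_insert, Finset.mem_singleton, not_or] at hm
    have hzm := hrest m hm.1 hm.2
    refine triple_of_three hcard hp hp5 h2 hn M hM hz (Ne.symm hm.1) hij hm.2 hzj
      (fun k h1 _ h3 => hrest k h1 h3) ?_ (Or.inl hzi) (fun e => hzi e.1) ?_ ?_
    · rw [hzm, mul_zero, add_zero]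
      intro e
      exact hzj (mul_self_eq_zero.mp (by linear_combination -hq - e))
    · rintro ⟨-, e⟩
      exact hr (Or.inr ⟨i, j, hij, e, by linear_combination -2 * hq - e, hrest⟩)
    · rintro ⟨-, e⟩
      rw [hzm] at e
      simp at e
  · obtain ⟨i, j, l, hij, hil, hjl, hs⟩ := Finset.card_eq_three.mp h
    have hzi : z i ≠ 0 := mem_supp.mp (by simp [hs])
    have hzj : z j ≠ 0 := mem_supp.mp (by simp [hs])
    have hzl : z l ≠ 0 := mem_supp.mp (by simp [hs])
    have hrest : ∀ k, k ≠ i → k ≠ j → k ≠ l → z k = 0 := fun k h1 h3 h4 =>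
      notMem_supp.mp (by simp [hs, h1, h3, h4])
    rw [hs, Finset.sum_insert (by simp [hij, hil]), Finset.sum_pair hjl] at hq
    have s1 : z i * z i + z j * z j ≠ 1 := fun e =>
      hzl (mul_self_eq_zero.mp (by linear_combination -hq - e))
    by_cases he : 4 * (z i * z i) = 1 ∧ 4 * (z j * z j) = 1
    · refine triple_of_three hcard hp hp5 h2 hn M hM hz hil hij hjl.symm hzj
        (fun k h1 h3 h4 => hrest k h1 h4 h3) ?_ (Or.inl hzi) (fun e => hzi e.1) (fun e => hzl e.1) ?_
      · intro e
        exact hzj (mul_self_eq_zero.mp (by linear_combination -hq - e))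
      · rintro ⟨-, e⟩
        have h30 : ((1 : ℕ) : F) ≠ 0 := num_ne hcard hp hp5 h2 hn M hM (by omega) (by omega)
        exact h30 (by push_cast; linear_combination he.1 + he.2 + e + 4 * hq)
    · exact triple_of_three hcard hp hp5 h2 hn M hM hz hij hil hjl hzl hrest s1 (Or.inl hzi)
        (fun e => hzi e.1) (fun e => hzj e.1) he

omit hcard hp hp5 h2 hn hM [Fintype F] in
lemma exists_two_zeros' {z : Fin n → F} (hz : (supp z).card + 2 ≤ n) :
    ∃ a b, a ≠ b ∧ z a = 0 ∧ z b = 0 := by
  obtain ⟨a, -, ha⟩ := Finset.exists_mem_notMem_of_card_lt_card (s := supp z)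
    (t := Finset.univ) (by rw [Finset.card_univ, Fintype.card_fin]; omega)
  have hc' : ((supp z) ∪ {a}).card ≤ (supp z).card + 1 :=
    (Finset.card_union_le _ _).trans (by rw [Finset.card_singleton])
  obtain ⟨b, -, hb⟩ := Finset.exists_mem_notMem_of_card_lt_card (s := (supp z) ∪ {a})
    (t := Finset.univ) (by rw [Finset.card_univ, Fintype.card_fin]; omega)
  simp only [Finset.mem_union, Finset.mem_singleton, not_or] at hb
  exact ⟨a, b, fun e => hb.2 e.symm, notMem_supp.mp ha, notMem_supp.mp hb.1⟩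

/-- Replacing a pair of coordinates by one, next to two equal coordinates. -/
lemma reduce_pair_eq {z : Fin n → F} (hz : Wv M z) {i j a b : Fin n}
    (hij : i ≠ j) (hab : a ≠ b) (hai : a ≠ i) (haj : a ≠ j) (hbi : b ≠ i) (hbj : b ≠ j)
    (hzab : z a = z b) (hi : z i ≠ 0) (hj : z j ≠ 0) (hsum : z i * z i + z j * z j ≠ 1)
    (hex₄ : ¬ (4 * (z i * z i) = 1 ∧ 4 * (z j * z j) = 1)) {e : F} (he : e ≠ 0)
    (hX : 1 + (1 - (z i * z i + z j * z j)) * (e * e) ≠ 0) :
    ∃ (y : Fin n → F) (s : F), Wv M y ∧ y i = 0 ∧ s ≠ 0 ∧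
      (y j = 0 → (1 - (z i * z i + z j * z j)) * (e * e) = 1) ∧
      ∀ k, k ≠ i → k ≠ j → y k = s * z k := by
  set δ := 1 - (z i * z i + z j * z j) with hδ
  set q := (1 - δ * (e * e)) / (1 + δ * (e * e)) with hq
  set s := 2 * e / (1 + δ * (e * e)) with hs
  set y : Fin n → F := q • ev j + s • (z - z i • ev i - z j • ev j) with hy
  have hyi : y i = 0 := by simp [hy, ev_self, ev_ne hij]
  have hyj : y j = q := by simp [hy, ev_self, ev_ne hij.symm]
  have hyk : ∀ k, k ≠ i → k ≠ j → y k = s * z k := fun k h1 h3 => by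
    simp [hy, ev_ne h1, ev_ne h3]
  have hQy : qStd n F y = 1 := by
    have hQz := hz.1
    rw [qStd_apply, dotProduct, ← Finset.add_sum_erase _ _ (Finset.mem_univ i),
      ← Finset.add_sum_erase _ _ (Finset.mem_erase.mpr ⟨hij.symm, Finset.mem_univ j⟩)] at hQz ⊢
    rw [hyi, hyj, Finset.sum_congr rfl fun k hk => show y k * y k = s * s * (z k * z k) by
      simp only [Finset.mem_erase] at hk
      rw [hyk k hk.2.1 hk.1]; ring, ← Finset.mul_sum,
      show ∑ x ∈ (Finset.univ.erase i).erase j, z x * z x = δ by rw [hδ]; linear_combination hQz]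
    rw [hq, hs, div_mul_div_comm, div_mul_div_comm, mul_zero, zero_add, div_mul_eq_mul_div,
      ← add_div, div_eq_one_iff_eq (mul_ne_zero hX hX)]
    ring
  refine ⟨y, s, wv_sphere hcard hp hp5 h2 hn M hM hz hij hab hai haj hbi hbj hzab hsum
    (Or.inl hi) (fun h => hi h.1) (fun h => hj h.1) hex₄ hQy hyk, hyi,
    div_ne_zero (mul_ne_zero h2 he) hX, fun h => ?_, hyk⟩
  rw [hyj, hq, div_eq_zero_iff] at h
  linear_combination -(h.resolve_right hX)

/-- Replacing a pair of coordinates by one. -/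
lemma reduce_pair {z : Fin n → F} (hz : Wv M z) (hz3 : (supp z).card + 2 ≤ n) {i j : Fin n}
    (hij : i ≠ j) (hi : z i ≠ 0) (hj : z j ≠ 0) (hsum : z i * z i + z j * z j ≠ 1)
    (hex₄ : ¬ (4 * (z i * z i) = 1 ∧ 4 * (z j * z j) = 1)) {e : F} (he : e ≠ 0)
    (hX : 1 + (1 - (z i * z i + z j * z j)) * (e * e) ≠ 0) :
    ∃ (y : Fin n → F) (s : F), Wv M y ∧ y i = 0 ∧ s ≠ 0 ∧
      (y j = 0 → (1 - (z i * z i + z j * z j)) * (e * e) = 1) ∧
      ∀ k, k ≠ i → k ≠ j → y k = s * z k := by
  obtain ⟨a, b, hab, hza, hzb⟩ := exists_two_zeros' hz3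
  exact reduce_pair_eq hcard hp hp5 h2 hn M hM hz hij hab (fun h => hi (h ▸ hza))
    (fun h => hj (h ▸ hza)) (fun h => hi (h ▸ hzb)) (fun h => hj (h ▸ hzb)) (hza.trans hzb.symm)
    hi hj hsum hex₄ he hX

lemma exists_param (δ : F) : ∃ e : F, e ≠ 0 ∧ 1 + δ * (e * e) ≠ 0 := by
  by_contra hcon
  push Not at hcon
  have e1 := hcon 1 one_ne_zero
  have e2 := hcon 2 h2
  have h3 := num_ne hcard hp hp5 h2 hn M hM (k := 3) (by omega) (by omega)
  have hδ : δ = 0 := (mul_eq_zero.mp (show ((3 : ℕ) : F) * δ = 0 by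
    push_cast; linear_combination e2 - e1)).resolve_left h3
  rw [hδ, zero_mul, add_zero] at e1
  exact one_ne_zero e1

omit hM hcard hp hp5 h2 hn [Fintype F] in
lemma supp_reduced {z y : Fin n → F} {i j : Fin n} {s : F} (hs : s ≠ 0) (hyi : y i = 0)
    (hy : ∀ k, k ≠ i → k ≠ j → y k = s * z k) :
    ((supp z).erase i).erase j ⊆ supp y ∧ supp y ⊆ insert j ((supp z).erase i) := by
  constructor
  · intro k hk
    simp only [Finset.mem_erase] at hk
    rw [mem_supp, hy k hk.2.1 hk.1]
    exact mul_ne_zero hs (mem_supp.mp hk.2.2)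
  · intro k hk
    rw [mem_supp] at hk
    rcases eq_or_ne k j with rfl | hkj
    · exact Finset.mem_insert_self _ _
    have hki : k ≠ i := fun e => hk (e ▸ hyi)
    rw [hy k hki hkj] at hk
    exact Finset.mem_insert_of_mem (Finset.mem_erase.mpr
      ⟨hki, mem_supp.mpr (right_ne_zero_of_mul hk)⟩)

omit hcard hp hp5 h2 hn hM in
/-- The configurations without a useful pair. -/
lemma no_pair_cases {z : Fin n → F} (hk : 4 ≤ (supp z).card)
    (hno : ∀ i ∈ supp z, ∀ j ∈ supp z, i ≠ j →
      z i * z i + z j * z j = 1 ∨ (4 * (z i * z i) = 1 ∧ 4 * (z j * z j) = 1)) :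
    (∀ i ∈ supp z, 4 * (z i * z i) = 1) ∨ (∀ i ∈ supp z, 2 * (z i * z i) = 1) ∨
      ∃ i ∈ supp z, 4 * (z i * z i) = 3 ∧ ∀ j ∈ supp z, j ≠ i → 4 * (z j * z j) = 1 := by
  by_cases hall : ∀ i ∈ supp z, 4 * (z i * z i) = 1
  · exact Or.inl hall
  right
  push Not at hall
  obtain ⟨i, hi, hi4⟩ := hall
  have hoth : ∀ j ∈ supp z, j ≠ i → z j * z j = 1 - z i * z i := by
    intro j hj hji
    rcases hno i hi j hj hji.symm with h | ⟨h, -⟩
    · linear_combination h
    · exact absurd h hi4
  obtain ⟨j, hj, hji⟩ := Finset.exists_mem_notMem_of_card_lt_card (s := {i}) (t := supp z)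
    (by rw [Finset.card_singleton]; omega)
  obtain ⟨l, hl, hl'⟩ := Finset.exists_mem_notMem_of_card_lt_card (s := {i, j}) (t := supp z)
    (lt_of_le_of_lt Finset.card_le_two (by omega))
  simp only [Finset.mem_insert, Finset.mem_singleton, not_or] at hji hl'
  rcases hno j hj l hl (fun e => hl'.2 e.symm) with h | ⟨h, -⟩
  · rw [hoth j hj hji, hoth l hl hl'.1] at h
    left
    intro k hk
    rcases eq_or_ne k i with rfl | hki
    · linear_combination -h
    · rw [hoth k hk hki]; linear_combination h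
  · right
    refine ⟨i, hi, ?_, fun k hk hki => ?_⟩
    · rw [hoth j hj hji] at h; linear_combination -h
    · rw [hoth k hk hki, ← hoth j hj hji]; exact h

lemma triple_of_four {z : Fin n → F} (hz : Wv M z) (h4 : (supp z).card = 4)
    (hC : ∃ i ∈ supp z, 4 * (z i * z i) ≠ 1) : HasTriple M := by
  have hsum : ∑ k ∈ supp z, z k * z k = 1 := by
    rw [← q_sum z fun k hk => notMem_supp.mp hk]; exact hz.1
  rcases Nat.lt_or_ge p 7 with hp7 | hp7
  · exfalso
    obtain rfl : p = 5 := by
      rcases (show p = 5 ∨ p = 6 by omega) with h | h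
      · exact h
      · subst h; exact absurd hp (by decide)
    have hsq : ∀ x : F, x ≠ 0 → x * x = 1 ∨ x * x = -1 := fun x hx => by
      have h := FiniteField.pow_card_sub_one_eq_one x hx
      rw [hcard] at h
      exact mul_self_eq_one_iff.mp (by linear_combination h)
    have h5 : (5 : F) = 0 := by
      have h := FiniteField.cast_card_eq_zero F
      rw [hcard] at h; exact_mod_cast h
    have h3 : (3 : F) ≠ 0 := by
      exact_mod_cast num_ne hcard hp hp5 h2 hn M hM (k := 3) (by omega) (by omega)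
    obtain ⟨a, b, c, d, hab, hac, had, hbc, hbd, hcd, hs⟩ := Finset.card_eq_four.mp h4
    rw [hs, Finset.sum_insert (by simp [hab, hac, had]), Finset.sum_insert (by simp [hbc, hbd]),
      Finset.sum_pair hcd] at hsum
    have hm : ∀ k ∈ ({a, b, c, d} : Finset (Fin n)), z k ≠ 0 := fun k hk =>
      mem_supp.mp (hs ▸ hk)
    obtain ⟨i, hi, hiC⟩ := hC
    rcases hsq _ (hm a (by simp)) with ha | ha <;> rcases hsq _ (hm b (by simp)) with hb | hb <;>
      rcases hsq _ (hm c (by simp)) with hc | hc <;> rcases hsq _ (hm d (by simp)) with hd | hd <;>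
      rw [ha, hb, hc, hd] at hsum
    all_goals first
      | exact one_ne_zero (show (1 : F) = 0 by linear_combination hsum)
      | exact one_ne_zero (show (1 : F) = 0 by linear_combination -hsum)
      | exact h3 (by linear_combination hsum)
      | exact h3 (by linear_combination -hsum)
      | (rw [hs] at hi
         simp only [Finset.mem_insert, Finset.mem_singleton] at hi
         apply hiC
         rcases hi with rfl | rfl | rfl | rfl
         · rw [ha]; linear_combination -h5
         · rw [hb]; linear_combination -h5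
         · rw [hc]; linear_combination -h5
         · rw [hd]; linear_combination -h5)
  obtain ⟨i, hi, j, hj, hij, h1, h4'⟩ : ∃ i ∈ supp z, ∃ j ∈ supp z, i ≠ j ∧
      z i * z i + z j * z j ≠ 1 ∧ ¬ (4 * (z i * z i) = 1 ∧ 4 * (z j * z j) = 1) := by
    by_contra hcon
    have hno : ∀ i ∈ supp z, ∀ j ∈ supp z, i ≠ j →
        z i * z i + z j * z j = 1 ∨ (4 * (z i * z i) = 1 ∧ 4 * (z j * z j) = 1) := by
      intro i hi j hj hij
      by_contra h'
      push Not at h'
      exact hcon ⟨i, hi, j, hj, hij, h'.1, fun h => h'.2 h.1 h.2⟩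
    rcases no_pair_cases (by omega) hno with h | h | ⟨i, hi, h1, h3⟩
    · obtain ⟨i, hi, h'⟩ := hC; exact h' (h i hi)
    · have h' : (2 : F) * (∑ k ∈ supp z, z k * z k) = 4 := by
        rw [Finset.mul_sum, Finset.sum_congr rfl h, Finset.sum_const, h4]; norm_num
      rw [hsum] at h'
      exact h2 (by linear_combination -h')
    · have h' : (4 : F) * (∑ k ∈ supp z, z k * z k) = 6 := by
        rw [Finset.mul_sum, ← Finset.add_sum_erase _ _ hi, h1,
          Finset.sum_congr rfl fun k hk => h3 k (Finset.mem_erase.mp hk).2 (Finset.mem_erase.mp hk).1,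
          Finset.sum_const, Finset.card_erase_of_mem hi, h4]
        norm_num
      rw [hsum] at h'
      exact h2 (by linear_combination -h')
  set δ := 1 - (z i * z i + z j * z j) with hδ
  obtain ⟨e, he, hX, hX'⟩ : ∃ e : F, e ≠ 0 ∧ 1 + δ * (e * e) ≠ 0 ∧ δ * (e * e) ≠ 1 := by
    by_contra hcon
    push Not at hcon
    have h3 : ((3 : ℕ) : F) ≠ 0 := natCast_ne_zero_of_lt hcard hp (by omega) (by omega)
    have h5 : ((5 : ℕ) : F) ≠ 0 := natCast_ne_zero_of_lt hcard hp (by omega) (by omega)
    push_cast at h3 h5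
    have hδ0 : δ ≠ 0 := sub_ne_zero.mpr fun e => h1 e.symm
    have c : ∀ e : F, e ≠ 0 → δ * (e * e) = -1 ∨ δ * (e * e) = 1 := fun e he => by
      by_cases h : 1 + δ * (e * e) = 0
      · exact Or.inl (by linear_combination h)
      · exact Or.inr (hcon e he h)
    have key : ∀ e f : F, δ * (e * e) = δ * (f * f) → e * e = f * f := fun e f h =>
      mul_left_cancel₀ hδ0 h
    rcases c 1 one_ne_zero with a1 | a1 <;> rcases c 2 h2 with a2 | a2 <;>
      rcases c 3 h3 with a3 | a3
    all_goals first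
      | exact h3 (by linear_combination key 2 1 (a2.trans a1.symm))
      | exact h5 (by linear_combination key 3 2 (a3.trans a2.symm))
      | exact mul_ne_zero h2 (mul_ne_zero h2 h2) (by linear_combination key 3 1 (a3.trans a1.symm))
  obtain ⟨y, s, hy, hyi, hs, hyj, hyk⟩ := reduce_pair hcard hp hp5 h2 hn M hM hz (by omega) hij
    (mem_supp.mp hi) (mem_supp.mp hj) h1 h4' he hX
  obtain ⟨hlow, hup⟩ := supp_reduced hs hyi hyk
  have hjy : j ∈ supp y := mem_supp.mpr fun h => hX' (hyj h)
  have hsup : supp y = insert j ((supp z).erase i) := by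
    refine Finset.Subset.antisymm hup fun k hk => ?_
    rcases eq_or_ne k j with rfl | hkj
    · exact hjy
    rw [Finset.mem_insert, Finset.mem_erase] at hk
    obtain ⟨hki, hk'⟩ := hk.resolve_left hkj
    exact hlow (Finset.mem_erase.mpr ⟨hkj, Finset.mem_erase.mpr ⟨hki, hk'⟩⟩)
  have hc : (supp y).card = 3 := by
    rw [hsup, Finset.insert_eq_self.mpr (Finset.mem_erase.mpr ⟨hij.symm, hj⟩),
      Finset.card_erase_of_mem hi, h4]
  exact triple_of_card_le_three hcard hp hp5 h2 hn M hM hy
    (fun hR => by have := supp_card_le_two_of_rootish hR; omega) hc.le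

lemma triple_of_half {z : Fin n → F} (hz : Wv M z) (h4 : (supp z).card = 4)
    (hC : ∀ i ∈ supp z, 4 * (z i * z i) = 1) : HasTriple M := by
  obtain ⟨i, l₁, l₂, l₃, h01, h02, h03, h12, h13, h23, hs⟩ := Finset.card_eq_four.mp h4
  obtain ⟨m, -, hm⟩ := Finset.exists_mem_notMem_of_card_lt_card (s := supp z)
    (t := (Finset.univ : Finset (Fin n))) (by rw [Finset.card_univ, Fintype.card_fin]; omega)
  have hzm := notMem_supp.mp hm
  obtain ⟨a, b, hab, hza, hzb, ham, hbm⟩ := exists_two_zeros (m := m) (z := z) hn (by omega)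
  have hin : ∀ k ∈ ({i, l₁, l₂, l₃} : Finset (Fin n)), z k ≠ 0 ∧ 4 * (z k * z k) = 1 ∧
      k ≠ m ∧ k ≠ a ∧ k ≠ b := by
    intro k hk
    have hk' : k ∈ supp z := hs ▸ hk
    have h0 := mem_supp.mp hk'
    exact ⟨h0, hC k hk', fun e => h0 (e ▸ hzm), fun e => h0 (e ▸ hza), fun e => h0 (e ▸ hzb)⟩
  obtain ⟨hzi, hi4, him, hia, hib⟩ := hin i (by simp)
  have hzout : ∀ k, k ≠ i → k ≠ l₁ → k ≠ l₂ → k ≠ l₃ → z k = 0 := fun k a b c d =>
    notMem_supp.mp (by simp [hs, a, b, c, d])
  set σ := Equiv.swap i m * Equiv.swap a b with hσ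
  have hsign : Equiv.Perm.sign σ = 1 := by
    rw [hσ, Equiv.Perm.sign_mul, Equiv.Perm.sign_swap him, Equiv.Perm.sign_swap hab]; rfl
  set w := (pm σ : orthGroup (qStd n F)).1 z with hw
  have hwk : ∀ k, w k = if k = i then 0 else if k = m then z i else z k := by
    intro k
    rw [hw, hσ, pm_mul, orth_mul_apply, pm_apply, pm_apply, Equiv.symm_swap, Equiv.symm_swap]
    rcases eq_or_ne k i with rfl | hki
    · rw [if_pos rfl, Equiv.swap_apply_left, Equiv.swap_apply_of_ne_of_ne (Ne.symm ham)
        (Ne.symm hbm), hzm]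
    rw [if_neg hki]
    rcases eq_or_ne k m with rfl | hkm
    · rw [if_pos rfl, Equiv.swap_apply_right, Equiv.swap_apply_of_ne_of_ne hia hib]
    rw [if_neg hkm, Equiv.swap_apply_of_ne_of_ne hki hkm]
    rcases eq_or_ne k a with rfl | hka
    · rw [Equiv.swap_apply_left, hza, hzb]
    rcases eq_or_ne k b with rfl | hkb
    · rw [Equiv.swap_apply_right, hza, hzb]
    · rw [Equiv.swap_apply_of_ne_of_ne hka hkb]
  have hdot : w ⬝ᵥ z = 1 - z i * z i := by
    have h1 := hz.1
    rw [qStd_apply, dotProduct, ← Finset.add_sum_erase _ _ (Finset.mem_univ i)] at h1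
    rw [dotProduct, ← Finset.add_sum_erase _ _ (Finset.mem_univ i), hwk, if_pos rfl, zero_mul,
      zero_add, Finset.sum_congr rfl fun k hk => show w k * z k = z k * z k by
        rw [hwk, if_neg (Finset.mem_erase.mp hk).1]
        split_ifs with h
        · rw [h, hzm, mul_zero, mul_zero]
        · rfl]
    linear_combination h1
  set x := (refl (qStd n F) z).1 w with hx
  have hWx : Wv M x := wv_refl h2 hn M hM hz (wv_pm h2 hn M hM hsign hz)
  have hxk : ∀ k, x k = w k - 2 * (1 - z i * z i) * z k := fun k => by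
    rw [hx, refl_unit hz.1, hdot, Pi.sub_apply, Pi.smul_apply, smul_eq_mul]
  have hxi : x i = -(2 * (1 - z i * z i) * z i) := by rw [hxk, hwk, if_pos rfl, zero_sub]
  have hxm : x m = z i := by rw [hxk, hwk, if_neg him.symm, if_pos rfl, hzm, mul_zero, sub_zero]
  have hxl : ∀ k, k ≠ i → k ≠ m → x k = (1 - 2 * (1 - z i * z i)) * z k := fun k a b => by
    rw [hxk, hwk, if_neg a, if_neg b]; ring
  have h3 : (3 : F) ≠ 0 := by
    exact_mod_cast num_ne hcard hp hp5 h2 hn M hM (k := 3) (by omega) (by omega)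
  have h4' : (4 : F) ≠ 0 := by
    exact_mod_cast num_ne hcard hp hp5 h2 hn M hM (k := 4) (by omega) (by omega)
  have h16 : (16 : F) ≠ 0 := fun e => mul_ne_zero h4' h4' (by linear_combination e)
  have sqi : 16 * (x i * x i) = 9 := by
    rw [hxi]; linear_combination (4 * (4 * (z i * z i) ^ 2) - 28 * (z i * z i) + 9) * hi4
  have sql : ∀ k ∈ ({l₁, l₂, l₃} : Finset (Fin n)), 16 * (x k * x k) = 1 := by
    intro k hk
    obtain ⟨-, hk4, hkm, -, -⟩ := hin k (Finset.mem_insert_of_mem hk)
    have hki : k ≠ i := by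
      simp only [Finset.mem_insert, Finset.mem_singleton] at hk
      rcases hk with rfl | rfl | rfl
      exacts [h01.symm, h02.symm, h03.symm]
    rw [hxl k hki hkm]
    linear_combination (4 * (1 - 2 * (1 - z i * z i)) ^ 2) * hk4 +
      (4 * (z i * z i) - 3) * hi4
  have sqm : 4 * (x m * x m) = 1 := by rw [hxm]; exact hi4
  have nz : ∀ k ∈ ({i, l₁, l₂, l₃, m} : Finset (Fin n)), x k ≠ 0 := by
    intro k hk e
    simp only [Finset.mem_insert, Finset.mem_singleton] at hk
    rcases hk with hk | hk | hk | hk | hk <;> rw [hk] at e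
    · rw [e] at sqi; exact mul_ne_zero h3 h3 (by linear_combination -sqi)
    · have h := sql l₁ (by simp)
      rw [e] at h; exact one_ne_zero (α := F) (by linear_combination -h)
    · have h := sql l₂ (by simp)
      rw [e] at h; exact one_ne_zero (α := F) (by linear_combination -h)
    · have h := sql l₃ (by simp)
      rw [e] at h; exact one_ne_zero (α := F) (by linear_combination -h)
    · rw [e] at sqm; exact one_ne_zero (α := F) (by linear_combination -sqm)
  have xout : ∀ k, k ∉ ({i, l₁, l₂, l₃, m} : Finset (Fin n)) → x k = 0 := by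
    intro k hk
    simp only [Finset.mem_insert, Finset.mem_singleton, not_or] at hk
    rw [hxl k hk.1 hk.2.2.2.2, hzout k hk.1 hk.2.1 hk.2.2.1 hk.2.2.2.1, mul_zero]
  have xsupp : supp x = {i, l₁, l₂, l₃, m} := by
    ext k
    rw [mem_supp]
    exact ⟨fun h => by by_contra h'; exact h (xout k h'), nz k⟩
  -- the pair
  obtain ⟨c, d, hcd, hcm, hdm, hl3, hsum, hex, hci, hdi⟩ : ∃ c d : Fin n, c ≠ d ∧
      c ∈ ({i, l₁, l₂, l₃, m} : Finset (Fin n)) ∧ d ∈ ({i, l₁, l₂, l₃, m} : Finset (Fin n)) ∧
      (c ≠ l₃ ∧ d ≠ l₃) ∧ x c * x c + x d * x d ≠ 1 ∧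
      ¬ (4 * (x c * x c) = 1 ∧ 4 * (x d * x d) = 1) ∧ c ≠ i ∧ d ≠ i := by
    have hl1 := sql l₁ (by simp)
    have hl2 := sql l₂ (by simp)
    have hl1m : l₁ ≠ m := (hin l₁ (by simp)).2.2.1
    by_cases h7 : (7 : F) = 0
    · refine ⟨l₁, m, hl1m, by simp, by simp, ⟨h13, Ne.symm (hin l₃ (by simp)).2.2.1⟩, ?_, ?_,
        h01.symm, him.symm⟩
      · intro e
        have h11 : (11 : F) = 0 := by linear_combination hl1 + 4 * sqm - 16 * e
        exact mul_ne_zero h2 h2 (by linear_combination h11 - h7)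
      · rintro ⟨e, -⟩
        exact h3 (by linear_combination hl1 - 4 * e)
    · refine ⟨l₁, l₂, h12, by simp, by simp, ⟨h13, h23⟩, ?_, ?_, h01.symm, h02.symm⟩
      · intro e
        exact h7 (mul_left_cancel₀ h2 (show (2 : F) * 7 = 2 * 0 by
          linear_combination hl1 + hl2 - 16 * e))
      · rintro ⟨e, -⟩
        exact h3 (by linear_combination hl1 - 4 * e)
  obtain ⟨e, he, hX⟩ := exists_param hcard hp hp5 h2 hn M hM (1 - (x c * x c + x d * x d))
  have hx5 : (supp x).card ≤ 5 := by rw [xsupp]; exact Finset.card_le_five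
  obtain ⟨y, s, hy, hyc, hs0, -, hyk⟩ := reduce_pair hcard hp hp5 h2 hn M hM hWx (by omega) hcd
    (nz c hcm) (nz d hdm) hsum hex he hX
  obtain ⟨hlow, hup⟩ := supp_reduced hs0 hyc hyk
  have hcx : c ∈ supp x := xsupp ▸ hcm
  have hdx : d ∈ supp x := xsupp ▸ hdm
  have hx5' : (supp x).card = 5 := by
    rw [xsupp, Finset.card_insert_of_notMem (by simp [h01, h02, h03, him]),
      Finset.card_insert_of_notMem (by simp [h12, h13, (hin l₁ (by simp)).2.2.1]),
      Finset.card_insert_of_notMem (by simp [h23, (hin l₂ (by simp)).2.2.1]),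
      Finset.card_pair (hin l₃ (by simp)).2.2.1]
  have hlo : 3 ≤ (supp y).card := by
    have := Finset.card_le_card hlow
    rw [Finset.card_erase_of_mem (Finset.mem_erase.mpr ⟨hcd.symm, hdx⟩),
      Finset.card_erase_of_mem hcx] at this
    omega
  have hhi : (supp y).card ≤ 4 := by
    have := (Finset.card_le_card hup)
    rw [Finset.insert_eq_self.mpr (Finset.mem_erase.mpr ⟨hcd.symm, hdx⟩),
      Finset.card_erase_of_mem hcx] at this
    omega
  rcases (show (supp y).card = 3 ∨ (supp y).card = 4 by omega) with h | h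
  · exact triple_of_card_le_three hcard hp hp5 h2 hn M hM hy
      (fun hR => by have := supp_card_le_two_of_rootish hR; omega) h.le
  · refine triple_of_four hcard hp hp5 h2 hn M hM hy h ?_
    by_contra hall
    push Not at hall
    have hiy : i ∈ supp y := hlow (Finset.mem_erase.mpr ⟨hdi.symm,
      Finset.mem_erase.mpr ⟨hci.symm, by rw [xsupp]; simp⟩⟩)
    have hly : l₃ ∈ supp y := hlow (Finset.mem_erase.mpr ⟨hl3.2.symm,
      Finset.mem_erase.mpr ⟨hl3.1.symm, by rw [xsupp]; simp⟩⟩)
    have q1 := hall i hiy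
    have q2 := hall l₃ hly
    rw [hyk i hci.symm hdi.symm] at q1
    rw [hyk l₃ hl3.1.symm hl3.2.symm] at q2
    have q3 := sql l₃ (by simp)
    have h8 : (s * s) * (8 : F) = 0 := by
      linear_combination 4 * q1 - 4 * q2 - (s * s) * sqi + (s * s) * q3
    exact mul_ne_zero h2 h4' (by
      linear_combination (mul_eq_zero.mp h8).resolve_left (mul_self_ne_zero.mpr hs0))

/-- A new vector gives the unit sphere on three coordinates. -/
theorem hasTriple_of_not_rootish : ∀ k : ℕ, ∀ z : Fin n → F, Wv M z → ¬ Rootish z →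
    (supp z).card + 2 ≤ n → (supp z).card ≤ k → HasTriple M := by
  intro k
  induction k with
  | zero =>
    intro z hz hr _ h0
    exact triple_of_card_le_three hcard hp hp5 h2 hn M hM hz hr (by omega)
  | succ k ih =>
    intro z hz hr hn3 hk
    rcases (show (supp z).card ≤ 3 ∨ (supp z).card = 4 ∨ 5 ≤ (supp z).card by omega) with h | h | h
    · exact triple_of_card_le_three hcard hp hp5 h2 hn M hM hz hr h
    · by_cases hC : ∀ i ∈ supp z, 4 * (z i * z i) = 1
      · exact triple_of_half hcard hp hp5 h2 hn M hM hz h hC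
      · push Not at hC
        exact triple_of_four hcard hp hp5 h2 hn M hM hz h hC
    have hred : ∀ w : Fin n → F, Wv M w → (supp w).card = (supp z).card → ∀ i j, i ≠ j →
        w i ≠ 0 → w j ≠ 0 → w i * w i + w j * w j ≠ 1 →
        ¬ (4 * (w i * w i) = 1 ∧ 4 * (w j * w j) = 1) → HasTriple M := by
      intro w hw hwc i j hij hi hj hs hex
      obtain ⟨e, he, hX⟩ := exists_param hcard hp hp5 h2 hn M hM (1 - (w i * w i + w j * w j))
      obtain ⟨y, s, hy, hyi, hs0, -, hyk⟩ := reduce_pair hcard hp hp5 h2 hn M hM hw (by omega) hij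
        hi hj hs hex he hX
      obtain ⟨hlow, hup⟩ := supp_reduced hs0 hyi hyk
      have hiw := mem_supp.mpr hi
      have hjw := mem_supp.mpr hj
      have h1 := Finset.card_le_card hlow
      rw [Finset.card_erase_of_mem (Finset.mem_erase.mpr ⟨hij.symm, hjw⟩),
        Finset.card_erase_of_mem hiw] at h1
      have h3 := Finset.card_le_card hup
      rw [Finset.insert_eq_self.mpr (Finset.mem_erase.mpr ⟨hij.symm, hjw⟩),
        Finset.card_erase_of_mem hiw] at h3
      exact ih y hy (fun hR => by have := supp_card_le_two_of_rootish hR; omega) (by omega)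
        (by omega)
    by_cases hpair : ∃ i ∈ supp z, ∃ j ∈ supp z, i ≠ j ∧ z i * z i + z j * z j ≠ 1 ∧
        ¬ (4 * (z i * z i) = 1 ∧ 4 * (z j * z j) = 1)
    · obtain ⟨i, hi, j, hj, hij, h1, h3⟩ := hpair
      exact hred z hz rfl i j hij (mem_supp.mp hi) (mem_supp.mp hj) h1 h3
    have hno : ∀ i ∈ supp z, ∀ j ∈ supp z, i ≠ j →
        z i * z i + z j * z j = 1 ∨ (4 * (z i * z i) = 1 ∧ 4 * (z j * z j) = 1) := by
      intro i hi j hj hij
      by_contra h'
      push Not at h'
      exact hpair ⟨i, hi, j, hj, hij, h'.1, fun h => h'.2 h.1 h.2⟩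
    have hsum : ∑ k ∈ supp z, z k * z k = 1 := by
      rw [← q_sum z fun k hk => notMem_supp.mp hk]; exact hz.1
    rcases no_pair_cases (by omega) hno with hC | hA | ⟨i, hi, hi3, hoth⟩
    · -- all squares a quarter
      have hk4 : ((supp z).card : F) = 4 := by
        have h' : (4 : F) * (∑ k ∈ supp z, z k * z k) = ((supp z).card : F) := by
          rw [Finset.mul_sum, Finset.sum_congr rfl hC, Finset.sum_const]; simp
        rw [hsum] at h'; linear_combination -h'
      have h7 : 7 ≤ (supp z).card := by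
        rcases (show (supp z).card = 5 ∨ (supp z).card = 6 ∨ 7 ≤ (supp z).card by omega) with e | e | e
        · rw [e] at hk4; exact absurd (show (1 : F) = 0 by push_cast at hk4; linear_combination hk4)
            one_ne_zero
        · rw [e] at hk4; exact absurd (show (2 : F) = 0 by push_cast at hk4; linear_combination hk4) h2
        · exact e
      obtain ⟨Fl, hFl, hFl3⟩ := Finset.exists_subset_card_eq (show 3 ≤ (supp z).card by omega)
      set w := (dg Fl : orthGroup (qStd n F)).1 z with hw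
      have hdot : w ⬝ᵥ z = 1 - 2 * ∑ k ∈ Fl, z k * z k := by
        rw [dotProduct, Finset.sum_congr rfl fun k _ => show w k * z k =
            z k * z k - 2 * (if k ∈ Fl then z k * z k else 0) by
          rw [hw, dg_apply]; split_ifs <;> ring, Finset.sum_sub_distrib, ← Finset.mul_sum,
          Finset.sum_ite_mem, Finset.univ_inter]
        have := hz.1
        rw [qStd_apply, dotProduct] at this
        rw [this]
      have hF : (4 : F) * ∑ k ∈ Fl, z k * z k = 3 := by
        rw [Finset.mul_sum, Finset.sum_congr rfl fun k hk => hC k (hFl hk), Finset.sum_const, hFl3]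
        norm_num
      have hd : 2 * (w ⬝ᵥ z) = -1 := by rw [hdot]; linear_combination -hF
      set v := (refl (qStd n F) z).1 w with hv
      have hWv : Wv M v := wv_refl h2 hn M hM hz (wv_dg h2 hn M hM Fl hz)
      have hvk : ∀ l, v l = if l ∈ Fl then 0 else 2 * z l := fun l => by
        rw [hv, refl_unit hz.1, hd, Pi.sub_apply, Pi.smul_apply, smul_eq_mul, hw, dg_apply]
        split_ifs <;> ring
      have hsv : supp v = supp z \ Fl := by
        ext l
        rw [mem_supp, hvk, Finset.mem_sdiff, mem_supp]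
        split_ifs with hl <;> simp [hl, h2]
      have hc : (supp v).card + 3 = (supp z).card := by
        rw [hsv, Finset.card_sdiff_of_subset hFl, hFl3]; omega
      exact ih v hWv (fun hR => by have := supp_card_le_two_of_rootish hR; omega) (by omega)
        (by omega)
    · -- all squares a half
      obtain ⟨i, hi⟩ := Finset.card_pos.mp (show 0 < (supp z).card by omega)
      set v := (refl (qStd n F) z).1 (ev i) with hv
      have hWv : Wv M v := wv_refl h2 hn M hM hz (wv_ev h2 hn M hM i)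
      have hvk : ∀ l, v l = (ev i : Fin n → F) l - 2 * z i * z l := fun l => by
        rw [hv, refl_unit hz.1, ev_dot]; simp
      have hsv : supp v = (supp z).erase i := by
        ext l
        rw [mem_supp, hvk, Finset.mem_erase, mem_supp]
        rcases eq_or_ne l i with rfl | hl
        · simp [ev_self, mul_assoc, hA l hi]
        · simp [ev_ne hl, hl, h2, mem_supp.mp hi]
      have hc : (supp v).card + 1 = (supp z).card := by
        rw [hsv, Finset.card_erase_add_one hi]
      exact ih v hWv (fun hR => by have := supp_card_le_two_of_rootish hR; omega) (by omega)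
        (by omega)
    · -- three quarters and quarters
      set v := (refl (qStd n F) z).1 (ev i) with hv
      have hWv : Wv M v := wv_refl h2 hn M hM hz (wv_ev h2 hn M hM i)
      have hzi := mem_supp.mp hi
      have hvk : ∀ l, v l = (ev i : Fin n → F) l - 2 * z i * z l := fun l => by
        rw [hv, refl_unit hz.1, ev_dot]; simp
      have hvi : 2 * v i = -1 := by rw [hvk, ev_self]; linear_combination -hi3
      have hsv : supp v = supp z := by
        ext l
        rw [mem_supp, mem_supp]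
        rcases eq_or_ne l i with rfl | hl
        · refine ⟨fun _ => hzi, fun _ e => ?_⟩
          rw [e, mul_zero] at hvi
          exact one_ne_zero (by linear_combination hvi)
        · rw [hvk, ev_ne hl]; simp [h2, hzi]
      obtain ⟨a, ha, hai⟩ := Finset.exists_mem_notMem_of_card_lt_card (s := {i}) (t := supp z)
        (by rw [Finset.card_singleton]; omega)
      obtain ⟨b, hb, hb'⟩ := Finset.exists_mem_notMem_of_card_lt_card (s := {i, a}) (t := supp z)
        (lt_of_le_of_lt Finset.card_le_two (by omega))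
      simp only [Finset.mem_insert, Finset.mem_singleton, not_or] at hai hb'
      have hva : ∀ l ∈ supp z, l ≠ i → 4 * (v l * v l) = 3 := fun l hl hli => by
        rw [hvk, ev_ne hli]
        linear_combination (4 * (z l * z l)) * hi3 + 3 * hoth l hl hli
      refine hred v hWv (by rw [hsv]) a b (fun e => hb'.2 e.symm) (mem_supp.mp (hsv ▸ ha))
        (mem_supp.mp (hsv ▸ hb)) ?_ ?_
      · intro e
        exact h2 (by linear_combination 4 * e - hva a ha hai - hva b hb hb'.1)
      · rintro ⟨e, -⟩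
        exact h2 (by linear_combination e - hva a ha hai)

end Frame
end H45
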