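import Mathlib
import Cfsg.Agent.H45.FrameTriple

/-!
# Overgroups of the frame stabiliser in odd dimension seven

In odd dimension the negative of a reflection in a unit vector lies in the commutator subgroup, so
images of coordinate vectors under an overgroup are unit vectors of the new class at once. A
double transposition then produces a vector with two equal coordinate squares, which allows the
support to be reduced.
-/

set_option autoImplicit false
set_option linter.unusedSectionVars false

namespace H45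
namespace Frame

open H43
open scoped Matrix symmDiff

variable {F : Type*} [Field F] [Fintype F] {n : ℕ} {p : ℕ}

variable (h2 : (2 : F) ≠ 0) (hn : 7 ≤ n) (M : Subgroup (orthGroup (qStd n F))) (hM : HS n F ≤ M)

omit hn in
lemma eq_or_neg_of_refl_eq (h2 : (2 : F) ≠ 0) {v v' : Fin n → F} (hv : qStd n F v = 1)
    (hv' : qStd n F v' = 1) (h : refl (qStd n F) v' = refl (qStd n F) v) : v' = v ∨ v' = -v := by
  have h1 : (refl (qStd n F) v').1 v = -v := by
    rw [h, refl_self (by rw [hv]; exact one_ne_zero)]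
  rw [refl_unit hv'] at h1
  have h3 : (2 : F) • v = (2 : F) • ((v ⬝ᵥ v') • v') := by
    rw [smul_smul]
    have := sub_eq_iff_eq_add.mp h1
    rw [two_smul]
    nth_rewrite 1 [this]
    abel
  have h4 := smul_right_injective (Fin n → F) h2 h3
  have h5 : (v ⬝ᵥ v') * (v ⬝ᵥ v') = 1 := by
    have := congrArg (qStd n F) h4
    rwa [qmap_smul, hv, hv', mul_one, eq_comm] at this
  rcases mul_self_eq_one_iff.mp h5 with e | e <;> rw [e] at h4
  · left; rw [h4, one_smul]
  · right; rw [h4, neg_one_smul, neg_neg]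

/-- The negation is central. -/
lemma dg_univ_comm (g : orthGroup (qStd n F)) : g * dg Finset.univ = dg Finset.univ * g := by
  have hneg : ∀ x : Fin n → F, (dg Finset.univ : orthGroup (qStd n F)).1 x = -x := fun x => by
    funext k; simp [dg_apply]
  exact orth_ext fun x => by rw [orth_mul_apply, orth_mul_apply, hneg, hneg, map_neg]

include h2 hn hM

lemma wv_image_ev (hodd : Odd n) {g : orthGroup (qStd n F)} (hg : g ∈ M) (i : Fin n) :
    Wv M (g.1 (ev i)) := by
  set N : orthGroup (qStd n F) := dg Finset.univ with hN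
  have hmem : ∀ j : Fin n, N * refl (qStd n F) (ev j) ∈ M := fun j => by
    rw [hN, refl_ev_eq_dg, dg_mul]
    refine hM (dg_mem_HS h2 (by omega) ?_)
    rw [show (Finset.univ : Finset (Fin n)) ∆ {j} = Finset.univ.erase j by
      ext k; simp [Finset.mem_symmDiff], Finset.card_erase_of_mem (Finset.mem_univ j),
      Finset.card_univ, Fintype.card_fin]
    exact Nat.Odd.sub_odd hodd odd_one
  refine ⟨by rw [orth_qmap, q_ev], fun j => ?_⟩
  have h1 : g * (N * refl (qStd n F) (ev i)) * g⁻¹ = N * refl (qStd n F) (g.1 (ev i)) := by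
    rw [← refl_conj, hN, ← mul_assoc, dg_univ_comm]
    group
  have h2' := mul_mem (mul_mem (mul_mem hg (hmem i)) (inv_mem hg)) (hmem j)
  rw [h1, hN, mul_assoc, ← mul_assoc (refl _ (g.1 (ev i))) (dg Finset.univ),
    dg_univ_comm (refl _ (g.1 (ev i))), ← mul_assoc, ← mul_assoc, dg_sq, one_mul] at h2'
  exact h2'

lemma wv_image (hodd : Odd n) {g : orthGroup (qStd n F)} (hg : g ∈ M) {z : Fin n → F}
    (hz : Wv M z) : Wv M (g.1 z) := by
  let o : Fin n := ⟨0, by omega⟩
  refine ⟨by rw [orth_qmap]; exact hz.1, fun j => ?_⟩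
  have h1 : g * (refl (qStd n F) z * refl (qStd n F) (ev o)) * g⁻¹ =
      refl (qStd n F) (g.1 z) * refl (qStd n F) (g.1 (ev o)) := by
    rw [← refl_conj, ← refl_conj]; group
  have h3 := mul_mem (mul_mem (mul_mem hg (hz.2 o)) (inv_mem hg))
    ((wv_image_ev h2 hn M hM hodd hg o).2 j)
  rwa [h1, mul_assoc, ← mul_assoc (refl _ (g.1 (ev o))) (refl _ (g.1 (ev o))), refl_sq,
    one_mul] at h3

/-- An element outside the frame stabiliser gives a new vector. -/
lemma exists_wv_not_rootish_odd (hodd : Odd n) (hMO : M ≤ commutator (orthGroup (qStd n F)))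
    (hne : ¬ M ≤ HS n F) : ∃ z, Wv M z ∧ ¬ Rootish z := by
  classical
  obtain ⟨g, hg, hgH⟩ := SetLike.not_le_iff_exists.mp hne
  by_contra hcon
  push Not at hcon
  have hR : ∀ i, Rootish (g.1 (ev i)) := fun i => hcon _ (wv_image_ev h2 hn M hM hodd hg i)
  obtain ⟨i, hi⟩ : ∃ i, ∀ j, g.1 (ev i) ≠ ev j ∧ g.1 (ev i) ≠ -ev j := by
    by_contra hc
    push Not at hc
    refine hgH ⟨mem_mon_of_forall fun i => ?_, hMO hg⟩
    obtain ⟨j, hj⟩ := hc i
    exact ⟨j, (em (g.1 (ev i) = ev j)).imp id hj⟩
  obtain ⟨c, d, hcd, hc, hd, hrest⟩ := (hR i).resolve_left (by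
    rintro ⟨j, h | h⟩
    exacts [(hi j).1 h, (hi j).2 h])
  set u := g.1 (ev i) with hu
  have hnc : u c ≠ 0 := fun e => by rw [e] at hc; simp at hc
  have hnd : u d ≠ 0 := fun e => by rw [e] at hd; simp at hd
  have hdot : ∀ j, u ⬝ᵥ g.1 (ev j) = u c * g.1 (ev j) c + u d * g.1 (ev j) d := by
    intro j
    rw [dotProduct, ← Finset.sum_subset (Finset.subset_univ {c, d}) (fun k _ hk => by
      simp only [Finset.mem_insert, Finset.mem_singleton, not_or] at hk
      rw [hrest k hk.1 hk.2, zero_mul]), Finset.sum_pair hcd]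
  -- some image is supported away from `c` and `d`
  obtain ⟨j, hjc, hjd⟩ : ∃ j, g.1 (ev j) c = 0 ∧ g.1 (ev j) d = 0 := by
    by_contra hno
    push Not at hno
    have hproj : Function.Injective
        (fun y : Fin n → F => ((fun k : Fin 2 => if k = 0 then y c else y d) : Fin 2 → F)) → False := by
      intro hinj
      have := Nat.card_le_card_of_injective _ hinj
      rw [Nat.card_eq_fintype_card, Nat.card_eq_fintype_card, Fintype.card_fun, Fintype.card_fun,
        Fintype.card_fin, Fintype.card_fin, Nat.pow_le_pow_iff_right Fintype.one_lt_card] at this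
      omega
    apply hproj
    -- every image is supported in `c, d`
    have hsup : ∀ j k, k ≠ c → k ≠ d → g.1 (ev j) k = 0 := by
      intro j k hkc hkd
      by_contra hk
      have hzero : u c * g.1 (ev j) c + u d * g.1 (ev j) d = 0 := by
        rw [← hdot, hu, orth_dot h2, ev_dot]
        refine ev_ne fun e => hk ?_
        rw [← e, ← hu]; exact hrest k hkc hkd
      have hcne : g.1 (ev j) c ≠ 0 := fun e => by
        rw [e, mul_zero, zero_add, mul_eq_zero] at hzero
        exact hno j e (hzero.resolve_left hnd)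
      have hdne : g.1 (ev j) d ≠ 0 := fun e => by
        rw [e, mul_zero, add_zero, mul_eq_zero] at hzero
        exact hcne (hzero.resolve_left hnc)
      have h3 : ({c, d, k} : Finset (Fin n)) ⊆ supp (g.1 (ev j)) := by
        intro l hl
        simp only [Finset.mem_insert, Finset.mem_singleton] at hl
        rw [mem_supp]
        rcases hl with rfl | rfl | rfl <;> assumption
      have h4 := Finset.card_le_card h3
      rw [Finset.card_eq_three.mpr ⟨c, d, k, hcd, Ne.symm hkc, Ne.symm hkd, rfl⟩] at h4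
      have := supp_card_le_two_of_rootish (hR j)
      omega
    intro x y hxy
    have hc' := congrFun hxy 0
    have hd' := congrFun hxy 1
    simp at hc' hd'
    have key : ∀ z : Fin n → F, ∀ k, k ≠ c → k ≠ d → g.1 z k = 0 := fun z k hkc hkd => by
      rw [orth_apply_eq g z, Finset.sum_apply]
      exact Finset.sum_eq_zero fun l _ => by rw [Pi.smul_apply, hsup l k hkc hkd, smul_zero]
    funext k
    by_cases hkc : k = c
    · rw [hkc]; exact hc'
    by_cases hkd : k = d
    · rw [hkd]; exact hd'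
    have e1 : ∀ z : Fin n → F, z k = 0 := fun z => by
      rw [← orth_apply_inv_self g z]; exact key _ k hkc hkd
    rw [e1 x, e1 y]
  have hij : i ≠ j := fun e => hnc (by rw [hu, e]; exact hjc)
  have hW := wv_image h2 hn M hM hodd hg (wv_root h2 hn M hM hij hc)
  have hval : g.1 (u c • (ev i + ev j)) = u c • (u + g.1 (ev j)) := by
    rw [map_smul, map_add]
  obtain ⟨m, hm⟩ : ∃ m, g.1 (ev j) m ≠ 0 := by
    by_contra h; push Not at h
    exact ev_ne_zero j (g.1.injective (by rw [map_zero]; exact funext h))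
  have hmc : m ≠ c := fun e => hm (e ▸ hjc)
  have hmd : m ≠ d := fun e => hm (e ▸ hjd)
  have h3 : ({c, d, m} : Finset (Fin n)) ⊆ supp (g.1 (u c • (ev i + ev j))) := by
    intro l hl
    rw [mem_supp, hval, Pi.smul_apply, Pi.add_apply, smul_eq_mul]
    refine mul_ne_zero hnc ?_
    simp only [Finset.mem_insert, Finset.mem_singleton] at hl
    rcases hl with rfl | rfl | rfl
    · rw [hjc, add_zero]; exact hnc
    · rw [hjd, add_zero]; exact hnd
    · rw [hrest _ hmc hmd, zero_add]; exact hm
  have h4 := Finset.card_le_card h3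
  rw [Finset.card_eq_three.mpr ⟨c, d, m, hcd, Ne.symm hmc, Ne.symm hmd, rfl⟩] at h4
  have := supp_card_le_two_of_rootish (hcon _ hW)
  omega

end Frame
end H45

namespace H45
namespace Frame

open H43
open scoped Matrix symmDiff

variable {F : Type*} [Field F] [Fintype F] {p : ℕ}

variable (h2 : (2 : F) ≠ 0) (M : Subgroup (orthGroup (qStd 7 F))) (hM : HS 7 F ≤ M)

include h2 hM

set_option maxHeartbeats 400000 in
/-- A vector fixed or negated, up to squares, by a double transposition. -/
lemma exists_sq_pair {z : Fin 7 → F} (hz : Wv M z) (h6 : 6 ≤ (supp z).card) :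
    (∃ y, Wv M y ∧ ¬ Rootish y ∧ (supp y).card ≤ 5) ∨
      ∃ y, Wv M y ∧ ¬ Rootish y ∧ ∃ a b, a ≠ b ∧ y a * y a = y b * y b := by
  classical
  have hzR : ¬ Rootish z := fun hR => by have := supp_card_le_two_of_rootish hR; omega
  obtain ⟨a, ha⟩ := Finset.card_pos.mp (show 0 < (supp z).card by omega)
  obtain ⟨b, hb, hb'⟩ := Finset.exists_mem_notMem_of_card_lt_card (s := {a}) (t := supp z)
    (by rw [Finset.card_singleton]; omega)
  obtain ⟨c, hc, hc'⟩ := Finset.exists_mem_notMem_of_card_lt_card (s := {a, b}) (t := supp z)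
    (lt_of_le_of_lt Finset.card_le_two (by omega))
  obtain ⟨d, hd, hd'⟩ := Finset.exists_mem_notMem_of_card_lt_card (s := {a, b, c}) (t := supp z)
    (lt_of_le_of_lt Finset.card_le_three (by omega))
  obtain ⟨e, he, he'⟩ := Finset.exists_mem_notMem_of_card_lt_card (s := {a, b, c, d}) (t := supp z)
    (lt_of_le_of_lt Finset.card_le_four (by omega))
  obtain ⟨f, hf, hf'⟩ := Finset.exists_mem_notMem_of_card_lt_card (s := {a, b, c, d, e})
    (t := supp z) (lt_of_le_of_lt Finset.card_le_five (by omega))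
  simp only [Finset.mem_insert, Finset.mem_singleton, not_or] at hb' hc' hd' he' hf'
  rw [mem_supp] at ha hb hc hd he hf
  by_cases hab : z a * z a = z b * z b
  · exact Or.inr ⟨z, hz, hzR, a, b, fun h => hb' h.symm, hab⟩
  by_cases hcd : z c * z c = z d * z d
  · exact Or.inr ⟨z, hz, hzR, c, d, fun h => hd'.2.2 h.symm, hcd⟩
  have hna : z a - z b ≠ 0 := fun h => hab (by rw [sub_eq_zero.mp h])
  have hna' : z a + z b ≠ 0 := fun h => hab (by rw [eq_neg_of_add_eq_zero_left h]; ring)
  have hnc : z c - z d ≠ 0 := fun h => hcd (by rw [sub_eq_zero.mp h])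
  have hnc' : z c + z d ≠ 0 := fun h => hcd (by rw [eq_neg_of_add_eq_zero_left h]; ring)
  have hn7 : 7 ≤ 7 := le_rfl
  have hodd : Odd 7 := by decide
  set σ := Equiv.swap a b * Equiv.swap c d with hσ
  have hsign : Equiv.Perm.sign σ = 1 := by
    rw [hσ, Equiv.Perm.sign_mul, Equiv.Perm.sign_swap (Ne.symm hb'),
      Equiv.Perm.sign_swap (fun h => hd'.2.2 h.symm)]; rfl
  have hσa : σ a = b := by
    rw [hσ, Equiv.Perm.mul_apply, Equiv.swap_apply_of_ne_of_ne (fun h => hc'.1 h.symm)
      (fun h => hd'.1 h.symm), Equiv.swap_apply_left]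
  have hσb : σ b = a := by
    rw [hσ, Equiv.Perm.mul_apply, Equiv.swap_apply_of_ne_of_ne (fun h => hc'.2 h.symm)
      (fun h => hd'.2.1 h.symm), Equiv.swap_apply_right]
  have hσc : σ c = d := by
    rw [hσ, Equiv.Perm.mul_apply, Equiv.swap_apply_left,
      Equiv.swap_apply_of_ne_of_ne hd'.1 hd'.2.1]
  have hσd : σ d = c := by
    rw [hσ, Equiv.Perm.mul_apply, Equiv.swap_apply_right,
      Equiv.swap_apply_of_ne_of_ne hc'.1 hc'.2]
  have hσfix : ∀ k, k ≠ a → k ≠ b → k ≠ c → k ≠ d → σ k = k := fun k h1 h3 h4 h5 => by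
    rw [hσ, Equiv.Perm.mul_apply, Equiv.swap_apply_of_ne_of_ne h4 h5,
      Equiv.swap_apply_of_ne_of_ne h1 h3]
  have hσσ : ∀ k, σ (σ k) = k := by
    intro k
    by_cases h1 : k = a; · rw [h1, hσa, hσb]
    by_cases h3 : k = b; · rw [h3, hσb, hσa]
    by_cases h4 : k = c; · rw [h4, hσc, hσd]
    by_cases h5 : k = d; · rw [h5, hσd, hσc]
    rw [hσfix k h1 h3 h4 h5, hσfix k h1 h3 h4 h5]
  have hσs : ∀ k, σ.symm k = σ k := fun k => σ.injective (by rw [σ.apply_symm_apply, hσσ])
  set s : orthGroup (qStd 7 F) := pm σ with hs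
  have hsapp : ∀ (x : Fin 7 → F) k, s.1 x k = x (σ k) := fun x k => by
    rw [hs, pm_apply, hσs]
  have hss : ∀ x, s.1 (s.1 x) = x := fun x => funext fun k => by rw [hsapp, hsapp, hσσ]
  set w := s.1 z with hw
  have hzw : Wv M w := wv_pm h2 hn7 M hM hsign hz
  set r := refl (qStd 7 F) z with hr
  set r' := refl (qStd 7 F) w with hr'
  set q := r * r' with hq
  have hqM : q ∈ M := wv_pair h2 hn7 M hM hz hzw
  have hrr : r * r = 1 := refl_sq _
  have hrr' : r' * r' = 1 := refl_sq _
  have hinv : q⁻¹ = r' * r := by rw [hq, mul_inv_rev, refl_inv, refl_inv]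
  have hsr : s * r * s⁻¹ = r' := refl_conj s z
  have hsinv : s⁻¹ = s := inv_eq_of_mul_eq_one_left (orth_ext fun x => by
    rw [orth_mul_apply, hss, orth_one_apply])
  have hsr' : s * r' * s⁻¹ = r := by rw [hr', refl_conj, hw, hss]
  have hsq : s * q * s⁻¹ = q⁻¹ := by
    rw [hinv, hq, show s * (r * r') * s⁻¹ = (s * r * s⁻¹) * (s * r' * s⁻¹) by group, hsr, hsr']
  have hrq : r * q * r⁻¹ = q⁻¹ := by
    rw [refl_inv, hinv, hq, ← mul_assoc r r r', hrr, one_mul]
  -- the span of `z` and `w`
  set U := Submodule.span F ({z, w} : Set (Fin 7 → F)) with hU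
  have hzU : z ∈ U := Submodule.subset_span (by simp)
  have hwU : w ∈ U := Submodule.subset_span (by simp)
  have hmove : ∀ (k : ℕ) x, (q ^ k).1 x - x ∈ U := by
    intro k
    induction k with
    | zero => intro x; simp [orth_one_apply]
    | succ k ih =>
      intro x
      have e1 : q.1 x - x ∈ U := by
        rw [hq, orth_mul_apply, hr, hr', refl_unit hzw.1, refl_unit hz.1]
        have : x - (2 * (x ⬝ᵥ w)) • w - (2 * ((x - (2 * (x ⬝ᵥ w)) • w) ⬝ᵥ z)) • z - x =
            -((2 * (x ⬝ᵥ w)) • w + (2 * ((x - (2 * (x ⬝ᵥ w)) • w) ⬝ᵥ z)) • z) := by abel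
        rw [this]
        exact neg_mem (add_mem (U.smul_mem _ hwU) (U.smul_mem _ hzU))
      have := add_mem (ih (q.1 x)) e1
      rw [pow_succ, orth_mul_apply]
      rwa [sub_add_sub_cancel] at this
  -- invariant and negated vectors of the span
  have hmid : ∀ v ∈ U, s.1 v = v → ∃ t : F, v = t • (z + w) := by
    intro v hv hsv
    obtain ⟨α, β, rfl⟩ := Submodule.mem_span_pair.mp hv
    refine ⟨(α + β) / 2, smul_right_injective (Fin 7 → F) h2 ?_⟩
    show (2 : F) • (α • z + β • w) = (2 : F) • ((α + β) / 2) • (z + w)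
    rw [smul_smul, mul_div_cancel₀ _ h2, two_smul]
    nth_rewrite 2 [← hsv]
    rw [map_add, map_smul, map_smul, ← hw, hw, hss, ← hw]
    module
  have hanti : ∀ v ∈ U, s.1 v = -v → ∃ t : F, v = t • (z - w) := by
    intro v hv hsv
    obtain ⟨α, β, rfl⟩ := Submodule.mem_span_pair.mp hv
    refine ⟨(α - β) / 2, smul_right_injective (Fin 7 → F) h2 ?_⟩
    show (2 : F) • (α • z + β • w) = (2 : F) • ((α - β) / 2) • (z - w)
    rw [smul_smul, mul_div_cancel₀ _ h2, two_smul]
    nth_rewrite 2 [show α • z + β • w = -(s.1 (α • z + β • w)) by rw [hsv, neg_neg]]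
    rw [map_add, map_smul, map_smul, ← hw, hw, hss, ← hw]
    module
  have hzwk : ∀ k, (z + w) k = z k + z (σ k) := fun k => by rw [Pi.add_apply, hw, hsapp]
  have hinvar : ∀ y, Wv M y → ¬ Rootish y → s.1 y = y →
      (∃ y, Wv M y ∧ ¬ Rootish y ∧ (supp y).card ≤ 5) ∨
        ∃ y, Wv M y ∧ ¬ Rootish y ∧ ∃ a b, a ≠ b ∧ y a * y a = y b * y b := by
    intro y hy hyR hsy
    refine Or.inr ⟨y, hy, hyR, a, b, Ne.symm hb', ?_⟩
    have := congrFun hsy a
    rw [hsapp, hσa] at this
    rw [this]
  have hnr : ∀ y : Fin 7 → F, ∀ T : Finset (Fin 7), 3 ≤ T.card → (∀ k ∈ T, y k ≠ 0) →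
      ¬ Rootish y := fun y T hT hne hR => by
    have h1 := Finset.card_le_card (fun k hk => mem_supp.mpr (hne k hk) : T ⊆ supp y)
    have := supp_card_le_two_of_rootish hR
    omega
  have hea : e ≠ a := he'.1
  have hfix_e : σ e = e := hσfix e he'.1 he'.2.1 he'.2.2.1 he'.2.2.2
  have hfix_f : σ f = f := hσfix f hf'.1 hf'.2.1 hf'.2.2.1 hf'.2.2.2.1
  rcases Nat.even_or_odd (orderOf q) with ⟨m, hm⟩ | hmo
  · -- a central involution
    have hpos : 0 < orderOf q := by
      haveI : Finite (orthGroup (qStd 7 F)) := finite_orthGroup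
      exact orderOf_pos q
    set x := q ^ m with hx
    have hxM : x ∈ M := pow_mem hqM m
    have hx2 : x * x = 1 := by rw [hx, ← pow_add, ← hm, pow_orderOf_eq_one]
    have hx1 : x ≠ 1 := pow_ne_one_of_lt_orderOf (by omega) (by omega)
    have hxi : x⁻¹ = x := inv_eq_of_mul_eq_one_left hx2
    have hxs : s * x * s⁻¹ = x := by rw [hx, ← conj_pow, hsq, inv_pow, ← hx, hxi]
    have hxr : r * x * r⁻¹ = x := by rw [hx, ← conj_pow, hrq, inv_pow, ← hx, hxi]
    have hxz : x.1 z = z ∨ x.1 z = -z := by
      refine eq_or_neg_of_refl_eq h2 hz.1 (by rw [orth_qmap]; exact hz.1) ?_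
      rw [← refl_conj, hxi, ← hr]
      calc x * r * x = (r * x * r⁻¹) * r * x := by rw [hxr]
        _ = r * (x * x) := by group
        _ = r := by rw [hx2, mul_one]
    set y := x.1 (ev e) with hy
    have hyW : Wv M y := wv_image_ev h2 hn7 M hM hodd hxM e
    have hsev : s.1 (ev e) = ev e := funext fun k => by
      rw [hsapp]
      by_cases hk : k = e
      · rw [hk, hfix_e]
      · rw [ev_ne hk, ev_ne fun h => hk (by rw [← hσσ k, h, hfix_e])]
    have hsy : s.1 y = y := by
      rw [hy]
      conv_lhs => rw [← orth_mul_apply, show s * x = (s * x * s⁻¹) * s by group, hxs,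
        orth_mul_apply, hsev]
    obtain ⟨t, ht⟩ := hmid (ev e - y) (by
      rw [← neg_sub]; exact neg_mem (hmove m (ev e))) (by rw [map_sub, hsev, hsy])
    have ht0 : t ≠ 0 := by
      intro h0
      rw [h0, zero_smul, sub_eq_zero] at ht
      rcases hxz with hxz | hxz
      · -- then everything is fixed
        apply hx1
        refine orth_ext fun v => ?_
        rw [orth_one_apply]
        have hxw : x.1 w = w := by
          rw [hw, ← orth_mul_apply, show x * s = (s * x * s⁻¹) * s by rw [hxs],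
            show s * x * s⁻¹ * s = s * x by group, orth_mul_apply, hxz]
        obtain ⟨α, β, hαβ⟩ := Submodule.mem_span_pair.mp (hmove m v)
        have h1 := congrArg x.1 hαβ
        rw [map_add, map_smul, map_smul, hxz, hxw, hαβ, map_sub, ← hx, ← orth_mul_apply, hx2,
          orth_one_apply] at h1
        have h3 : (2 : F) • x.1 v = (2 : F) • v := by
          rw [two_smul, two_smul]
          nth_rewrite 1 [sub_eq_iff_eq_add.mp h1]
          abel
        exact smul_right_injective (Fin 7 → F) h2 h3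
      · have h1 := orth_dot h2 x z (ev e)
        rw [hxz, ← hy, ← ht, neg_dotProduct, dot_ev] at h1
        exact he (neg_fixed h2 h1)
    refine hinvar y hyW (hnr y {a, b, c, d} ?_ ?_) hsy
    · rw [Finset.card_insert_of_notMem (by simp [Ne.symm hb', Ne.symm hc'.1, Ne.symm hd'.1]),
        Finset.card_insert_of_notMem (by simp [Ne.symm hc'.2, Ne.symm hd'.2.1]),
        Finset.card_pair (Ne.symm hd'.2.2)]
      norm_num
    · intro k hk
      have hke : k ≠ e := by
        simp only [Finset.mem_insert, Finset.mem_singleton] at hk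
        rcases hk with rfl | rfl | rfl | rfl
        exacts [Ne.symm he'.1, Ne.symm he'.2.1, Ne.symm he'.2.2.1, Ne.symm he'.2.2.2]
      have hyk : y k = -(t * (z + w) k) := by
        have := congrFun ht k
        rw [Pi.sub_apply, ev_ne hke, zero_sub, Pi.smul_apply, smul_eq_mul] at this
        rw [← this, neg_neg]
      rw [hyk]
      refine neg_ne_zero.mpr (mul_ne_zero ht0 ?_)
      rw [hzwk]
      simp only [Finset.mem_insert, Finset.mem_singleton] at hk
      rcases hk with rfl | rfl | rfl | rfl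
      · rw [hσa]; exact hna'
      · rw [hσb, add_comm]; exact hna'
      · rw [hσc]; exact hnc'
      · rw [hσd, add_comm]; exact hnc'
  · -- the middle reflection
    obtain ⟨j, c', hj⟩ : ∃ j c', 4 * j + 1 = c' * orderOf q := by
      obtain ⟨l, hl⟩ := hmo
      rcases Nat.even_or_odd l with ⟨l', hl'⟩ | ⟨l', hl'⟩
      · exact ⟨l', 1, by omega⟩
      · exact ⟨3 * l' + 2, 3, by omega⟩
    set v := (q ^ j).1 z with hv
    have hvW : Wv M v := wv_image h2 hn7 M hM hodd (pow_mem hqM j) hz
    have hvU : v ∈ U := by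
      have := add_mem (hmove j z) hzU
      rwa [sub_add_cancel] at this
    have hrv : refl (qStd 7 F) v = q ^ (2 * j) * r := by
      rw [hv, ← refl_conj, ← hr, two_mul, pow_add, mul_assoc, mul_assoc]
      congr 1
      calc r * (q ^ j)⁻¹ = r * ((r * q * r⁻¹) ^ j) := by rw [hrq, inv_pow]
        _ = r * r * q ^ j * r⁻¹ := by rw [conj_pow]; group
        _ = q ^ j * r := by rw [hrr, one_mul, refl_inv]
    have hsv : s.1 v = v ∨ s.1 v = -v := by
      refine eq_or_neg_of_refl_eq h2 hvW.1 (by rw [orth_qmap]; exact hvW.1) ?_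
      rw [← refl_conj, hrv]
      have hpow : q ^ (4 * j + 1) = 1 := by
        rw [hj, mul_comm, pow_mul, pow_orderOf_eq_one, one_pow]
      have hr'q : r' = q⁻¹ * r := by rw [hinv, mul_assoc, hrr, mul_one]
      calc s * (q ^ (2 * j) * r) * s⁻¹ = (s * q * s⁻¹) ^ (2 * j) * (s * r * s⁻¹) := by
            rw [conj_pow]; group
        _ = (q ^ (2 * j))⁻¹ * (q⁻¹ * r) := by rw [hsq, hsr, inv_pow, hr'q]
        _ = (q ^ (2 * j + 1))⁻¹ * r := by rw [pow_succ' q (2 * j), mul_inv_rev q, mul_assoc]
        _ = q ^ (2 * j) * r := by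
          congr 1
          rw [inv_eq_of_mul_eq_one_left]
          rw [← pow_add, show 2 * j + (2 * j + 1) = 4 * j + 1 by omega, hpow]
    have hv0 : v ≠ 0 := fun h => by
      have := hvW.1; rw [h, QuadraticMap.map_zero] at this; exact zero_ne_one this
    rcases hsv with hsv | hsv
    · obtain ⟨t, ht⟩ := hmid v hvU hsv
      have ht0 : t ≠ 0 := fun h => hv0 (by rw [ht, h, zero_smul])
      refine hinvar v hvW (hnr v {a, c, e} ?_ ?_) hsv
      · rw [Finset.card_insert_of_notMem (by simp [Ne.symm hc'.1, Ne.symm he'.1]),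
          Finset.card_pair (Ne.symm he'.2.2.1)]
      · intro k hk
        rw [ht, Pi.smul_apply, smul_eq_mul, hzwk]
        refine mul_ne_zero ht0 ?_
        simp only [Finset.mem_insert, Finset.mem_singleton] at hk
        rcases hk with rfl | rfl | rfl
        · rw [hσa]; exact hna'
        · rw [hσc]; exact hnc'
        · rw [hfix_e, ← two_mul]; exact mul_ne_zero h2 he
    · obtain ⟨t, ht⟩ := hanti v hvU hsv
      have ht0 : t ≠ 0 := fun h => hv0 (by rw [ht, h, zero_smul])
      left
      refine ⟨v, hvW, hnr v {a, b, c} ?_ ?_, ?_⟩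
      · rw [Finset.card_insert_of_notMem (by simp [Ne.symm hb', Ne.symm hc'.1]),
          Finset.card_pair (Ne.symm hc'.2)]
      · intro k hk
        rw [ht, Pi.smul_apply, Pi.sub_apply, smul_eq_mul, hw, hsapp]
        refine mul_ne_zero ht0 ?_
        simp only [Finset.mem_insert, Finset.mem_singleton] at hk
        rcases hk with rfl | rfl | rfl
        · rw [hσa]; exact hna
        · rw [hσb, ← neg_sub]; exact neg_ne_zero.mpr hna
        · rw [hσc]; exact hnc
      · have hsub : supp v ⊆ Finset.univ.erase e := by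
          intro k hk
          refine Finset.mem_erase.mpr ⟨fun h => ?_, Finset.mem_univ k⟩
          rw [mem_supp, ht, h, Pi.smul_apply, Pi.sub_apply, hw, hsapp, hfix_e, sub_self,
            smul_zero] at hk
          exact hk rfl
        have hsub' : supp v ⊆ (Finset.univ.erase e).erase f := by
          intro k hk
          refine Finset.mem_erase.mpr ⟨fun h => ?_, hsub hk⟩
          rw [mem_supp, ht, h, Pi.smul_apply, Pi.sub_apply, hw, hsapp, hfix_f, sub_self,
            smul_zero] at hk
          exact hk rfl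
        have := Finset.card_le_card hsub'
        rw [Finset.card_erase_of_mem (Finset.mem_erase.mpr ⟨hf'.2.2.2.2, Finset.mem_univ f⟩),
          Finset.card_erase_of_mem (Finset.mem_univ e), Finset.card_univ, Fintype.card_fin] at this
        omega

end Frame
end H45

namespace H45
namespace Frame

open H43
open scoped Matrix symmDiff

variable {F : Type*} [Field F] [Fintype F] {p : ℕ}

variable (hcard : Fintype.card F = p) (hp : p.Prime) (hp5 : 5 ≤ p)
  (h2 : (2 : F) ≠ 0) (M : Subgroup (orthGroup (qStd 7 F))) (hM : HS 7 F ≤ M)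

include hcard hp hp5 h2 hM

/-- Two equal coordinate squares allow the support to be reduced to five. -/
lemma exists_supp_le_five : ∀ k, ∀ v : Fin 7 → F, Wv M v → ¬ Rootish v →
    (∃ a b, a ≠ b ∧ v a * v a = v b * v b) → (supp v).card ≤ k →
    ∃ y, Wv M y ∧ ¬ Rootish y ∧ (supp y).card ≤ 5 := by
  classical
  intro k
  induction k with
  | zero => exact fun v hv hvR _ hk => ⟨v, hv, hvR, by omega⟩
  | succ k ih =>
    intro v hv hvR hpair hk
    by_cases h5 : (supp v).card ≤ 5
    · exact ⟨v, hv, hvR, h5⟩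
    have h7 : (supp v).card ≤ 7 := le_trans (Finset.card_le_univ _) (Fintype.card_fin 7).le
    have hn7 : 7 ≤ 7 := le_rfl
    have step : ∀ w : Fin 7 → F, Wv M w → (supp w).card = (supp v).card → ∀ i j c d, i ≠ j →
        c ≠ d → c ≠ i → c ≠ j → d ≠ i → d ≠ j → w c * w c = w d * w d → w i ≠ 0 → w j ≠ 0 →
        w i * w i + w j * w j ≠ 1 → ¬ (4 * (w i * w i) = 1 ∧ 4 * (w j * w j) = 1) →
        ∃ y, Wv M y ∧ ¬ Rootish y ∧ (supp y).card ≤ 5 := by
      intro w hw hwc i j c d hij hcd hci hcj hdi hdj hsq hi hj hs hex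
      obtain ⟨e, he, hX⟩ := exists_param hcard hp hp5 h2 hn7 M hM (1 - (w i * w i + w j * w j))
      obtain ⟨w', hw', hsqw, hwcd⟩ : ∃ w' : Fin 7 → F, Wv M w' ∧
          (∀ l, w' l = w l ∨ w' l = -w l) ∧ w' c = w' d := by
        rcases mul_self_eq_mul_self_iff.mp hsq with h | h
        · exact ⟨w, hw, fun l => Or.inl rfl, h⟩
        · refine ⟨(dg {d} : orthGroup (qStd 7 F)).1 w, wv_dg h2 hn7 M hM _ hw, fun l => ?_, ?_⟩
          · rw [dg_apply]; split_ifs <;> simp
          · rw [dg_apply, dg_apply, if_neg (by simpa using hcd), if_pos (by simp), h]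
      have hsqw' : ∀ l, w' l * w' l = w l * w l := fun l => by
        rcases hsqw l with h | h <;> rw [h]
        ring
      have hne : ∀ l, w' l = 0 ↔ w l = 0 := fun l => by
        rcases hsqw l with h | h <;> rw [h]
        exact neg_eq_zero
      rw [← hsqw' i, ← hsqw' j] at hs hex hX
      obtain ⟨y, s, hy, hyi, hs0, -, hyk⟩ := reduce_pair_eq hcard hp hp5 h2 hn7 M hM hw' hij hcd
        hci hcj hdi hdj hwcd ((hne i).not.mpr hi) ((hne j).not.mpr hj) hs hex he hX
      obtain ⟨hlow, hup⟩ := supp_reduced hs0 hyi hyk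
      have hsupp : supp w' = supp w := by ext l; rw [mem_supp, mem_supp, ne_eq, hne]
      rw [hsupp] at hlow hup
      have hiw := mem_supp.mpr hi
      have hjw := mem_supp.mpr hj
      have h1 := Finset.card_le_card hlow
      rw [Finset.card_erase_of_mem (Finset.mem_erase.mpr ⟨hij.symm, hjw⟩),
        Finset.card_erase_of_mem hiw] at h1
      have h3 := Finset.card_le_card hup
      rw [Finset.insert_eq_self.mpr (Finset.mem_erase.mpr ⟨hij.symm, hjw⟩),
        Finset.card_erase_of_mem hiw] at h3
      exact ih y hy (fun hR => by have := supp_card_le_two_of_rootish hR; omega)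
        ⟨c, d, hcd, by rw [hyk c hci hcj, hyk d hdi hdj, hwcd]⟩ (by omega)
    by_cases hgood : ∃ i ∈ supp v, ∃ j ∈ supp v, ∃ c d, i ≠ j ∧ c ≠ d ∧ c ≠ i ∧ c ≠ j ∧ d ≠ i ∧
        d ≠ j ∧ v c * v c = v d * v d ∧ v i * v i + v j * v j ≠ 1 ∧
        ¬ (4 * (v i * v i) = 1 ∧ 4 * (v j * v j) = 1)
    · obtain ⟨i, hi, j, hj, c, d, h1, h3, h4, h6, h8, h9, h10, h11, h12⟩ := hgood
      exact step v hv rfl i j c d h1 h3 h4 h6 h8 h9 h10 (mem_supp.mp hi) (mem_supp.mp hj) h11 h12
    have hbad : ∀ i ∈ supp v, ∀ j ∈ supp v, ∀ c d, i ≠ j → c ≠ d → c ≠ i → c ≠ j → d ≠ i →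
        d ≠ j → v c * v c = v d * v d →
        v i * v i + v j * v j = 1 ∨ (4 * (v i * v i) = 1 ∧ 4 * (v j * v j) = 1) := by
      intro i hi j hj c d h1 h3 h4 h6 h8 h9 h10
      by_contra h'
      push Not at h'
      exact hgood ⟨i, hi, j, hj, c, d, h1, h3, h4, h6, h8, h9, h10, h'.1, fun h => h'.2 h.1 h.2⟩
    obtain ⟨a, b, hab, habsq⟩ := hpair
    set v' : Fin 7 → F := fun l => if l = a ∨ l = b then 0 else v l with hv'
    have hv'mem : ∀ l, l ∈ supp v' ↔ l ∈ supp v ∧ l ≠ a ∧ l ≠ b := by
      intro l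
      rw [mem_supp, mem_supp, hv']
      by_cases hl : l = a ∨ l = b
      · simp only [if_pos hl, ne_eq, not_true, false_iff, not_and, not_not]
        intro _ h; exact hl.resolve_left h
      · simp only [if_neg hl]
        push Not at hl
        simp [hl.1, hl.2]
    have hv'eq : ∀ l ∈ supp v', v' l = v l := fun l hl => by
      obtain ⟨-, h1, h3⟩ := (hv'mem l).mp hl
      simp [hv', h1, h3]
    have hR4 : 4 ≤ (supp v').card := by
      have hsub : supp v ⊆ supp v' ∪ {a, b} := fun l hl => by
        by_cases h : l ∈ ({a, b} : Finset (Fin 7))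
        · exact Finset.mem_union_right _ h
        · refine Finset.mem_union_left _ ((hv'mem l).mpr ⟨hl, ?_, ?_⟩) <;>
            (intro e; exact h (by simp [e]))
      have := (Finset.card_le_card hsub).trans (Finset.card_union_le _ _)
      rw [Finset.card_pair hab] at this
      omega
    obtain ⟨c₀, T, hT, hT3, hTc⟩ : ∃ (c₀ : F) (T : Finset (Fin 7)), T ⊆ supp v' ∧ 3 ≤ T.card ∧
        ∀ l ∈ T, 4 * (v l * v l) = c₀ := by
      rcases no_pair_cases (z := v') hR4 (fun i hi j hj hij => by
        obtain ⟨hi', hia, hib⟩ := (hv'mem i).mp hi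
        obtain ⟨hj', hja, hjb⟩ := (hv'mem j).mp hj
        rw [hv'eq i hi, hv'eq j hj]
        exact hbad i hi' j hj' a b hij hab hia.symm hja.symm hib.symm hjb.symm habsq)
        with h | h | ⟨i, hi, -, h⟩
      · exact ⟨1, supp v', le_rfl, by omega, fun l hl => by rw [← hv'eq l hl]; exact h l hl⟩
      · exact ⟨2, supp v', le_rfl, by omega, fun l hl => by
          rw [← hv'eq l hl]; linear_combination 2 * h l hl⟩
      · refine ⟨1, (supp v').erase i, Finset.erase_subset _ _, ?_, fun l hl => ?_⟩
        · rw [Finset.card_erase_of_mem hi]; omega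
        · have hl' := Finset.mem_of_mem_erase hl
          rw [← hv'eq l hl']; exact h l hl' (Finset.mem_erase.mp hl).1
    have h4 : (4 : F) ≠ 0 := by
      exact_mod_cast num_ne hcard hp hp5 h2 hn7 M hM (k := 4) (by omega) (by omega)
    have hno : ∀ i ∈ supp v, ∀ j ∈ supp v, i ≠ j →
        v i * v i + v j * v j = 1 ∨ (4 * (v i * v i) = 1 ∧ 4 * (v j * v j) = 1) := by
      intro i hi j hj hij
      by_cases hout : a ≠ i ∧ a ≠ j ∧ b ≠ i ∧ b ≠ j
      · exact hbad i hi j hj a b hij hab hout.1 hout.2.1 hout.2.2.1 hout.2.2.2 habsq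
      obtain ⟨x, hx⟩ : ∃ x, ∀ l ∈ T, l ≠ x → l ≠ i ∧ l ≠ j := by
        by_cases hia : i = a ∨ i = b
        · refine ⟨j, fun l hl hlx => ⟨fun e => ?_, hlx⟩⟩
          have := (hv'mem l).mp (hT hl)
          rcases hia with h | h
          · exact this.2.1 (e.trans h)
          · exact this.2.2 (e.trans h)
        · refine ⟨i, fun l hl hlx => ⟨hlx, fun e => ?_⟩⟩
          have := (hv'mem l).mp (hT hl)
          push Not at hia
          rw [e] at this
          exact hout ⟨hia.1.symm, this.2.1.symm, hia.2.symm, this.2.2.symm⟩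
      obtain ⟨c, hc, d, hd, hcd⟩ := Finset.one_lt_card.mp (show 1 < (T.erase x).card by
        have := Finset.pred_card_le_card_erase (s := T) (a := x); omega)
      obtain ⟨hci, hcj⟩ := hx c (Finset.mem_of_mem_erase hc) (Finset.mem_erase.mp hc).1
      obtain ⟨hdi, hdj⟩ := hx d (Finset.mem_of_mem_erase hd) (Finset.mem_erase.mp hd).1
      exact hbad i hi j hj c d hij hcd hci hcj hdi hdj (mul_left_cancel₀ h4
        ((hTc c (Finset.mem_of_mem_erase hc)).trans (hTc d (Finset.mem_of_mem_erase hd)).symm))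
    have hsum : ∑ l ∈ supp v, v l * v l = 1 := by
      rw [← q_sum v fun k hk => notMem_supp.mp hk]; exact hv.1
    rcases no_pair_cases (by omega) hno with hC | hA | ⟨i, hi, hi3, hoth⟩
    · -- all squares a quarter
      have hk4 : ((supp v).card : F) = 4 := by
        have h' : (4 : F) * (∑ l ∈ supp v, v l * v l) = ((supp v).card : F) := by
          rw [Finset.mul_sum, Finset.sum_congr rfl hC, Finset.sum_const]; simp
        rw [hsum] at h'; linear_combination -h'
      have h7' : (supp v).card = 7 := by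
        rcases (show (supp v).card = 6 ∨ (supp v).card = 7 by omega) with e | e
        · rw [e] at hk4; exact absurd (show (2 : F) = 0 by push_cast at hk4; linear_combination hk4) h2
        · exact e
      obtain ⟨Fl, hFl, hFl3⟩ := Finset.exists_subset_card_eq (show 3 ≤ (supp v).card by omega)
      set w := (dg Fl : orthGroup (qStd 7 F)).1 v with hw
      have hdot : w ⬝ᵥ v = 1 - 2 * ∑ l ∈ Fl, v l * v l := by
        rw [dotProduct, Finset.sum_congr rfl fun l _ => show w l * v l =
            v l * v l - 2 * (if l ∈ Fl then v l * v l else 0) by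
          rw [hw, dg_apply]; split_ifs <;> ring, Finset.sum_sub_distrib, ← Finset.mul_sum,
          Finset.sum_ite_mem, Finset.univ_inter]
        have := hv.1
        rw [qStd_apply, dotProduct] at this
        rw [this]
      have hF : (4 : F) * ∑ l ∈ Fl, v l * v l = 3 := by
        rw [Finset.mul_sum, Finset.sum_congr rfl fun l hl => hC l (hFl hl), Finset.sum_const, hFl3]
        norm_num
      have hd : 2 * (w ⬝ᵥ v) = -1 := by rw [hdot]; linear_combination -hF
      set u := (refl (qStd 7 F) v).1 w with hu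
      have hWu : Wv M u := wv_refl h2 hn7 M hM hv (wv_dg h2 hn7 M hM Fl hv)
      have huk : ∀ l, u l = if l ∈ Fl then 0 else 2 * v l := fun l => by
        rw [hu, refl_unit hv.1, hd, Pi.sub_apply, Pi.smul_apply, smul_eq_mul, hw, dg_apply]
        split_ifs <;> ring
      have hsu : supp u = supp v \ Fl := by
        ext l
        rw [mem_supp, huk, Finset.mem_sdiff, mem_supp]
        split_ifs with hl <;> simp [hl, h2]
      have hc : (supp u).card + 3 = (supp v).card := by
        rw [hsu, Finset.card_sdiff_of_subset hFl, hFl3]; omega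
      exact ⟨u, hWu, fun hR => by have := supp_card_le_two_of_rootish hR; omega, by omega⟩
    · -- all squares a half
      obtain ⟨i, hi⟩ := Finset.card_pos.mp (show 0 < (supp v).card by omega)
      set u := (refl (qStd 7 F) v).1 (ev i) with hu
      have hWu : Wv M u := wv_refl h2 hn7 M hM hv (wv_ev h2 hn7 M hM i)
      have huk : ∀ l, u l = (ev i : Fin 7 → F) l - 2 * v i * v l := fun l => by
        rw [hu, refl_unit hv.1, ev_dot]; simp
      have hsu : supp u = (supp v).erase i := by
        ext l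
        rw [mem_supp, huk, Finset.mem_erase, mem_supp]
        rcases eq_or_ne l i with rfl | hl
        · simp [ev_self, mul_assoc, hA l hi]
        · simp [ev_ne hl, hl, h2, mem_supp.mp hi]
      have hc : (supp u).card + 1 = (supp v).card := by
        rw [hsu, Finset.card_erase_add_one hi]
      obtain ⟨c, hc', d, hd', hcd⟩ :=
        Finset.one_lt_card.mp (show 1 < ((supp v).erase i).card by rw [← hsu]; omega)
      refine ih u hWu (fun hR => by have := supp_card_le_two_of_rootish hR; omega)
        ⟨c, d, hcd, ?_⟩ (by omega)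
      rw [huk, huk, ev_ne (Finset.mem_erase.mp hc').1, ev_ne (Finset.mem_erase.mp hd').1]
      refine mul_left_cancel₀ h2 ?_
      linear_combination (4 * (v i * v i)) * (hA c (Finset.mem_of_mem_erase hc')) -
        (4 * (v i * v i)) * (hA d (Finset.mem_of_mem_erase hd'))
    · -- three quarters and quarters
      set u := (refl (qStd 7 F) v).1 (ev i) with hu
      have hWu : Wv M u := wv_refl h2 hn7 M hM hv (wv_ev h2 hn7 M hM i)
      have hvi := mem_supp.mp hi
      have huk : ∀ l, u l = (ev i : Fin 7 → F) l - 2 * v i * v l := fun l => by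
        rw [hu, refl_unit hv.1, ev_dot]; simp
      have hui : 2 * u i = -1 := by rw [huk, ev_self]; linear_combination -hi3
      have hsu : supp u = supp v := by
        ext l
        rw [mem_supp, mem_supp]
        rcases eq_or_ne l i with rfl | hl
        · refine ⟨fun _ => hvi, fun _ e => ?_⟩
          rw [e, mul_zero] at hui
          exact one_ne_zero (by linear_combination hui)
        · rw [huk, ev_ne hl]; simp [h2, hvi]
      have hua : ∀ l ∈ supp v, l ≠ i → 4 * (u l * u l) = 3 := fun l hl hli => by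
        rw [huk, ev_ne hli]
        linear_combination (4 * (v l * v l)) * hi3 + 3 * hoth l hl hli
      obtain ⟨S, hS, hS4⟩ := Finset.exists_subset_card_eq
        (show 4 ≤ ((supp v).erase i).card by rw [Finset.card_erase_of_mem hi]; omega)
      obtain ⟨a', b', c', d', h01, h02, h03, h12, h13, h23, hSeq⟩ := Finset.card_eq_four.mp hS4
      have hmem : ∀ l ∈ ({a', b', c', d'} : Finset (Fin 7)), l ≠ i ∧ l ∈ supp v := fun l hl =>
        Finset.mem_erase.mp (hS (hSeq ▸ hl))
      have sa := hua a' (hmem a' (by simp)).2 (hmem a' (by simp)).1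
      have sb := hua b' (hmem b' (by simp)).2 (hmem b' (by simp)).1
      have sc := hua c' (hmem c' (by simp)).2 (hmem c' (by simp)).1
      have sd := hua d' (hmem d' (by simp)).2 (hmem d' (by simp)).1
      refine step u hWu (by rw [hsu]) a' b' c' d' h01 h23 h02.symm h12.symm h03.symm h13.symm
        (mul_left_cancel₀ h4 (sc.trans sd.symm))
        (mem_supp.mp (hsu ▸ (hmem a' (by simp)).2)) (mem_supp.mp (hsu ▸ (hmem b' (by simp)).2)) ?_ ?_
      · intro e
        exact h2 (by linear_combination 4 * e - sa - sb)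
      · rintro ⟨e, -⟩
        exact h2 (by linear_combination e - sa)

/-- A unit vector of the new class with support at most five. -/
theorem exists_small_wv (hMO : M ≤ commutator (orthGroup (qStd 7 F))) (hne : ¬ M ≤ HS 7 F) :
    ∃ z, Wv M z ∧ ¬ Rootish z ∧ (supp z).card + 2 ≤ 7 := by
  obtain ⟨z, hz, hzR⟩ := exists_wv_not_rootish_odd h2 le_rfl M hM (by decide) hMO hne
  by_cases h5 : (supp z).card ≤ 5
  · exact ⟨z, hz, hzR, by omega⟩
  rcases exists_sq_pair h2 M hM hz (by omega) with ⟨y, hy, hyR, h⟩ | ⟨y, hy, hyR, hpair⟩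
  · exact ⟨y, hy, hyR, by omega⟩
  · obtain ⟨u, hu, huR, h⟩ := exists_supp_le_five hcard hp hp5 h2 M hM _ y hy hyR hpair le_rfl
    exact ⟨u, hu, huR, by omega⟩

end Frame
end H45
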