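import Mathlib
import Cfsg.Agent.H45.FrameW

/-!
# All unit vectors over the field of three elements
-/

set_option autoImplicit false
set_option linter.unusedSectionVars false

namespace H45
namespace Frame

open H43
open scoped Matrix symmDiff

variable {F : Type*} [Field F] [Fintype F] {n : ℕ}

variable (hcard : Fintype.card F = 3) (h2 : (2 : F) ≠ 0) (hn : 7 ≤ n)
  (M : Subgroup (orthGroup (qStd n F))) (hM : HS n F ≤ M)

include hcard h2 hn hM

lemma three_zero : (3 : F) = 0 := by
  have h := FiniteField.cast_card_eq_zero F
  rw [hcard] at h; exact_mod_cast h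

lemma sq_one {x : F} (hx : x ≠ 0) : x * x = 1 := by
  have h := FiniteField.pow_card_sub_one_eq_one x hx
  rw [hcard] at h
  linear_combination h

lemma weight_mod {z : Fin n → F} (hz : qStd n F z = 1) : (supp z).card % 3 = 1 := by
  have h : qStd n F z = ((supp z).card : F) := by
    rw [qStd_apply, dotProduct, ← Finset.sum_subset (Finset.subset_univ (supp z))
      (fun k _ hk => by rw [notMem_supp.mp hk, mul_zero]),
      Finset.sum_congr rfl fun k hk => sq_one hcard h2 hn M hM (mem_supp.mp hk)]
    simp
  rw [hz] at h
  have h3 := three_zero hcard h2 hn M hM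
  have hm : ((((supp z).card % 3 : ℕ)) : F) = 1 := by
    have e := congrArg (fun k : ℕ => (k : F)) (Nat.mod_add_div (supp z).card 3)
    simp only [Nat.cast_add, Nat.cast_mul, Nat.cast_ofNat, h3, zero_mul, add_zero] at e
    rw [e, ← h]
  rcases (show (supp z).card % 3 = 0 ∨ (supp z).card % 3 = 1 ∨ (supp z).card % 3 = 2 by omega)
    with e | e | e
  · rw [e, Nat.cast_zero] at hm; exact absurd hm zero_ne_one
  · exact e
  · rw [e] at hm; push_cast at hm
    exact absurd (show (1 : F) = 0 by linear_combination hm) one_ne_zero

lemma weight_one {z : Fin n → F} (h : (supp z).card = 1) :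
    ∃ i, z = ev i ∨ z = -ev i := by
  obtain ⟨i, hi⟩ := Finset.card_eq_one.mp h
  have hzi : ∀ k, k ≠ i → z k = 0 := fun k hk => notMem_supp.mp (by simp [hi, hk])
  refine ⟨i, (mul_self_eq_one_iff.mp (sq_one hcard h2 hn M hM
    (mem_supp.mp (show i ∈ supp z by simp [hi])))).imp (fun e => ?_) fun e => ?_⟩
  · funext k
    rcases eq_or_ne k i with rfl | hk
    · rw [e, ev_self]
    · rw [hzi k hk, ev_ne hk]
  · funext k
    rcases eq_or_ne k i with rfl | hk
    · rw [e, Pi.neg_apply, ev_self]
    · rw [hzi k hk, Pi.neg_apply, ev_ne hk, neg_zero]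

lemma exists_weight_four : ∀ k, ∀ z : Fin n → F, Wv M z → ¬ Rootish z → (supp z).card ≤ k →
    ∃ w, Wv M w ∧ (supp w).card = 4 := by
  intro k
  induction k with
  | zero =>
    intro z hz _ h
    have := weight_mod hcard h2 hn M hM hz.1
    omega
  | succ k ih =>
    intro z hz hr hk
    have hmod := weight_mod hcard h2 hn M hM hz.1
    rcases (show (supp z).card = 1 ∨ (supp z).card = 4 ∨ 7 ≤ (supp z).card by omega) with h | h | h
    · exact absurd (Or.inl (weight_one hcard h2 hn M hM h)) hr
    · exact ⟨z, hz, h⟩
    obtain ⟨Fl, hFl, hFl3⟩ := Finset.exists_subset_card_eq (show 3 ≤ (supp z).card by omega)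
    set w := (dg Fl : orthGroup (qStd n F)).1 z with hw
    have hdot : w ⬝ᵥ z = 1 - 2 * ∑ k ∈ Fl, z k * z k := by
      rw [dotProduct, Finset.sum_congr rfl fun k _ => show w k * z k =
          z k * z k - 2 * (if k ∈ Fl then z k * z k else 0) by
        rw [hw, dg_apply]; split_ifs <;> ring, Finset.sum_sub_distrib, ← Finset.mul_sum,
        Finset.sum_ite_mem, Finset.univ_inter]
      have := hz.1
      rw [qStd_apply, dotProduct] at this
      rw [this]
    have hF : ∑ k ∈ Fl, z k * z k = 3 := by
      rw [Finset.sum_congr rfl fun k hk => sq_one hcard h2 hn M hM (mem_supp.mp (hFl hk)),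
        Finset.sum_const, hFl3]
      norm_num
    have h3 := three_zero hcard h2 hn M hM
    have hd : 2 * (w ⬝ᵥ z) = -1 := by rw [hdot, hF]; linear_combination (-3 : F) * h3
    set v := (refl (qStd n F) z).1 w with hv
    have hWv : Wv M v := wv_refl h2 hn M hM hz (wv_dg h2 hn M hM Fl hz)
    have hvk : ∀ l, v l = if l ∈ Fl then 0 else 2 * z l := fun l => by
      rw [hv, refl_unit hz.1, hd, Pi.sub_apply, Pi.smul_apply, smul_eq_mul, hw, dg_apply]
      split_ifs <;> ring
    have hsv : supp v = supp z \ Fl := by
      ext l
      rw [mem_supp, hvk, Finset.mem_sdiff, mem_supp]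
      split_ifs with hl <;> simp [hl, h2]
    have hc : (supp v).card + 3 = (supp z).card := by
      rw [hsv, Finset.card_sdiff_of_subset hFl, hFl3]; omega
    exact ih v hWv (fun hR => by have := supp_card_le_two_of_rootish hR; omega) (by omega)

theorem wv_all_three {z₀ : Fin n → F} (hz₀ : Wv M z₀) (hr : ¬ Rootish z₀) :
    ∀ y : Fin n → F, qStd n F y = 1 → Wv M y := by
  obtain ⟨w, hw, hw4⟩ := exists_weight_four hcard h2 hn M hM _ z₀ hz₀ hr le_rfl
  suffices h : ∀ k, ∀ y : Fin n → F, qStd n F y = 1 → (supp y).card ≤ k → Wv M y from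
    fun y hy => h _ y hy le_rfl
  intro k
  induction k with
  | zero =>
    intro y hy h
    have := weight_mod hcard h2 hn M hM hy
    omega
  | succ k ih =>
    intro y hy hk
    have hmod := weight_mod hcard h2 hn M hM hy
    rcases (show (supp y).card = 1 ∨ (supp y).card = 4 ∨ 7 ≤ (supp y).card by omega) with h | h | h
    · obtain ⟨i, rfl | rfl⟩ := weight_one hcard h2 hn M hM h
      · exact wv_ev h2 hn M hM i
      · exact wv_neg h2 hn M hM (wv_ev h2 hn M hM i)
    · -- the vectors of weight four form one orbit under signed permutations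
      classical
      obtain ⟨σ, hσ, -, hmap⟩ := exists_even_map Finset.univ (supp y) (supp w)
        (Finset.subset_univ _) (Finset.subset_univ _) (by rw [h, hw4]) (by omega)
      set u := (pm σ : orthGroup (qStd n F)).1 w with hu
      have hWu : Wv M u := wv_pm h2 hn M hM hσ hw
      have hsu : ∀ l, u l ≠ 0 ↔ y l ≠ 0 := fun l => by
        rw [← mem_supp (z := y), ← hmap, hu, pm_apply, ← mem_supp (z := w)]
        simp [Finset.mem_map, Equiv.eq_symm_apply]
      set S := Finset.univ.filter fun l => u l ≠ y l
      have : y = (dg S : orthGroup (qStd n F)).1 u := by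
        funext l
        rw [dg_apply]
        by_cases hl : y l = 0
        · have hul : u l = 0 := by by_contra h'; exact ((hsu l).mp h') hl
          rw [hl, hul, if_neg (by simp [S, hl, hul])]
        · have h1 := sq_one hcard h2 hn M hM hl
          have h1' := sq_one hcard h2 hn M hM ((hsu l).mpr hl)
          by_cases he : u l = y l
          · rw [if_neg (by simp [S, he]), he]
          · rw [if_pos (by simp [S, he])]
            rcases mul_self_eq_mul_self_iff.mp (h1'.trans h1.symm) with h' | h'
            · exact absurd h' he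
            · rw [h', neg_neg]
      rw [this]
      exact wv_dg h2 hn M hM S hWu
    obtain ⟨C, hC, hC4⟩ := Finset.exists_subset_card_eq (show 4 ≤ (supp y).card by omega)
    obtain ⟨a, ha⟩ := Finset.card_pos.mp (show 0 < C.card by omega)
    classical
    set x : Fin n → F := fun l => if l ∈ C then (if l = a then -y l else y l) else 0 with hx
    have hxs : supp x = C := by
      ext l
      rw [mem_supp, hx]
      by_cases hl : l ∈ C
      · have := mem_supp.mp (hC hl)
        simp only [hl, if_true]
        split_ifs <;> simp [this]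
      · simp [hl]
    have hQx : qStd n F x = 1 := by
      rw [qStd_apply, dotProduct, ← Finset.sum_subset (Finset.subset_univ C) fun l _ hl => by
          simp [hx, hl],
        Finset.sum_congr rfl fun l hl => show x l * x l = 1 by
          have := sq_one hcard h2 hn M hM (mem_supp.mp (hC hl))
          simp only [hx, hl, if_true]
          split_ifs <;> linear_combination this,
        Finset.sum_const, hC4]
      have h3 := three_zero hcard h2 hn M hM
      simp only [nsmul_eq_mul, mul_one]
      push_cast
      linear_combination h3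
    have hWx : Wv M x := ih x hQx (by rw [hxs, hC4]; omega)
    have h3 := three_zero hcard h2 hn M hM
    have hdot : y ⬝ᵥ x = 2 := by
      rw [dotProduct, ← Finset.sum_subset (Finset.subset_univ C) fun l _ hl => by simp [hx, hl],
        ← Finset.add_sum_erase _ _ ha, Finset.sum_congr rfl fun l hl => show y l * x l = 1 by
          simp only [Finset.mem_erase] at hl
          simp only [hx, hl.2, if_true, if_neg hl.1]
          exact sq_one hcard h2 hn M hM (mem_supp.mp (hC hl.2)),
        Finset.sum_const, Finset.card_erase_of_mem ha, hC4]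
      simp only [hx, ha, if_true, nsmul_eq_mul, mul_one]
      push_cast
      linear_combination -(sq_one hcard h2 hn M hM (mem_supp.mp (hC ha)))
    set v := (refl (qStd n F) x).1 y with hv
    have hvk : ∀ l, v l = y l - x l := fun l => by
      rw [hv, refl_unit hQx, hdot, Pi.sub_apply, Pi.smul_apply, smul_eq_mul]
      linear_combination (-(x l)) * h3
    have hsub : supp v ⊆ supp y \ (C.erase a) := fun l hl => by
      rw [mem_supp, hvk] at hl
      rw [Finset.mem_sdiff, mem_supp, Finset.mem_erase]
      refine ⟨fun e => hl ?_, fun h' => hl ?_⟩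
      · have hlC : l ∉ C := fun h' => mem_supp.mp (hC h') e
        simp [hx, hlC, e]
      · simp [hx, h'.1, h'.2]
    have hvc : (supp v).card ≤ k := by
      have := Finset.card_le_card hsub
      rw [Finset.card_sdiff_of_subset ((Finset.erase_subset _ _).trans hC),
        Finset.card_erase_of_mem ha, hC4] at this
      omega
    have := wv_refl h2 hn M hM hWx (ih v (by rw [hv, orth_qmap]; exact hy) hvc)
    rwa [hv, ← orth_mul_apply, refl_sq, orth_one_apply] at this

end Frame
end H45
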