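import Mathlib
import Cfsg.Agent.H45.FrameTriple

/-!
# From the sphere of three coordinates to all unit vectors
-/

set_option autoImplicit false
set_option linter.unusedSectionVars false

namespace H45
namespace Frame

open H43
open scoped Matrix symmDiff

variable {F : Type*} [Field F] [Fintype F] {n : ℕ} {p : ℕ}

lemma exists_two_squares (h2 : (2 : F) ≠ 0) {r s : F} (hr : r ≠ 0) (hs : s ≠ 0) (c : F) :
    ∃ x y : F, r * (x * x) + s * (y * y) = c := by
  have hodd : Fintype.card F % 2 = 1 := FiniteField.odd_card_of_char_ne_two fun h => h2 (by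
    have := ringChar.Nat.cast_ringChar (R := F)
    rw [h] at this
    exact_mod_cast this)
  obtain ⟨a, b, hab⟩ := FiniteField.exists_root_sum_quadratic
    (f := Polynomial.C r * Polynomial.X ^ 2 + Polynomial.C (-c))
    (g := Polynomial.C s * Polynomial.X ^ 2)
    (by
      rw [Polynomial.degree_add_eq_left_of_degree_lt]
      · rw [Polynomial.degree_C_mul_X_pow 2 hr]; rfl
      · rw [Polynomial.degree_C_mul_X_pow 2 hr]
        exact lt_of_le_of_lt Polynomial.degree_C_le (by decide))
    (by rw [Polynomial.degree_C_mul_X_pow 2 hs]; rfl) hodd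
  simp only [Polynomial.eval_add, Polynomial.eval_mul, Polynomial.eval_C, Polynomial.eval_pow,
    Polynomial.eval_X] at hab
  exact ⟨a, b, by linear_combination hab⟩

variable (hcard : Fintype.card F = p) (hp : p.Prime) (hp5 : 5 ≤ p) (h2 : (2 : F) ≠ 0)
  (hn : 7 ≤ n) (M : Subgroup (orthGroup (qStd n F))) (hM : HS n F ≤ M)

include hcard hp hp5 h2 hn hM

lemma wv_of_card_le_three (hT : HasTriple M) {y : Fin n → F} (hy : qStd n F y = 1)
    (h3 : (supp y).card ≤ 3) : Wv M y := by
  obtain ⟨i, j, l, hij, hil, hjl, hT⟩ := hT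
  obtain ⟨T, hsT, -, hT3⟩ := Finset.exists_subsuperset_card_eq (Finset.subset_univ (supp y)) h3
    (show 3 ≤ (Finset.univ : Finset (Fin n)).card by rw [Finset.card_univ, Fintype.card_fin]; omega)
  have hc : ({i, j, l} : Finset (Fin n)).card = 3 :=
    Finset.card_eq_three.mpr ⟨i, j, l, hij, hil, hjl, rfl⟩
  obtain ⟨σ, hσ, -, hmap⟩ := exists_even_map Finset.univ {i, j, l} T (Finset.subset_univ _)
    (Finset.subset_univ _) (by rw [hc, hT3]) (by omega)
  have h1 : Wv M ((pm σ : orthGroup (qStd n F)).1 y) := by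
    refine hT _ (by rw [orth_qmap]; exact hy) fun k h1 h3 h4 => ?_
    rw [pm_apply]
    by_contra hne
    have hk : σ.symm k ∈ T := hsT (mem_supp.mpr hne)
    have : k ∈ ({i, j, l} : Finset (Fin n)) := hmap ▸ Finset.mem_map.mpr ⟨_, hk, σ.apply_symm_apply k⟩
    simp only [Finset.mem_insert, Finset.mem_singleton] at this
    rcases this with e | e | e
    exacts [h1 e, h3 e, h4 e]
  have := wv_pm h2 hn M hM (σ := σ⁻¹) (by rw [Equiv.Perm.sign_inv, hσ]) h1
  rwa [← orth_mul_apply, ← pm_mul, inv_mul_cancel, pm_one, orth_one_apply] at this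

lemma exists_good_param_large (hp11 : 11 ≤ p) {δ : F} (hδ : δ ≠ 0) :
    ∃ e : F, e ≠ 0 ∧ 1 + δ * (e * e) ≠ 0 ∧ δ * (e * e) ≠ 1 ∧
      (δ * (e * e)) * (δ * (e * e)) - 6 * (δ * (e * e)) + 1 ≠ 0 := by
  classical
  by_contra hcon
  push Not at hcon
  have hcast : ∀ k : ℕ, 0 < k → k < 11 → (k : F) ≠ 0 := fun k hk hk' =>
    natCast_ne_zero_of_lt hcard hp hk (by omega)
  let f : Fin 5 → F := fun i => δ * (((i : ℕ) + 1 : ℕ) * ((i : ℕ) + 1 : ℕ) : F)
  have hbad : ∀ i, f i = -1 ∨ f i = 1 ∨ f i * f i - 6 * f i + 1 = 0 := fun i => by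
    have he := hcast ((i : ℕ) + 1) (by omega) (by omega)
    by_cases h1 : 1 + f i = 0
    · exact Or.inl (by linear_combination h1)
    by_cases h3 : f i = 1
    · exact Or.inr (Or.inl h3)
    exact Or.inr (Or.inr (hcon _ he h1 h3))
  have hinj : Function.Injective f := by
    intro i j h
    by_contra hne
    have h' := mul_left_cancel₀ hδ h
    wlog hlt : (i : ℕ) < (j : ℕ) generalizing i j
    · exact this (i := j) (j := i) h.symm (Ne.symm hne) h'.symm
        (by have := Fin.val_ne_of_ne hne; omega)
    have h1 : (((j : ℕ) - (i : ℕ) : ℕ) : F) * ((((j : ℕ) + (i : ℕ) + 2 : ℕ)) : F) = 0 := by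
      rw [Nat.cast_sub hlt.le]
      push_cast at h' ⊢
      linear_combination -h'
    have hi := i.2
    have hj := j.2
    rcases mul_eq_zero.mp h1 with h3 | h3
    · exact hcast _ (by omega) (by omega) h3
    · exact hcast _ (by omega) (by omega) h3
  let P := Finset.univ.filter fun x : F => x * x - 6 * x + 1 = 0
  have hP : P.card ≤ 2 := by
    by_contra hlt
    obtain ⟨a, ha, b, hb, c, hc, hab, hac, hbc⟩ :=
      Finset.two_lt_card.mp (show 2 < P.card by omega)
    simp only [P, Finset.mem_filter, Finset.mem_univ, true_and] at ha hb hc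
    have e1 : a + b - 6 = 0 :=
      (mul_eq_zero.mp (show (a - b) * (a + b - 6) = 0 by linear_combination ha - hb)).resolve_left
        (sub_ne_zero.mpr hab)
    have e2 : a + c - 6 = 0 :=
      (mul_eq_zero.mp (show (a - c) * (a + c - 6) = 0 by linear_combination ha - hc)).resolve_left
        (sub_ne_zero.mpr hac)
    exact hbc (by linear_combination e1 - e2)
  have hsub : Finset.univ.image f ⊆ {-1, 1} ∪ P := by
    intro x hx
    obtain ⟨i, -, rfl⟩ := Finset.mem_image.mp hx
    simp only [P, Finset.mem_union, Finset.mem_insert, Finset.mem_singleton, Finset.mem_filter,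
      Finset.mem_univ, true_and]
    rcases hbad i with h | h | h
    exacts [Or.inl (Or.inl h), Or.inl (Or.inr h), Or.inr h]
  have := (Finset.card_le_card hsub).trans (Finset.card_union_le _ _)
  rw [Finset.card_image_of_injective _ hinj, Finset.card_univ, Fintype.card_fin] at this
  have := Finset.card_le_two (a := (-1 : F)) (b := 1)
  omega

lemma wv_of_four_of_param (hT : HasTriple M) {z : Fin n → F} (hz : qStd n F z = 1)
    (h4 : (supp z).card = 4) {i j : Fin n} (hi : i ∈ supp z) (hj : j ∈ supp z) (hij : i ≠ j)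
    {δ e : F} (hδ : δ = 1 - (z i * z i + z j * z j)) (hδ0 : δ ≠ 0) (he : e ≠ 0)
    (hX : 1 + δ * (e * e) ≠ 0) (hX1 : δ * (e * e) ≠ 1)
    (hX6 : (δ * (e * e)) * (δ * (e * e)) - 6 * (δ * (e * e)) + 1 ≠ 0) : Wv M z := by
  set q := (1 - δ * (e * e)) / (1 + δ * (e * e)) with hq
  set s := 2 * e / (1 + δ * (e * e)) with hs
  have hs0 : s ≠ 0 := div_ne_zero (mul_ne_zero h2 he) hX
  have hq0 : q ≠ 0 := div_ne_zero (sub_ne_zero.mpr fun h => hX1 h.symm) hX
  set y : Fin n → F := q • ev j + s • (z - z i • ev i - z j • ev j) with hy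
  have hyi : y i = 0 := by simp [hy, ev_self, ev_ne hij]
  have hyj : y j = q := by simp [hy, ev_self, ev_ne hij.symm]
  have hyk : ∀ k, k ≠ i → k ≠ j → y k = s * z k := fun k h1 h3 => by
    simp [hy, ev_ne h1, ev_ne h3]
  have hQy : qStd n F y = 1 := by
    rw [qStd_apply, dotProduct, ← Finset.add_sum_erase _ _ (Finset.mem_univ i),
      ← Finset.add_sum_erase _ _ (Finset.mem_erase.mpr ⟨hij.symm, Finset.mem_univ j⟩)] at hz ⊢
    rw [hyi, hyj, Finset.sum_congr rfl fun k hk => show y k * y k = s * s * (z k * z k) by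
      simp only [Finset.mem_erase] at hk
      rw [hyk k hk.2.1 hk.1]; ring, ← Finset.mul_sum,
      show ∑ x ∈ (Finset.univ.erase i).erase j, z x * z x = δ by rw [hδ]; linear_combination hz]
    rw [hq, hs, div_mul_div_comm, div_mul_div_comm, mul_zero, zero_add, div_mul_eq_mul_div,
      ← add_div, div_eq_one_iff_eq (mul_ne_zero hX hX)]
    ring
  obtain ⟨-, hup⟩ := supp_reduced hs0 hyi hyk
  have hy3 : (supp y).card ≤ 3 := by
    have := Finset.card_le_card hup
    rw [Finset.insert_eq_self.mpr (Finset.mem_erase.mpr ⟨hij.symm, hj⟩),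
      Finset.card_erase_of_mem hi, h4] at this
    exact this
  have hWy := wv_of_card_le_three hcard hp hp5 h2 hn M hM hT hQy hy3
  obtain ⟨a, b, hab, hza, hzb, -, -⟩ := exists_two_zeros (m := i) (z := z) hn (by omega)
  have hai : a ≠ i := fun h => mem_supp.mp hi (h ▸ hza)
  have haj : a ≠ j := fun h => mem_supp.mp hj (h ▸ hza)
  have hbi : b ≠ i := fun h => mem_supp.mp hi (h ▸ hzb)
  have hbj : b ≠ j := fun h => mem_supp.mp hj (h ▸ hzb)
  refine wv_sphere hcard hp hp5 h2 hn M hM hWy hij hab hai haj hbi hbj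
    (by rw [hyk a hai haj, hza, hyk b hbi hbj, hzb]) ?_
    (Or.inr (hyj ▸ hq0)) ?_ (fun h => hq0 (hyj ▸ h.1)) ?_ hz (s := s⁻¹) fun k hki hkj => ?_
  · rw [hyi, hyj, mul_zero, zero_add, hq, div_mul_div_comm, Ne,
      div_eq_one_iff_eq (mul_ne_zero hX hX)]
    intro h
    exact mul_ne_zero (mul_ne_zero h2 h2) (mul_ne_zero hδ0 (mul_ne_zero he he))
      (by linear_combination -h)
  · rintro ⟨-, h⟩
    rw [hyj, hq, div_mul_div_comm, mul_div_assoc', div_eq_one_iff_eq (mul_ne_zero hX hX)] at h
    exact hX6 (by linear_combination h)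
  · rintro ⟨h, -⟩
    rw [hyi] at h
    simp at h
  · rw [hyk k hki hkj, ← mul_assoc, inv_mul_cancel₀ hs0, one_mul]

lemma wv_of_four_half (hT : HasTriple M) {z : Fin n → F} (hz : qStd n F z = 1)
    (h4 : (supp z).card = 4) (hC : ∀ i ∈ supp z, 4 * (z i * z i) = 1) {c : F}
    (hc : 2 * (c * c) = 1) : Wv M z := by
  obtain ⟨a, b, l, d, hab, hal, -, hbl, -, -, hs⟩ := Finset.card_eq_four.mp h4
  set x : Fin n → F := z a • ev a + (-(z b)) • ev b + c • ev l with hx
  have xa : x a = z a := by simp [hx, ev_self, ev_ne hab, ev_ne hal]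
  have xb : x b = -z b := by simp [hx, ev_self, ev_ne hab.symm, ev_ne hbl]
  have xl : x l = c := by simp [hx, ev_self, ev_ne hal.symm, ev_ne hbl.symm]
  have xo : ∀ k, k ∉ ({a, b, l} : Finset (Fin n)) → x k = 0 := fun k hk => by
    simp only [Finset.mem_insert, Finset.mem_singleton, not_or] at hk
    simp [hx, ev_ne hk.1, ev_ne hk.2.1, ev_ne hk.2.2]
  have ha := hC a (by simp [hs])
  have hb := hC b (by simp [hs])
  have h4' : (4 : F) ≠ 0 := fun e => one_ne_zero (α := F) (by linear_combination (z a * z a) * e - ha)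
  have hQx : qStd n F x = 1 := by
    rw [q_sum x xo, Finset.sum_insert (by simp [hab, hal]), Finset.sum_pair hbl, xa, xb, xl]
    exact mul_left_cancel₀ h4' (by linear_combination ha + hb + 2 * hc)
  have hWx : Wv M x := by
    refine wv_of_card_le_three hcard hp hp5 h2 hn M hM hT hQx ((Finset.card_le_card
      (t := {a, b, l}) fun k hk => ?_).trans Finset.card_le_three)
    by_contra h; exact mem_supp.mp hk (xo k h)
  have hdot : z ⬝ᵥ x = c * z l := by
    rw [dotProduct, ← Finset.sum_subset (Finset.subset_univ ({a, b, l} : Finset (Fin n)))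
      (fun k _ hk => by rw [xo k hk, mul_zero]), Finset.sum_insert (by simp [hab, hal]),
      Finset.sum_pair hbl, xa, xb, xl]
    exact mul_left_cancel₀ h4' (by linear_combination ha - hb)
  set w := (refl (qStd n F) x).1 z with hw
  have hwl : w l = 0 := by
    rw [hw, refl_unit hQx, hdot, Pi.sub_apply, Pi.smul_apply, smul_eq_mul, xl]
    linear_combination -(z l) * hc
  have hsub : supp w ⊆ (supp z).erase l := fun k hk => by
    rw [mem_supp] at hk
    have hkl : k ≠ l := fun e => hk (e ▸ hwl)
    refine Finset.mem_erase.mpr ⟨hkl, ?_⟩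
    by_contra hkz
    have hkout : k ∉ ({a, b, l} : Finset (Fin n)) := by
      intro h; apply hkz; rw [hs]
      simp only [Finset.mem_insert, Finset.mem_singleton] at h ⊢
      tauto
    exact hk (by
      rw [hw, refl_unit hQx, Pi.sub_apply, Pi.smul_apply, xo k hkout, notMem_supp.mp hkz,
        smul_zero, sub_zero])
  have hw3 : (supp w).card ≤ 3 := by
    have := Finset.card_le_card hsub
    rw [Finset.card_erase_of_mem (by simp [hs]), h4] at this
    exact this
  have := wv_refl h2 hn M hM hWx
    (wv_of_card_le_three hcard hp hp5 h2 hn M hM hT (by rw [hw, orth_qmap]; exact hz) hw3)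
  rwa [hw, ← orth_mul_apply, refl_sq, orth_one_apply] at this

lemma wv_of_four (hT : HasTriple M) {z : Fin n → F} (hz : qStd n F z = 1)
    (h4 : (supp z).card = 4) : Wv M z := by
  obtain ⟨a, b, c, d, hab, hac, had, hbc, hbd, hcd, hs⟩ := Finset.card_eq_four.mp h4
  have hsum : z a * z a + z b * z b + z c * z c + z d * z d = 1 := by
    rw [← hz, q_sum z (s := supp z) (fun k hk => notMem_supp.mp hk), hs,
      Finset.sum_insert (by simp [hab, hac, had]), Finset.sum_insert (by simp [hbc, hbd]),
      Finset.sum_pair hcd]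
    ring
  have hmem : ∀ k ∈ ({a, b, c, d} : Finset (Fin n)), k ∈ supp z ∧ z k ≠ 0 := fun k hk =>
    ⟨hs ▸ hk, mem_supp.mp (hs ▸ hk)⟩
  have hprime : p = 5 ∨ p = 7 ∨ 11 ≤ p := by
    by_contra h
    push Not at h
    have : p = 6 ∨ p = 8 ∨ p = 9 ∨ p = 10 := by omega
    rcases this with rfl | rfl | rfl | rfl <;> revert hp <;> decide
  -- a pair with a non-zero complement
  have hpair : ∃ i ∈ supp z, ∃ j ∈ supp z, i ≠ j ∧ 1 - (z i * z i + z j * z j) ≠ 0 := by
    by_contra hcon
    push Not at hcon
    have e1 := hcon a (hmem a (by simp)).1 b (hmem b (by simp)).1 hab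
    have e2 := hcon c (hmem c (by simp)).1 d (hmem d (by simp)).1 hcd
    exact one_ne_zero (α := F) (by linear_combination e1 + e2 + hsum)
  rcases hprime with hp' | hp' | hp'
  · subst hp'
    have h5 : (5 : F) = 0 := by
      have h := FiniteField.cast_card_eq_zero F
      rw [hcard] at h; exact_mod_cast h
    have hsq : ∀ x : F, x ≠ 0 → x * x = 1 ∨ x * x = -1 := fun x hx => by
      have h := FiniteField.pow_card_sub_one_eq_one x hx
      rw [hcard] at h
      exact mul_self_eq_one_iff.mp (by linear_combination h)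
    have h3 : (3 : F) ≠ 0 := by
      exact_mod_cast num_ne hcard hp hp5 h2 hn M hM (k := 3) (by omega) (by omega)
    obtain ⟨i, hi, j, hj, hij, hδ⟩ := hpair
    have hδv : 1 - (z i * z i + z j * z j) = 2 ∨ 1 - (z i * z i + z j * z j) = -2 := by
      obtain ⟨k, l, hkl, hk, hl, hsum'⟩ : ∃ k l, k ≠ l ∧ z k ≠ 0 ∧ z l ≠ 0 ∧
          1 - (z i * z i + z j * z j) = z k * z k + z l * z l := by
        have hc : ((supp z).erase i |>.erase j).card = 2 := by
          rw [Finset.card_erase_of_mem (Finset.mem_erase.mpr ⟨hij.symm, hj⟩),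
            Finset.card_erase_of_mem hi, h4]
        obtain ⟨k, l, hkl, hkls⟩ := Finset.card_eq_two.mp hc
        refine ⟨k, l, hkl, mem_supp.mp ?_, mem_supp.mp ?_, ?_⟩
        · exact Finset.mem_of_mem_erase (Finset.mem_of_mem_erase (a := j) (by rw [hkls]; simp))
        · exact Finset.mem_of_mem_erase (Finset.mem_of_mem_erase (a := j) (by rw [hkls]; simp))
        · have h1 := hz
          rw [q_sum z (s := supp z) (fun k hk => notMem_supp.mp hk),
            ← Finset.add_sum_erase _ _ hi,
            ← Finset.add_sum_erase _ _ (Finset.mem_erase.mpr ⟨hij.symm, hj⟩), hkls,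
            Finset.sum_pair hkl] at h1
          linear_combination -h1
      rw [hsum'] at hδ ⊢
      rcases hsq _ hk with e1 | e1 <;> rcases hsq _ hl with e2 | e2 <;> rw [e1, e2] at hδ ⊢
      · left; norm_num
      · exact absurd (add_neg_cancel 1) hδ
      · exact absurd (neg_add_cancel 1) hδ
      · right; norm_num
    refine wv_of_four_of_param hcard hp hp5 h2 hn M hM hT hz h4 hi hj hij rfl hδ one_ne_zero
      ?_ ?_ ?_ <;> intro h <;> rcases hδv with e | e <;> rw [e] at h
    · exact h3 (by linear_combination h)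
    · exact one_ne_zero (α := F) (by linear_combination -h)
    · exact one_ne_zero (α := F) (by linear_combination h)
    · exact h3 (by linear_combination -h)
    · exact h3 (by linear_combination h + 2 * h5)
    · exact h2 (by linear_combination h - 3 * h5)
  · subst hp'
    have h7 : (7 : F) = 0 := by
      have h := FiniteField.cast_card_eq_zero F
      rw [hcard] at h; exact_mod_cast h
    have h3 : (3 : F) ≠ 0 := by
      exact_mod_cast num_ne hcard hp hp5 h2 hn M hM (k := 3) (by omega) (by omega)
    have hsq : ∀ x : F, x ≠ 0 → x * x = 1 ∨ x * x = 2 ∨ x * x = 4 := fun x hx => by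
      have h := FiniteField.pow_card_sub_one_eq_one x hx
      rw [hcard] at h
      have h' : (x * x - 1) * ((x * x - 2) * (x * x - 4)) = 0 := by
        linear_combination h + (-(x ^ 4) + 2 * (x * x) - 1) * h7
      rcases mul_eq_zero.mp h' with e | e
      · exact Or.inl (sub_eq_zero.mp e)
      · rcases mul_eq_zero.mp e with e | e
        · exact Or.inr (Or.inl (sub_eq_zero.mp e))
        · exact Or.inr (Or.inr (sub_eq_zero.mp e))
    have hone : ((1 : F) ≠ 2) ∧ ((1 : F) ≠ 4) ∧ ((2 : F) ≠ 4) := by
      refine ⟨fun e => one_ne_zero (α := F) (by linear_combination -e),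
        fun e => h3 (by linear_combination -e), fun e => h2 (by linear_combination -e)⟩
    by_cases hall : z a * z a = z b * z b ∧ z b * z b = z c * z c ∧ z c * z c = z d * z d
    · refine wv_of_four_half hcard hp hp5 h2 hn M hM hT hz h4 (c := 2)
        (fun k hk => ?_) (by linear_combination h7)
      rw [hs] at hk
      simp only [Finset.mem_insert, Finset.mem_singleton] at hk
      rcases hk with rfl | rfl | rfl | rfl
      · linear_combination hsum + 3 * hall.1 + 2 * hall.2.1 + hall.2.2
      · linear_combination hsum - hall.1 + 2 * hall.2.1 + hall.2.2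
      · linear_combination hsum - hall.1 - 2 * hall.2.1 + hall.2.2
      · linear_combination hsum - hall.1 - 2 * hall.2.1 - 3 * hall.2.2
    obtain ⟨i, j, k, l, hij, hi, hj, hk, hl, hne, hsum'⟩ : ∃ i j k l, i ≠ j ∧ i ∈ supp z ∧
        j ∈ supp z ∧ z k ≠ 0 ∧ z l ≠ 0 ∧ z k * z k ≠ z l * z l ∧
        1 - (z i * z i + z j * z j) = z k * z k + z l * z l := by
      have ma := hmem a (by simp)
      have mb := hmem b (by simp)
      have mc := hmem c (by simp)
      have md := hmem d (by simp)
      by_cases h1 : z a * z a = z b * z b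
      · by_cases h3' : z b * z b = z c * z c
        · have : z c * z c ≠ z d * z d := fun e => hall ⟨h1, h3', e⟩
          exact ⟨a, b, c, d, hab, ma.1, mb.1, mc.2, md.2, this, by linear_combination -hsum⟩
        · exact ⟨a, d, b, c, had, ma.1, md.1, mb.2, mc.2, h3', by linear_combination -hsum⟩
      · exact ⟨c, d, a, b, hcd, mc.1, md.1, ma.2, mb.2, h1, by linear_combination -hsum⟩
    set δ := 1 - (z i * z i + z j * z j) with hδ
    obtain ⟨e, he, hev⟩ : ∃ e : F, e ≠ 0 ∧ δ * (e * e) = 3 := by
      rw [hsum']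
      rcases hsq _ hk with e1 | e1 | e1 <;> rcases hsq _ hl with e2 | e2 | e2 <;>
        rw [e1, e2] at hne ⊢
      all_goals first
        | exact absurd rfl hne
        | (refine ⟨1, one_ne_zero, ?_⟩; norm_num; done)
        | (refine ⟨3, h3, ?_⟩; linear_combination 6 * h7)
        | (refine ⟨2, h2, ?_⟩; linear_combination 3 * h7)
    refine wv_of_four_of_param hcard hp hp5 h2 hn M hM hT hz h4 hi hj hij hδ ?_ he
      ?_ ?_ ?_
    · intro h; rw [h, zero_mul] at hev; exact h3 hev.symm
    all_goals intro h; rw [hev] at h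
    · exact h2 (mul_self_eq_zero.mp (by linear_combination h))
    · exact h2 (by linear_combination h)
    · exact one_ne_zero (α := F) (by linear_combination -h - h7)
  · obtain ⟨i, hi, j, hj, hij, hδ⟩ := hpair
    obtain ⟨e, he, h1, h3, h6⟩ := exists_good_param_large hcard hp hp5 h2 hn M hM hp' hδ
    exact wv_of_four_of_param hcard hp hp5 h2 hn M hM hT hz h4 hi hj hij rfl hδ he h1 h3 h6

/-- All unit vectors. -/
theorem wv_all (hT : HasTriple M) : ∀ z : Fin n → F, qStd n F z = 1 → Wv M z := by
  suffices h : ∀ k, ∀ z : Fin n → F, qStd n F z = 1 → (supp z).card ≤ k → Wv M z from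
    fun z hz => h _ z hz le_rfl
  intro k
  induction k with
  | zero =>
    intro z hz h0
    exact wv_of_card_le_three hcard hp hp5 h2 hn M hM hT hz (by omega)
  | succ k ih =>
    intro z hz hk
    rcases (show (supp z).card ≤ 3 ∨ (supp z).card = 4 ∨ 5 ≤ (supp z).card by omega) with h | h | h
    · exact wv_of_card_le_three hcard hp hp5 h2 hn M hM hT hz h
    · exact wv_of_four hcard hp hp5 h2 hn M hM hT hz h
    have h3 : (3 : F) ≠ 0 := by
      exact_mod_cast num_ne hcard hp hp5 h2 hn M hM (k := 3) (by omega) (by omega)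
    -- four coordinates: the sum over the last three is non-zero, so is the sum over two of them
    obtain ⟨a, b, c, d, hab, hac, had, hbc, hbd, hcd, ha, hb, hc, hd, hA, hR⟩ :
        ∃ a b c d : Fin n, a ≠ b ∧ a ≠ c ∧ a ≠ d ∧ b ≠ c ∧ b ≠ d ∧ c ≠ d ∧ z a ≠ 0 ∧ z b ≠ 0 ∧
          z c ≠ 0 ∧ z d ≠ 0 ∧ z b * z b + z c * z c + z d * z d ≠ 0 ∧
          z b * z b + z c * z c ≠ 0 := by
      obtain ⟨S, hS, hS4⟩ := Finset.exists_subset_card_eq (show 4 ≤ (supp z).card by omega)
      obtain ⟨a, b, c, d, hab, hac, had, hbc, hbd, hcd, hs⟩ := Finset.card_eq_four.mp hS4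
      have hm : ∀ k ∈ ({a, b, c, d} : Finset (Fin n)), z k ≠ 0 := fun k hk =>
        mem_supp.mp (hS (hs ▸ hk))
      have ha := hm a (by simp); have hb := hm b (by simp)
      have hc := hm c (by simp); have hd := hm d (by simp)
      -- among three non-zero squares, two of the three pair sums are non-zero
      have pick : ∀ a b c d : Fin n, a ≠ b → a ≠ c → a ≠ d → b ≠ c → b ≠ d → c ≠ d → z a ≠ 0 →
          z b ≠ 0 → z c ≠ 0 → z d ≠ 0 → z b * z b + z c * z c + z d * z d ≠ 0 →
          ∃ a b c d : Fin n, a ≠ b ∧ a ≠ c ∧ a ≠ d ∧ b ≠ c ∧ b ≠ d ∧ c ≠ d ∧ z a ≠ 0 ∧ z b ≠ 0 ∧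
            z c ≠ 0 ∧ z d ≠ 0 ∧ z b * z b + z c * z c + z d * z d ≠ 0 ∧
            z b * z b + z c * z c ≠ 0 := by
        intro a b c d hab hac had hbc hbd hcd ha hb hc hd hA
        by_cases h1 : z b * z b + z c * z c = 0
        · by_cases h1' : z b * z b + z d * z d = 0
          · refine ⟨a, c, d, b, hac, had, hab, hcd, hbc.symm, hbd.symm, ha, hc, hd, hb,
              fun e => hA (by linear_combination e), fun e => hb (mul_self_eq_zero.mp
                (mul_left_cancel₀ h2 (by linear_combination h1 + h1' - e)))⟩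
          · exact ⟨a, b, d, c, hab, had, hac, hbd, hbc, hcd.symm, ha, hb, hd, hc,
              fun e => hA (by linear_combination e), h1'⟩
        · exact ⟨a, b, c, d, hab, hac, had, hbc, hbd, hcd, ha, hb, hc, hd, hA, h1⟩
      by_cases q1 : z b * z b + z c * z c + z d * z d = 0
      · by_cases q2 : z a * z a + z c * z c + z d * z d = 0
        · by_cases q3 : z a * z a + z b * z b + z d * z d = 0
          · refine pick d a b c had.symm hbd.symm hcd.symm hab hac hbc hd ha hb hc fun q4 => ?_
            exact ha (mul_self_eq_zero.mp (mul_left_cancel₀ h3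
              (by linear_combination q2 + q3 + q4 - 2 * q1)))
          · exact pick c a b d hac.symm hbc.symm hcd hab had hbd hc ha hb hd q3
        · exact pick b a c d hab.symm hbc hbd hac had hcd hb ha hc hd q2
      · exact pick a b c d hab hac had hbc hbd hcd ha hb hc hd q1
    set A := z b * z b + z c * z c + z d * z d with hAdef
    set R := z b * z b + z c * z c with hRdef
    set β : F := z a * z a + A - (2 : F)⁻¹ with hβ
    obtain ⟨u₁, u₂, hu⟩ := exists_two_squares h2 hR (mul_ne_zero hR hA)
      (z a * z a + A - β * β / A)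
    -- the reflecting vector
    set wb := β / A * z b + u₁ * z c + u₂ * (z d * z b) with hwb
    set wc := β / A * z c - u₁ * z b + u₂ * (z d * z c) with hwc
    set wd := β / A * z d - u₂ * R with hwd
    set x : Fin n → F :=
      z a • ev a + (z b - wb) • ev b + (z c - wc) • ev c + (z d - wd) • ev d with hx
    have xa : x a = z a := by simp [hx, ev_self, ev_ne hab, ev_ne hac, ev_ne had]
    have xb : x b = z b - wb := by simp [hx, ev_self, ev_ne hab.symm, ev_ne hbc, ev_ne hbd]
    have xc : x c = z c - wc := by simp [hx, ev_self, ev_ne hac.symm, ev_ne hbc.symm, ev_ne hcd]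
    have xd : x d = z d - wd := by
      simp [hx, ev_self, ev_ne had.symm, ev_ne hbd.symm, ev_ne hcd.symm]
    have xo : ∀ k, k ∉ ({a, b, c, d} : Finset (Fin n)) → x k = 0 := fun k hk => by
      simp only [Finset.mem_insert, Finset.mem_singleton, not_or] at hk
      simp [hx, ev_ne hk.1, ev_ne hk.2.1, ev_ne hk.2.2.1, ev_ne hk.2.2.2]
    have hlin : wb * z b + wc * z c + wd * z d = β := by
      have e : β / A * A = β := div_mul_cancel₀ β hA
      rw [hwb, hwc, hwd]
      linear_combination e
    have hquad : wb * wb + wc * wc + wd * wd = z a * z a + A := by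
      have e : β / A * (β / A) * A = β * β / A := by
        field_simp
      rw [hwb, hwc, hwd]
      linear_combination e + hu
    have h2i : (2 : F) * (2 : F)⁻¹ = 1 := mul_inv_cancel₀ h2
    have hQx : qStd n F x = 1 := by
      rw [q_sum x xo, Finset.sum_insert (by simp [hab, hac, had]),
        Finset.sum_insert (by simp [hbc, hbd]), Finset.sum_pair hcd, xa, xb, xc, xd]
      linear_combination hquad - 2 * hlin - 2 * hβ + h2i
    have hdot : 2 * (z ⬝ᵥ x) = 1 := by
      rw [dotProduct, ← Finset.sum_subset (Finset.subset_univ ({a, b, c, d} : Finset (Fin n)))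
        (fun k _ hk => by rw [xo k hk, mul_zero]), Finset.sum_insert (by simp [hab, hac, had]),
        Finset.sum_insert (by simp [hbc, hbd]), Finset.sum_pair hcd, xa, xb, xc, xd]
      linear_combination -2 * hlin - 2 * hβ + h2i
    set y := (refl (qStd n F) x).1 z with hy
    have hyk : ∀ l, y l = z l - x l := fun l => by
      rw [hy, refl_unit hQx, hdot, one_smul, Pi.sub_apply]
    have hin : ({a, b, c, d} : Finset (Fin n)) ⊆ supp z := fun l hl => by
      simp only [Finset.mem_insert, Finset.mem_singleton] at hl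
      rcases hl with rfl | rfl | rfl | rfl <;> exact mem_supp.mpr (by assumption)
    have hsub : supp y ⊆ (supp z).erase a := fun l hl => by
      rw [mem_supp, hyk] at hl
      have hla : l ≠ a := fun e => hl (by rw [e, xa, sub_self])
      refine Finset.mem_erase.mpr ⟨hla, ?_⟩
      by_contra hlz
      exact hl (by rw [notMem_supp.mp hlz, xo l fun h => hlz (hin h), sub_zero])
    have hyc : (supp y).card ≤ k := by
      have := Finset.card_le_card hsub
      rw [Finset.card_erase_of_mem (mem_supp.mpr ha)] at this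
      omega
    have hWy := ih y (by rw [hy, orth_qmap]; exact hz) hyc
    have hWx : Wv M x := by
      have hx4 : (supp x).card ≤ 4 := (Finset.card_le_card (t := {a, b, c, d}) fun l hl => by
        by_contra h; exact mem_supp.mp hl (xo l h)).trans Finset.card_le_four
      rcases (show (supp x).card ≤ 3 ∨ (supp x).card = 4 by omega) with h | h
      · exact wv_of_card_le_three hcard hp hp5 h2 hn M hM hT hQx h
      · exact wv_of_four hcard hp hp5 h2 hn M hM hT hQx h
    have := wv_refl h2 hn M hM hWx hWy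
    rwa [hy, ← orth_mul_apply, refl_sq, orth_one_apply] at this

end Frame
end H45
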