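import Mathlib
import Cfsg.Agent.H43.Eichler
import Cfsg.Agent.H45.NondegGeom

/-!
# Small orthogonal decompositions have larger stabilisers
-/

set_option autoImplicit false
set_option linter.unusedSectionVars false

namespace H45

open H43

variable {F : Type*} [Field F] [Finite F] {V : Type*} [AddCommGroup V] [Module F V]
  [FiniteDimensional F V] {Q : QuadraticForm F V}

/-- The isometries mapping every member of a family into some member. -/
def MapsMembers {t : ℕ} (D : Fin t → Submodule F V) (g : orthGroup Q) : Prop :=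
  ∀ i, ∃ j, ∀ x ∈ D i, g.1 x ∈ D j

/-- The isometries preserving a set. -/
def setStab (Q : QuadraticForm F V) (S : Set V) : Subgroup (orthGroup Q) where
  carrier := {g | ∀ x, x ∈ S ↔ g.1 x ∈ S}
  mul_mem' {a b} ha hb := fun x => by rw [orth_mul_apply]; exact (hb x).trans (ha _)
  one_mem' := fun x => by rw [orth_one_apply]
  inv_mem' {a} ha := fun x => by
    conv_rhs => rw [ha ((a⁻¹).1 x), orth_apply_inv_self]

lemma mem_setStab {S : Set V} {g : orthGroup Q} (h : ∀ x ∈ S, g.1 x ∈ S) : g ∈ setStab Q S := by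
  haveI : Finite V := Module.finite_of_finite F
  have he : g.1 '' S = S := Set.eq_of_subset_of_ncard_le (by rintro _ ⟨x, hx, rfl⟩; exact h x hx)
    (le_of_eq (Set.ncard_image_of_injective S g.1.injective).symm) (Set.toFinite S)
  intro x
  refine ⟨h x, fun hx => ?_⟩
  rw [← he] at hx
  obtain ⟨y, hy, hyx⟩ := hx
  rwa [← g.1.injective hyx]

/-- The conclusion: something strictly between the stabiliser of `D` and the commutator subgroup. -/
def HasBetween (Q : QuadraticForm F V) {t : ℕ} (D : Fin t → Submodule F V) : Prop :=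
  ∃ K : Subgroup (orthGroup Q), K ≤ commutator (orthGroup Q) ∧
    (∀ g ∈ commutator (orthGroup Q), MapsMembers D g → g ∈ K) ∧
    (∃ g ∈ K, ¬ MapsMembers D g) ∧ ∃ g ∈ commutator (orthGroup Q), g ∉ K

variable (hQ : (polB Q).Nondegenerate) (hn : 9 ≤ Module.finrank F V) {t : ℕ}
  {D : Fin t → Submodule F V} (hperp : ∀ i j, i ≠ j → ∀ x ∈ D i, ∀ y ∈ D j, polB Q x y = 0)

include hQ hn

omit hn in
lemma qmap_sum_one {a : Fin t → V} (s : Finset (Fin t))
    (ha : ∀ i ∈ s, Q (a i) = 1) (ho : ∀ i ∈ s, ∀ j ∈ s, i ≠ j → polB Q (a i) (a j) = 0) :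
    Q (∑ i ∈ s, a i) = (s.card : F) := by
  induction s using Finset.induction_on with
  | empty => simp
  | insert i s his ih =>
    rw [Finset.sum_insert his, qmap_add, ha i (Finset.mem_insert_self i s),
      ih (fun j hj => ha j (Finset.mem_insert_of_mem hj))
        (fun j hj l hl h => ho j (Finset.mem_insert_of_mem hj) l (Finset.mem_insert_of_mem hl) h),
      Finset.card_insert_of_notMem his, map_sum]
    rw [Finset.sum_eq_zero fun j hj => ho i (Finset.mem_insert_self i s) j
      (Finset.mem_insert_of_mem hj) (fun e => his (e ▸ hj))]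
    push_cast
    ring

include hperp

omit hQ hn in
/-- A vector with non-zero pairings against two members lies in no member. -/
lemma not_mem_member {y p q : V} {i l : Fin t} (hil : i ≠ l) (hp : p ∈ D i) (hq : q ∈ D l)
    (hpy : polB Q y p ≠ 0) (hqy : polB Q y q ≠ 0) (j : Fin t) : y ∉ D j := by
  intro hy
  by_cases hj : j = i
  · exact hqy (hperp j l (hj ▸ hil) y hy q hq)
  · exact hpy (hperp j i hj y hy p hp)

/-- Some vector of value `c`, outside the members, lies off any set of vectors of members. -/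
lemma exists_value_outside {c : F} (hc : c ≠ 0) {i : Fin t} (hDi : Module.finrank F (D i) + 3 ≤
    Module.finrank F V) (hnd : ∀ x ∈ D i, (∀ y ∈ D i, polB Q x y = 0) → x = 0) {a : V}
    (ha : a ∈ D i) (hQa : Q a = c) :
    ∃ y, Q y = c ∧ ∀ j, y ∉ D j := by
  have h1 := finrank_orth_add hQ (D i)
  obtain ⟨z, hz, hz0, hzQ⟩ := exists_singular_in (Q := Q) ((polB Q).orthogonal (D i)) (by omega)
  refine ⟨a + z, ?_, fun j hy => ?_⟩
  · rw [qmap_add, hQa, hzQ, hz a ha]; ring
  · by_cases hj : j = i
    · subst hj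
      have hzD : z ∈ D j := by simpa using sub_mem hy ha
      exact hz0 (hnd z hzD fun y hy => by rw [polB_comm]; exact hz y hy)
    · have h0 : a = 0 := hnd a ha fun w hw => by
        have h2 := hperp j i hj _ hy w hw
        rwa [map_add, LinearMap.add_apply, polB_comm z w, hz w hw, add_zero] at h2
      exact hc (by rw [← hQa, h0, QuadraticMap.map_zero])

/-- Members all of whose vectors of value `c` form orthogonal frames. -/
theorem frame_between (h2 : (2 : F) ≠ 0) (ht : 4 ≤ t) {c : F} (hc : c ≠ 0)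
    (hnd : ∀ i, ∀ x ∈ D i, (∀ y ∈ D i, polB Q x y = 0) → x = 0)
    (hdim : ∀ i, Module.finrank F (D i) + 3 ≤ Module.finrank F V)
    (hex : ∀ i, ∃ a ∈ D i, ∃ a' ∈ D i, Q a = c ∧ Q a' = c ∧ polB Q a a' = 0)
    (hP : ∀ i, ∀ x ∈ D i, ∀ y ∈ D i, Q x = c → Q y = c → y = x ∨ y = -x ∨ polB Q x y = 0) :
    HasBetween Q D := by
  have hgen : ReflGenerates F V := Or.inr (by omega)
  choose a ha a' ha' hQa hQa' haa using hex
  set X : Set V := {x | ∃ i, x ∈ D i ∧ Q x = c} with hX
  have hswap : ∀ i j, i ≠ j → Q (a i - a j) = 2 * c ∧ refl Q (a i - a j) ∈ setStab Q X := by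
    intro i j hij
    have hfij : polB Q (a i) (a j) = 0 := hperp i j hij _ (ha i) _ (ha j)
    have hu : Q (a i - a j) = 2 * c := by rw [qmap_sub, hQa, hQa, hfij]; ring
    refine ⟨hu, mem_setStab ?_⟩
    rintro x ⟨l, hxl, hxc⟩
    by_cases hfix : polB Q x (a i - a j) = 0
    · rw [refl_fix hfix]; exact ⟨l, hxl, hxc⟩
    have h0 : (2 : F) * c ≠ 0 := mul_ne_zero h2 hc
    by_cases hli : l = i
    · subst hli
      rw [map_sub, hperp l j hij x hxl _ (ha j), sub_zero] at hfix
      rcases hP l (a l) (ha l) x hxl (hQa l) hxc with rfl | rfl | h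
      · refine ⟨j, ?_, by rw [orth_qmap]; exact hQa l⟩
        rw [refl_apply, hu, map_sub, polB_self, hQa, hfij, sub_zero, inv_mul_cancel₀ h0, one_smul,
          sub_sub_cancel]
        exact ha j
      · refine ⟨j, ?_, by rw [orth_qmap, qmap_neg]; exact hQa l⟩
        rw [map_neg, refl_apply, hu, map_sub, polB_self, hQa, hfij, sub_zero, inv_mul_cancel₀ h0,
          one_smul, sub_sub_cancel]
        exact neg_mem (ha j)
      · exact absurd (by rw [polB_comm]; exact h) hfix
    · have hlj : l = j := by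
        by_contra hlj
        exact hfix (by rw [map_sub, hperp l i hli x hxl _ (ha i), hperp l j hlj x hxl _ (ha j),
          sub_zero])
      subst hlj
      rw [map_sub, hperp l i hli x hxl _ (ha i), zero_sub, neg_eq_zero] at hfix
      have e : (refl Q (a i - a l)).1 (a l) = a i := by
        rw [refl_apply, hu, map_sub, polB_self, hQa, polB_comm (a l), hfij, zero_sub, mul_neg,
          inv_mul_cancel₀ h0, neg_one_smul]
        abel
      rcases hP l (a l) (ha l) x hxl (hQa l) hxc with rfl | rfl | h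
      · exact ⟨i, by rw [e]; exact ha i, by rw [e]; exact hQa i⟩
      · exact ⟨i, by rw [map_neg, e]; exact neg_mem (ha i),
          by rw [map_neg, e, qmap_neg]; exact hQa i⟩
      · exact absurd (by rw [polB_comm]; exact h) hfix
  refine ⟨setStab Q X ⊓ commutator (orthGroup Q), inf_le_right,
    fun g hg hgD => ⟨mem_setStab ?_, hg⟩, ?_, ?_⟩
  · rintro x ⟨i, hx, hxc⟩
    obtain ⟨j, hj⟩ := hgD i
    exact ⟨j, hj x hx, by rw [orth_qmap]; exact hxc⟩
  · let i0 : Fin t := ⟨0, by omega⟩
    let i1 : Fin t := ⟨1, by omega⟩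
    let i2 : Fin t := ⟨2, by omega⟩
    let i3 : Fin t := ⟨3, by omega⟩
    have d01 : i0 ≠ i1 := by simp [i0, i1]
    have d02 : i0 ≠ i2 := by simp [i0, i2]
    have d03 : i0 ≠ i3 := by simp [i0, i3]
    have d23 : i2 ≠ i3 := by simp [i2, i3]
    obtain ⟨hu, hus⟩ := hswap i0 i1 d01
    obtain ⟨hv, hvs⟩ := hswap i2 i3 d23
    have h0 : (2 : F) * c ≠ 0 := mul_ne_zero h2 hc
    refine ⟨refl Q (a i0 - a i1) * refl Q (a i2 - a i3), ⟨mul_mem hus hvs,
      refl_mul_refl_mem_commutator hQ hgen (by omega) (by rw [hu]; exact h0)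
        (by rw [hv]; exact h0) (by rw [hu, hv])⟩, fun h => ?_⟩
    obtain ⟨j, hj⟩ := h i0
    have h1 := hj (a i0 + a' i0) (add_mem (ha i0) (ha' i0))
    have e : (refl Q (a i0 - a i1) * refl Q (a i2 - a i3)).1 (a i0 + a' i0) = a i1 + a' i0 := by
      rw [orth_mul_apply, refl_fix (x := a i0 + a' i0) (v := a i2 - a i3) (by
          rw [map_sub, hperp i0 i2 d02 _ (add_mem (ha i0) (ha' i0)) _ (ha i2),
            hperp i0 i3 d03 _ (add_mem (ha i0) (ha' i0)) _ (ha i3), sub_zero]),
        map_add, refl_fix (x := a' i0) (v := a i0 - a i1) (by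
          rw [map_sub, polB_comm, haa, hperp i0 i1 d01 _ (ha' i0) _ (ha i1), sub_zero]),
        refl_apply, hu, map_sub, polB_self, hQa, hperp i0 i1 d01 _ (ha i0) _ (ha i1), sub_zero,
        inv_mul_cancel₀ h0, one_smul, sub_sub_cancel]
    rw [e] at h1
    refine not_mem_member hperp d01.symm (ha i1) (ha' i0) ?_ ?_ j h1
    · rw [map_add, LinearMap.add_apply, polB_self, hQa,
        hperp i0 i1 d01 _ (ha' i0) _ (ha i1), add_zero]
      exact h0
    · rw [map_add, LinearMap.add_apply, hperp i1 i0 d01.symm _ (ha i1) _ (ha' i0), polB_self, hQa',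
        zero_add]
      exact h0
  · let i0 : Fin t := ⟨0, by omega⟩
    obtain ⟨y, hy, hout⟩ :=
      exists_value_outside hQ hn hperp hc (hdim i0) (hnd i0) (ha i0) (hQa i0)
    obtain ⟨g, hg, hgy⟩ := eichler_transitive hQ (by omega) (u := a i0) (v := y)
      (by rw [hQa]; exact hc) (by rw [hy, hQa])
    refine ⟨g, commutator_eq_eichlerSub hQ (by omega) ▸ hg, fun h => ?_⟩
    obtain ⟨j, hj, -⟩ := (h.1 (a i0)).mp ⟨i0, ha i0, hQa i0⟩
    rw [hgy] at hj
    exact hout j hj

/-- Hyperbolic planes over very small fields. -/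
theorem hyp_between {p : ℕ} (hp0 : (p : F) = 0) (hp : 1 ≤ p) (ht : 2 * p ≤ t)
    (φ : F →+ F) (hφ : ∀ x y : F, x * y = 1 → y = φ x)
    (hint : ∀ x y : F, x * y = 1 → ∃ k : ℕ, x + y = k)
    (e e' : Fin t → V) (he : ∀ i, e i ∈ D i) (he' : ∀ i, e' i ∈ D i)
    (hpair : ∀ i, HypPair Q (e i) (e' i))
    (hspan : ∀ i, ∀ x ∈ D i, ∃ α β : F, x = α • e i + β • e' i) :
    HasBetween Q D := by
  have hgen : ReflGenerates F V := Or.inr (by omega)
  set a : Fin t → V := fun i => e i + e' i with hadef
  have haD : ∀ i, a i ∈ D i := fun i => add_mem (he i) (he' i)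
  have hQa : ∀ i, Q (a i) = 1 := fun i => by
    rw [hadef, qmap_add, (hpair i).left, (hpair i).right, (hpair i).pair]; ring
  have hval : ∀ i, ∀ x ∈ D i, Q x = 1 →
      polB Q x (e i) = φ (polB Q x (e' i)) ∧ ∃ k : ℕ, polB Q x (a i) = k := by
    intro i x hx hQx
    obtain ⟨α, β, rfl⟩ := hspan i x hx
    have h := hpair i
    rw [qmap_add, qmap_smul, qmap_smul, h.left, h.right, map_smul, map_smul, LinearMap.smul_apply,
      h.pair] at hQx
    simp only [mul_zero, zero_add, smul_eq_mul, mul_one] at hQx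
    have hab : α * β = 1 := by rw [mul_comm]; exact hQx
    have e1 : polB Q (α • e i + β • e' i) (e i) = β := by
      simp [polB_self, h.left, h.symm.pair]
    have e2 : polB Q (α • e i + β • e' i) (e' i) = α := by
      simp [polB_self, h.right, h.pair]
    refine ⟨by rw [e1, e2]; exact hφ α β hab, ?_⟩
    obtain ⟨k, hk⟩ := hint α β hab
    exact ⟨k, by rw [hadef, map_add, e1, e2, add_comm, hk]⟩
  set X : Set V := {x | ∃ i, x ∈ D i ∧ Q x = 1} with hX
  set L := AddSubgroup.closure X with hL
  have hmapL : ∀ g : orthGroup Q, (∀ x ∈ X, g.1 x ∈ L) → g ∈ setStab Q (L : Set V) := by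
    intro g h
    refine mem_setStab fun x hx => ?_
    exact ((AddSubgroup.closure_le (L.comap g.1.toAddEquiv.toAddMonoidHom)).mpr h) hx
  refine ⟨setStab Q (L : Set V) ⊓ commutator (orthGroup Q), inf_le_right,
    fun g hg hgD => ⟨hmapL g ?_, hg⟩, ?_, ?_⟩
  · rintro x ⟨i, hx, hxc⟩
    obtain ⟨j, hj⟩ := hgD i
    exact AddSubgroup.subset_closure ⟨j, hj x hx, by rw [orth_qmap]; exact hxc⟩
  · let A : Finset (Fin t) := Finset.univ.filter fun i => i.1 < p
    let B : Finset (Fin t) := Finset.univ.filter fun i => p ≤ i.1 ∧ i.1 < 2 * p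
    have hcA : A.card = p := by
      rw [← Finset.card_map Fin.valEmbedding,
        show A.map Fin.valEmbedding = Finset.range p from ?_, Finset.card_range]
      ext j
      simp only [A, Finset.mem_map, Finset.mem_filter, Finset.mem_univ, true_and, Finset.mem_range,
        Fin.valEmbedding_apply]
      exact ⟨by rintro ⟨i, hi, rfl⟩; exact hi, fun h => ⟨⟨j, by omega⟩, h, rfl⟩⟩
    have hcB : B.card = p := by
      rw [← Finset.card_map Fin.valEmbedding,
        show B.map Fin.valEmbedding = Finset.Ico p (2 * p) from ?_, Nat.card_Ico]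
      · omega
      ext j
      simp only [B, Finset.mem_map, Finset.mem_filter, Finset.mem_univ, true_and, Finset.mem_Ico,
        Fin.valEmbedding_apply]
      exact ⟨by rintro ⟨i, hi, rfl⟩; exact hi, fun h => ⟨⟨j, by omega⟩, h, rfl⟩⟩
    set u := ∑ i ∈ A, a i with hu
    set w := ∑ i ∈ B, a i with hw
    have ho : ∀ s : Finset (Fin t), ∀ i ∈ s, ∀ j ∈ s, i ≠ j → polB Q (a i) (a j) = 0 :=
      fun s i _ j _ h => hperp i j h _ (haD i) _ (haD j)
    have hQu : Q u = 0 := by
      rw [hu, qmap_sum_one hQ A (fun i _ => hQa i) (ho A), hcA, hp0]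
    have hQw : Q w = 0 := by
      rw [hw, qmap_sum_one hQ B (fun i _ => hQa i) (ho B), hcB, hp0]
    have hfs : ∀ (s : Finset (Fin t)) (i : Fin t) (x : V), x ∈ D i →
        polB Q x (∑ l ∈ s, a l) = if i ∈ s then polB Q x (a i) else 0 := by
      intro s i x hx
      rw [map_sum, ← Finset.sum_ite_eq s i (fun l => polB Q x (a l))]
      refine Finset.sum_congr rfl fun l _ => ?_
      split_ifs with h
      · rfl
      · exact hperp i l h x hx _ (haD l)
    have huw : polB Q u w = 0 := by
      rw [hu, map_sum (polB Q), LinearMap.sum_apply]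
      refine Finset.sum_eq_zero fun i hi => ?_
      rw [hw, hfs B i (a i) (haD i), if_neg]
      simp only [A, B, Finset.mem_filter, Finset.mem_univ, true_and] at hi ⊢
      omega
    have hLu : u ∈ L := sum_mem fun i _ => AddSubgroup.subset_closure ⟨i, haD i, hQa i⟩
    have hLw : w ∈ L := sum_mem fun i _ => AddSubgroup.subset_closure ⟨i, haD i, hQa i⟩
    refine ⟨eichler Q u w, ⟨hmapL _ ?_, ?_⟩, fun h => ?_⟩
    · rintro x ⟨i, hx, hxc⟩
      obtain ⟨-, k, hk⟩ := hval i x hx hxc
      rw [eichler_apply hQu huw, hQw, zero_mul, zero_smul, sub_zero]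
      have hmem : ∀ (s : Finset (Fin t)) (z : V), z ∈ L →
          polB Q x (∑ l ∈ s, a l) • z ∈ L := by
        intro s z hz
        rw [hfs s i x hx]
        split_ifs
        · rw [hk, Nat.cast_smul_eq_nsmul F]; exact L.nsmul_mem hz k
        · rw [zero_smul]; exact L.zero_mem
      exact L.sub_mem (L.add_mem (AddSubgroup.subset_closure ⟨i, hx, hxc⟩) (hmem A w hLw))
        (hmem B u hLu)
    · change eichler Q u w ∈ commutator (orthGroup Q)
      rw [commutator_eq_eichlerSub hQ (by omega)]
      exact eichler_mem hQu huw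
    · let i0 : Fin t := ⟨0, by omega⟩
      let ip : Fin t := ⟨p, by omega⟩
      have h0p : i0 ≠ ip := by simp [i0, ip]; omega
      obtain ⟨j, hj⟩ := h i0
      have h1 := hj (e i0) (he i0)
      have hea : polB Q (e i0) (a i0) = 1 := by
        rw [hadef, map_add, polB_self, (hpair i0).left, (hpair i0).pair]; ring
      rw [eichler_apply hQu huw, hu, hw, hfs A i0 _ (he i0), hfs B i0 _ (he i0), if_pos, if_neg,
        hea, ← hw, hQw, one_smul, zero_smul, zero_mul, zero_smul, sub_zero, sub_zero] at h1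
      rotate_left
      · simp [B, i0] <;> omega
      · simp [A, i0] <;> omega
      refine not_mem_member hperp h0p (he' i0) (he ip) ?_ ?_ j h1
      · rw [map_add, LinearMap.add_apply, (hpair i0).pair, polB_comm, hw, hfs B i0 _ (he' i0),
          if_neg, add_zero]
        · exact one_ne_zero
        · simp [B, i0] <;> omega
      · rw [map_add, LinearMap.add_apply, hperp i0 ip h0p _ (he i0) _ (he ip), polB_comm, hw,
          hfs B ip _ (he ip), if_pos, zero_add]
        · rw [hadef, map_add, polB_self, (hpair ip).left, (hpair ip).pair, mul_zero, zero_add]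
          exact one_ne_zero
        · simp [B, ip] <;> omega
  · let i0 : Fin t := ⟨0, by omega⟩
    let i1 : Fin t := ⟨1, by omega⟩
    have d01 : i0 ≠ i1 := by simp [i0, i1]
    have hy : Q (a i0 + e i1) = 1 := by
      rw [qmap_add, hQa, (hpair i1).left, hperp i0 i1 d01 _ (haD i0) _ (he i1)]; ring
    obtain ⟨g, hg, hgy⟩ := eichler_transitive hQ (by omega) (u := a i0) (v := a i0 + e i1)
      (by rw [hQa]; exact one_ne_zero) (by rw [hy, hQa])
    refine ⟨g, commutator_eq_eichlerSub hQ (by omega) ▸ hg, fun h => ?_⟩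
    have hmem := (h.1 (a i0)).mp (AddSubgroup.subset_closure ⟨i0, haD i0, hQa i0⟩)
    rw [hgy] at hmem
    have hle : L ≤ AddMonoidHom.eqLocus ((polB Q).flip (e i1)).toAddMonoidHom
        (φ.comp ((polB Q).flip (e' i1)).toAddMonoidHom) := by
      rw [hL, AddSubgroup.closure_le]
      rintro x ⟨i, hx, hxc⟩
      change polB Q x (e i1) = φ (polB Q x (e' i1))
      by_cases hi : i = i1
      · subst hi; exact (hval i1 x hx hxc).1
      · rw [hperp i i1 hi x hx _ (he i1), hperp i i1 hi x hx _ (he' i1), map_zero]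
    have h1 : polB Q (a i0 + e i1) (e i1) = φ (polB Q (a i0 + e i1) (e' i1)) := hle hmem
    rw [map_add, LinearMap.add_apply, LinearMap.add_apply, hperp i0 i1 d01 _ (haD i0) _ (he i1),
      hperp i0 i1 d01 _ (haD i0) _ (he' i1), polB_self, (hpair i1).left, (hpair i1).pair,
      mul_zero, add_zero, zero_add] at h1
    exact one_ne_zero ((hφ 1 1 (one_mul 1)).trans h1.symm)

/-- Four-dimensional hyperbolic members over the field with two elements. -/
theorem quad_between (h2 : (2 : F) = 0) (ht : 4 ≤ t)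
    (hnd : ∀ i, ∀ x ∈ D i, (∀ y ∈ D i, polB Q x y = 0) → x = 0)
    (hdim : ∀ i, Module.finrank F (D i) + 3 ≤ Module.finrank F V)
    (hex : ∀ i, ∃ a ∈ D i, ∃ a' ∈ D i, ∃ z ∈ D i, Q a = 1 ∧ Q a' = 1 ∧ Q z = 1 ∧
      polB Q a a' = 1 ∧ polB Q z a = 0 ∧ polB Q z a' = 0 ∧
      ∀ x ∈ D i, Q x = 1 → x = a ∨ x = a' ∨ x = a + a' ∨ (polB Q x a = 0 ∧ polB Q x a' = 0)) :
    HasBetween Q D := by
  have hgen : ReflGenerates F V := Or.inr (by omega)
  have hneg : ∀ x : V, -x = x := fun x => by
    rw [neg_eq_iff_add_eq_zero, ← two_smul F x, h2, zero_smul]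
  choose a ha a' ha' z hz hQa hQa' hQz haa hza hza' hP using hex
  set X : Set V := {x | ∃ i, x ∈ D i ∧ Q x = 1} with hX
  refine ⟨setStab Q X ⊓ commutator (orthGroup Q), inf_le_right,
    fun g hg hgD => ⟨mem_setStab ?_, hg⟩, ?_, ?_⟩
  · rintro x ⟨i, hx, hxc⟩
    obtain ⟨j, hj⟩ := hgD i
    exact ⟨j, hj x hx, by rw [orth_qmap]; exact hxc⟩
  · let i0 : Fin t := ⟨0, by omega⟩
    let i1 : Fin t := ⟨1, by omega⟩
    have d01 : i0 ≠ i1 := by simp [i0, i1]
    have hs : ∀ i, polB Q (a i) (a i) = 0 ∧ polB Q (a' i) (a' i) = 0 ∧ polB Q (a' i) (a i) = 1 :=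
      fun i => ⟨by rw [polB_self, h2, zero_mul], by rw [polB_self, h2, zero_mul],
        by rw [polB_comm, haa]⟩
    set u := a i0 + a i1 with hu
    set w := a' i0 + a' i1 with hw
    have hQu : Q u = 0 := by
      rw [hu, qmap_add, hQa, hQa, hperp i0 i1 d01 _ (ha i0) _ (ha i1), add_zero]
      linear_combination h2
    have hQw : Q w = 0 := by
      rw [hw, qmap_add, hQa', hQa', hperp i0 i1 d01 _ (ha' i0) _ (ha' i1), add_zero]
      linear_combination h2
    have huw : polB Q u w = 0 := by
      rw [hu, hw, map_add (polB Q (a i0 + a i1)), map_add, LinearMap.add_apply, LinearMap.add_apply,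
        haa, haa,
        hperp i0 i1 d01 _ (ha i0) _ (ha' i1), hperp i1 i0 d01.symm _ (ha i1) _ (ha' i0)]
      linear_combination h2
    have happ : ∀ x, (eichler Q u w).1 x = x + polB Q x u • w + polB Q x w • u := fun x => by
      rw [eichler_apply hQu huw, hQw, zero_mul, zero_smul, sub_zero, sub_eq_add_neg, hneg]
    refine ⟨eichler Q u w, ⟨mem_setStab ?_, ?_⟩, fun h => ?_⟩
    · rintro x ⟨i, hx, hxc⟩
      refine (?_ : ∃ j, _) |>.elim fun j hj => ⟨j, hj, by rw [orth_qmap]; exact hxc⟩
      -- one swapped member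
      have main : ∀ j l, j ≠ l → x ∈ D j → polB Q x u = polB Q x (a j) →
          polB Q x w = polB Q x (a' j) → u = a j + a l → w = a' j + a' l →
          ∃ m, (eichler Q u w).1 x ∈ D m := by
        intro j l hjl hxj hxu hxw eu ew
        rw [happ, hxu, hxw, eu, ew]
        rcases hP j x hxj hxc with rfl | rfl | rfl | ⟨h1, h2'⟩
        · refine ⟨l, ?_⟩
          rw [(hs j).1, haa, zero_smul, one_smul, add_zero, ← add_assoc, ← two_smul F (a j), h2,
            zero_smul, zero_add]
          exact ha l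
        · refine ⟨l, ?_⟩
          rw [(hs j).2.1, (hs j).2.2, zero_smul, one_smul, add_zero, ← add_assoc,
            ← two_smul F (a' j), h2, zero_smul, zero_add]
          exact ha' l
        · refine ⟨l, ?_⟩
          rw [map_add, LinearMap.add_apply, LinearMap.add_apply, (hs j).1, (hs j).2.1, (hs j).2.2,
            haa, zero_add, add_zero, one_smul, one_smul]
          convert add_mem (ha l) (ha' l) using 1
          rw [show a j + a' j + (a' j + a' l) + (a j + a l) =
            ((a j + a j) + (a' j + a' j)) + (a l + a' l) by abel, ← two_smul F (a j),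
            ← two_smul F (a' j), h2, zero_smul, zero_smul, zero_add, zero_add]
        · refine ⟨j, ?_⟩
          rw [h1, h2', zero_smul, zero_smul, add_zero, add_zero]
          exact hxj
      by_cases hi0 : i = i0
      · subst hi0
        exact main i0 i1 d01 hx
          (by rw [hu, map_add, hperp i0 i1 d01 x hx _ (ha i1), add_zero])
          (by rw [hw, map_add, hperp i0 i1 d01 x hx _ (ha' i1), add_zero]) rfl rfl
      by_cases hi1 : i = i1
      · subst hi1
        exact main i1 i0 d01.symm hx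
          (by rw [hu, map_add, hperp i1 i0 d01.symm x hx _ (ha i0), zero_add])
          (by rw [hw, map_add, hperp i1 i0 d01.symm x hx _ (ha' i0), zero_add])
          (add_comm _ _) (add_comm _ _)
      · refine ⟨i, ?_⟩
        rw [happ, hu, hw, map_add, map_add, hperp i i0 hi0 x hx _ (ha i0),
          hperp i i0 hi0 x hx _ (ha' i0), hperp i i1 hi1 x hx _ (ha i1),
          hperp i i1 hi1 x hx _ (ha' i1)]
        simpa using hx
    · change eichler Q u w ∈ commutator (orthGroup Q)
      rw [commutator_eq_eichlerSub hQ (by omega)]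
      exact eichler_mem hQu huw
    · obtain ⟨j, hj⟩ := h i0
      have h1 := hj (z i0 + a i0) (add_mem (hz i0) (ha i0))
      have e : (eichler Q u w).1 (z i0 + a i0) = z i0 + a i1 := by
        rw [happ, hu, hw]
        simp only [map_add, LinearMap.add_apply, hza, hza', haa, (hs i0).1,
          hperp i0 i1 d01 _ (hz i0) _ (ha i1), hperp i0 i1 d01 _ (hz i0) _ (ha' i1),
          hperp i0 i1 d01 _ (ha i0) _ (ha i1), hperp i0 i1 d01 _ (ha i0) _ (ha' i1),
          add_zero, zero_add, zero_smul, one_smul]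
        rw [show z i0 + a i0 + (a i0 + a i1) = (a i0 + a i0) + (z i0 + a i1) by abel,
          ← two_smul F (a i0), h2, zero_smul, zero_add]
      rw [e] at h1
      obtain ⟨y, hy, hzy⟩ : ∃ y ∈ D i0, polB Q (z i0) y ≠ 0 := by
        by_contra hcon
        push Not at hcon
        have h0 := hnd i0 (z i0) (hz i0) hcon
        exact one_ne_zero (by rw [← hQz i0, h0, QuadraticMap.map_zero])
      refine not_mem_member hperp d01.symm (ha' i1) hy ?_ ?_ j h1
      · rw [map_add, LinearMap.add_apply, hperp i0 i1 d01 _ (hz i0) _ (ha' i1), haa, zero_add]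
        exact one_ne_zero
      · rw [map_add, LinearMap.add_apply, hperp i1 i0 d01.symm _ (ha i1) _ hy, add_zero]
        exact hzy
  · let i0 : Fin t := ⟨0, by omega⟩
    obtain ⟨y, hy, hout⟩ :=
      exists_value_outside hQ hn hperp one_ne_zero (hdim i0) (hnd i0) (ha i0) (hQa i0)
    obtain ⟨g, hg, hgy⟩ := eichler_transitive hQ (by omega) (u := a i0) (v := y)
      (by rw [hQa]; exact one_ne_zero) (by rw [hy, hQa])
    refine ⟨g, commutator_eq_eichlerSub hQ (by omega) ▸ hg, fun h => ?_⟩
    obtain ⟨j, hj, -⟩ := (h.1 (a i0)).mp ⟨i0, ha i0, hQa i0⟩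
    rw [hgy] at hj
    exact hout j hj

end H45
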