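import Mathlib
import Cfsg.Agent.H45.NonMax

/-!
# Non-maximal members: matrix form
-/

set_option autoImplicit false
set_option linter.unusedSectionVars false

namespace H45

open H43

variable {F : Type*} [Field F] [Fintype F] {ι : Type} [Fintype ι] [DecidableEq ι]

lemma three_cases (h : Fintype.card F ≤ 3) (x : F) : x = 0 ∨ x = 1 ∨ x = -1 := by
  classical
  by_contra hx
  push Not at hx
  obtain ⟨h0, h1, h2⟩ := hx
  by_cases he : (-1 : F) = 1
  · -- two elements only beside `x`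
    have h4 := Finset.card_le_univ ({0, 1, x, x + 1} : Finset F)
    have e : ({0, 1, x, x + 1} : Finset F).card = 4 := by
      have a1 : x + 1 ≠ 0 := fun e => h2 (eq_neg_of_add_eq_zero_left e)
      have a2 : x + 1 ≠ 1 := fun e => h0 (by simpa using e)
      rw [Finset.card_insert_of_notMem, Finset.card_insert_of_notMem,
        Finset.card_insert_of_notMem, Finset.card_singleton]
      · simp
      · simp [Ne.symm h1, Ne.symm a2]
      · simp [Ne.symm h0, Ne.symm a1]
    omega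
  · have h4 := Finset.card_le_univ ({0, 1, -1, x} : Finset F)
    have e : ({0, 1, -1, x} : Finset F).card = 4 := by
      rw [Finset.card_insert_of_notMem, Finset.card_insert_of_notMem,
        Finset.card_insert_of_notMem, Finset.card_singleton]
      · simpa using Ne.symm h2
      · simp [Ne.symm he, Ne.symm h1]
      · simp [Ne.symm h0]
    omega

theorem plane_nonmax (hn : 9 ≤ Fintype.card ι) (hcard : Fintype.card F ≤ 3)
    (q : QuadraticForm F (ι → F)) (hq : (polB q).Nondegenerate) (W : Submodule F (ι → F))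
    (hdim : Module.finrank F W = 2) (hW : Cfsg.Geo.IsNondegenerateOn (QuadraticMap.polar q) W)
    (hWp : Cfsg.Geo.IsPlusTypeOn (⇑q) W) :
    ∃ K : Subgroup (Matrix.GeneralLinearGroup ι F),
      Cfsg.Geo.subspaceStabilizer W ⊓ Cfsg.Geo.omegaGL ⇑q < K ∧ K < Cfsg.Geo.omegaGL ⇑q := by
  obtain ⟨U, hUW, hU, hU2⟩ := hWp
  obtain ⟨c, hc, hc0⟩ := Submodule.exists_mem_ne_zero_of_ne_bot (p := U) (fun h => by
    rw [h, finrank_bot] at hU2; omega)
  have hn' : 9 ≤ Module.finrank F (ι → F) := by rw [Module.finrank_pi]; exact hn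
  obtain ⟨K, hKC, hTK, ⟨g, hg, hgW⟩, hlt⟩ :=
    plane_between hq hn' (three_cases hcard) (orth_inf_eq_bot_of_nondegenerateOn hW) hdim (hUW hc)
      hc0 (hU c hc) hn'
  exact exists_between_of_orth q _ K hKC
    (fun g hg h => hTK g hg ((toGL_mem_subspaceStabilizer_iff q g W).mp h))
    ⟨g, hg, fun h => hgW ((toGL_mem_subspaceStabilizer_iff q g W).mp h)⟩ hlt

theorem almostMax_nonmax (hn : 9 ≤ Fintype.card ι) (q : QuadraticForm F (ι → F))
    (hq : (polB q).Nondegenerate) (W : Submodule F (ι → F)) (hW : ∀ w ∈ W, q w = 0)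
    (hdim : 2 * (Module.finrank F W + 1) = Fintype.card ι) (U : Submodule F (ι → F))
    (hU : ∀ u ∈ U, q u = 0) (hU2 : 2 * Module.finrank F U = Module.finrank F (ι → F)) :
    ∃ K : Subgroup (Matrix.GeneralLinearGroup ι F),
      Cfsg.Geo.subspaceStabilizer W ⊓ Cfsg.Geo.omegaGL ⇑q < K ∧ K < Cfsg.Geo.omegaGL ⇑q := by
  obtain ⟨K, hKC, hTK, ⟨g, hg, hgW⟩, hlt⟩ :=
    almostMax_between hq (by rw [Module.finrank_pi]; exact hn) hW
      (by rw [Module.finrank_pi]; exact hdim) hU hU2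
  exact exists_between_of_orth q _ K hKC
    (fun g hg h => hTK g hg ((toGL_mem_subspaceStabilizer_iff q g W).mp h))
    ⟨g, hg, fun h => hgW ((toGL_mem_subspaceStabilizer_iff q g W).mp h)⟩ hlt

theorem pair_nonmax (hn : 9 ≤ Fintype.card ι) (q : QuadraticForm F (ι → F))
    (hq : (polB q).Nondegenerate) (k : ℕ) (hk : 2 * k = Fintype.card ι) (hko : Odd k)
    (D : Fin 2 → Submodule F (ι → F)) (hD : Cfsg.Geo.IsMDecomposition k D)
    (hts : ∀ i, Cfsg.Geo.IsTotallySingularQuad (⇑q) (D i)) :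
    ∃ K : Subgroup (Matrix.GeneralLinearGroup ι F),
      Cfsg.Geo.decompositionStabilizer D ⊓ Cfsg.Geo.omegaGL ⇑q < K ∧ K < Cfsg.Geo.omegaGL ⇑q := by
  have hinf : D 0 ⊓ D 1 = ⊥ :=
    disjoint_iff.mp (hD.indep.pairwiseDisjoint (show (0 : Fin 2) ≠ 1 by decide))
  obtain ⟨K, hKC, hTK, ⟨g, hg, hgW⟩, hlt⟩ :=
    pair_between hq (by rw [Module.finrank_pi]; exact hn) (W := D 0) (hts 0)
      (by rw [hD.finrank_eq, Module.finrank_pi]; exact hk) (by rw [hD.finrank_eq]; exact hko)
      (W' := D 1) (hts 1) (by rw [hD.finrank_eq, hD.finrank_eq]) hinf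
  have hcases : ∀ g : orthGroup q, toGL q g ∈ Cfsg.Geo.decompositionStabilizer D →
      ∀ i, (D i).map (g.1 : (ι → F) →ₗ[F] (ι → F)) = D 0 ∨
        (D i).map (g.1 : (ι → F) →ₗ[F] (ι → F)) = D 1 := by
    rintro g ⟨σ, hσ⟩ i
    have h := hσ i
    have e : Matrix.toLin' ((toGL q g : Matrix.GeneralLinearGroup ι F) : Matrix ι ι F) =
        (g.1 : (ι → F) →ₗ[F] (ι → F)) := LinearMap.ext fun x => toGL_apply q g x
    rw [e] at h
    rcases (by omega : σ i = 0 ∨ σ i = 1) with s | s <;> rw [s] at h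
    · exact Or.inl h
    · exact Or.inr h
  refine exists_between_of_orth q _ K hKC (fun g hg h => ?_) ⟨g, hg, fun h => ?_⟩ hlt
  · exact (hTK g hg).resolve_right (fun h' => h' (hcases g h 0))
  · exact hgW ((hcases g h 1).symm)

end H45
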