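import Mathlib
import Cfsg.Agent.H45.NondegGeom

/-!
# Very small quadratic spaces over very small fields
-/

set_option autoImplicit false
set_option linter.unusedSectionVars false

namespace H45

open H43

variable {F : Type*} [Field F] [Finite F] {V : Type*} [AddCommGroup V] [Module F V]
  [FiniteDimensional F V] {Q : QuadraticForm F V} {U : Submodule F V}

lemma span_of_pairing {k : ℕ} (b b' : Fin k → V) (hb : ∀ i, b i ∈ U)
    (hd : Module.finrank F U = k) (hdiag : ∀ i, polB Q (b i) (b' i) ≠ 0)
    (hoff : ∀ i j, i ≠ j → polB Q (b i) (b' j) = 0) {x : V} (hx : x ∈ U) :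
    x = ∑ i, (polB Q x (b' i) / polB Q (b i) (b' i)) • b i := by
  have hli : LinearIndependent F b := by
    rw [Fintype.linearIndependent_iff]
    intro g hg j
    have h := congrArg (fun z => polB Q z (b' j)) hg
    rw [map_sum, LinearMap.sum_apply, Finset.sum_eq_single j] at h
    · simpa [hdiag j] using h
    · intro i _ hij; simp [hoff i j hij]
    · simp
  have hle : Submodule.span F (Set.range b) ≤ U :=
    Submodule.span_le.mpr (by rintro _ ⟨i, rfl⟩; exact hb i)
  have heq := Submodule.eq_of_le_of_finrank_le hle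
    (by rw [finrank_span_eq_card hli, Fintype.card_fin, hd])
  rw [← heq, Submodule.mem_span_range_iff_exists_fun] at hx
  obtain ⟨g, rfl⟩ := hx
  refine Finset.sum_congr rfl fun j _ => ?_
  congr 1
  rw [map_sum, LinearMap.sum_apply, Finset.sum_eq_single j, map_smul, LinearMap.smul_apply,
    smul_eq_mul, mul_div_assoc, div_self (hdiag j), mul_one]
  · intro i _ hij; simp [hoff i j hij]
  · simp

omit [Finite F] in
lemma two_ne_zero_of_card [Fintype F] {q : ℕ} (hq : Fintype.card F = q) (hodd : Odd q) :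
    (2 : F) ≠ 0 := by
  refine Ring.two_ne_zero (fun h => ?_)
  have := FiniteField.even_card_iff_char_two.1 h
  rw [Nat.odd_iff] at hodd
  omega

variable (hQ : (polB Q).Nondegenerate) (hU : ∀ x ∈ U, (∀ y ∈ U, polB Q x y = 0) → x = 0)

include hU

lemma inf_orth_eq_bot : U ⊓ (polB Q).orthogonal U = ⊥ := by
  rw [eq_bot_iff]
  rintro x ⟨hx, hx'⟩
  exact hU x hx fun y hy => by rw [polB_comm]; exact hx' y hy

lemma exists_pair_in {c : V} (hc : c ∈ U) (hc0 : c ≠ 0) (hQc : Q c = 0) :
    ∃ c' ∈ U, HypPair Q c c' := by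
  obtain ⟨⟨c', hc'⟩, hp⟩ := exists_hypPair (restrict_nondeg (inf_orth_eq_bot hU)) (c := ⟨c, hc⟩) hQc
    (by simpa using hc0)
  refine ⟨c', hc', hQc, hp.right, ?_⟩
  have := hp.pair
  rwa [polB_restrict] at this

/-- A hyperbolic plane. -/
lemma exists_plane_basis (hd : Module.finrank F U = 2) {c : V} (hc : c ∈ U) (hc0 : c ≠ 0)
    (hQc : Q c = 0) :
    ∃ e ∈ U, ∃ e' ∈ U, HypPair Q e e' ∧ ∀ x ∈ U, ∃ α β : F, x = α • e + β • e' := by
  obtain ⟨c', hc', hp⟩ := exists_pair_in hU hc hc0 hQc
  refine ⟨c, hc, c', hc', hp, fun x hx => ?_⟩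
  have h := span_of_pairing (Q := Q) ![c, c'] ![c', c]
    (fun i => by fin_cases i <;> simpa) hd
    (fun i => by fin_cases i <;> simp [hp.pair, hp.symm.pair])
    (fun i j hij => by
      fin_cases i <;> fin_cases j <;> simp [polB_self, hp.left, hp.right] at hij ⊢) hx
  rw [Fin.sum_univ_two] at h
  exact ⟨_, _, h⟩

/-- An orthogonal basis of equal values in a plane without singular points over three elements. -/
lemma exists_frame_minus [Fintype F] (h3 : ∀ x : F, x = 0 ∨ x = 1 ∨ x = -1) (h2 : (2 : F) ≠ 0)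
    (hd : Module.finrank F U = 2) (hns : ∀ x ∈ U, Q x = 0 → x = 0) :
    ∃ b : Fin 2 → V, (∀ i, b i ∈ U) ∧ (∀ i, Q (b i) = 1) ∧
      ∀ i j, i ≠ j → polB Q (b i) (b j) = 0 := by
  obtain ⟨⟨v, hv⟩, hQv⟩ := exists_qmap_eq (restrict_nondeg (inf_orth_eq_bot hU)) (by omega) 1
    one_ne_zero
  have hQv : Q v = 1 := hQv
  let L : U →ₗ[F] F := ((polB Q).flip v).comp U.subtype
  have h3' : Module.finrank F (LinearMap.range L) ≤ 1 := (Submodule.finrank_le _).trans (by simp)
  have h4 := L.finrank_range_add_finrank_ker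
  obtain ⟨⟨w, hw⟩, hwk, hw0⟩ := Submodule.exists_mem_ne_zero_of_ne_bot (p := LinearMap.ker L)
    (by intro hb; rw [hb, finrank_bot] at h4; omega)
  have hwv : polB Q w v = 0 := hwk
  have hQw : Q w = 1 := by
    rcases h3 (Q w) with h | h | h
    · exact absurd (Subtype.ext (hns w hw h)) hw0
    · exact h
    · exfalso
      have h0 := hns (v + w) (add_mem hv hw) (by rw [qmap_add, hQv, h, polB_comm, hwv]; ring)
      have := congrArg (fun z => polB Q z v) h0
      simp [hwv, polB_self, hQv, h2] at this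
  refine ⟨![v, w], fun i => by fin_cases i <;> simpa, fun i => by fin_cases i <;> simpa,
    fun i j hij => ?_⟩
  fin_cases i <;> fin_cases j <;> simp [hwv, polB_comm v w] at hij ⊢

/-- An orthogonal basis of equal values in three dimensions over three elements. -/
lemma exists_frame_three [Fintype F] (h3 : ∀ x : F, x = 0 ∨ x = 1 ∨ x = -1) (h2 : (2 : F) ≠ 0)
    (hd : Module.finrank F U = 3) :
    ∃ c : F, c ≠ 0 ∧ ∃ b : Fin 3 → V, (∀ i, b i ∈ U) ∧ (∀ i, Q (b i) = c) ∧
      ∀ i j, i ≠ j → polB Q (b i) (b j) = 0 := by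
  obtain ⟨⟨v, hv⟩, hQv⟩ := exists_qmap_eq (restrict_nondeg (inf_orth_eq_bot hU)) (by omega) 1
    one_ne_zero
  have hQv : Q v = 1 := hQv
  have hvv : polB Q v v = 2 := by rw [polB_self, hQv, mul_one]
  set P := U ⊓ (polB Q).orthogonal (Submodule.span F {v}) with hP
  have hPmem : ∀ x, x ∈ P ↔ x ∈ U ∧ polB Q v x = 0 := fun x => by
    constructor
    · rintro ⟨h1, h⟩; exact ⟨h1, h v (Submodule.mem_span_singleton_self v)⟩
    · rintro ⟨h1, h⟩
      refine ⟨h1, fun y hy => ?_⟩
      obtain ⟨a, rfl⟩ := Submodule.mem_span_singleton.mp hy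
      change polB Q (a • v) x = 0
      rw [map_smul, LinearMap.smul_apply, h, smul_zero]
  have hPd : 2 ≤ Module.finrank F P := by
    let L : U →ₗ[F] F := ((polB Q) v).comp U.subtype
    have h3' : Module.finrank F (LinearMap.range L) ≤ 1 := (Submodule.finrank_le _).trans (by simp)
    have h4 := L.finrank_range_add_finrank_ker
    have hker : (LinearMap.ker L).map U.subtype ≤ P := by
      rintro _ ⟨y, hy, rfl⟩
      exact (hPmem _).mpr ⟨y.2, hy⟩
    have h5 := Submodule.finrank_mono hker
    rw [Submodule.finrank_map_subtype_eq] at h5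
    omega
  have hPU : ∀ x ∈ P, (∀ y ∈ P, polB Q x y = 0) → x = 0 := by
    intro x hx hxP
    rw [hPmem] at hx
    refine hU x hx.1 fun y hy => ?_
    have hy' : y - (polB Q v y / 2) • v ∈ P := (hPmem _).mpr ⟨sub_mem hy (U.smul_mem _ hv), by
      rw [map_sub, map_smul, hvv, smul_eq_mul, div_mul_cancel₀ _ h2, sub_self]⟩
    have h := hxP _ hy'
    rwa [map_sub, map_smul, polB_comm x v, hx.2, smul_zero, sub_zero] at h
  obtain ⟨⟨w, hw⟩, hQw⟩ := exists_qmap_eq (restrict_nondeg (inf_orth_eq_bot hPU)) hPd 1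
    one_ne_zero
  have hQw : Q w = 1 := hQw
  rw [hPmem] at hw
  have hww : polB Q w w = 2 := by rw [polB_self, hQw, mul_one]
  let L : U →ₗ[F] F × F := (((polB Q) v).prod ((polB Q) w)).comp U.subtype
  have h3' : Module.finrank F (LinearMap.range L) ≤ 2 := (Submodule.finrank_le _).trans (by simp)
  have h4 := L.finrank_range_add_finrank_ker
  obtain ⟨⟨x, hx⟩, hxk, hx0⟩ := Submodule.exists_mem_ne_zero_of_ne_bot (p := LinearMap.ker L)
    (by intro hb; rw [hb, finrank_bot] at h4; omega)
  have hvx : polB Q v x = 0 := congrArg Prod.fst hxk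
  have hwx : polB Q w x = 0 := congrArg Prod.snd hxk
  have hQx : Q x ≠ 0 := by
    intro h
    apply hx0
    refine Subtype.ext (hU x hx fun y hy => ?_)
    by_contra hne
    -- `v, w, x` would be dependent
    have hli : LinearIndependent F ![v, w, x] := by
      rw [Fintype.linearIndependent_iff]
      intro g hg
      rw [Fin.sum_univ_three] at hg
      simp only [Matrix.cons_val] at hg
      have g0 : g 0 = 0 := by
        have := congrArg (fun z => polB Q v z) hg
        simpa [hvv, hw.2, hvx, h2] using this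
      have g1 : g 1 = 0 := by
        have := congrArg (fun z => polB Q w z) hg
        simpa [hww, polB_comm w v, hw.2, hwx, h2] using this
      rw [g0, g1, zero_smul, zero_smul, zero_add, zero_add] at hg
      have g2 : g 2 = 0 := (smul_eq_zero.mp hg).resolve_right fun h0 => hne (by simp [h0])
      intro i; fin_cases i <;> simp [g0, g1, g2]
    have hle : Submodule.span F (Set.range ![v, w, x]) ≤ U :=
      Submodule.span_le.mpr (by rintro _ ⟨i, rfl⟩; fin_cases i <;> simp [hv, hw.1, hx])
    have heq := Submodule.eq_of_le_of_finrank_le hle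
      (by rw [finrank_span_eq_card hli, Fintype.card_fin, hd])
    rw [← heq, Submodule.mem_span_range_iff_exists_fun] at hy
    obtain ⟨g, rfl⟩ := hy
    apply hne
    simp [Fin.sum_univ_three, polB_comm x v, polB_comm x w, hvx, hwx, polB_self, h]
  rcases h3 (Q x) with h | h | h
  · exact absurd h hQx
  · refine ⟨1, one_ne_zero, ![v, w, x], fun i => by fin_cases i <;> simp [hv, hw.1, hx],
      fun i => by fin_cases i <;> simp [hQv, hQw, h], fun i j hij => ?_⟩
    fin_cases i <;> fin_cases j <;>
      simp [hvx, hwx, hw.2, polB_comm w v, polB_comm x v, polB_comm x w] at hij ⊢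
  · have h4 : (3 : F) = 0 := by
      rcases h3 2 with e | e | e
      · exact absurd e h2
      · exact absurd (show (1 : F) = 0 by linear_combination e) one_ne_zero
      · linear_combination e
    refine ⟨-1, neg_ne_zero.mpr one_ne_zero, ![v + w, v - w, x],
      fun i => by fin_cases i <;> simp [add_mem hv hw.1, sub_mem hv hw.1, hx],
      fun i => ?_, fun i j hij => ?_⟩
    · fin_cases i
      · simp only [Matrix.cons_val_zero, Fin.zero_eta, qmap_add, hQv, hQw, hw.2]
        linear_combination h4
      · simp only [Matrix.cons_val_one, Fin.mk_one, Matrix.cons_val_zero, qmap_sub, hQv, hQw, hw.2]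
        linear_combination h4
      · simpa using h
    · fin_cases i <;> fin_cases j <;>
        simp [hvx, hwx, hw.2, polB_comm w v, polB_comm x v, polB_comm x w, hvv, hww] at hij ⊢

omit hU in
/-- The vectors of the common value in a space with an orthogonal basis of one value. -/
lemma frame_coords {k : ℕ} (hk : Module.finrank F U = k) (h2 : (2 : F) ≠ 0) {c : F} (hc : c ≠ 0)
    (hfield : ∀ α : Fin k → F, ∑ i, α i * α i = 1 → ∀ i j, α i ≠ 0 → α j ≠ 0 → i = j)
    (b : Fin k → V) (hb : ∀ i, b i ∈ U) (hQb : ∀ i, Q (b i) = c)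
    (ho : ∀ i j, i ≠ j → polB Q (b i) (b j) = 0) :
    ∀ x ∈ U, ∀ y ∈ U, Q x = c → Q y = c → y = x ∨ y = -x ∨ polB Q x y = 0 := by
  have key : ∀ x ∈ U, Q x = c → ∃ i, x = b i ∨ x = -b i := by
    intro x hx hQx
    have e := span_of_pairing (Q := Q) b b hb hk
      (fun i => by rw [polB_self, hQb]; exact mul_ne_zero h2 hc) ho hx
    set α := fun i => polB Q x (b i) / polB Q (b i) (b i) with hα
    have hsum : ∑ i, α i * α i = 1 := by
      have h1 : polB Q x x = 2 * c := by rw [polB_self, hQx]
      conv_lhs at h1 => arg 2; rw [e]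
      simp only [map_sum, map_smul, smul_eq_mul] at h1
      refine mul_right_cancel₀ (mul_ne_zero h2 hc) ?_
      rw [one_mul, Finset.sum_mul]
      refine Eq.trans (Finset.sum_congr rfl fun i _ => ?_) h1
      simp only [hα, polB_self, hQb]
      field_simp
    obtain ⟨i, hi⟩ : ∃ i, α i ≠ 0 := by
      by_contra hcon
      push Not at hcon
      rw [Finset.sum_eq_zero fun i _ => by rw [hcon i, mul_zero]] at hsum
      exact zero_ne_one hsum
    have hx' : x = α i • b i := by
      rw [e]
      refine Finset.sum_eq_single i (fun j _ hj => ?_) (by simp)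
      have : α j = 0 := by
        by_contra h
        exact hj (hfield α hsum j i h hi)
      rw [show polB Q x (b j) / polB Q (b j) (b j) = 0 from this, zero_smul]
    have hone : α i * α i = 1 := by
      refine Eq.trans (Finset.sum_eq_single (f := fun j => α j * α j) i (fun j _ hj => ?_)
        (fun h => absurd (Finset.mem_univ i) h)).symm hsum
      change α j * α j = 0
      by_contra h
      exact hj (hfield α hsum j i (left_ne_zero_of_mul h) hi)
    rcases mul_self_eq_one_iff.mp hone with h | h <;> rw [h] at hx'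
    · exact ⟨i, Or.inl (by rw [hx', one_smul])⟩
    · exact ⟨i, Or.inr (by rw [hx', neg_one_smul])⟩
  intro x hx y hy hQx hQy
  obtain ⟨i, hi⟩ := key x hx hQx
  obtain ⟨j, hj⟩ := key y hy hQy
  by_cases hij : i = j
  · subst hij
    rcases hi with rfl | rfl <;> rcases hj with rfl | rfl <;> simp
  · refine Or.inr (Or.inr ?_)
    rcases hi with rfl | rfl <;> rcases hj with rfl | rfl <;> simp [ho i j hij]

end H45
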