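import Mathlib
import Cfsg.Agent.H45.NonMax
import Cfsg.Agent.H45.NonMaxFinal
import Cfsg.Agent.H45.NonMaxDecomp
import Cfsg.Agent.H45.SmallForms

/-!
# Small orthogonal decompositions: the non-maximality statements
-/

set_option autoImplicit false
set_option linter.unusedSectionVars false

namespace H45

open H43

variable {F : Type*} [Field F] [Fintype F]

lemma sq_cases_three (h3 : Fintype.card F = 3) (x : F) : x * x = 0 ∨ x * x = 1 := by
  rcases three_cases (by omega) x with rfl | rfl | rfl <;> simp

lemma sq_cases_five (h5 : Fintype.card F = 5) (x : F) : x * x = 0 ∨ x * x = 1 ∨ x * x = -1 := by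
  by_cases hx : x = 0
  · simp [hx]
  · have h := FiniteField.pow_card_sub_one_eq_one x hx
    rw [h5] at h
    have : (x * x) * (x * x) = 1 := by rw [← h]; ring
    exact Or.inr (mul_self_eq_one_iff.mp this)

lemma frame_field_two (h : Fintype.card F = 3 ∨ Fintype.card F = 5) (α : Fin 2 → F)
    (hs : ∑ i, α i * α i = 1) : ∀ i j, α i ≠ 0 → α j ≠ 0 → i = j := by
  intro i j hi hj
  by_contra hij
  have h2 : (2 : F) ≠ 0 := by
    rcases h with h | h
    · exact two_ne_zero_of_card h (by decide)
    · exact two_ne_zero_of_card h (by decide)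
  have hv : ∀ x : F, x ≠ 0 → x * x = 1 ∨ (x * x = -1 ∧ (5 : F) = 0) := by
    intro x hx
    rcases h with h | h
    · exact Or.inl ((sq_cases_three h x).resolve_left (mul_ne_zero hx hx))
    · rcases sq_cases_five h x with e | e | e
      · exact absurd e (mul_ne_zero hx hx)
      · exact Or.inl e
      · refine Or.inr ⟨e, ?_⟩
        have := FiniteField.cast_card_eq_zero F
        rw [h] at this
        exact_mod_cast this
  rw [Fin.sum_univ_two] at hs
  have h0 : α 0 ≠ 0 ∧ α 1 ≠ 0 := by fin_cases i <;> fin_cases j <;> simp_all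
  rcases hv _ h0.1 with e | ⟨e, e5⟩ <;> rcases hv _ h0.2 with e' | ⟨e', e5'⟩ <;>
    rw [e, e'] at hs
  · exact one_ne_zero (by linear_combination hs : (1 : F) = 0)
  · simp at hs
  · simp at hs
  · exact h2 (by linear_combination hs + e5)

lemma frame_field_three (h : Fintype.card F = 3) (α : Fin 3 → F)
    (hs : ∑ i, α i * α i = 1) : ∀ i j, α i ≠ 0 → α j ≠ 0 → i = j := by
  have h2 : (2 : F) ≠ 0 := two_ne_zero_of_card h (by decide)
  intro i j hi hj
  have hv : ∀ x : F, x ≠ 0 → x * x = 1 := fun x hx =>
    (sq_cases_three h x).resolve_left (mul_ne_zero hx hx)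
  rw [Fin.sum_univ_three] at hs
  by_contra hij
  have e0 := sq_cases_three h (α 0)
  have e1 := sq_cases_three h (α 1)
  have e2 := sq_cases_three h (α 2)
  have ei := hv _ hi
  have ej := hv _ hj
  rcases e0 with e0 | e0 <;> rcases e1 with e1 | e1 <;> rcases e2 with e2 | e2 <;>
    rw [e0, e1, e2] at hs <;>
    first
      | exact one_ne_zero (by linear_combination hs : (1 : F) = 0)
      | exact h2 (by linear_combination hs)
      | (fin_cases i <;> fin_cases j <;> simp_all)

/-- The data for hyperbolic planes over two, three or four elements. -/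
lemma exists_hyp_data (h : Fintype.card F = 2 ∨ Fintype.card F = 3 ∨ Fintype.card F = 4) :
    ∃ p : ℕ, (p : F) = 0 ∧ 1 ≤ p ∧ p ≤ 3 ∧ ∃ φ : F →+ F, (∀ x y : F, x * y = 1 → y = φ x) ∧
      ∀ x y : F, x * y = 1 → ∃ k : ℕ, x + y = k := by
  have h0 := FiniteField.cast_card_eq_zero F
  have hpm : Fintype.card F ≤ 3 → ∀ x y : F, x * y = 1 → y = x ∧ (x = 1 ∨ x = -1) := by
    intro hc x y hxy
    rcases three_cases hc x with rfl | rfl | rfl
    · simp at hxy
    · exact ⟨by simpa using hxy, Or.inl rfl⟩
    · exact ⟨neg_eq_iff_eq_neg.mp (by simpa using hxy), Or.inr rfl⟩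
  rcases h with h | h | h
  · rw [h] at h0
    refine ⟨2, h0, by norm_num, by norm_num, AddMonoidHom.id F,
      fun x y hxy => (hpm (by omega) x y hxy).1, fun x y hxy => ⟨0, ?_⟩⟩
    rw [(hpm (by omega) x y hxy).1, ← two_mul, show (2 : F) = 0 by exact_mod_cast h0]
    simp
  · rw [h] at h0
    have h3 : (3 : F) = 0 := by exact_mod_cast h0
    refine ⟨3, h0, by norm_num, by norm_num, AddMonoidHom.id F,
      fun x y hxy => (hpm (by omega) x y hxy).1, fun x y hxy => ?_⟩
    obtain ⟨rfl, hx⟩ := hpm (by omega) x y hxy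
    rcases hx with rfl | rfl
    · exact ⟨2, by push_cast; ring⟩
    · exact ⟨1, by push_cast; linear_combination -h3⟩
  · rw [h] at h0
    have h2 : (2 : F) = 0 := mul_self_eq_zero.mp (by
      rw [show (2 : F) * 2 = ((4 : ℕ) : F) by norm_num]; exact h0)
    have hcube : ∀ x : F, x ≠ 0 → x * x * x = 1 := fun x hx => by
      have e := FiniteField.pow_card_sub_one_eq_one x hx
      rw [h] at e
      rw [← e]; ring
    refine ⟨2, by exact_mod_cast h2, by norm_num, by norm_num,
      AddMonoidHom.mk' (fun x => x * x) (fun x y => by linear_combination (x * y) * h2),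
      fun x y hxy => ?_, fun x y hxy => ?_⟩
    · change y = x * x
      have hx : x ≠ 0 := left_ne_zero_of_mul (hxy ▸ one_ne_zero)
      linear_combination (x * x) * hxy - y * hcube x hx
    · have hx : x ≠ 0 := left_ne_zero_of_mul (hxy ▸ one_ne_zero)
      have hy : y = x * x := by linear_combination (x * x) * hxy - y * hcube x hx
      by_cases h1 : x = 1
      · exact ⟨0, by rw [hy, h1]; push_cast; linear_combination h2⟩
      · refine ⟨1, ?_⟩
        have : (x - 1) * (x + x * x + 1) = 0 := by linear_combination hcube x hx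
        have h' := (mul_eq_zero.mp this).resolve_left (sub_ne_zero.mpr h1)
        push_cast
        rw [hy]
        linear_combination h' - h2

variable {V : Type*} [AddCommGroup V] [Module F V] [FiniteDimensional F V] {Q : QuadraticForm F V}

lemma iso_polB {U U' : Submodule F V} (e : U ≃ₗ[F] U') (he : ∀ w : U, Q (e w : V) = Q (w : V))
    (x y : U) : polB Q (e x : V) (e y : V) = polB Q (x : V) (y : V) := by
  have h := he (x + y)
  rw [map_add, Submodule.coe_add, Submodule.coe_add, qmap_add, qmap_add, he, he] at h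
  exact add_left_cancel h

lemma finrank_iSup_le_mul {t k : ℕ} (D : Fin t → Submodule F V)
    (hD : ∀ i, Module.finrank F (D i) = k) :
    Module.finrank F ↥(iSup D) ≤ t * k := by
  classical
  have key : ∀ s : Finset (Fin t), Module.finrank F ↥(s.sup D) ≤ s.card * k := by
    intro s
    induction s using Finset.induction_on with
    | empty => simp
    | insert i s his ih =>
      rw [Finset.sup_insert, Finset.card_insert_of_notMem his]
      refine (Submodule.finrank_add_le_finrank_add_finrank _ _).trans ?_
      rw [hD i, add_mul, one_mul]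
      omega
  have := key Finset.univ
  rwa [Finset.sup_univ_eq_iSup, Finset.card_univ, Fintype.card_fin] at this

variable (hQ : (polB Q).Nondegenerate) (hn : 13 ≤ Module.finrank F V) {t k : ℕ}
  {D : Fin t → Submodule F V} (hdim : ∀ i, Module.finrank F (D i) = k) (hsup : iSup D = ⊤)
  (hperp : ∀ i j, i ≠ j → ∀ x ∈ D i, ∀ y ∈ D j, polB Q x y = 0)
  (hnd : ∀ i, ∀ x ∈ D i, (∀ y ∈ D i, polB Q x y = 0) → x = 0)
  (hiso : ∀ i j, ∃ e : D i ≃ₗ[F] D j, ∀ w : D i, Q (e w : V) = Q (w : V))

include hQ hn hdim hsup hperp hnd hiso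

/-- All the small cases at once. -/
theorem small_decomp_between
    (hcase : (k = 2 ∧ (Fintype.card F = 3 ∨
        ((∀ i, ∃ c ∈ D i, c ≠ 0 ∧ Q c = 0) ∧
          (Fintype.card F = 2 ∨ Fintype.card F = 4 ∨ Fintype.card F = 5)))) ∨
      (k = 3 ∧ Fintype.card F = 3) ∨
      (k = 4 ∧ Fintype.card F = 2 ∧
        ∀ i, ∃ U ≤ D i, (∀ u ∈ U, Q u = 0) ∧ Module.finrank F U = 2)) :
    HasBetween Q D := by
  have hmul : 13 ≤ t * k := by
    have h := finrank_iSup_le_mul D hdim
    rw [hsup, finrank_top] at h
    omega
  have hd3 : ∀ i, k ≤ 4 → Module.finrank F (D i) + 3 ≤ Module.finrank F V := fun i h => by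
    rw [hdim]; omega
  rcases hcase with ⟨rfl, hc⟩ | ⟨rfl, hF⟩ | ⟨rfl, hF, hplus⟩
  · by_cases hsing : ∀ i, ∃ c ∈ D i, c ≠ 0 ∧ Q c = 0
    · have hbasis : ∀ i, ∃ e ∈ D i, ∃ e' ∈ D i, HypPair Q e e' ∧
          ∀ x ∈ D i, ∃ α β : F, x = α • e + β • e' := fun i => by
        obtain ⟨c, hc, hc0, hcQ⟩ := hsing i
        exact exists_plane_basis (hnd i) (hdim i) hc hc0 hcQ
      choose e he e' he' hpair hspan using hbasis
      by_cases h5 : Fintype.card F = 5
      · -- over five elements the planes have an orthogonal frame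
        have h2 : (2 : F) ≠ 0 := two_ne_zero_of_card h5 (by decide)
        have hz : (5 : F) = 0 := by
          have := FiniteField.cast_card_eq_zero F
          rw [h5] at this
          exact_mod_cast this
        have hb : ∀ i, ∃ b : Fin 2 → V, (∀ l, b l ∈ D i) ∧ (∀ l, Q (b l) = 1) ∧
            ∀ l m, l ≠ m → polB Q (b l) (b m) = 0 := fun i => by
          have hp := hpair i
          have o : polB Q (e i + e' i) ((2 : F) • (e i - e' i)) = 0 := by
            simp [polB_self, hp.left, hp.right, hp.pair, hp.symm.pair]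
          refine ⟨![e i + e' i, (2 : F) • (e i - e' i)], fun l => ?_, fun l => ?_,
            fun l m hlm => ?_⟩
          · fin_cases l
            · exact add_mem (he i) (he' i)
            · exact Submodule.smul_mem _ _ (sub_mem (he i) (he' i))
          · fin_cases l
            · simp only [Matrix.cons_val_zero, Fin.zero_eta, qmap_add, hp.left, hp.right, hp.pair]
              ring
            · simp only [Matrix.cons_val_one, Fin.mk_one, Matrix.cons_val_zero, qmap_smul, qmap_sub,
                hp.left, hp.right, hp.pair]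
              linear_combination -hz
          · fin_cases l <;> fin_cases m
            · exact absurd rfl hlm
            · simpa using o
            · simpa using (polB_comm _ _).trans o
            · exact absurd rfl hlm
        choose b hb hQb ho using hb
        exact frame_between hQ (by omega) hperp h2 (by omega) one_ne_zero hnd
          (fun i => hd3 i (by norm_num))
          (fun i => ⟨b i 0, hb i 0, b i 1, hb i 1, hQb i 0, hQb i 1, ho i 0 1 (by decide)⟩)
          (fun i => frame_coords (hdim i) h2 one_ne_zero (frame_field_two (Or.inr h5)) (b i) (hb i)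
            (hQb i) (ho i))
      · obtain ⟨p, hp0, hp1, hp3, φ, hφ, hint⟩ := exists_hyp_data (F := F) (by
          rcases hc with h | ⟨-, h | h | h⟩
          · exact Or.inr (Or.inl h)
          · exact Or.inl h
          · exact Or.inr (Or.inr h)
          · exact absurd h h5)
        exact hyp_between hQ (by omega) hperp hp0 hp1 (by omega) φ hφ hint e e' he he' hpair hspan
    · have hF : Fintype.card F = 3 := by
        rcases hc with h | ⟨h, -⟩
        · exact h
        · exact absurd h hsing
      push Not at hsing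
      obtain ⟨i₀, hi₀⟩ := hsing
      have hns : ∀ i, ∀ x ∈ D i, Q x = 0 → x = 0 := by
        intro i x hx hQx
        by_contra h
        obtain ⟨f, hf⟩ := hiso i i₀
        exact hi₀ (f ⟨x, hx⟩) (f ⟨x, hx⟩).2 (by simpa using h) (by rw [hf]; exact hQx)
      have h2 : (2 : F) ≠ 0 := two_ne_zero_of_card hF (by decide)
      have hb := fun i => exists_frame_minus (Q := Q) (hnd i) (three_cases (by omega)) h2 (hdim i)
        (hns i)
      choose b hb hQb ho using hb
      exact frame_between hQ (by omega) hperp h2 (by omega) one_ne_zero hnd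
        (fun i => hd3 i (by norm_num))
        (fun i => ⟨b i 0, hb i 0, b i 1, hb i 1, hQb i 0, hQb i 1, ho i 0 1 (by decide)⟩)
        (fun i => frame_coords (hdim i) h2 one_ne_zero (frame_field_two (Or.inl hF)) (b i) (hb i)
          (hQb i) (ho i))
  · have h2 : (2 : F) ≠ 0 := two_ne_zero_of_card hF (by decide)
    let i₀ : Fin t := ⟨0, by omega⟩
    obtain ⟨c, hc, b₀, hb₀, hQb₀, ho₀⟩ :=
      exists_frame_three (Q := Q) (hnd i₀) (three_cases (by omega)) h2 (hdim i₀)
    choose f hf using fun i => hiso i₀ i
    let b : Fin t → Fin 3 → V := fun i l => (f i ⟨b₀ l, hb₀ l⟩ : V)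
    have hb : ∀ i l, b i l ∈ D i := fun i l => (f i _).2
    have hQb : ∀ i l, Q (b i l) = c := fun i l => by
      change Q (f i _ : V) = c
      rw [hf]; exact hQb₀ l
    have ho : ∀ i l m, l ≠ m → polB Q (b i l) (b i m) = 0 := fun i l m h => by
      change polB Q (f i _ : V) (f i _ : V) = 0
      rw [iso_polB (f i) (hf i)]; exact ho₀ l m h
    exact frame_between hQ (by omega) hperp h2 (by omega) hc hnd (fun i => hd3 i (by norm_num))
      (fun i => ⟨b i 0, hb i 0, b i 1, hb i 1, hQb i 0, hQb i 1, ho i 0 1 (by decide)⟩)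
      (fun i => frame_coords (hdim i) h2 hc (frame_field_three hF) (b i) (hb i) (hQb i) (ho i))
  · have h2 : (2 : F) = 0 := by
      have := FiniteField.cast_card_eq_zero F
      rw [hF] at this
      exact_mod_cast this
    refine quad_between hQ (by omega) hperp h2 (by omega) hnd (fun i => hd3 i le_rfl) fun i => ?_
    obtain ⟨U, hUle, hU, hU2⟩ := hplus i
    obtain ⟨c, hcU, hc0⟩ := Submodule.exists_mem_ne_zero_of_ne_bot (p := U) (fun h => by
      rw [h, finrank_bot] at hU2; omega)
    obtain ⟨c', hc'U, hp⟩ := exists_pair_in (hnd i) (hUle hcU) hc0 (hU c hcU)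
    let L : U →ₗ[F] F := ((polB Q).flip c').comp U.subtype
    have h3 : Module.finrank F (LinearMap.range L) ≤ 1 := (Submodule.finrank_le _).trans (by simp)
    have h4 := L.finrank_range_add_finrank_ker
    obtain ⟨⟨d, hdU⟩, hdk, hd0⟩ := Submodule.exists_mem_ne_zero_of_ne_bot (p := LinearMap.ker L)
      (by intro hb; rw [hb, finrank_bot] at h4; omega)
    have hdc' : polB Q d c' = 0 := hdk
    have hdc : polB Q d c = 0 := polB_eq_zero_of_singular hU hdU hcU
    have hbot := inf_orth_eq_bot (hnd i)
    have hnot : (⟨d, hUle hdU⟩ : D i) ∉ Submodule.span F {⟨c, hUle hcU⟩, ⟨c', hc'U⟩} := by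
      intro h
      obtain ⟨α, β, hαβ⟩ := Submodule.mem_span_pair.mp h
      have e : α • c + β • c' = d := congrArg Subtype.val hαβ
      have ea : α = 0 := by
        have := congrArg (fun z => polB Q z c') e
        simpa [polB_self, hp.right, hp.pair, hdc'] using this
      have eb : β = 0 := by
        have := congrArg (fun z => polB Q z c) e
        simpa [polB_self, hp.left, hp.symm.pair, hdc] using this
      apply hd0
      apply Subtype.ext
      change d = 0
      rw [← e, ea, eb, zero_smul, zero_smul, add_zero]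
    obtain ⟨⟨d', hd'U⟩, hq, hd'perp⟩ := exists_hypPair_orth (restrict_nondeg hbot)
      (c := ⟨d, hUle hdU⟩) (hU d hdU) hnot (fun y hy => by
        obtain ⟨α, β, rfl⟩ := Submodule.mem_span_pair.mp hy
        rw [polB_restrict]
        simp [polB_comm c d, polB_comm c' d, hdc, hdc'])
    have hdd : HypPair Q d d' := ⟨hU d hdU, hq.right, by
      have := hq.pair; rwa [polB_restrict] at this⟩
    have hcd' : polB Q c d' = 0 := by
      have := hd'perp ⟨c, hUle hcU⟩ (Submodule.subset_span (by simp))
      rwa [polB_restrict] at this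
    have hc'd' : polB Q c' d' = 0 := by
      have := hd'perp ⟨c', hc'U⟩ (Submodule.subset_span (by simp))
      rwa [polB_restrict] at this
    have hcU' := hUle hcU
    have hdU' := hUle hdU
    have s1 : polB Q c d = 0 := by rw [polB_comm]; exact hdc
    have s2 : polB Q c' d = 0 := by rw [polB_comm]; exact hdc'
    have s3 : polB Q d' c = 0 := by rw [polB_comm]; exact hcd'
    have s4 : polB Q d' c' = 0 := by rw [polB_comm]; exact hc'd'
    refine ⟨c + c', add_mem hcU' hc'U, c + d + d', add_mem (add_mem hcU' hdU') hd'U,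
      c + c' + d, add_mem (add_mem hcU' hc'U) hdU', ?_, ?_, ?_, ?_, ?_, ?_, fun x hx hQx => ?_⟩
    · simp [qmap_add, hp.left, hp.right, hp.pair]
    · simp [qmap_add, hp.left, hdd.left, hdd.right, hdd.pair, hcd', s1]
    · simp [qmap_add, hp.left, hp.right, hdd.left, hp.pair, s1, s2]
    · simp [polB_self, hp.left, hp.pair, hp.symm.pair, hcd', hc'd', s1, s2]
    · simp only [map_add, LinearMap.add_apply, polB_self, hp.left, hp.right, hp.pair, hp.symm.pair,
        hdc, hdc']
      linear_combination h2
    · simp only [map_add, LinearMap.add_apply, polB_self, hp.left, hp.symm.pair, hdd.left, hdd.pair,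
        hcd', hc'd', s1, s2, hdc]
      linear_combination h2
    · have e := span_of_pairing (Q := Q) ![c, c', d, d'] ![c', c, d', d]
        (fun l => by fin_cases l <;> simp [hcU', hc'U, hdU', hd'U]) (hdim i)
        (fun l => by fin_cases l <;> simp [hp.pair, hp.symm.pair, hdd.pair, hdd.symm.pair])
        (fun l m hlm => by
          fin_cases l <;> fin_cases m <;>
            simp [polB_self, hp.left, hp.right, hdd.left, hdd.right, hdc, hdc', hcd', hc'd', s1,
              s2, s3, s4] at hlm ⊢) hx
      rw [Fin.sum_univ_four] at e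
      simp only [Matrix.cons_val, hp.pair, hp.symm.pair, hdd.pair, hdd.symm.pair, div_one] at e
      generalize polB Q x c' = α, polB Q x c = β, polB Q x d' = γ, polB Q x d = δ at e
      subst e
      simp only [qmap_add, qmap_smul, map_add, map_smul, LinearMap.add_apply, LinearMap.smul_apply,
        smul_eq_mul, polB_self, hp.left, hp.right, hp.pair, hp.symm.pair, hdd.left, hdd.right,
        hdd.pair, hdd.symm.pair, hdc, hdc', hcd', hc'd', s1, s2, s3, s4, mul_zero, add_zero,
        zero_add, mul_one] at hQx ⊢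
      have hb2 : ∀ y : F, y = 0 ∨ y = 1 := fun y => by
        rcases three_cases (by omega) y with h | h | h
        · exact Or.inl h
        · exact Or.inr h
        · exact Or.inr (by linear_combination h - h2)
      have hdbl : ∀ y : V, y + y = 0 := fun y => by rw [← two_smul F y, h2, zero_smul]
      have h11 : (1 : F) + 1 = 0 := by linear_combination h2
      rcases hb2 α with rfl | rfl <;> rcases hb2 β with rfl | rfl <;> rcases hb2 γ with rfl | rfl <;>
        rcases hb2 δ with rfl | rfl <;>
        simp only [zero_mul, mul_zero, one_mul, mul_one, add_zero, zero_add, zero_smul, one_smul,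
          h11, zero_ne_one, true_or, or_true, and_true, true_and] at hQx ⊢ <;>
        first
          | exact Or.inr (Or.inr (Or.inr trivial))
          | exact Or.inl rfl
          | exact Or.inr (Or.inl rfl)
          | (refine Or.inr (Or.inr (Or.inl ?_))
             rw [show c + c' + (c + d + d') = (c + c) + (c' + d + d') by abel, hdbl, zero_add]
             done)

omit hQ hn hdim hsup hperp hnd hiso

/-- The statement in the language of matrices. -/
theorem small_decomp_nonmax {ι : Type} [Fintype ι] [DecidableEq ι] (hn : 13 ≤ Fintype.card ι)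
    (q : QuadraticForm F (ι → F)) (hq : (polB q).Nondegenerate) {t k : ℕ}
    (D : Fin t → Submodule F (ι → F)) (hD : Cfsg.Geo.IsOrthogonalMDecomposition (⇑q) k D)
    (hcase : (k = 2 ∧ (Fintype.card F = 3 ∨ ((∀ i, Cfsg.Geo.IsPlusTypeOn (⇑q) (D i)) ∧
        (Fintype.card F = 2 ∨ Fintype.card F = 4 ∨ Fintype.card F = 5)))) ∨
      (k = 3 ∧ Fintype.card F = 3) ∨
      (k = 4 ∧ Fintype.card F = 2 ∧ ∀ i, Cfsg.Geo.IsPlusTypeOn (⇑q) (D i))) :
    ∃ K : Subgroup (Matrix.GeneralLinearGroup ι F),
      Cfsg.Geo.decompositionStabilizer D ⊓ Cfsg.Geo.omegaGL ⇑q < K ∧ K < Cfsg.Geo.omegaGL ⇑q := by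
  have hd := hD.decomp.decomp.finrank_eq
  have hnd : ∀ i, ∀ x ∈ D i, (∀ y ∈ D i, polB q x y = 0) → x = 0 := fun i x hx h => by
    by_contra h0
    obtain ⟨y, hy, hy0⟩ := (hD.decomp.nondegenerate i x hx h0).2
    exact hy0 (h y hy)
  obtain ⟨K, hKC, hK, ⟨g, hg, hgD⟩, hlt⟩ := small_decomp_between hq
    (by rw [Module.finrank_pi]; exact hn) hd hD.decomp.decomp.iSup_eq_top
    (fun i j h x hx y hy => hD.decomp.orthogonal i j h x hx y hy) hnd hD.isometric (by
      rcases hcase with ⟨hk, h | ⟨hp, h⟩⟩ | h | ⟨hk, h, hp⟩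
      · exact Or.inl ⟨hk, Or.inl h⟩
      · refine Or.inl ⟨hk, Or.inr ⟨fun i => ?_, h⟩⟩
        obtain ⟨U, hU, hUs, hU2⟩ := hp i
        obtain ⟨c, hc, hc0⟩ := Submodule.exists_mem_ne_zero_of_ne_bot (p := U) (fun e => by
          rw [e, finrank_bot, hd] at hU2; omega)
        exact ⟨c, hU hc, hc0, hUs c hc⟩
      · exact Or.inr (Or.inl h)
      · refine Or.inr (Or.inr ⟨hk, h, fun i => ?_⟩)
        obtain ⟨U, hU, hUs, hU2⟩ := hp i
        exact ⟨U, hU, hUs, by rw [hd] at hU2; omega⟩)
  have hiff : ∀ g : orthGroup q,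
      toGL q g ∈ Cfsg.Geo.decompositionStabilizer D → MapsMembers D g := by
    intro g hg i
    obtain ⟨σ, hσ⟩ := apply_mem_of_mem_decompositionStabilizer hg
    exact ⟨σ i, fun x hx => toGL_apply q g x ▸ hσ i x hx⟩
  exact exists_between_of_orth q _ K hKC (fun g hg h => hK g hg (hiff g h))
    ⟨g, hg, fun h => hgD (hiff g h)⟩ hlt

end H45
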