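import Mathlib
import Cfsg.Agent.H45.NondegGeom

/-!
# Overgroups of the stabiliser of a non-degenerate subspace: the block of reflections
-/

set_option autoImplicit false
set_option linter.unusedSectionVars false

namespace H45

open H43

variable {F : Type*} [Field F] [Finite F] {V : Type*} [AddCommGroup V] [Module F V]
  [FiniteDimensional F V] {Q : QuadraticForm F V}

/-- In a finite orthogonal group the commutator subgroup lies in every subgroup containing all
products of two reflections of one square class. -/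
theorem commutator_le_of_sameCls (hQ : (polB Q).Nondegenerate) (hgen : ReflGenerates F V)
    (M : Subgroup (orthGroup Q)) (hM : ∀ a b, SameCls Q a b → refl Q a * refl Q b ∈ M) :
    commutator (orthGroup Q) ≤ M := by
  set S : Set (orthGroup Q) := {g | ∃ a b, SameCls Q a b ∧ g = refl Q a * refl Q b}
  set P := Subgroup.closure S
  haveI hPn : P.Normal := ⟨fun x hx g => by
    induction hx using Subgroup.closure_induction with
    | mem x hx =>
      obtain ⟨a, b, hab, rfl⟩ := hx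
      rw [← conj_mul, refl_conj, refl_conj]
      refine Subgroup.subset_closure ⟨_, _, ?_, rfl⟩
      unfold SameCls
      rw [orth_qmap, orth_qmap]
      exact hab
    | one => rw [mul_one, mul_inv_cancel]; exact P.one_mem
    | mul a b _ _ ha hb => rw [← conj_mul]; exact P.mul_mem ha hb
    | inv a _ ha => rw [← conj_inv]; exact P.inv_mem ha⟩
  refine le_trans ?_ ((Subgroup.closure_le M).mpr fun g hg => by
    obtain ⟨a, b, hab, rfl⟩ := hg; exact hM a b hab : P ≤ M)
  set π := QuotientGroup.mk' P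
  have hcomm : ∀ a b, Q a ≠ 0 → Q b ≠ 0 → π (refl Q a) * π (refl Q b) = π (refl Q b) * π (refl Q a) := by
    intro a b ha hb
    have h1 : refl Q b * refl Q a * refl Q b = refl Q ((refl Q b).1 a) := by
      have h2 := refl_conj (refl Q b) a
      rwa [refl_inv] at h2
    rw [← map_mul, ← map_mul, QuotientGroup.mk'_apply, QuotientGroup.mk'_apply, QuotientGroup.eq,
      mul_inv_rev, refl_inv, refl_inv]
    have hmem : refl Q b * refl Q a * (refl Q b * refl Q a) ∈ P := by
      rw [show refl Q b * refl Q a * (refl Q b * refl Q a) =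
        refl Q b * refl Q a * refl Q b * refl Q a by group, h1]
      exact Subgroup.subset_closure
        ⟨_, _, (sameCls_of_eq ha (orth_qmap (refl Q b) a)).symm, rfl⟩
    exact hmem
  have hc : ∀ x y : orthGroup Q, π x * π y = π y * π x := by
    intro x y
    have hx : x ∈ Subgroup.closure (reflSet Q) := by rw [closure_reflSet hQ hgen]; trivial
    induction hx using Subgroup.closure_induction with
    | mem x hx =>
      obtain ⟨a, ha, rfl⟩ := hx
      have hy : y ∈ Subgroup.closure (reflSet Q) := by rw [closure_reflSet hQ hgen]; trivial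
      induction hy using Subgroup.closure_induction with
      | mem y hy => obtain ⟨b, hb, rfl⟩ := hy; exact hcomm a b ha hb
      | one => simp
      | mul u v _ _ hu hv => rw [map_mul, ← mul_assoc, hu, mul_assoc, hv, mul_assoc]
      | inv u _ hu => rw [map_inv]; exact (Commute.inv_right (show Commute _ _ from hu)).eq
    | one => simp
    | mul u v _ _ hu hv => rw [map_mul, mul_assoc, hv, ← mul_assoc, hu, mul_assoc]
    | inv u _ hu => rw [map_inv]; exact (Commute.inv_left (show Commute _ _ from hu)).eq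
  rw [commutator_def, Subgroup.commutator_le]
  intro x _ y _
  rw [← QuotientGroup.eq_one_iff, commutatorElement_def]
  change π (x * y * x⁻¹ * y⁻¹) = 1
  rw [map_mul, map_mul, map_mul, map_inv, map_inv, hc x y]
  group

variable (hQ : (polB Q).Nondegenerate) {W : Submodule F V}
  (hW : W ⊓ (polB Q).orthogonal W = ⊥) (hgen : ReflGenerates F V)
  (hm : BigSide Q W) {M : Subgroup (orthGroup Q)}
  (hHM : commutator (orthGroup Q) ⊓ orthStab Q W ≤ M)

/-- The nonsingular vectors whose reflection is linked inside `M` to a side vector of the same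
class. -/
def InB (Q : QuadraticForm F V) (W : Submodule F V) (M : Subgroup (orthGroup Q)) (z : V) : Prop :=
  ∃ w, (w ∈ W ∨ w ∈ (polB Q).orthogonal W) ∧ SameCls Q z w ∧ refl Q z * refl Q w ∈ M

include hQ hgen hm in
lemma two_le_dim : 2 ≤ Module.finrank F V := by
  have := finrank_orth_add hQ W; have := hm.five; omega

include hQ hW hgen hm hHM

lemma side_pair {a b : V} (ha : a ∈ W ∨ a ∈ (polB Q).orthogonal W)
    (hb : b ∈ W ∨ b ∈ (polB Q).orthogonal W) (hab : SameCls Q a b) :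
    refl Q a * refl Q b ∈ M :=
  hHM ⟨refl_mul_refl_mem_commutator hQ hgen (two_le_dim hQ hgen hm) hab.1 hab.2.1 hab.2.2,
    mul_mem (refl_mem_orthStab ha) (refl_mem_orthStab hb)⟩

lemma inB_side {z : V} (hz : z ∈ W ∨ z ∈ (polB Q).orthogonal W) (hz0 : Q z ≠ 0) :
    InB Q W M z :=
  ⟨z, hz, sameCls_of_eq hz0 rfl, by rw [refl_sq]; exact one_mem M⟩

lemma inB_pair {z w : V} (hz : InB Q W M z) (hw : w ∈ W ∨ w ∈ (polB Q).orthogonal W)
    (hzw : SameCls Q z w) : refl Q z * refl Q w ∈ M := by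
  obtain ⟨w₀, hw₀, hc, hmem⟩ := hz
  have := mul_mem hmem (side_pair hQ hW hgen hm hHM hw₀ hw (hc.symm.trans hzw))
  rwa [mul_assoc, ← mul_assoc (refl Q w₀), refl_sq, one_mul] at this

lemma inB_act {h : orthGroup Q} (hh : h ∈ M) {z w₀ : V} (hz : InB Q W M z)
    (hw₀ : w₀ ∈ W ∨ w₀ ∈ (polB Q).orthogonal W) (hc : SameCls Q z w₀)
    (hside : h.1 w₀ ∈ W ∨ h.1 w₀ ∈ (polB Q).orthogonal W) : InB Q W M (h.1 z) := by
  refine ⟨h.1 w₀, hside, ?_, ?_⟩
  · unfold SameCls
    rw [orth_qmap, orth_qmap]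
    exact hc
  · rw [← refl_conj, ← refl_conj, conj_mul]
    exact mul_mem (mul_mem hh (inB_pair hQ hW hgen hm hHM hz hw₀ hc)) (inv_mem hh)

lemma inB_stab {h : orthGroup Q} (hh : h ∈ commutator (orthGroup Q) ⊓ orthStab Q W) {z : V}
    (hz : InB Q W M z) : InB Q W M (h.1 z) := by
  obtain ⟨w₀, hw₀, hc, -⟩ := id hz
  exact inB_act hQ hW hgen hm hHM (hHM hh) hz hw₀ hc (orthStab_side hQ hh.2 hw₀)

lemma inB_refl_side {z x : V} (hz : InB Q W M z) (hx : x ∈ W ∨ x ∈ (polB Q).orthogonal W)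
    (hx0 : Q x ≠ 0) : InB Q W M ((refl Q z).1 x) := by
  obtain ⟨w₀, hw₀, hc, -⟩ := id hz
  obtain ⟨w, hw, -, -, -, hwQ⟩ := exists_in_big' hQ hW hm z z (Q z) (Or.inr (Or.inl rfl))
  have hzw : SameCls Q z w := sameCls_of_eq hc.1 hwQ
  set x' := (refl Q w).1 x with hx'
  have hx'side : x' ∈ W ∨ x' ∈ (polB Q).orthogonal W :=
    orthStab_side hQ (refl_mem_orthStab (Or.inr hw)) hx
  obtain ⟨v, hv, -, hvz, hvw, hvQ⟩ := exists_in_big' hQ hW hm z w (Q x) (Or.inl ⟨hx0,
    Or.inr ⟨w, hw, Submodule.subset_span (by simp), by rw [hwQ]; exact hc.1⟩⟩)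
  have hx'0 : Q x' ≠ 0 := by rw [hx', orth_qmap]; exact hx0
  have h1 : (refl Q z * refl Q w).1 v = v := by
    rw [orth_mul_apply, refl_fix hvw, refl_fix hvz]
  have := inB_act hQ hW hgen hm hHM (inB_pair hQ hW hgen hm hHM hz (Or.inr hw) hzw)
    (inB_side hQ hW hgen hm hHM hx'side hx'0) (Or.inr hv)
    (sameCls_of_eq hx'0 (by rw [hvQ, hx', orth_qmap])) (by rw [h1]; exact Or.inr hv)
  rwa [orth_mul_apply, hx', ← orth_mul_apply (refl Q w), refl_sq, orth_one_apply] at this

lemma inB_refl {z u : V} (hz : InB Q W M z) (hu : InB Q W M u) :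
    InB Q W M ((refl Q z).1 u) := by
  obtain ⟨w₀, hw₀, hc, -⟩ := id hz
  obtain ⟨u₀, hu₀, hcu, -⟩ := id hu
  obtain ⟨w, hw, -, hwu, -, hwQ⟩ := exists_in_big' hQ hW hm u u (Q z) (Or.inr (Or.inl rfl))
  obtain ⟨v, hv, -, hvz, hvw, hvQ⟩ := exists_in_big' hQ hW hm z w (Q u) (Or.inl ⟨hcu.1,
    Or.inr ⟨w, hw, Submodule.subset_span (by simp), by rw [hwQ]; exact hc.1⟩⟩)
  have h1 : (refl Q z * refl Q w).1 v = v := by
    rw [orth_mul_apply, refl_fix hvw, refl_fix hvz]
  have := inB_act hQ hW hgen hm hHM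
    (inB_pair hQ hW hgen hm hHM hz (Or.inr hw) (sameCls_of_eq hc.1 hwQ)) hu (Or.inr hv)
    (sameCls_of_eq hcu.1 hvQ) (by rw [h1]; exact Or.inr hv)
  rwa [orth_mul_apply, refl_fix (v := w) (x := u) (by rw [polB_comm]; exact hwu)] at this

lemma inB_type {a a' b b' : V} (ha : a ∈ W) (ha' : a' ∈ W) (hb : b ∈ (polB Q).orthogonal W)
    (hb' : b' ∈ (polB Q).orthogonal W) (ha0 : a ≠ 0) (ha0' : a' ≠ 0) (hb0 : b ≠ 0) (hb0' : b' ≠ 0)
    (hQa : Q a = Q a') (hQb : Q b = Q b') (hz : InB Q W M (a + b)) : InB Q W M (a' + b') := by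
  obtain ⟨h, hh, hab⟩ := exists_H_map hQ hW hgen hm ha ha' hb hb' ha0 ha0' hb0 hb0' hQa hQb
  have := inB_stab hQ hW hgen hm hHM hh hz
  rwa [hab] at this

/-- Changing the component in the large side, and scaling the other one by a square. -/
lemma inB_big_step {a a' b b' : V} (ha : a ∈ W) (ha' : a' ∈ W)
    (hb : b ∈ (polB Q).orthogonal W) (hb' : b' ∈ (polB Q).orthogonal W) (ha0 : a ≠ 0)
    (ha0' : a' ≠ 0) (hb0 : b ≠ 0) (hb0' : b' ≠ 0) (s : F) (hs : s ≠ 0) (hQa : Q a' = s * s * Q a)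
    (hc : Q (a' + b') ≠ 0) (hz : InB Q W M (a + b)) : InB Q W M (a' + b') := by
  have hγ : Q (a + b) ≠ 0 := by obtain ⟨w₀, -, hc, -⟩ := id hz; exact hc.1
  obtain ⟨x, hx, hxb, hxQ, hxspan⟩ :=
    exists_big_pair hQ hW hm hb hb0 (s * Q (a + b)) (Q (a' + b'))
  have h1 := inB_refl_side hQ hW hgen hm hHM hz (Or.inr hx) (by rw [hxQ]; exact hc)
  have h2 : (refl Q (a + b)).1 x = (-(s • a)) + (x - s • b) := by
    rw [refl_apply, (polB Q x).map_add, polB_side' hx ha, zero_add, hxb]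
    rw [show (Q (a + b))⁻¹ * (s * Q (a + b)) = s by field_simp, smul_add]
    abel
  rw [h2] at h1
  have hm2 : x - s • b ∈ (polB Q).orthogonal W := sub_mem hx (Submodule.smul_mem _ _ hb)
  have hm1 : -(s • a) ∈ W := neg_mem (W.smul_mem _ ha)
  have hne : x - s • b ≠ 0 := fun h => hxspan (Submodule.mem_span_singleton.mpr
    ⟨s, (sub_eq_zero.mp h).symm⟩)
  have e1 : Q (-(s • a)) = Q a' := by rw [qmap_neg, qmap_smul, hQa]
  refine inB_type hQ hW hgen hm hHM hm1 ha' hm2 hb'
    (neg_ne_zero.mpr (smul_ne_zero hs ha0)) ha0' hne hb0' e1 ?_ h1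
  have e2 : Q ((-(s • a)) + (x - s • b)) = Q x := by rw [← h2, orth_qmap]
  rw [qmap_add, polB_side hm1 hm2, hxQ, qmap_add, polB_side ha' hb', e1] at e2
  simpa using e2

/-- The mixed vector can be given a singular component in the large side. -/
lemma inB_zero_big {a b : V} (ha : a ∈ W) (hb : b ∈ (polB Q).orthogonal W) (hb0 : b ≠ 0)
    (hQa : Q a ≠ 0) (hz : InB Q W M (a + b)) :
    ∃ b₀ ∈ (polB Q).orthogonal W, b₀ ≠ 0 ∧ Q b₀ = 0 ∧ InB Q W M (a + b₀) := by
  obtain ⟨b₀, hb₀, hout, -, -, hb₀Q⟩ := exists_in_big' hQ hW hm b b 0 (Or.inr (Or.inl rfl))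
  have ha0 : a ≠ 0 := fun h => hQa (by rw [h, QuadraticMap.map_zero])
  have hb₀0 : b₀ ≠ 0 := fun h => hout (h ▸ zero_mem _)
  refine ⟨b₀, hb₀, hb₀0, hb₀Q, inB_big_step hQ hW hgen hm hHM ha ha hb hb₀ ha0 ha0 hb0 hb₀0 1
    one_ne_zero (by ring) ?_ hz⟩
  rw [qmap_add, hb₀Q, polB_side ha hb₀]
  simpa using hQa

end H45
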