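import Mathlib
import Cfsg.Agent.H45.NondegBlock

/-!
# The stabiliser of a non-degenerate subspace is maximal in the commutator of the orthogonal group
-/

set_option autoImplicit false
set_option linter.unusedSectionVars false

namespace H45

open H43

variable {F : Type*} [Field F] [Finite F] {V : Type*} [AddCommGroup V] [Module F V]
  [FiniteDimensional F V] {Q : QuadraticForm F V}

lemma isSquare_of_sqc_eq {a b : F} (ha : a ≠ 0) (hb : b ≠ 0) (h : sqc a = sqc b) :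
    ∃ t : F, t ≠ 0 ∧ a = t * t * b := by
  obtain ⟨t, ht, e⟩ := (sqc_eq_iff ha hb).mp h
  exact ⟨t, ht, by rw [e, mul_comm]⟩

variable (hQ : (polB Q).Nondegenerate) {W : Submodule F V}
  (hW : W ⊓ (polB Q).orthogonal W = ⊥) (hgen : ReflGenerates F V)
  (hm : BigSide Q W) {M : Subgroup (orthGroup Q)}
  (hHM : commutator (orthGroup Q) ⊓ orthStab Q W ≤ M)
  (hplane : (¬ ∃ t : F, t ≠ 0 ∧ t ≠ 1 ∧ t ≠ -1) → ∀ a ∈ W, a ≠ 0 → Q a = 0 →
    3 ≤ Module.finrank F W)

include hQ hW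

omit hW in
/-- In a non-degenerate subspace of dimension at least three a hyperplane is not totally singular. -/
lemma exists_nonsing_perp (hW : W ⊓ (polB Q).orthogonal W = ⊥) (hk : 3 ≤ Module.finrank F W)
    (u : V) : ∃ y ∈ W, Q y ≠ 0 ∧ polB Q y u = 0 := by
  by_contra hcon
  push Not at hcon
  let L : W →ₗ[F] F := ((polB Q).flip u).comp W.subtype
  have hts : ∀ y ∈ LinearMap.ker L, (Q.comp W.subtype) y = 0 := fun y hy => by
    by_contra h
    exact hcon y y.2 h hy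
  have h1 := two_mul_finrank_singular_le (restrict_nondeg hW) _ hts
  have h2 := L.finrank_range_add_finrank_ker
  have h3 : Module.finrank F (LinearMap.range L) ≤ 1 := (Submodule.finrank_le _).trans (by simp)
  omega

include hplane in
/-- A vector of the other class not orthogonal to a given anisotropic vector. -/
lemma exists_change {a x₀ : V} (ha : a ∈ W) (hx₀ : x₀ ∈ W) (hQa : Q a ≠ 0) (hQx : Q x₀ ≠ 0)
    (hcls : sqc (Q x₀) ≠ sqc (Q a)) :
    ∃ x ∈ W, Q x = Q x₀ ∧ polB Q x a ≠ 0 := by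
  by_cases hf : polB Q x₀ a ≠ 0
  · exact ⟨x₀, hx₀, rfl, hf⟩
  push Not at hf
  have h2 : (2 : F) ≠ 0 := fun h2 => hcls (by
    rw [(sqc_eq_one_iff hQx).mpr (H43.isSquare_of_two_eq_zero h2 _),
      (sqc_eq_one_iff hQa).mpr (H43.isSquare_of_two_eq_zero h2 _)])
  -- it is enough to find a suitable reflection
  suffices h : ∃ v ∈ W, Q v ≠ 0 ∧ polB Q x₀ v ≠ 0 ∧ polB Q v a ≠ 0 by
    obtain ⟨v, hv, hv0, hxv, hva⟩ := h
    refine ⟨(refl Q v).1 x₀, ?_, orth_qmap _ _, ?_⟩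
    · rw [refl_apply]; exact sub_mem hx₀ (W.smul_mem _ hv)
    · rw [refl_apply, map_sub, map_smul, LinearMap.sub_apply, LinearMap.smul_apply, hf,
        zero_sub, smul_eq_mul]
      exact neg_ne_zero.mpr (mul_ne_zero (mul_ne_zero (inv_ne_zero hv0) hxv) hva)
  have hfa : polB Q a x₀ = 0 := by rw [polB_comm]; exact hf
  have h2a : polB Q a a ≠ 0 := by rw [polB_self]; exact mul_ne_zero h2 hQa
  have h2x : polB Q x₀ x₀ ≠ 0 := by rw [polB_self]; exact mul_ne_zero h2 hQx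
  by_cases hl : ∃ l : F, l ≠ 0 ∧ Q a + l * l * Q x₀ ≠ 0
  · obtain ⟨l, hl0, hl⟩ := hl
    refine ⟨a + l • x₀, add_mem ha (W.smul_mem _ hx₀), ?_, ?_, ?_⟩
    · rw [qmap_add_smul, hfa, mul_zero, add_zero]; exact hl
    · rw [map_add, map_smul, hf, zero_add, smul_eq_mul]
      exact mul_ne_zero hl0 h2x
    · rw [map_add, map_smul, LinearMap.add_apply, LinearMap.smul_apply, hf, smul_zero, add_zero]
      exact h2a
  push Not at hl
  have h1 : Q a + Q x₀ = 0 := by simpa using hl 1 one_ne_zero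
  have hsmall : ¬ ∃ t : F, t ≠ 0 ∧ t ≠ 1 ∧ t ≠ -1 := by
    rintro ⟨t, ht0, ht1, ht2⟩
    have h := hl t ht0
    have : (t - 1) * (t + 1) * Q x₀ = 0 := by linear_combination h - h1
    rcases mul_eq_zero.mp this with h | h
    · rcases mul_eq_zero.mp h with h | h
      · exact ht1 (sub_eq_zero.mp h)
      · exact ht2 (eq_neg_of_add_eq_zero_left h)
    · exact hQx h
  have hk := hplane hsmall (a + x₀) (add_mem ha hx₀) (by
    intro h0
    apply h2a
    have := congrArg (fun z => polB Q z a) h0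
    simpa [hf] using this) (by rw [qmap_add, hfa, add_zero, h1])
  -- a third direction
  obtain ⟨y, hy, hy0, hya, hyx⟩ : ∃ y ∈ W, Q y ≠ 0 ∧ polB Q y a = 0 ∧ polB Q y x₀ = 0 := by
    obtain ⟨y, hy, hyne, hya, hyx⟩ : ∃ y ∈ W, y ≠ 0 ∧ polB Q y a = 0 ∧ polB Q y x₀ = 0 := by
      let L : W →ₗ[F] F × F := (((polB Q).flip a).prod ((polB Q).flip x₀)).comp W.subtype
      have h3 : Module.finrank F (LinearMap.range L) ≤ 2 :=
        (Submodule.finrank_le _).trans (by simp)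
      have h4 := L.finrank_range_add_finrank_ker
      obtain ⟨y, hy, hy0⟩ := Submodule.exists_mem_ne_zero_of_ne_bot (p := LinearMap.ker L)
        (by intro hb; rw [hb, finrank_bot] at h4; omega)
      exact ⟨y, y.2, by simpa using hy0, congrArg Prod.fst hy, congrArg Prod.snd hy⟩
    by_contra hcon
    push Not at hcon
    have hperp : ∀ z ∈ W, polB Q z a = 0 → polB Q z x₀ = 0 → polB Q y z = 0 := by
      intro z hz hza hzx
      have hsing : ∀ v ∈ W, polB Q v a = 0 → polB Q v x₀ = 0 → Q v = 0 := fun v hv hva hvx => by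
        by_contra h; exact hcon v hv h hva hvx
      have := hsing (y + z) (add_mem hy hz) (by simp [hya, hza]) (by simp [hyx, hzx])
      rwa [qmap_add, hsing y hy hya hyx, hsing z hz hza hzx, zero_add, zero_add] at this
    have : y ∈ W ⊓ (polB Q).orthogonal W := by
      refine ⟨hy, fun z hz => ?_⟩
      change polB Q z y = 0
      have h := hperp (z - (polB Q z a / polB Q a a) • a - (polB Q z x₀ / polB Q x₀ x₀) • x₀)
        (sub_mem (sub_mem hz (W.smul_mem _ ha)) (W.smul_mem _ hx₀))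
        (by simp [hf, div_mul_cancel₀ _ h2a]) (by simp [hfa, div_mul_cancel₀ _ h2x])
      rw [map_sub, map_sub, map_smul, map_smul, hya, hyx, smul_zero, smul_zero, sub_zero,
        sub_zero] at h
      rw [polB_comm]
      exact h
    rw [hW, Submodule.mem_bot] at this
    exact hyne this
  refine ⟨a + x₀ + y, add_mem (add_mem ha hx₀) hy, ?_, ?_, ?_⟩
  · rw [qmap_add, qmap_add, hfa, map_add, LinearMap.add_apply, polB_comm a y, polB_comm x₀ y,
      hya, hyx, add_zero, add_zero, add_zero, h1, zero_add]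
    exact hy0
  · rw [map_add, map_add, hf, zero_add, polB_comm x₀ y, hyx, add_zero]
    exact h2x
  · rw [map_add, map_add, LinearMap.add_apply, LinearMap.add_apply, hf, hya, add_zero, add_zero]
    exact h2a

include hgen hm hHM hplane

/-- From one mixed vector, every value of `W` occurs with a singular large component. -/
lemma inB_reach {a b : V} (ha : a ∈ W) (hb : b ∈ (polB Q).orthogonal W) (ha0 : a ≠ 0)
    (hb0 : b ≠ 0) (hz : InB Q W M (a + b)) {a' : V} (ha' : a' ∈ W) (hQa' : Q a' ≠ 0) :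
    ∃ b₀ ∈ (polB Q).orthogonal W, b₀ ≠ 0 ∧ InB Q W M (a' + b₀) := by
  have ha0' : a' ≠ 0 := fun h => hQa' (by rw [h, QuadraticMap.map_zero])
  by_cases hQa : Q a = 0
  · -- a singular component: use a hyperbolic partner
    obtain ⟨⟨e, he⟩, hep⟩ := exists_hypPair (restrict_nondeg hW) (c := ⟨a, ha⟩)
      (by simpa using hQa) (by simpa using ha0)
    have hQe : Q e = 0 := by simpa using hep.right
    have hae : polB Q a e = 1 := by
      have := hep.pair
      rwa [polB_restrict] at this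
    set ν := Q a' with hν
    set c := -(ν⁻¹) with hc
    have hc0 : c ≠ 0 := neg_ne_zero.mpr (inv_ne_zero hQa')
    obtain ⟨b₁, hb₁, hout, -, -, hb₁Q⟩ := exists_in_big' hQ hW hm b b c (Or.inr (Or.inl rfl))
    have hb₁0 : b₁ ≠ 0 := fun h => hout (h ▸ zero_mem _)
    have hz₁ : InB Q W M (a + b₁) :=
      inB_big_step hQ hW hgen hm hHM ha ha hb hb₁ ha0 ha0 hb0 hb₁0 1 one_ne_zero (by ring)
        (by rw [qmap_add, polB_side ha hb₁, hQa, hb₁Q]; simpa using hc0) hz
    obtain ⟨b₂, hb₂, hb₂f, hb₂Q, hb₂s⟩ := exists_big_pair hQ hW hm hb₁ hb₁0 0 c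
    have he0 : e ≠ 0 := fun h => by rw [h, map_zero] at hae; exact zero_ne_one hae
    have hb₂0 : b₂ ≠ 0 := fun h => hb₂s (h ▸ zero_mem _)
    have hu : InB Q W M (e + b₂) := inB_type hQ hW hgen hm hHM ha he hb₁ hb₂ ha0 he0 hb₁0 hb₂0
      (by rw [hQa, hQe]) (by rw [hb₁Q, hb₂Q]) hz₁
    have h1 := inB_refl hQ hW hgen hm hHM hz₁ hu
    have h2 : (refl Q (a + b₁)).1 (e + b₂) = (e + ν • a) + (b₂ + ν • b₁) := by
      rw [refl_apply, qmap_add, polB_side ha hb₁, hQa, hb₁Q]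
      simp only [map_add, LinearMap.add_apply, polB_side he hb₁, polB_side' hb₂ ha, hb₂f,
        polB_comm e a, hae]
      have : (0 + c + 0)⁻¹ * (1 + 0 + (0 + 0)) = -ν := by
        rw [hc]; simp
      rw [this, smul_add]
      module
    rw [h2] at h1
    have hm1 : e + ν • a ∈ W := add_mem he (W.smul_mem _ ha)
    have hm2 : b₂ + ν • b₁ ∈ (polB Q).orthogonal W := add_mem hb₂ (Submodule.smul_mem _ _ hb₁)
    have hne : b₂ + ν • b₁ ≠ 0 := fun h => hb₂s (Submodule.mem_span_singleton.mpr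
      ⟨-ν, by rw [neg_smul, eq_comm, eq_neg_of_add_eq_zero_left h]⟩)
    have e1 : Q (e + ν • a) = ν := by
      rw [qmap_add_smul, hQe, hQa, polB_comm, hae]; ring
    have hne1 : e + ν • a ≠ 0 := fun h => hQa' (by
      rw [← e1, h, QuadraticMap.map_zero])
    obtain ⟨b₀, hb₀, hb₀0, -, hres⟩ :=
      inB_zero_big hQ hW hgen hm hHM hm1 hm2 hne (by rw [e1]; exact hQa') h1
    exact ⟨b₀, hb₀, hb₀0,
      inB_type hQ hW hgen hm hHM hm1 ha' hb₀ hb₀ hne1 ha0' hb₀0 hb₀0 e1 rfl hres⟩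
  · obtain ⟨b₀, hb₀, hb₀0, hb₀Q, hz₀⟩ := inB_zero_big hQ hW hgen hm hHM ha hb hb0 hQa hz
    by_cases hcls : sqc (Q a') = sqc (Q a)
    · obtain ⟨t, ht, hta⟩ := isSquare_of_sqc_eq hQa' hQa hcls
      exact ⟨b₀, hb₀, hb₀0, inB_big_step hQ hW hgen hm hHM ha ha' hb₀ hb₀ ha0 ha0' hb₀0 hb₀0 t ht
        hta (by rw [qmap_add, polB_side ha' hb₀, hb₀Q]; simpa using hQa') hz₀⟩
    · obtain ⟨x, hx, hxQ, hxa⟩ := exists_change hQ hW hplane ha ha' hQa hQa' hcls
      have h1 := inB_refl_side hQ hW hgen hm hHM hz₀ (Or.inl hx) (by rw [hxQ]; exact hQa')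
      set s := (Q a)⁻¹ * polB Q x a with hs
      have hs0 : s ≠ 0 := mul_ne_zero (inv_ne_zero hQa) hxa
      have h2 : (refl Q (a + b₀)).1 x = (x - s • a) + -(s • b₀) := by
        rw [refl_apply, qmap_add, polB_side ha hb₀, hb₀Q, (polB Q x).map_add, polB_side hx hb₀]
        rw [add_zero, add_zero, add_zero, ← hs, smul_add]
        abel
      rw [h2] at h1
      have hm1 : x - s • a ∈ W := sub_mem hx (W.smul_mem _ ha)
      have hm2 : -(s • b₀) ∈ (polB Q).orthogonal W := neg_mem (Submodule.smul_mem _ _ hb₀)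
      have e1 : Q (x - s • a) = Q a' := by
        have e2 : Q ((x - s • a) + -(s • b₀)) = Q x := by rw [← h2, orth_qmap]
        rw [qmap_add, polB_side hm1 hm2, qmap_neg, qmap_smul, hb₀Q, hxQ] at e2
        simpa using e2
      have hne1 : x - s • a ≠ 0 := fun h => hQa' (by rw [← e1, h, QuadraticMap.map_zero])
      exact ⟨b₀, hb₀, hb₀0, inB_type hQ hW hgen hm hHM hm1 ha' hm2 hb₀ hne1 ha0'
        (neg_ne_zero.mpr (smul_ne_zero hs0 hb₀0)) hb₀0 e1
        (by rw [qmap_neg, qmap_smul, hb₀Q, mul_zero]) h1⟩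

/-- A single mixed vector puts every non-singular vector in the block. -/
lemma inB_all {a b : V} (ha : a ∈ W) (hb : b ∈ (polB Q).orthogonal W) (ha0 : a ≠ 0)
    (hb0 : b ≠ 0) (hz : InB Q W M (a + b)) (z : V) (hz0 : Q z ≠ 0) : InB Q W M z := by
  have hns : ∀ a' ∈ W, ∀ b' ∈ (polB Q).orthogonal W, Q a' ≠ 0 → Q (a' + b') ≠ 0 →
      InB Q W M (a' + b') := by
    intro a' ha' b' hb' hQa' hsum
    by_cases hb'0 : b' = 0
    · rw [hb'0, add_zero]; exact inB_side hQ hW hgen hm hHM (Or.inl ha') hQa'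
    obtain ⟨b₀, hb₀, hb₀0, h⟩ := inB_reach hQ hW hgen hm hHM hplane ha hb ha0 hb0 hz ha' hQa'
    have ha0' : a' ≠ 0 := fun h => hQa' (by rw [h, QuadraticMap.map_zero])
    exact inB_big_step hQ hW hgen hm hHM ha' ha' hb₀ hb' ha0' ha0' hb₀0 hb'0 1 one_ne_zero
      (by ring) hsum h
  set a' := cmp hQ hW z with ha'def
  have ha' : a' ∈ W := cmp_mem hQ hW z
  set b' := z - a' with hb'def
  have hb' : b' ∈ (polB Q).orthogonal W := sub_cmp_mem hQ hW z
  have hsplit : z = a' + b' := by rw [hb'def]; abel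
  by_cases ha'0 : a' = 0
  · rw [hsplit, ha'0, zero_add]
    exact inB_side hQ hW hgen hm hHM (Or.inr hb') (by rwa [hsplit, ha'0, zero_add] at hz0)
  by_cases hb'0 : b' = 0
  · rw [hsplit, hb'0, add_zero]
    exact inB_side hQ hW hgen hm hHM (Or.inl ha') (by rwa [hsplit, hb'0, add_zero] at hz0)
  by_cases hQa' : Q a' ≠ 0
  · rw [hsplit]; exact hns a' ha' b' hb' hQa' (by rwa [← hsplit])
  push Not at hQa'
  -- reduce to the previous case by a reflection in the block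
  suffices h : ∃ a₁ ∈ W, ∃ b₁ ∈ (polB Q).orthogonal W, Q a₁ ≠ 0 ∧ Q (a₁ + b₁) ≠ 0 ∧
      Q (a' - ((Q (a₁ + b₁))⁻¹ * polB Q z (a₁ + b₁)) • a₁) ≠ 0 by
    obtain ⟨a₁, ha₁, b₁, hb₁, hQ₁, hv0, hnew⟩ := h
    have hv := hns a₁ ha₁ b₁ hb₁ hQ₁ hv0
    set s := (Q (a₁ + b₁))⁻¹ * polB Q z (a₁ + b₁) with hs
    have h2 : (refl Q (a₁ + b₁)).1 z = (a' - s • a₁) + (b' - s • b₁) := by
      rw [refl_apply, ← hs, smul_add, hsplit]; abel
    have h3 := hns _ (sub_mem ha' (W.smul_mem _ ha₁)) _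
      (sub_mem hb' (Submodule.smul_mem _ _ hb₁)) hnew (by rw [← h2, orth_qmap]; exact hz0)
    rw [← h2] at h3
    have h4 := inB_refl hQ hW hgen hm hHM hv h3
    rwa [← orth_mul_apply, refl_sq, orth_one_apply] at h4
  have hf : ∀ a₁ ∈ W, ∀ b₁ ∈ (polB Q).orthogonal W,
      polB Q z (a₁ + b₁) = polB Q a' a₁ + polB Q b' b₁ := by
    intro a₁ ha₁ b₁ hb₁
    rw [hsplit]
    simp [polB_side ha' hb₁, polB_side' hb' ha₁]
  by_cases ht : ∃ t : F, t ≠ 0 ∧ t ≠ 1
  · obtain ⟨t, ht0, ht1⟩ := ht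
    obtain ⟨⟨e, he⟩, hep⟩ := exists_hypPair (restrict_nondeg hW) (c := ⟨a', ha'⟩)
      (by simpa using hQa') (by simpa using ha'0)
    have hQe : Q e = 0 := by simpa using hep.right
    have hae : polB Q a' e = 1 := by
      have := hep.pair
      rwa [polB_restrict] at this
    obtain ⟨b₁, hb₁, hb₁f, hb₁Q, -⟩ := exists_big_pair hQ hW hm hb' hb'0 (t - 1) 0
    have hQa₁ : Q (e + a') = 1 := by rw [qmap_add, hQe, hQa', polB_comm, hae]; ring
    refine ⟨e + a', add_mem he ha', b₁, hb₁, by rw [hQa₁]; exact one_ne_zero, ?_, ?_⟩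
    · rw [qmap_add, hQa₁, hb₁Q, polB_side (add_mem he ha') hb₁]
      simp
    · rw [hf _ (add_mem he ha') _ hb₁, qmap_add (e + a') b₁, hQa₁, hb₁Q,
        polB_side (add_mem he ha') hb₁, polB_comm b', hb₁f, map_add, hae, polB_self, hQa']
      rw [qmap_sub, qmap_smul, hQa₁, hQa', map_smul, map_add, hae, polB_self, hQa']
      simp
      intro h
      have : t * (t - 1) = 0 := by linear_combination h
      rcases mul_eq_zero.mp this with h | h
      · exact ht0 h
      · exact ht1 (sub_eq_zero.mp h)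
  · have hk := hplane (fun ⟨t, h0, h1, _⟩ => ht ⟨t, h0, h1⟩) a' ha' ha'0 hQa'
    obtain ⟨a₁, ha₁, hQ₁, hperp⟩ := exists_nonsing_perp hQ hW hk a'
    obtain ⟨b₁, hb₁, hb₁f, hb₁Q, -⟩ := exists_big_pair hQ hW hm hb' hb'0 1 0
    refine ⟨a₁, ha₁, b₁, hb₁, hQ₁, ?_, ?_⟩
    · rw [qmap_add, hb₁Q, polB_side ha₁ hb₁]
      simpa using hQ₁
    · rw [hf _ ha₁ _ hb₁, qmap_add a₁ b₁, hb₁Q, polB_side ha₁ hb₁, polB_comm b', hb₁f,
        polB_comm a', hperp]
      rw [qmap_sub, qmap_smul, hQa', map_smul, polB_comm a', hperp]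
      simp [hQ₁]

end H45
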