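import Mathlib
import Cfsg.Agent.H45.NondegMax

/-!
# The stabiliser of a non-degenerate subspace is maximal: the theorem
-/

set_option autoImplicit false
set_option linter.unusedSectionVars false

namespace H45

open H43

variable {F : Type*} [Field F] [Finite F] {V : Type*} [AddCommGroup V] [Module F V]
  [FiniteDimensional F V] {Q : QuadraticForm F V}

lemma orthStab_of_orthStab_orth (hQ : (polB Q).Nondegenerate) {W : Submodule F V}
    {g : orthGroup Q} (hg : g ∈ orthStab Q ((polB Q).orthogonal W)) : g ∈ orthStab Q W := by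
  refine mem_orthStab fun x hx => ?_
  rw [← LinearMap.BilinForm.orthogonal_orthogonal hQ (polB_isRefl Q) W]
  intro w hw
  have hg' : ((polB Q).orthogonal W).map (g.1 : V →ₗ[F] V) = (polB Q).orthogonal W := hg
  rw [← hg'] at hw
  obtain ⟨w₀, hw₀, rfl⟩ := hw
  change polB Q (g.1 w₀) (g.1 x) = 0
  rw [orth_polB_map, polB_comm]
  exact hw₀ x hx

lemma orthStab_orth_eq (hQ : (polB Q).Nondegenerate) (W : Submodule F V) :
    orthStab Q ((polB Q).orthogonal W) = orthStab Q W := by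
  refine le_antisymm (fun g hg => orthStab_of_orthStab_orth hQ hg) fun g hg => ?_
  apply orthStab_of_orthStab_orth hQ
  rwa [LinearMap.BilinForm.orthogonal_orthogonal hQ (polB_isRefl Q) W]

variable (hQ : (polB Q).Nondegenerate) {W : Submodule F V}
  (hW : W ⊓ (polB Q).orthogonal W = ⊥) (hgen : ReflGenerates F V)
  (hm : BigSide Q W) {M : Subgroup (orthGroup Q)}
  (hHM : commutator (orthGroup Q) ⊓ orthStab Q W ≤ M)

include hQ hW hgen hm

/-- The vector moved out of both sides by a product of two reflections. -/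
lemma refl_pair_mixed {a b : V} (ha : a ∈ W) (hb : b ∈ (polB Q).orthogonal W) (ha0 : a ≠ 0)
    (hb0 : b ≠ 0) (hx : Q (a + b) ≠ 0) :
    ∃ w ∈ (polB Q).orthogonal W, Q w = 1 ∧ ∀ y, polB Q w y = 0 →
      ∃ a' ∈ W, ∃ b' ∈ (polB Q).orthogonal W, a' ≠ 0 ∧ b' ≠ 0 ∧
        (refl Q (a + b) * refl Q y).1 w = a' + b' := by
  obtain ⟨w, hw, hwb, hwQ, hwspan⟩ := exists_big_pair hQ hW hm hb hb0 1 1
  refine ⟨w, hw, hwQ, fun y hy => ?_⟩
  have hs : (Q (a + b))⁻¹ ≠ 0 := inv_ne_zero hx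
  refine ⟨-((Q (a + b))⁻¹ • a), neg_mem (W.smul_mem _ ha), w - (Q (a + b))⁻¹ • b,
    sub_mem hw (Submodule.smul_mem _ _ hb), neg_ne_zero.mpr (smul_ne_zero hs ha0),
    fun h => hwspan (Submodule.mem_span_singleton.mpr ⟨_, (sub_eq_zero.mp h).symm⟩), ?_⟩
  rw [orth_mul_apply, refl_fix hy, refl_apply, (polB Q w).map_add, polB_side' hw ha, hwb, zero_add,
    mul_one, smul_add]
  abel

omit hgen in
/-- A side vector of value one orthogonal to a mixed vector and to a second vector. -/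
lemma exists_perp_two {a b : V} (ha : a ∈ W) (hb : b ∈ (polB Q).orthogonal W) (hx : Q (a + b) ≠ 0)
    (y : V) :
    ∃ v, (v ∈ W ∨ v ∈ (polB Q).orthogonal W) ∧ polB Q v (a + b) = 0 ∧ polB Q v y = 0 ∧ Q v = 1 := by
  rcases (id hm : BigSide Q W) with h6 | ⟨h5, h5', h2⟩
  · obtain ⟨v, hv, -, h1, h2, h3⟩ :=
      exists_in_big' hQ hW hm (a + b) y 1 (Or.inl ⟨one_ne_zero, Or.inl h6⟩)
    exact ⟨v, Or.inr hv, h1, h2, h3⟩
  -- project to a side on which the first vector is non-singular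
  have hside : ∀ {v : V}, v ∈ (polB Q).orthogonal W → polB Q v (y - cmp hQ hW y) = 0 →
      polB Q v y = 0 := fun {v} hv h => by
    rwa [map_sub, polB_side' hv (cmp_mem hQ hW y), sub_zero] at h
  by_cases hQb : Q b ≠ 0
  · obtain ⟨v, hv, -, h1, h3, h4⟩ := exists_in_big' hQ hW hm b (y - cmp hQ hW y) 1
      (Or.inl ⟨one_ne_zero, Or.inr ⟨b, hb, Submodule.subset_span (by simp), hQb⟩⟩)
    exact ⟨v, Or.inr hv, by rw [map_add, polB_side' hv ha, h1, add_zero], hside hv h3, h4⟩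
  push Not at hQb
  have hQa : Q a ≠ 0 := by
    intro h
    rw [qmap_add, h, hQb, polB_side ha hb] at hx
    exact hx (by simp)
  have hWW : (polB Q).orthogonal ((polB Q).orthogonal W) = W :=
    LinearMap.BilinForm.orthogonal_orthogonal hQ (polB_isRefl Q) W
  have hW' : (polB Q).orthogonal W ⊓ (polB Q).orthogonal ((polB Q).orthogonal W) = ⊥ := by
    rw [hWW, inf_comm, hW]
  have hm' : BigSide Q ((polB Q).orthogonal W) := Or.inr ⟨by rwa [hWW], h5, h2⟩
  obtain ⟨v, hv, -, h1, h3, h4⟩ := exists_in_big' hQ hW' hm' a (cmp hQ hW y) 1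
    (Or.inl ⟨one_ne_zero, Or.inr ⟨a, by rwa [hWW], Submodule.subset_span (by simp), hQa⟩⟩)
  rw [hWW] at hv
  refine ⟨v, Or.inl hv, by rw [map_add, h1, polB_side hv hb, add_zero], ?_, h4⟩
  have e : y = cmp hQ hW y + (y - cmp hQ hW y) := by abel
  rw [e, map_add, h3, polB_side hv (sub_cmp_mem hQ hW y), add_zero]

include hHM

/-- An element outside the stabiliser yields a mixed vector in the block. -/
lemma exists_seed {g : orthGroup Q} (hg : g ∈ M)
    (hswap : ¬ ∀ x ∈ (polB Q).orthogonal W, g.1 x ∈ W)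
    (hgs : g ∉ orthStab Q W) :
    ∃ a ∈ W, ∃ b ∈ (polB Q).orthogonal W, a ≠ 0 ∧ b ≠ 0 ∧ InB Q W M (a + b) := by
  set W' := (polB Q).orthogonal W with hW'
  by_cases hmix : ∃ x' ∈ W', Q x' ≠ 0 ∧ g.1 x' ∉ W ∧ g.1 x' ∉ W'
  · obtain ⟨x', hx', hx'0, hxW, hxW'⟩ := hmix
    set a := cmp hQ hW (g.1 x') with hadef
    have ha : a ∈ W := cmp_mem hQ hW _
    set b := g.1 x' - a with hbdef
    have hb : b ∈ W' := sub_cmp_mem hQ hW _
    have hsplit : g.1 x' = a + b := by rw [hbdef]; abel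
    have ha0 : a ≠ 0 := fun h => hxW' (by rw [hsplit, h, zero_add]; exact hb)
    have hb0 : b ≠ 0 := fun h => hxW (by rw [hsplit, h, add_zero]; exact ha)
    have hx0 : Q (a + b) ≠ 0 := by rw [← hsplit, orth_qmap]; exact hx'0
    obtain ⟨w, hw, hwQ, hmove⟩ := refl_pair_mixed hQ hW hgen hm ha hb ha0 hb0 hx0
    obtain ⟨y', hy', -, hy'w, -, hy'Q⟩ :=
      exists_in_big' hQ hW hm ((g⁻¹).1 w) ((g⁻¹).1 w) (Q x') (Or.inr (Or.inl rfl))
    have hfy : polB Q w (g.1 y') = 0 := by
      rw [← orth_apply_inv_self g w, orth_polB_map, polB_comm]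
      exact hy'w
    obtain ⟨a', ha', b', hb', ha'0, hb'0, heq⟩ := hmove (g.1 y') hfy
    have hh : refl Q (a + b) * refl Q (g.1 y') ∈ M := by
      rw [← hsplit, ← refl_conj, ← refl_conj, conj_mul]
      exact mul_mem (mul_mem hg (side_pair hQ hW hgen hm hHM (Or.inr hx') (Or.inr hy')
        (sameCls_of_eq hx'0 hy'Q))) (inv_mem hg)
    obtain ⟨v, hv, hvx, hvy, hvQ⟩ : ∃ v, (v ∈ W ∨ v ∈ W') ∧ polB Q v (a + b) = 0 ∧
        polB Q v (g.1 y') = 0 ∧ Q v = 1 :=
      exists_perp_two hQ hW hm ha hb hx0 (g.1 y')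
    have hw1 : Q w ≠ 0 := by rw [hwQ]; exact one_ne_zero
    refine ⟨a', ha', b', hb', ha'0, hb'0, ?_⟩
    rw [← heq]
    refine inB_act hQ hW hgen hm hHM hh (inB_side hQ hW hgen hm hHM (Or.inr hw) hw1) hv
      (sameCls_of_eq hw1 (by rw [hvQ, hwQ])) ?_
    rw [orth_mul_apply, refl_fix hvy, refl_fix hvx]
    exact hv
  · exfalso
    push Not at hmix
    have hside : ∀ x' ∈ W', Q x' ≠ 0 → g.1 x' ∈ W ∨ g.1 x' ∈ W' := fun x' h h0 =>
      or_iff_not_imp_left.mpr (hmix x' h h0)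
    have hzero : ∀ x, x ∈ W → x ∈ W' → x = 0 := fun x h h' => by
      have : x ∈ W ⊓ W' := ⟨h, h'⟩
      rwa [hW, Submodule.mem_bot] at this
    -- two non-singular vectors go to the same side
    have hsame : ∀ x' ∈ W', ∀ y' ∈ W', Q x' ≠ 0 → Q y' ≠ 0 → g.1 x' ∈ W → g.1 y' ∈ W := by
      intro x' hx' y' hy' hx0 hy0 hxW
      by_contra hyW
      have hyW' := hmix y' hy' hy0 hyW
      have hA : g.1 x' ≠ 0 := fun h => hx0 (by rw [← orth_qmap g, h, QuadraticMap.map_zero])
      have hB : g.1 y' ≠ 0 := fun h => hy0 (by rw [← orth_qmap g, h, QuadraticMap.map_zero])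
      have hxy : polB Q x' y' = 0 := by
        rw [← orth_polB_map g]; exact hyW' _ hxW
      obtain ⟨z', hz', hout, hzx, hzy, hzQ⟩ := exists_in_big' hQ hW hm x' y' 0
        (Or.inr (Or.inr (Or.inr (Or.inr ⟨hx', hy', hx0, hy0, hxy⟩))))
      have hxz := hside (x' + z') (add_mem hx' hz')
        (by rw [qmap_add, hzQ, polB_comm, hzx]; simpa using hx0)
      have hyz := hside (y' + z') (add_mem hy' hz')
        (by rw [qmap_add, hzQ, polB_comm, hzy]; simpa using hy0)
      rw [map_add] at hxz hyz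
      have hz0 : z' ≠ 0 := fun h => hout (h ▸ zero_mem _)
      rcases hxz with h1 | h1
      · have hZ : g.1 z' ∈ W := by simpa using sub_mem h1 hxW
        rcases hyz with h2 | h2
        · exact hB (hzero _ (by simpa using sub_mem h2 hZ) hyW')
        · exact hz0 (g.1.injective (by
            rw [map_zero]; exact hzero _ hZ (by simpa using sub_mem h2 hyW')))
      · rcases hyz with h2 | h2
        · apply hout
          have e : (g.1 x' + g.1 z') + g.1 y' = g.1 x' + (g.1 y' + g.1 z') := by abel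
          have h3 := hzero _ (add_mem hxW h2) (e ▸ add_mem h1 hyW')
          have h4 : z' = -(x' + y') := by
            apply g.1.injective
            rw [map_neg, map_add, eq_neg_iff_add_eq_zero, ← h3]
            abel
          rw [h4]
          exact Submodule.mem_sup_right (neg_mem (add_mem (Submodule.subset_span (by simp))
            (Submodule.subset_span (by simp))))
        · have h3 : g.1 x' ∈ W' := by
            have := add_mem (sub_mem h1 h2) hyW'
            simpa using this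
          exact hA (hzero _ hxW h3)
    -- so the whole of `W'` goes to one side
    have hspan : ∀ T : Submodule F V, (∀ x' ∈ W', Q x' ≠ 0 → g.1 x' ∈ T) →
        ∀ x' ∈ W', g.1 x' ∈ T := by
      intro T hT x' hx'
      by_cases hx0 : Q x' ≠ 0
      · exact hT x' hx' hx0
      push Not at hx0
      obtain ⟨y', hy', -, hyx, -, hyQ⟩ := exists_in_big' hQ hW hm x' x' 1 (Or.inr (Or.inl rfl))
      have h1 := hT (x' + y') (add_mem hx' hy')
        (by rw [qmap_add, hx0, hyQ, polB_comm, hyx]; simp)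
      have h2 := hT y' hy' (by rw [hyQ]; exact one_ne_zero)
      rw [map_add] at h1
      simpa using sub_mem h1 h2
    by_cases hex : ∃ x' ∈ W', Q x' ≠ 0 ∧ g.1 x' ∈ W
    · obtain ⟨x', hx', hx0, hxW⟩ := hex
      exact hswap (hspan W fun y' hy' hy0 => hsame x' hx' y' hy' hx0 hy0 hxW)
    · push Not at hex
      exact hgs (orthStab_of_orthStab_orth hQ (mem_orthStab
        (hspan W' fun x' hx' hx0 => hmix x' hx' hx0 (hex x' hx' hx0))))

variable (hplane : (¬ ∃ t : F, t ≠ 0 ∧ t ≠ 1 ∧ t ≠ -1) → ∀ a ∈ W, a ≠ 0 → Q a = 0 →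
    3 ≤ Module.finrank F W)

include hplane in
lemma commutator_le_of_seed {a b : V} (ha : a ∈ W) (hb : b ∈ (polB Q).orthogonal W) (ha0 : a ≠ 0)
    (hb0 : b ≠ 0) (hz : InB Q W M (a + b)) : commutator (orthGroup Q) ≤ M := by
  refine commutator_le_of_sameCls hQ hgen M fun x y hxy => ?_
  have hx := inB_all hQ hW hgen hm hHM hplane ha hb ha0 hb0 hz x hxy.1
  have hy := inB_all hQ hW hgen hm hHM hplane ha hb ha0 hb0 hz y hxy.2.1
  obtain ⟨w, hw, -, -, -, hwQ⟩ := exists_in_big' hQ hW hm x x (Q x) (Or.inr (Or.inl rfl))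
  have hxw : SameCls Q x w := sameCls_of_eq hxy.1 hwQ
  have h1 := inB_pair hQ hW hgen hm hHM hx (Or.inr hw) hxw
  have h2 := inB_pair hQ hW hgen hm hHM hy (Or.inr hw) (hxy.symm.trans hxw)
  have h3 := mul_mem h1 (inv_mem h2)
  rwa [mul_inv_rev, refl_inv, refl_inv, mul_assoc, ← mul_assoc (refl Q w), refl_sq, one_mul] at h3

omit hHM in
/-- The stabiliser of a non-degenerate subspace with a large orthogonal complement is maximal in
the commutator subgroup of the orthogonal group. -/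
theorem nondeg_stab_maximal (hne : W ≠ ⊥)
    (hswap : ∀ g ∈ commutator (orthGroup Q), ¬ ∀ x ∈ (polB Q).orthogonal W, g.1 x ∈ W)
    (hplane : (¬ ∃ t : F, t ≠ 0 ∧ t ≠ 1 ∧ t ≠ -1) → ∀ a ∈ W, a ≠ 0 → Q a = 0 →
      3 ≤ Module.finrank F W) :
    orthStab Q W ⊓ commutator (orthGroup Q) < commutator (orthGroup Q) ∧
    ∀ M : Subgroup (orthGroup Q), orthStab Q W ⊓ commutator (orthGroup Q) ≤ M →
      M ≤ commutator (orthGroup Q) →
      M = orthStab Q W ⊓ commutator (orthGroup Q) ∨ M = commutator (orthGroup Q) := by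
  refine ⟨lt_of_le_of_ne inf_le_right fun heq => ?_, fun M hHM hMC => ?_⟩
  · obtain ⟨a, ha, ha0⟩ := Submodule.exists_mem_ne_zero_of_ne_bot hne
    obtain ⟨b, hb, hbout, -, -, hbQ⟩ := exists_in_big' hQ hW hm a a (1 - Q a) (Or.inr (Or.inl rfl))
    have hb0 : b ≠ 0 := fun h => hbout (h ▸ zero_mem _)
    have hx1 : Q (a + b) = 1 := by rw [qmap_add, hbQ, polB_side ha hb]; ring
    have hx0 : Q (a + b) ≠ 0 := by rw [hx1]; exact one_ne_zero
    obtain ⟨w, hw, hwQ, hmove⟩ := refl_pair_mixed hQ hW hgen hm ha hb ha0 hb0 hx0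
    obtain ⟨y, hy, -, hyw, -, hyQ⟩ := exists_in_big' hQ hW hm w w 1 (Or.inr (Or.inl rfl))
    obtain ⟨a', ha', b', hb', ha'0, hb'0, e⟩ := hmove y (by rw [polB_comm]; exact hyw)
    have hmem : refl Q (a + b) * refl Q y ∈ commutator (orthGroup Q) :=
      refl_mul_refl_mem_commutator hQ hgen (two_le_dim hQ hgen hm) hx0
        (by rw [hyQ]; exact one_ne_zero) (by rw [hx1, hyQ])
    rw [← heq] at hmem
    rcases orthStab_side hQ hmem.1 (Or.inr hw) with h | h <;> rw [e] at h
    · have h1 : b' ∈ W ⊓ (polB Q).orthogonal W := ⟨by simpa using sub_mem h ha', hb'⟩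
      rw [hW, Submodule.mem_bot] at h1
      exact hb'0 h1
    · have h1 : a' ∈ W ⊓ (polB Q).orthogonal W := ⟨ha', by simpa using sub_mem h hb'⟩
      rw [hW, Submodule.mem_bot] at h1
      exact ha'0 h1
  · by_cases hsub : M ≤ orthStab Q W
    · exact Or.inl (le_antisymm (le_inf hsub hMC) hHM)
    · obtain ⟨g, hg, hgs⟩ := Set.not_subset.mp hsub
      have hHM' : commutator (orthGroup Q) ⊓ orthStab Q W ≤ M := by rwa [inf_comm]
      obtain ⟨a, ha, b, hb, ha0, hb0, hz⟩ :=
        exists_seed hQ hW hgen hm hHM' hg (hswap g (hMC hg)) hgs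
      exact Or.inr (le_antisymm hMC
        (commutator_le_of_seed hQ hW hgen hm hHM' hplane ha hb ha0 hb0 hz))

end H45
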