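import Mathlib
import Cfsg.Agent.H44.Classify
import Cfsg.Agent.H44.JordanEven
import Cfsg.Agent.H45.NondegMaxThm
import Cfsg.Agent.H45.OrthTransfer

/-!
# Maximality of stabilisers of non-degenerate subspaces in the orthogonal groups
-/

set_option autoImplicit false
set_option linter.unusedSectionVars false

namespace H45

open H43
open scoped Matrix

variable {F : Type*} [Field F]

lemma card_le_three_of_no_elt [Fintype F] (h : ¬ ∃ t : F, t ≠ 0 ∧ t ≠ 1 ∧ t ≠ -1) :
    Fintype.card F ≤ 3 := by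
  classical
  push Not at h
  have hsub : (Finset.univ : Finset F) ⊆ {0, 1, -1} := fun t _ => by
    by_cases h0 : t = 0
    · simp [h0]
    by_cases h1 : t = 1
    · simp [h1]
    simp [h t h0 h1]
  exact (Finset.card_le_card hsub).trans Finset.card_le_three

section

variable {V : Type*} [AddCommGroup V] [Module F V] [FiniteDimensional F V] {Q : QuadraticForm F V}

lemma two_le_of_singular {W : Submodule F V} (hW : W ⊓ (polB Q).orthogonal W = ⊥) {a : V}
    (ha : a ∈ W) (ha0 : a ≠ 0) (hQa : Q a = 0) : 2 ≤ Module.finrank F W := by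
  by_contra h
  apply ha0
  have hspan : Submodule.span F {a} = W :=
    Submodule.eq_of_le_of_finrank_le ((Submodule.span_singleton_le_iff_mem _ _).mpr ha)
      (by rw [finrank_span_singleton ha0]; omega)
  have : a ∈ W ⊓ (polB Q).orthogonal W := by
    refine ⟨ha, fun w hw => ?_⟩
    rw [← hspan] at hw
    obtain ⟨c, rfl⟩ := Submodule.mem_span_singleton.mp hw
    change polB Q (c • a) a = 0
    rw [map_smul, LinearMap.smul_apply, polB_self, hQa, mul_zero, smul_zero]
  rw [hW, Submodule.mem_bot] at this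
  exact this

/-- Maximality for a non-degenerate subspace of either size which is not isometric to its
orthogonal complement. -/
theorem nondeg_stab_maximal' [Fintype F] (hQ : (polB Q).Nondegenerate) {W : Submodule F V}
    (hW : W ⊓ (polB Q).orthogonal W = ⊥) (hn : 10 ≤ Module.finrank F V) (hW0 : W ≠ ⊥)
    (hW1 : W ≠ ⊤)
    (hiso : ∀ g : orthGroup Q, W.map (g.1 : V →ₗ[F] V) ≠ (polB Q).orthogonal W)
    (hplane : Fintype.card F ≤ 3 → ∀ U, U = W ∨ U = (polB Q).orthogonal W →
      Module.finrank F U = 2 → ∀ a ∈ U, a ≠ 0 → Q a ≠ 0) :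
    orthStab Q W ⊓ commutator (orthGroup Q) < commutator (orthGroup Q) ∧
    ∀ M : Subgroup (orthGroup Q), orthStab Q W ⊓ commutator (orthGroup Q) ≤ M →
      M ≤ commutator (orthGroup Q) →
      M = orthStab Q W ⊓ commutator (orthGroup Q) ∨ M = commutator (orthGroup Q) := by
  have hgen : ReflGenerates F V := H43.reflGenerates_of_card (Or.inr (by omega))
  have hfin := finrank_orth_add hQ W
  have hWW : ((polB Q).orthogonal ((polB Q).orthogonal W)) = W :=
    LinearMap.BilinForm.orthogonal_orthogonal hQ (polB_isRefl Q) W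
  have hp : ∀ U, U = W ∨ U = (polB Q).orthogonal W → U ⊓ (polB Q).orthogonal U = ⊥ →
      (¬ ∃ t : F, t ≠ 0 ∧ t ≠ 1 ∧ t ≠ -1) → ∀ a ∈ U, a ≠ 0 → Q a = 0 →
        3 ≤ Module.finrank F U := by
    intro U hU hUnd hsmall a ha ha0 hQa
    have h2 := two_le_of_singular hUnd ha ha0 hQa
    by_contra h3
    exact hplane (card_le_three_of_no_elt hsmall) U hU (by omega) a ha ha0 hQa
  have hodd5 : Module.finrank F W = 5 → (2 : F) ≠ 0 := fun h5 h2 => by
    have hev : Even (Module.finrank F W) :=
      H44.even_finrank_of_alt (polB (Q.comp W.subtype))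
        (fun x => by rw [polB_self, h2, zero_mul]) (restrict_nondeg hW).1
    rw [h5] at hev
    exact absurd hev (by decide)
  by_cases hd : Module.finrank F W ≤ Module.finrank F ((polB Q).orthogonal W)
  · have hm : BigSide Q W := by
      by_cases h6 : 6 ≤ Module.finrank F ((polB Q).orthogonal W)
      · exact Or.inl h6
      · exact Or.inr ⟨by omega, by omega, hodd5 (by omega)⟩
    refine nondeg_stab_maximal hQ hW hgen hm hW0 (fun g _ hg => ?_)
      (hp W (Or.inl rfl) hW)
    -- `g` maps the complement into `W`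
    have hmap : ((polB Q).orthogonal W).map (g.1 : V →ₗ[F] V) = W := by
      refine Submodule.eq_of_le_of_finrank_le ?_ ?_
      · rintro _ ⟨x, hx, rfl⟩
        exact hg x hx
      · rw [LinearEquiv.finrank_map_eq]; exact hd
    refine hiso g⁻¹ ?_
    conv_lhs => rw [← hmap]
    rw [← Submodule.map_comp]
    convert Submodule.map_id _ using 2
    ext x
    exact orth_inv_apply_self g x
  · have hW' : (polB Q).orthogonal W ⊓ (polB Q).orthogonal ((polB Q).orthogonal W) = ⊥ := by
      rw [hWW, inf_comm, hW]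
    have hW'0 : (polB Q).orthogonal W ≠ ⊥ := fun h => hW1 (by
      rw [← hWW, h]
      ext x
      simp only [Submodule.mem_top, iff_true]
      intro y hy
      rw [Submodule.mem_bot] at hy
      subst hy
      change polB Q 0 x = 0
      rw [map_zero, LinearMap.zero_apply])
    have := nondeg_stab_maximal hQ hW' hgen (Or.inl (by rw [hWW]; omega)) hW'0 (fun g _ hg => ?_)
      (hp _ (Or.inr rfl) hW')
    · rwa [orthStab_orth_eq hQ W] at this
    · rw [hWW] at hg
      have hle : W.map (g.1 : V →ₗ[F] V) ≤ (polB Q).orthogonal W := by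
        rintro _ ⟨x, hx, rfl⟩
        exact hg x hx
      have h1 := Submodule.finrank_mono hle
      rw [LinearEquiv.finrank_map_eq] at h1
      omega

/-- A non-degenerate even-dimensional subspace isometric to its orthogonal complement makes the
whole space hyperbolic. -/
theorem exists_singular_half [Finite F] (hQ : (polB Q).Nondegenerate) {W : Submodule F V}
    (hW : W ⊓ (polB Q).orthogonal W = ⊥) (hev : Even (Module.finrank F W))
    (g : orthGroup Q) (hg : W.map (g.1 : V →ₗ[F] V) = (polB Q).orthogonal W) :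
    ∃ U : Submodule F V, (∀ u ∈ U, Q u = 0) ∧ 2 * Module.finrank F U = Module.finrank F V := by
  obtain ⟨m, hm⟩ := hev
  have hsep : H44.PolarSep (Q.comp W.subtype) :=
    H44.polarSep_of_nondegenerate (restrict_nondeg hW)
  have hψ : ∃ ψ : W ≃ₗ[F] W, ∀ w : W, Q (ψ w : V) = -Q (w : V) := by
    rcases H44.equiv_plus_or_minus (m := m) (by omega) (Q.comp W.subtype) hsep with
      ⟨φ, hφ⟩ | ⟨-, ζ, φ, hζ, hφ⟩
    · refine ⟨(φ.trans (H44.scaleLeftEquiv m (-1) (neg_ne_zero.mpr one_ne_zero))).trans φ.symm,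
        fun w => ?_⟩
      have h1 := hφ ((φ.trans (H44.scaleLeftEquiv m (-1) (neg_ne_zero.mpr one_ne_zero))).trans
        φ.symm w)
      simp only [LinearEquiv.trans_apply, LinearEquiv.apply_symm_apply, H44.plus_scale, ← hφ,
        QuadraticMap.comp_apply, Submodule.coe_subtype, neg_mul, one_mul] at h1
      exact h1
    · obtain ⟨σ, hσ⟩ := H44.minus_scale hζ (m - 1) (-1) (neg_ne_zero.mpr one_ne_zero)
      refine ⟨(φ.trans σ).trans φ.symm, fun w => ?_⟩
      have h1 := hφ (((φ.trans σ).trans φ.symm) w)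
      simp only [LinearEquiv.trans_apply, LinearEquiv.apply_symm_apply, hσ, ← hφ,
        QuadraticMap.comp_apply, Submodule.coe_subtype, neg_mul, one_mul] at h1
      exact h1
  obtain ⟨ψ, hψ⟩ := hψ
  let L : W →ₗ[F] V := W.subtype + (g.1 : V →ₗ[F] V) ∘ₗ W.subtype ∘ₗ (ψ : W →ₗ[F] W)
  have himg : ∀ w : W, g.1 (ψ w : V) ∈ (polB Q).orthogonal W := fun w =>
    hg ▸ ⟨_, (ψ w).2, rfl⟩
  have hinj : Function.Injective L := by
    rw [← LinearMap.ker_eq_bot, eq_bot_iff]
    intro w hw
    rw [LinearMap.mem_ker] at hw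
    have hw' : (w : V) + g.1 (ψ w : V) = 0 := hw
    have : (w : V) ∈ W ⊓ (polB Q).orthogonal W :=
      ⟨w.2, by rw [eq_neg_of_add_eq_zero_left hw']; exact neg_mem (himg w)⟩
    rw [hW, Submodule.mem_bot] at this
    simpa using this
  refine ⟨LinearMap.range L, ?_, ?_⟩
  · rintro _ ⟨w, rfl⟩
    change Q ((w : V) + g.1 (ψ w : V)) = 0
    rw [qmap_add, orth_qmap, hψ, polB_side w.2 (himg w)]
    ring
  · rw [LinearMap.finrank_range_of_inj hinj]
    have h1 := finrank_orth_add hQ W
    rw [← hg, LinearEquiv.finrank_map_eq] at h1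
    omega

end

/-- The criterion in the language of matrices. -/
theorem subspaceStabilizer_maximal {ι : Type} [Fintype ι] [DecidableEq ι] [Fintype F]
    (hn : 10 ≤ Fintype.card ι) (q : QuadraticForm F (ι → F)) (hq : (polB q).Nondegenerate)
    (W : Submodule F (ι → F)) (hW0 : W ≠ ⊥) (hW1 : W ≠ ⊤)
    (hW : Cfsg.Geo.IsNondegenerateOn (QuadraticMap.polar q) W)
    (hiso : ∀ g : orthGroup q, W.map (g.1 : (ι → F) →ₗ[F] (ι → F)) ≠ (polB q).orthogonal W)
    (hplane : Fintype.card F ≤ 3 → ∀ U, U = W ∨ U = (polB q).orthogonal W →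
      Module.finrank F U = 2 → ¬ Cfsg.Geo.IsPlusTypeOn (⇑q) U) :
    Cfsg.Geo.IsMaximalIn (Cfsg.Geo.omegaGL ⇑q)
      (Cfsg.Geo.subspaceStabilizer W ⊓ Cfsg.Geo.omegaGL ⇑q) := by
  refine isMaximalIn_of_orth q _ (orthStab q W)
    (fun g _ => toGL_mem_subspaceStabilizer_iff q g W)
    (nondeg_stab_maximal' hq (orth_inf_eq_bot_of_nondegenerateOn hW)
      (by rw [Module.finrank_pi]; exact hn) hW0 hW1 hiso fun hc U hU h2 a ha ha0 hQa => ?_)
  refine hplane hc U hU h2 ⟨Submodule.span F {a}, (Submodule.span_singleton_le_iff_mem _ _).mpr ha,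
    ?_, by rw [finrank_span_singleton ha0, h2]⟩
  intro w hw
  obtain ⟨c, rfl⟩ := Submodule.mem_span_singleton.mp hw
  rw [qmap_smul, hQa, mul_zero]


lemma nondegenerateOn_orth {ι : Type} [Fintype ι] [DecidableEq ι] {q : QuadraticForm F (ι → F)}
    (hq : (polB q).Nondegenerate) {W : Submodule F (ι → F)}
    (hW : Cfsg.Geo.IsNondegenerateOn (QuadraticMap.polar q) W) :
    Cfsg.Geo.IsNondegenerateOn (QuadraticMap.polar q) ((polB q).orthogonal W) := by
  intro w hw hw0
  have key : ∃ x ∈ (polB q).orthogonal W, polB q x w ≠ 0 := by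
    by_contra h
    push Not at h
    apply hw0
    have hmem : w ∈ (polB q).orthogonal W ⊓ (polB q).orthogonal ((polB q).orthogonal W) :=
      ⟨hw, h⟩
    rw [LinearMap.BilinForm.orthogonal_orthogonal hq (polB_isRefl q) W, inf_comm,
      orth_inf_eq_bot_of_nondegenerateOn hW, Submodule.mem_bot] at hmem
    exact hmem
  obtain ⟨x, hx, hxw⟩ := key
  exact ⟨⟨x, hx, hxw⟩, x, hx, by
    change polB q w x ≠ 0
    rw [polB_comm]; exact hxw⟩

/-- Two non-isometric halves: the stabiliser of the decomposition is the stabiliser of a half. -/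
theorem halves_maximal [Fintype F] {n k : ℕ} (hn : 10 ≤ n) (hk : 2 * k = n)
    (q : QuadraticForm F (Fin n → F)) (hq : (polB q).Nondegenerate)
    (D : Fin 2 → Submodule F (Fin n → F))
    (hD : Cfsg.Geo.IsNondegenerateMDecomposition (QuadraticMap.polar q) k D)
    (hni : ¬ Cfsg.Geo.AreIsometricFor (⇑q) (D 0) (D 1)) :
    Cfsg.Geo.IsMaximalIn (Cfsg.Geo.omegaGL ⇑q)
      (Cfsg.Geo.decompositionStabilizer D ⊓ Cfsg.Geo.omegaGL ⇑q) := by
  have h0 := hD.decomp.finrank_eq 0
  have h1 := hD.decomp.finrank_eq 1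
  have hcard : Fintype.card (Fin n) = n := Fintype.card_fin n
  have he : D 1 = (polB q).orthogonal (D 0) :=
    eq_orthogonal_of_areOrthogonal hq (hD.orthogonal 1 0 (by decide)) (by omega)
  have hiso : ∀ g : orthGroup q,
      (D 0).map (g.1 : (Fin n → F) →ₗ[F] (Fin n → F)) ≠ (polB q).orthogonal (D 0) := by
    intro g hg
    rw [← he] at hg
    exact hni ⟨(g.1.submoduleMap (D 0)).trans (LinearEquiv.ofEq _ _ hg), fun w => g.2 w⟩
  have hmax := subspaceStabilizer_maximal (by omega) q hq (D 0)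
    (fun h => by rw [h, finrank_bot] at h0; omega)
    (fun h => by rw [h, finrank_top, Module.finrank_pi] at h0; omega)
    (hD.nondegenerate 0) hiso fun _ U hU hU2 => by
      rcases hU with rfl | rfl
      · omega
      · rw [← he] at hU2; omega
  have hfix : Cfsg.Geo.decompositionStabilizer D ⊓ Cfsg.Geo.omegaGL ⇑q =
      Cfsg.Geo.subspaceStabilizer (D 0) ⊓ Cfsg.Geo.omegaGL ⇑q := by
    rw [omegaGL_eq_map]
    ext x
    refine and_congr_left fun ⟨g, _, hgx⟩ => ?_
    subst hgx
    have hact : ∀ y, act (toGL q g) y = g.1 y := toGL_apply q g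
    constructor
    · intro hd
      obtain ⟨σ, hσ⟩ := apply_mem_of_mem_decompositionStabilizer hd
      rcases (by omega : σ 0 = 0 ∨ σ 0 = 1) with e | e
      · exact mem_subspaceStabilizer_of_maps_into fun y hy => by simpa [e] using hσ 0 y hy
      · exfalso
        refine hiso g (Submodule.eq_of_le_of_finrank_le ?_ ?_)
        · rintro _ ⟨y, hy, rfl⟩
          rw [← he]
          simpa [e, hact] using hσ 0 y hy
        · rw [LinearEquiv.finrank_map_eq, ← he, h0, h1]
    · intro hs
      have hg := (toGL_mem_subspaceStabilizer_iff q g (D 0)).mp hs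
      refine ⟨1, fun i => map_eq_of_maps_into _ (fun y hy => ?_) le_rfl⟩
      fin_cases i
      · exact (mem_subspaceStabilizer_iff.mp hs y).mp hy
      · rw [← orthStab_orth_eq hq (D 0), ← he] at hg
        exact hact y ▸ (show (D 1).map (g.1 : (Fin n → F) →ₗ[F] (Fin n → F)) = D 1 from hg) ▸
          ⟨y, hy, rfl⟩
  rw [hfix]
  exact hmax

end H45
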