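import Mathlib
import Cfsg.Agent.H43.Eichler
import Cfsg.Agent.H45.NondegGeom

/-!
# Vectors of prescribed value inside a member of an orthogonal decomposition
-/

set_option autoImplicit false
set_option linter.unusedSectionVars false

namespace H45

open H43

variable {F : Type*} [Field F] [Finite F] {V : Type*} [AddCommGroup V] [Module F V]
  [FiniteDimensional F V] {Q : QuadraticForm F V}

/-- The polar form has no radical on `U`. -/
def NdOn (Q : QuadraticForm F V) (U : Submodule F V) : Prop :=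
  ∀ x ∈ U, (∀ y ∈ U, polB Q x y = 0) → x = 0

lemma ndOn_inf {U : Submodule F V} (hU : NdOn Q U) : U ⊓ (polB Q).orthogonal U = ⊥ := by
  rw [eq_bot_iff]
  rintro x ⟨hx, hx'⟩
  exact hU x hx fun y hy => by rw [polB_comm]; exact hx' y hy

lemma ndOn_exists_polB {U : Submodule F V} (hU : NdOn Q U) {z : V} (hz : z ∈ U) (hz0 : z ≠ 0)
    (t : F) : ∃ w ∈ U, polB Q w z = t := by
  by_contra hcon
  push Not at hcon
  refine hz0 (hU z hz fun y hy => ?_)
  by_contra h
  refine hcon ((t / polB Q z y) • y) (U.smul_mem _ hy) ?_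
  rw [map_smul, LinearMap.smul_apply, smul_eq_mul, polB_comm y z, div_mul_cancel₀ _ h]

/-- The vectors of `U` orthogonal to `z`. -/
def perpIn (Q : QuadraticForm F V) (U : Submodule F V) (z : V) : Submodule F V :=
  U ⊓ LinearMap.ker ((polB Q).flip z)

omit [Finite F] [FiniteDimensional F V] in
lemma mem_perpIn {U : Submodule F V} {z x : V} :
    x ∈ perpIn Q U z ↔ x ∈ U ∧ polB Q x z = 0 := Iff.rfl

lemma finrank_perpIn (U : Submodule F V) (z : V) :
    Module.finrank F U ≤ Module.finrank F (perpIn Q U z) + 1 := by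
  let L : U →ₗ[F] F := ((polB Q).flip z).comp U.subtype
  have h3 : Module.finrank F (LinearMap.range L) ≤ 1 := (Submodule.finrank_le _).trans (by simp)
  have h4 := L.finrank_range_add_finrank_ker
  have hle : (LinearMap.ker L).map U.subtype ≤ perpIn Q U z := by
    rintro _ ⟨x, hx, rfl⟩
    exact ⟨x.2, hx⟩
  have h5 := Submodule.finrank_mono hle
  rw [Submodule.finrank_map_subtype_eq] at h5
  omega

lemma ndOn_perpIn {U : Submodule F V} (hU : NdOn Q U) {z : V} (hz : z ∈ U)
    (hzz : polB Q z z ≠ 0) : NdOn Q (perpIn Q U z) := by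
  intro x hx hperp
  refine hU x hx.1 fun y hy => ?_
  have hy' : y - (polB Q y z / polB Q z z) • z ∈ perpIn Q U z :=
    mem_perpIn.mpr ⟨sub_mem hy (U.smul_mem _ hz), by
      rw [map_sub, map_smul, LinearMap.sub_apply, LinearMap.smul_apply, smul_eq_mul,
        div_mul_cancel₀ _ hzz, sub_self]⟩
  have h := hperp _ hy'
  rwa [map_sub, map_smul, (mem_perpIn.mp hx).2, smul_zero, sub_zero] at h

lemma ndOn_perpIn₂ {U : Submodule F V} (hU : NdOn Q U) {z w : V} (hz : z ∈ U) (hw : w ∈ U)
    (hdet : polB Q z z * polB Q w w - polB Q z w * polB Q z w ≠ 0) :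
    NdOn Q (perpIn Q (perpIn Q U z) w) := by
  intro x hx hperp
  refine hU x hx.1.1 fun y hy => ?_
  set d := polB Q z z * polB Q w w - polB Q z w * polB Q z w with hd
  set a := (polB Q y z * polB Q w w - polB Q y w * polB Q z w) / d with ha
  set b := (polB Q y w * polB Q z z - polB Q y z * polB Q z w) / d with hb
  have hy' : y - a • z - b • w ∈ perpIn Q (perpIn Q U z) w := by
    refine mem_perpIn.mpr ⟨mem_perpIn.mpr
      ⟨sub_mem (sub_mem hy (U.smul_mem _ hz)) (U.smul_mem _ hw), ?_⟩, ?_⟩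
    · simp only [map_sub, map_smul, LinearMap.sub_apply, LinearMap.smul_apply, smul_eq_mul,
        polB_comm w z, ha, hb]
      field_simp
      rw [hd]; ring
    · simp only [map_sub, map_smul, LinearMap.sub_apply, LinearMap.smul_apply, smul_eq_mul,
        ha, hb]
      field_simp
      rw [hd]; ring
  have h := hperp _ hy'
  rw [map_sub, map_sub, map_smul, map_smul, (mem_perpIn.mp hx.1).2, (mem_perpIn.mp hx).2,
    smul_zero, smul_zero, sub_zero, sub_zero] at h
  exact h

lemma exists_value_in {U : Submodule F V} (hU : NdOn Q U) (h2 : 2 ≤ Module.finrank F U) {c : F}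
    (hc : c ≠ 0) : ∃ y ∈ U, Q y = c := by
  obtain ⟨y, hy⟩ := exists_qmap_eq (restrict_nondeg (ndOn_inf hU)) h2 c hc
  exact ⟨y, y.2, hy⟩

variable {U : Submodule F V} (hU : NdOn Q U) (hk : 3 ≤ Module.finrank F U)

include hU hk

lemma four_le_of_two_eq_zero (h2 : (2 : F) = 0) : 4 ≤ Module.finrank F U := by
  by_contra h
  obtain ⟨z, hz, hz0⟩ := Submodule.exists_mem_ne_zero_of_ne_bot (p := U) (fun e => by
    rw [e, finrank_bot] at hk; omega)
  obtain ⟨w, hw, hwz⟩ := ndOn_exists_polB hU hz hz0 1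
  have hzz : polB Q z z = 0 := by rw [polB_self, h2, zero_mul]
  have hS := ndOn_perpIn₂ (Q := Q) hU hz hw (by rw [hzz, polB_comm z w, hwz]; simp)
  have e1 := finrank_perpIn (Q := Q) U z
  have e2 := finrank_perpIn (Q := Q) (perpIn Q U z) w
  set S := perpIn Q (perpIn Q U z) w with hSdef
  have hle : S ⊔ Submodule.span F (Set.range ![z, w]) ≤ U := sup_le (inf_le_left.trans inf_le_left)
    (Submodule.span_le.mpr (by rintro _ ⟨i, rfl⟩; fin_cases i <;> simp [hz, hw]))
  have hind : LinearIndependent F ![z, w] := by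
    rw [LinearIndependent.pair_iff]
    intro a b hab
    have ha := congrArg (fun v => polB Q v w) hab
    have hb := congrArg (fun v => polB Q v z) hab
    simp [hzz, hwz, polB_comm z w] at ha hb
    subst hb
    simp at ha
    exact ⟨ha, rfl⟩
  have hdis : S ⊓ Submodule.span F (Set.range ![z, w]) = ⊥ := by
    rw [eq_bot_iff]
    rintro v ⟨hv, hv'⟩
    rw [Submodule.mem_bot]
    refine hS v hv fun y hy => ?_
    obtain ⟨g, rfl⟩ := (Submodule.mem_span_range_iff_exists_fun F).mp hv'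
    simp [Fin.sum_univ_two, polB_comm z y, polB_comm w y, (mem_perpIn.mp hy.1).2,
      (mem_perpIn.mp hy).2]
  have e3 := Submodule.finrank_sup_add_finrank_inf_eq S (Submodule.span F (Set.range ![z, w]))
  rw [hdis, finrank_bot, finrank_span_eq_card hind, Fintype.card_fin] at e3
  have e4 := Submodule.finrank_mono hle
  exact even_finrank_of_two_eq_zero (restrict_nondeg (ndOn_inf hS)) h2 (by omega)

/-- A vector of value `δ` with prescribed polar value against `z`. -/
lemma exists_val_pair {z : V} (hz : z ∈ U) (hz0 : z ≠ 0) {δ φ : F} (hδ : δ ≠ 0)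
    (h : Q z ≠ 0 ∨ φ ≠ 0) : ∃ w ∈ U, Q w = δ ∧ polB Q w z = φ := by
  by_cases hQz : Q z = 0
  · have hφ : φ ≠ 0 := h.resolve_left (not_not.mpr hQz)
    obtain ⟨w₀, hw₀, hw₀z⟩ := ndOn_exists_polB hU hz hz0 φ
    refine ⟨w₀ + ((δ - Q w₀) / φ) • z, add_mem hw₀ (U.smul_mem _ hz), ?_, ?_⟩
    · rw [qmap_add_smul, hQz, hw₀z, div_mul_cancel₀ _ hφ]; ring
    · rw [map_add, map_smul, LinearMap.add_apply, LinearMap.smul_apply, hw₀z, polB_self, hQz]; simp
  by_cases h2 : (2 : F) = 0
  · have hk4 := four_le_of_two_eq_zero hU hk h2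
    obtain ⟨z₁, hz₁, hz₁z⟩ := ndOn_exists_polB hU hz hz0 1
    have hzz : polB Q z z = 0 := by rw [polB_self, h2, zero_mul]
    have hS := ndOn_perpIn₂ (Q := Q) hU hz hz₁
      (by rw [hzz, polB_comm z z₁, hz₁z]; simp)
    have hd : 2 ≤ Module.finrank F (perpIn Q (perpIn Q U z) z₁) := by
      have e1 := finrank_perpIn (Q := Q) U z
      have e2 := finrank_perpIn (Q := Q) (perpIn Q U z) z₁
      omega
    by_cases he : δ - φ * φ * Q z₁ = 0
    · refine ⟨φ • z₁, U.smul_mem _ hz₁, ?_, ?_⟩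
      · rw [qmap_smul]; exact (sub_eq_zero.mp he).symm
      · rw [map_smul, LinearMap.smul_apply, hz₁z, smul_eq_mul, mul_one]
    obtain ⟨y, hy, hyQ⟩ := exists_value_in hS hd he
    obtain ⟨hy1, hy2⟩ := mem_perpIn.mp hy
    obtain ⟨hyU, hyz⟩ := mem_perpIn.mp hy1
    refine ⟨y + φ • z₁, add_mem hyU (U.smul_mem _ hz₁), ?_, ?_⟩
    · rw [qmap_add_smul, hyQ, hy2]; ring
    · rw [map_add, map_smul, LinearMap.add_apply, LinearMap.smul_apply, hyz, hz₁z]; simp
  · have hzz : polB Q z z ≠ 0 := by rw [polB_self]; exact mul_ne_zero h2 hQz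
    set a := φ / polB Q z z with ha
    by_cases he : δ - a * a * Q z = 0
    · refine ⟨a • z, U.smul_mem _ hz, ?_, ?_⟩
      · rw [qmap_smul]; exact (sub_eq_zero.mp he).symm
      · rw [map_smul, LinearMap.smul_apply, smul_eq_mul, ha, div_mul_cancel₀ _ hzz]
    have hd : 2 ≤ Module.finrank F (perpIn Q U z) := by
      have := finrank_perpIn (Q := Q) U z
      omega
    obtain ⟨y, hy, hyQ⟩ := exists_value_in (ndOn_perpIn hU hz hzz) hd he
    obtain ⟨hyU, hyz⟩ := mem_perpIn.mp hy
    refine ⟨y + a • z, add_mem hyU (U.smul_mem _ hz), ?_, ?_⟩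
    · rw [qmap_add_smul, hyQ, hyz]; ring
    · rw [map_add, map_smul, LinearMap.add_apply, LinearMap.smul_apply, hyz, smul_eq_mul, ha,
        div_mul_cancel₀ _ hzz, zero_add]

/-- A singular vector with prescribed non-zero polar value against `z`. -/
lemma exists_sing_pair {z : V} (hz : z ∈ U) (hz0 : z ≠ 0) {φ : F} (hφ : φ ≠ 0) :
    ∃ w ∈ U, Q w = 0 ∧ polB Q w z = φ := by
  obtain ⟨s, hs, hs0, hsQ⟩ := exists_singular_in (Q := Q) U hk
  obtain ⟨y, hy, hys⟩ := ndOn_exists_polB hU hs hs0 1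
  by_contra hcon
  push Not at hcon
  refine hz0 (hU z hz fun x hx => ?_)
  have hspan := mem_span_singular hs hsQ hy (by rw [polB_comm, hys]; exact one_ne_zero) hx
  clear hx
  induction hspan using Submodule.span_induction with
  | mem w hw =>
    by_contra h
    rw [polB_comm] at h
    refine hcon ((φ / polB Q w z) • w) (U.smul_mem _ hw.1) (by rw [qmap_smul, hw.2, mul_zero]) ?_
    rw [map_smul, LinearMap.smul_apply, smul_eq_mul, div_mul_cancel₀ _ h]
  | zero => simp
  | add a b _ _ ha hb => rw [map_add, ha, hb, add_zero]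
  | smul c a _ ha => rw [map_smul, ha, smul_zero]

/-- Every value orthogonally to a zero or non-singular vector. -/
lemma exists_val_perp {u : V} (hu : u ∈ U) (hu0 : u = 0 ∨ Q u ≠ 0) {c : F} (hc : c ≠ 0) :
    ∃ b ∈ U, Q b = c ∧ polB Q b u = 0 := by
  by_cases h : u = 0
  · obtain ⟨b, hb, hbQ⟩ := exists_value_in hU (by omega) hc
    exact ⟨b, hb, hbQ, by rw [h, map_zero]⟩
  · exact exists_val_pair hU hk hu h hc (Or.inl (hu0.resolve_left h))

/-- Every value orthogonally to an arbitrary vector in dimension at least four. -/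
lemma exists_val_perp_four (hk4 : 4 ≤ Module.finrank F U) {u : V} (hu : u ∈ U) {c : F}
    (hc : c ≠ 0) : ∃ b ∈ U, Q b = c ∧ polB Q b u = 0 := by
  by_cases h : u = 0 ∨ Q u ≠ 0
  · exact exists_val_perp hU hk hu h hc
  push Not at h
  obtain ⟨w, hw, hwu⟩ := ndOn_exists_polB hU hu h.1 1
  have hS := ndOn_perpIn₂ (Q := Q) hU hu hw (by
    rw [polB_self u, h.2, polB_comm u w, hwu]; simp)
  have hd : 2 ≤ Module.finrank F (perpIn Q (perpIn Q U u) w) := by
    have e1 := finrank_perpIn (Q := Q) U u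
    have e2 := finrank_perpIn (Q := Q) (perpIn Q U u) w
    omega
  obtain ⟨b, hb, hbQ⟩ := exists_value_in hS hd hc
  exact ⟨b, hb.1.1, hbQ, (mem_perpIn.mp hb.1).2⟩

/-- A common non-orthogonal vector of the same value, in characteristic two. -/
lemma exists_common_even (h2 : (2 : F) = 0) {x y : V} (hx : x ∈ U) (hy : y ∈ U) (hQx : Q x ≠ 0)
    (hQy : Q y = Q x) (hne : y ≠ x) (hxy : polB Q x y = 0)
    (hsmall : (∃ l : F, l ≠ 0 ∧ l ≠ 1) ∨ 6 ≤ Module.finrank F U ∨
      ∀ S ≤ U, (∀ s ∈ S, Q s = 0) → Module.finrank F S ≤ 1) :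
    ∃ z ∈ U, Q z = Q x ∧ polB Q z x ≠ 0 ∧ polB Q z y ≠ 0 := by
  haveI : CharP F 2 := CharTwo.of_one_ne_zero_of_two_eq_zero one_ne_zero h2
  have hk4 := four_le_of_two_eq_zero hU hk h2
  have hx0 : x ≠ 0 := fun h => hQx (by rw [h, QuadraticMap.map_zero])
  have hxx : polB Q x x = 0 := by rw [polB_self, h2, zero_mul]
  have hyy : polB Q y y = 0 := by rw [polB_self, h2, zero_mul]
  obtain ⟨z₁, hz₁, hz₁x, hz₁y⟩ : ∃ z ∈ U, polB Q z x = 1 ∧ polB Q z y = 1 := by
    have hindep : y ∉ Submodule.span F {x} := fun h => by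
      obtain ⟨a, rfl⟩ := Submodule.mem_span_singleton.mp h
      rw [qmap_smul] at hQy
      have : (a - 1) * (a - 1) * Q x = 0 := by linear_combination hQy - (a - 1) * Q x * h2
      rcases mul_eq_zero.mp this with e | e
      · exact hne (by rw [sub_eq_zero.mp (mul_self_eq_zero.mp e), one_smul])
      · exact hQx e
    obtain ⟨a, ha, hax⟩ := ndOn_exists_polB hU hx hx0 1
    have hy' : y - polB Q a y • x ≠ 0 := fun h => hindep
      (Submodule.mem_span_singleton.mpr ⟨_, (sub_eq_zero.mp h).symm⟩)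
    obtain ⟨b, hb, hby⟩ := ndOn_exists_polB hU (sub_mem hy (U.smul_mem _ hx)) hy' (1 - polB Q a y)
    have hb' : polB Q b y - polB Q a y * polB Q b x = 1 - polB Q a y := by
      rw [← hby, map_sub, map_smul, smul_eq_mul]
    refine ⟨b + (1 - polB Q b x) • a, add_mem hb (U.smul_mem _ ha), ?_, ?_⟩
    · simp [hax]
    · rw [map_add, map_smul, LinearMap.add_apply, LinearMap.smul_apply, smul_eq_mul]
      linear_combination hb'
  suffices h : ∃ z' ∈ U, polB Q z' x = 1 ∧ polB Q z' y = 1 ∧ Q z' ≠ 0 by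
    obtain ⟨z', hz', h1, h1', hq⟩ := h
    obtain ⟨r, hr⟩ := isSquare_of_two_eq_zero h2 (Q x / Q z')
    have hr0 : r ≠ 0 := fun e => by
      rw [e, mul_zero, div_eq_zero_iff] at hr
      tauto
    refine ⟨r • z', U.smul_mem _ hz', ?_, ?_, ?_⟩
    · rw [qmap_smul, ← hr, div_mul_cancel₀ _ hq]
    · simp [h1, hr0]
    · simp [h1', hr0]
  by_cases hq : Q z₁ ≠ 0
  · exact ⟨z₁, hz₁, hz₁x, hz₁y, hq⟩
  push Not at hq
  rcases hsmall with ⟨l, hl0, hl1⟩ | h6 | hS
  · refine ⟨z₁ + (l / Q x) • x, add_mem hz₁ (U.smul_mem _ hx), by simp [hz₁x, hxx],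
      by simp [hz₁y, hxy], ?_⟩
    rw [qmap_add_smul, hq, hz₁x, zero_add, mul_one,
      show l / Q x * (l / Q x) * Q x + l / Q x = l * (l + 1) / Q x by field_simp]
    refine div_ne_zero (mul_ne_zero hl0 fun h => hl1 ?_) hQx
    linear_combination h - h2
  · -- dimension at least six
    set S := perpIn Q (perpIn Q (perpIn Q U x) y) z₁ with hSdef
    obtain ⟨s, hs, hsQ⟩ : ∃ s ∈ S, Q s ≠ 0 := by
      by_contra hcon
      push Not at hcon
      have hsS : ∀ s ∈ S, s ∈ U ∧ polB Q s x = 0 ∧ polB Q s z₁ = 0 := fun s hs =>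
        ⟨hs.1.1.1, (mem_perpIn.mp hs.1.1).2, (mem_perpIn.mp hs).2⟩
      have hnot : x ∉ S := fun h => hQx (hcon x h)
      have hTS : ∀ v ∈ S ⊔ Submodule.span F {z₁}, Q v = 0 := by
        intro v hv
        obtain ⟨s, hs, w, hw, rfl⟩ := Submodule.mem_sup.mp hv
        obtain ⟨a, rfl⟩ := Submodule.mem_span_singleton.mp hw
        rw [qmap_add_smul, hcon s hs, hq, (hsS s hs).2.2]; simp
      have hzS : z₁ ∉ S := fun h => by
        have := (hsS z₁ h).2.1
        rw [hz₁x] at this
        exact one_ne_zero this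
      have hd := Submodule.finrank_sup_span_singleton hzS
      have e1 := finrank_perpIn (Q := Q) U x
      have e2 := finrank_perpIn (Q := Q) (perpIn Q U x) y
      have e3 := finrank_perpIn (Q := Q) (perpIn Q (perpIn Q U x) y) z₁
      rw [← hSdef] at e3
      have hle : (S ⊔ Submodule.span F {z₁}).comap U.subtype =
          (S ⊔ Submodule.span F {z₁}).comap U.subtype := rfl
      have hb := two_mul_finrank_singular_le (restrict_nondeg (ndOn_inf hU))
        ((S ⊔ Submodule.span F {z₁}).comap U.subtype) (fun v hv => hTS v hv)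
      have hsub : S ⊔ Submodule.span F {z₁} ≤ U :=
        sup_le (fun s hs => (hsS s hs).1) ((Submodule.span_singleton_le_iff_mem _ _).mpr hz₁)
      rw [(Submodule.comapSubtypeEquivOfLe hsub).finrank_eq] at hb
      omega
    obtain ⟨r, hr⟩ := isSquare_of_two_eq_zero h2 (Q x / Q s)
    have hsz : polB Q z₁ s = 0 := by rw [polB_comm]; exact (mem_perpIn.mp hs).2
    refine ⟨z₁ + r • s, add_mem hz₁ (U.smul_mem _ hs.1.1.1), ?_, ?_, ?_⟩
    · simp [hz₁x, (mem_perpIn.mp hs.1.1).2]
    · simp [hz₁y, (mem_perpIn.mp hs.1).2]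
    · rw [qmap_add_smul, hq, ← hr, div_mul_cancel₀ _ hsQ, hsz]; simpa using hQx
  · -- no singular planes
    exfalso
    set e := x + y with he
    have hQe : Q e = 0 := by
      rw [he, qmap_add, hQy, hxy]; linear_combination Q x * h2
    have hez : polB Q z₁ e = 0 := by
      rw [he, map_add, hz₁x, hz₁y]; linear_combination h2
    have hind : LinearIndependent F ![e, z₁] := by
      rw [LinearIndependent.pair_iff]
      intro a b hab
      have hb := congrArg (fun v => polB Q v x) hab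
      simp [he, hxx, polB_comm y x, hxy, hz₁x] at hb
      subst hb
      rw [zero_smul, add_zero, smul_eq_zero] at hab
      refine ⟨hab.resolve_right fun h => hne ?_, rfl⟩
      rw [he, add_eq_zero_iff_eq_neg] at h
      rw [h, eq_neg_iff_add_eq_zero, ← two_smul F y, h2, zero_smul]
    have h := hS (Submodule.span F (Set.range ![e, z₁]))
      (Submodule.span_le.mpr (by rintro _ ⟨i, rfl⟩; fin_cases i <;> simp [he, add_mem hx hy, hz₁]))
      (fun v hv => by
        obtain ⟨g, rfl⟩ := (Submodule.mem_span_range_iff_exists_fun F).mp hv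
        simp [Fin.sum_univ_two, qmap_add, qmap_smul, hQe, hq, polB_comm e z₁, hez])
    rw [finrank_span_eq_card hind, Fintype.card_fin] at h
    omega

/-- A common non-orthogonal vector of the same value, in odd characteristic. -/
lemma exists_common_odd [Fintype F] (h2 : (2 : F) ≠ 0)
    (h3 : 4 ≤ Module.finrank F U ∨ Fintype.card F ≠ 3) {x y : V} (hx : x ∈ U) (hy : y ∈ U)
    (hQx : Q x ≠ 0) (hQy : Q y = Q x) (hxy : polB Q x y = 0) :
    ∃ z ∈ U, Q z = Q x ∧ polB Q z x ≠ 0 ∧ polB Q z y ≠ 0 := by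
  have hxx : polB Q x x ≠ 0 := by rw [polB_self]; exact mul_ne_zero h2 hQx
  have hyy : polB Q y y ≠ 0 := by rw [polB_self, hQy]; exact mul_ne_zero h2 hQx
  suffices h : ∃ α β : F, α ≠ 0 ∧ β ≠ 0 ∧ ∃ w ∈ U, polB Q w x = 0 ∧ polB Q w y = 0 ∧
      Q w = (1 - α * α - β * β) * Q x by
    obtain ⟨α, β, hα, hβ, w, hw, hwx, hwy, hwQ⟩ := h
    refine ⟨w + α • x + β • y, add_mem (add_mem hw (U.smul_mem _ hx)) (U.smul_mem _ hy), ?_, ?_, ?_⟩
    · simp only [qmap_add, qmap_smul, map_add, map_smul, LinearMap.add_apply, LinearMap.smul_apply,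
        smul_eq_mul, hwx, hwy, hxy, hQy, hwQ]
      ring
    · simp [hwx, polB_comm y x, hxy, hxx, hα]
    · simp [hwy, hxy, hyy, hβ]
  set S := perpIn Q (perpIn Q U x) y with hSdef
  have hS : NdOn Q S := ndOn_perpIn₂ hU hx hy (by rw [hxy]; simp [hxx, hyy])
  have e1 := finrank_perpIn (Q := Q) U x
  have e2 := finrank_perpIn (Q := Q) (perpIn Q U x) y
  rw [← hSdef] at e2
  have hmem : ∀ w ∈ S, w ∈ U ∧ polB Q w x = 0 ∧ polB Q w y = 0 := fun w hw =>
    ⟨hw.1.1, (mem_perpIn.mp hw.1).2, (mem_perpIn.mp hw).2⟩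
  by_cases hk4 : 4 ≤ Module.finrank F U
  · obtain ⟨w, hw, hwQ⟩ := exists_value_in hS (by omega) (neg_ne_zero.mpr hQx)
    exact ⟨1, 1, one_ne_zero, one_ne_zero, w, (hmem w hw).1, (hmem w hw).2.1, (hmem w hw).2.2,
      by rw [hwQ]; ring⟩
  by_cases hrat : ∃ t : F, t ≠ 0 ∧ t * t ≠ 1 ∧ t * t ≠ -1
  · obtain ⟨t, ht0, ht1, ht2⟩ := hrat
    have hd : 1 + t * t ≠ 0 := fun h => ht2 (eq_neg_of_add_eq_zero_right h)
    refine ⟨(1 - t * t) / (1 + t * t), 2 * t / (1 + t * t),
      div_ne_zero (sub_ne_zero.mpr (Ne.symm ht1)) hd, div_ne_zero (mul_ne_zero h2 ht0) hd, 0,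
      U.zero_mem, by simp, by simp, ?_⟩
    rw [QuadraticMap.map_zero]
    have e : 1 - (1 - t * t) / (1 + t * t) * ((1 - t * t) / (1 + t * t)) -
        2 * t / (1 + t * t) * (2 * t / (1 + t * t)) = 0 := by
      rw [div_mul_div_comm, div_mul_div_comm, sub_sub, ← add_div, sub_eq_zero, eq_div_iff
        (mul_ne_zero hd hd)]
      ring
    rw [e, zero_mul]
  -- five elements
  push Not at hrat
  obtain ⟨w, hw, hw0⟩ := Submodule.exists_mem_ne_zero_of_ne_bot (p := S) (fun h => by
    rw [h, finrank_bot] at e2; omega)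
  have hQw : Q w ≠ 0 := fun h => hw0 (hS w hw fun v hv => by
    by_cases hvw : v ∈ Submodule.span F {w}
    · obtain ⟨a, rfl⟩ := Submodule.mem_span_singleton.mp hvw
      rw [map_smul, polB_self, h, mul_zero, smul_zero]
    · exfalso
      -- then `S` would be two-dimensional
      have hb : Submodule.span F {w} < S :=
        lt_of_le_of_ne ((Submodule.span_singleton_le_iff_mem _ _).mpr hw) (fun e => hvw (e ▸ hv))
      have h1 := Submodule.finrank_lt_finrank_of_lt hb
      rw [finrank_span_singleton hw0] at h1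
      have hli : x ∉ S := fun e => hxx (hmem x e).2.1
      have hsub : S ⊔ Submodule.span F {x} ≤ perpIn Q U y := sup_le
        (fun s hs => mem_perpIn.mpr ⟨(hmem s hs).1, (hmem s hs).2.2⟩)
        ((Submodule.span_singleton_le_iff_mem _ _).mpr (mem_perpIn.mpr ⟨hx, hxy⟩))
      have h2' := Submodule.finrank_mono hsub
      rw [Submodule.finrank_sup_span_singleton hli] at h2'
      have hlt : perpIn Q U y < U := lt_of_le_of_ne inf_le_left (fun e => by
        have := (mem_perpIn.mp (e.symm ▸ hy : y ∈ perpIn Q U y)).2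
        exact hyy this)
      have h3' := Submodule.finrank_lt_finrank_of_lt hlt
      omega)
  have hsq : ∀ t : F, t ≠ 0 → t * t = 1 ∨ t * t = -1 := fun t ht => or_iff_not_imp_left.mpr (hrat t ht)
  have h5 : (5 : F) = 0 ∧ ∃ j : F, j * j = -1 := by
    classical
    have hsmall : ∃ t : F, t ≠ 0 ∧ t ≠ 1 ∧ t ≠ -1 := by
      by_contra h
      push Not at h
      have hsub : (Finset.univ : Finset F) = {0, 1, -1} := by
        ext a
        simp only [Finset.mem_univ, Finset.mem_insert, Finset.mem_singleton, true_iff]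
        by_cases a0 : a = 0
        · exact Or.inl a0
        by_cases a1 : a = 1
        · exact Or.inr (Or.inl a1)
        exact Or.inr (Or.inr (h a a0 a1))
      have : (Finset.univ : Finset F).card = 3 := by
        rw [hsub]
        have hne : (1 : F) ≠ -1 := fun e => h2 (by linear_combination e)
        rw [Finset.card_insert_of_notMem (by simp), Finset.card_pair hne]
      rw [Finset.card_univ] at this
      exact (h3.resolve_left hk4) this
    obtain ⟨t, ht0, ht1, ht2⟩ := hsmall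
    have htt : t * t = -1 := (hsq t ht0).resolve_left fun h =>
      (mul_self_eq_one_iff.mp h).elim ht1 ht2
    refine ⟨?_, t, htt⟩
    have h1t : (1 : F) + t ≠ 0 := fun h => ht2 (eq_neg_of_add_eq_zero_right h)
    rcases hsq _ h1t with h | h
    · -- `2 t = 1`
      have e : 2 * t = 1 := by linear_combination h - htt
      linear_combination (-1 : F) * ((2 * t + 1) * e) + 4 * htt
    · have e : 2 * t = -1 := by linear_combination h - htt
      linear_combination (-1 : F) * ((2 * t - 1) * e) + 4 * htt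
  obtain ⟨h5, j, hj⟩ := h5
  set d := Q w / Q x with hd
  have hd0 : d ≠ 0 := div_ne_zero hQw hQx
  have hwval : ∀ γ : F, Q (γ • w) = γ * γ * d * Q x := fun γ => by
    rw [qmap_smul, hd, mul_assoc (γ * γ), div_mul_cancel₀ _ hQx]
  have hfin : ∀ α β γ : F, α ≠ 0 → β ≠ 0 → γ * γ * d = 1 - α * α - β * β →
      ∃ α β : F, α ≠ 0 ∧ β ≠ 0 ∧ ∃ w ∈ U, polB Q w x = 0 ∧ polB Q w y = 0 ∧
        Q w = (1 - α * α - β * β) * Q x := fun α β γ hα hβ h =>
    ⟨α, β, hα, hβ, γ • w, U.smul_mem _ (hmem w hw).1, by simp [(hmem w hw).2.1],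
      by simp [(hmem w hw).2.2], by rw [hwval, h]⟩
  have hj0 : j ≠ 0 := fun h => by rw [h, mul_zero] at hj; exact neg_ne_zero.mpr one_ne_zero hj.symm
  by_cases hc : d * d = 1
  · -- square class
    rcases mul_self_eq_one_iff.mp hc with h | h
    · exact hfin j 1 1 hj0 one_ne_zero (by rw [h]; linear_combination hj)
    · exact hfin 1 1 1 one_ne_zero one_ne_zero (by rw [h]; ring)
  · have hdd : d * d = -1 := (hsq d hd0).resolve_left hc
    have h4 : (d - 2) * (d + 2) = 0 := by linear_combination hdd - h5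
    rcases mul_eq_zero.mp h4 with h | h
    · exact hfin j j j hj0 hj0 (by linear_combination (j * j) * h + 4 * hj - h5)
    · exact hfin j j 1 hj0 hj0 (by linear_combination h + 2 * hj - h5)

end H45
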