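import Mathlib
import Cfsg.Agent.H45.MemberGeom
import Cfsg.Agent.H45.NondegBlock
import Cfsg.Agent.H45.OmegaTools

/-!
# Orthogonal decompositions in the orthogonal group: the stabiliser and its orbits
-/

set_option autoImplicit false
set_option linter.unusedSectionVars false

namespace H45

open H43

variable {F : Type*} [Field F] [Finite F] {V : Type*} [AddCommGroup V] [Module F V]
  [FiniteDimensional F V]

/-- An orthogonal decomposition into isometric non-degenerate members of dimension `k`. -/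
structure OD (Q : QuadraticForm F V) {t : ℕ} (D : Fin t → Submodule F V) (k : ℕ) : Prop where
  dim : ∀ i, Module.finrank F (D i) = k
  top : iSup D = ⊤
  perp : ∀ i j, i ≠ j → ∀ x ∈ D i, ∀ y ∈ D j, polB Q x y = 0
  nd : ∀ i, NdOn Q (D i)
  iso : ∀ i j, ∃ e : D i ≃ₗ[F] D j, ∀ w : D i, Q (e w : V) = Q (w : V)

variable {Q : QuadraticForm F V} {t k : ℕ} {D : Fin t → Submodule F V}

/-- The isometries permuting the members. -/
def DStab (Q : QuadraticForm F V) (D : Fin t → Submodule F V) : Subgroup (orthGroup Q) where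
  carrier := {g | ∀ i, ∃ j, (D i).map (g.1 : V →ₗ[F] V) = D j}
  mul_mem' {a b} ha hb i := by
    obtain ⟨j, hj⟩ := hb i
    obtain ⟨l, hl⟩ := ha j
    refine ⟨l, ?_⟩
    rw [← hl, ← hj, ← Submodule.map_comp]
    rfl
  one_mem' i := ⟨i, Submodule.map_id _⟩
  inv_mem' {a} ha i := by
    classical
    choose σ hσ using ha
    have hinj : ∀ i j, σ i = σ j → D i = D j := fun i j e =>
      Submodule.map_injective_of_injective a.1.injective (by rw [hσ, hσ, e])
    -- the member map is a bijection of the finite set of members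
    let S := Finset.univ.image D
    have himg : S.image (fun X : Submodule F V => X.map (a.1 : V →ₗ[F] V)) = S := by
      refine Finset.eq_of_subset_of_card_le (fun X hX => ?_) ?_
      · simp only [S, Finset.mem_image, Finset.mem_univ, true_and] at hX ⊢
        obtain ⟨_, ⟨l, rfl⟩, rfl⟩ := hX
        exact ⟨σ l, (hσ l).symm⟩
      · rw [Finset.card_image_of_injective _ (Submodule.map_injective_of_injective a.1.injective)]
    have hi : D i ∈ S := by simp [S]
    rw [← himg] at hi
    simp only [S, Finset.mem_image, Finset.mem_univ, true_and] at hi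
    obtain ⟨_, ⟨l, rfl⟩, hl⟩ := hi
    refine ⟨l, ?_⟩
    rw [← hl, ← Submodule.map_comp]
    convert Submodule.map_id (D l) using 2
    ext x
    exact orth_inv_apply_self a x

lemma mem_DStab (hD : ∀ i, Module.finrank F (D i) = k) {g : orthGroup Q}
    (h : ∀ i, ∃ j, ∀ x ∈ D i, g.1 x ∈ D j) : g ∈ DStab Q D := fun i => by
  obtain ⟨j, hj⟩ := h i
  refine ⟨j, Submodule.eq_of_le_of_finrank_le ?_ ?_⟩
  · rintro _ ⟨x, hx, rfl⟩; exact hj x hx
  · rw [LinearEquiv.finrank_map_eq, hD, hD]

lemma DStab_maps {g : orthGroup Q} (hg : g ∈ DStab Q D) (i : Fin t) :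
    ∃ j, ∀ x ∈ D i, g.1 x ∈ D j := by
  obtain ⟨j, hj⟩ := hg i
  exact ⟨j, fun x hx => hj.le ⟨x, hx, rfl⟩⟩

variable (hQ : (polB Q).Nondegenerate) (hD : OD Q D k)

/-- The component in the `i`-th member. -/
noncomputable def dpart (i : Fin t) : V →ₗ[F] V := cmp hQ (ndOn_inf (hD.nd i))

lemma dpart_mem (i : Fin t) (x : V) : dpart hQ hD i x ∈ D i := cmp_mem hQ _ x

lemma polB_dpart (i : Fin t) (x : V) {y : V} (hy : y ∈ D i) :
    polB Q (dpart hQ hD i x) y = polB Q x y := by
  have h := sub_cmp_mem hQ (ndOn_inf (hD.nd i)) x y hy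
  rw [dpart]
  change polB Q y (x - cmp hQ _ x) = 0 at h
  rw [map_sub, sub_eq_zero, polB_comm y, polB_comm y] at h
  exact h.symm

lemma dpart_of_mem {i : Fin t} {x : V} (hx : x ∈ D i) : dpart hQ hD i x = x :=
  sub_eq_zero.mp (hD.nd i _ (sub_mem (dpart_mem hQ hD i x) hx) fun y hy => by
    rw [map_sub, LinearMap.sub_apply, polB_dpart hQ hD i x hy, sub_self])

lemma dpart_other {i j : Fin t} (hij : i ≠ j) {x : V} (hx : x ∈ D j) : dpart hQ hD i x = 0 :=
  hD.nd i _ (dpart_mem hQ hD i x) fun y hy => by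
    rw [polB_dpart hQ hD i x hy, hD.perp j i (Ne.symm hij) x hx y hy]

lemma sum_dpart (x : V) : ∑ i, dpart hQ hD i x = x := by
  have hx : x ∈ iSup D := hD.top ▸ Submodule.mem_top
  induction hx using Submodule.iSup_induction' with
  | mem i y hy =>
    rw [Finset.sum_eq_single i]
    · exact dpart_of_mem hQ hD hy
    · exact fun j _ hj => dpart_other hQ hD hj hy
    · simp
  | zero => simp
  | add y z _ _ hy hz => simp [Finset.sum_add_distrib, hy, hz]

lemma dpart_sum (c : Fin t → V) (hc : ∀ i, c i ∈ D i) (j : Fin t) :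
    dpart hQ hD j (∑ i, c i) = c j := by
  rw [map_sum, Finset.sum_eq_single j]
  · exact dpart_of_mem hQ hD (hc j)
  · exact fun i _ hi => dpart_other hQ hD (Ne.symm hi) (hc i)
  · simp

lemma qmap_members (hD : OD Q D k) (c : Fin t → V) (hc : ∀ i, c i ∈ D i) :
    Q (∑ i, c i) = ∑ i, Q (c i) := by
  classical
  suffices h : ∀ s : Finset (Fin t), Q (∑ i ∈ s, c i) = ∑ i ∈ s, Q (c i) from h _
  intro s
  induction s using Finset.induction_on with
  | empty => simp
  | insert i s his ih =>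
    rw [Finset.sum_insert his, Finset.sum_insert his, qmap_add, ih, map_sum,
      Finset.sum_eq_zero fun j hj => hD.perp i j (fun e : i = j => his (e ▸ hj)) _ (hc i) _ (hc j)]
    ring

lemma qmap_dpart (x : V) : Q x = ∑ i, Q (dpart hQ hD i x) := by
  conv_lhs => rw [← sum_dpart hQ hD x]
  exact qmap_members hD _ fun i => dpart_mem hQ hD i x

lemma polB_members (x y : V) :
    polB Q x y = ∑ i, polB Q (dpart hQ hD i x) (dpart hQ hD i y) := by
  conv_lhs => rw [← sum_dpart hQ hD y]
  rw [map_sum]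
  exact Finset.sum_congr rfl fun i _ => (polB_dpart hQ hD i x (dpart_mem hQ hD i y)).symm

include hQ hD in
/-- A nonsingular vector has a nonsingular component. -/
lemma exists_nonsing_part {x : V} (hx : Q x ≠ 0) : ∃ i, Q (dpart hQ hD i x) ≠ 0 := by
  by_contra h
  push Not at h
  exact hx (by rw [qmap_dpart hQ hD x]; exact Finset.sum_eq_zero fun i _ => h i)

include hQ hD in
/-- Glueing isometries of the members along a permutation. -/
lemma exists_glue (σ : Equiv.Perm (Fin t)) (φ : Fin t → (V →ₗ[F] V))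
    (hmem : ∀ i, ∀ x ∈ D i, φ i x ∈ D (σ i)) (hiso : ∀ i, ∀ x ∈ D i, Q (φ i x) = Q x) :
    ∃ g ∈ DStab Q D, ∀ i, ∀ x ∈ D i, g.1 x = φ i x := by
  let L : V →ₗ[F] V := ∑ i, (φ i).comp (dpart hQ hD i)
  have hL : ∀ x, L x = ∑ i, φ i (dpart hQ hD i x) := fun x => by simp [L]
  have hLQ : ∀ x, Q (L x) = Q x := fun x => by
    rw [hL, ← σ.symm.sum_comp (fun i => φ i (dpart hQ hD i x)), qmap_members hD
      (fun j => φ (σ.symm j) (dpart hQ hD (σ.symm j) x)) (fun j => by
        simpa using hmem (σ.symm j) _ (dpart_mem hQ hD (σ.symm j) x))]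
    rw [qmap_dpart hQ hD x, ← σ.symm.sum_comp (fun i => Q (dpart hQ hD i x))]
    exact Finset.sum_congr rfl fun j _ => hiso _ _ (dpart_mem hQ hD _ x)
  have hval : ∀ i, ∀ x ∈ D i, L x = φ i x := by
    intro i x hx
    rw [hL, Finset.sum_eq_single i]
    · rw [dpart_of_mem hQ hD hx]
    · intro j _ hj
      rw [dpart_other hQ hD hj hx, map_zero]
    · simp
  refine ⟨ofIsometry hQ L hLQ, mem_DStab hD.dim fun i => ⟨σ i, fun x hx => ?_⟩, fun i x hx => ?_⟩
  · change L x ∈ D (σ i)
    rw [hval i x hx]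
    exact hmem i x hx
  · exact hval i x hx

variable (hk : 3 ≤ k) (hgen : ReflGenerates F V)

lemma refl_mem_DStab (hD : OD Q D k) {i : Fin t} {v : V} (hv : v ∈ D i) :
    refl Q v ∈ DStab Q D := by
  refine mem_DStab hD.dim fun l => ⟨l, fun x hx => ?_⟩
  by_cases hl : l = i
  · subst hl
    rw [refl_apply]
    exact sub_mem hx ((D l).smul_mem _ hv)
  · rw [refl_fix (hD.perp l i hl x hx v hv)]
    exact hx

include hk

include hQ hD in
/-- A side vector of every value orthogonal to a given non-singular vector. -/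
lemma exists_side_perp {x : V} (hx : Q x ≠ 0) {c : F} (hc : c ≠ 0) :
    ∃ i, ∃ v ∈ D i, Q v = c ∧ polB Q v x = 0 := by
  obtain ⟨i, hi⟩ := exists_nonsing_part hQ hD hx
  obtain ⟨v, hv, hvc, hvx⟩ := exists_val_perp (hD.nd i) (by rw [hD.dim]; exact hk)
    (dpart_mem hQ hD i x) (Or.inr hi) hc
  refine ⟨i, v, hv, hvc, ?_⟩
  rw [polB_comm, ← polB_dpart hQ hD i x hv, polB_comm, hvx]

include hgen

lemma two_le_finrank_wreath (hD : OD Q D k) (i : Fin t) : 2 ≤ Module.finrank F V := by
  have := Submodule.finrank_le (D i)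
  rw [hD.dim] at this
  omega

include hQ hD in
/-- The elements of the stabiliser inside the commutator subgroup act transitively on non-singular
vectors with corresponding components. -/
lemma exists_type_map {z z' : V} (hz : Q z ≠ 0) (σ : Equiv.Perm (Fin t))
    (h0 : ∀ i, dpart hQ hD i z = 0 ↔ dpart hQ hD (σ i) z' = 0)
    (hq : ∀ i, Q (dpart hQ hD i z) = Q (dpart hQ hD (σ i) z')) :
    ∃ h ∈ DStab Q D ⊓ commutator (orthGroup Q), h.1 z = z' := by
  choose e he using fun i => hD.iso i (σ i)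
  have hcomp : ∀ i, ∃ φ : V →ₗ[F] V, (∀ x ∈ D i, φ x ∈ D (σ i)) ∧ (∀ x ∈ D i, Q (φ x) = Q x) ∧
      φ (dpart hQ hD i z) = dpart hQ hD (σ i) z' := by
    intro i
    obtain ⟨g, hg⟩ : ∃ g : orthGroup (Q.comp (D (σ i)).subtype),
        g.1 (e i ⟨_, dpart_mem hQ hD i z⟩) = ⟨_, dpart_mem hQ hD (σ i) z'⟩ := by
      by_cases hzero : dpart hQ hD i z = 0
      · refine ⟨1, ?_⟩
        rw [orth_one_apply, show (⟨_, dpart_mem hQ hD i z⟩ : D i) = 0 from Subtype.ext hzero,
          map_zero]
        exact Subtype.ext ((h0 i).mp hzero).symm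
      · refine exists_orth_map (restrict_nondeg (ndOn_inf (hD.nd (σ i))))
          ((map_ne_zero_iff _ (e i).injective).mpr fun h => hzero (congrArg Subtype.val h))
          (fun h => hzero ((h0 i).mpr (congrArg Subtype.val h))) ?_
        change Q (e i _ : V) = _
        rw [he]
        exact hq i
    refine ⟨(D (σ i)).subtype ∘ₗ (g.1 : D (σ i) →ₗ[F] D (σ i)) ∘ₗ (e i : D i →ₗ[F] D (σ i)) ∘ₗ
      (D i).projectionOnto ((polB Q).orthogonal (D i)) (isCompl_orth hQ (ndOn_inf (hD.nd i))),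
      fun x _ => Submodule.coe_mem _, fun x hx => ?_, ?_⟩
    · simp only [LinearMap.comp_apply, LinearEquiv.coe_coe, Submodule.coe_subtype,
        Submodule.projectionOnto_apply_left _ (⟨x, hx⟩ : D i)]
      have h1 := orth_qmap g (e i ⟨x, hx⟩)
      simp only [QuadraticMap.comp_apply, Submodule.coe_subtype] at h1
      rw [h1, he]
    · simp only [LinearMap.comp_apply, LinearEquiv.coe_coe, Submodule.coe_subtype,
        Submodule.projectionOnto_apply_left _ (⟨_, dpart_mem hQ hD i z⟩ : D i), hg]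
  choose φ hφ1 hφ2 hφ3 using hcomp
  obtain ⟨g, hgD, hg⟩ := exists_glue hQ hD σ φ hφ1 hφ2
  have hgz : g.1 z = z' := by
    conv_lhs => rw [← sum_dpart hQ hD z]
    rw [map_sum]
    simp_rw [fun i => hg i _ (dpart_mem hQ hD i z), hφ3]
    rw [Equiv.sum_comp σ (fun j => dpart hQ hD j z'), sum_dpart hQ hD]
  let S : Subgroup (orthGroup Q) := DStab Q D ⊓
    { carrier := {h | h.1 z = z}
      mul_mem' := fun {a b} ha hb => by
        change (a * b).1 z = z
        rw [orth_mul_apply, hb, ha]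
      one_mem' := rfl
      inv_mem' := fun {a} ha => by
        change (a⁻¹).1 z = z
        conv_lhs => rw [← ha]
        rw [orth_inv_apply_self] }
  have hn : 2 ≤ Module.finrank F V := by
    obtain ⟨i, -⟩ := exists_nonsing_part hQ hD hz
    exact two_le_finrank_wreath hk hgen hD i
  have hval : ∀ l : F, l ≠ 0 → ∃ v, Q v = l ∧ refl Q v ∈ S := fun l hl => by
    obtain ⟨i, v, hv, hvl, hvz⟩ := exists_side_perp hQ hD hk hz hl
    exact ⟨v, hvl, refl_mem_DStab hD hv, refl_fix (by rw [polB_comm]; exact hvz)⟩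
  obtain ⟨h, hh, hgh⟩ := exists_mem_commutator hQ hgen hn S (fun x => invHom_cases hQ hgen S
    (fun l hl => by
      obtain ⟨v, hvl, hv⟩ := hval l hl
      obtain ⟨u, hu1, hu⟩ := hval 1 one_ne_zero
      refine ⟨refl Q v * refl Q u, mul_mem hv hu, ?_⟩
      rw [map_mul, invHom_refl hQ hgen (by rw [hvl]; exact hl),
        invHom_refl hQ hgen (by rw [hu1]; exact one_ne_zero), hvl, hu1, sqc_one]
      exact Prod.ext
        (by show Multiplicative.ofAdd (1 : ZMod 2) * Multiplicative.ofAdd 1 = 1; rfl) (mul_one _))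
    (by
      obtain ⟨u, hu1, hu⟩ := hval 1 one_ne_zero
      exact ⟨u, by rw [hu1]; exact one_ne_zero, hu⟩) x) g
  exact ⟨g * h, ⟨mul_mem hgD hh.1, hgh⟩, by rw [orth_mul_apply, hh.2, hgz]⟩

end H45
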