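import Mathlib
import Cfsg.Agent.H45.WreathGeom
import Cfsg.Agent.H45.NondegMaxThm

/-!
# The stabiliser of an orthogonal decomposition into members of dimension at least three is maximal
-/

set_option autoImplicit false
set_option linter.unusedSectionVars false

namespace H45

open H43

variable {F : Type*} [Field F] [Finite F] {V : Type*} [AddCommGroup V] [Module F V]
  [FiniteDimensional F V] {Q : QuadraticForm F V} {t k : ℕ} {D : Fin t → Submodule F V}

/-- The vectors whose reflection is linked inside `M` to one of a member. -/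
def InW (Q : QuadraticForm F V) (D : Fin t → Submodule F V) (M : Subgroup (orthGroup Q))
    (z : V) : Prop :=
  ∃ i, ∃ w ∈ D i, SameCls Q z w ∧ refl Q z * refl Q w ∈ M

/-- A vector with two non-zero components of the given values in the block. -/
def WPair (Q : QuadraticForm F V) (D : Fin t → Submodule F V) (M : Subgroup (orthGroup Q))
    (α β : F) : Prop :=
  ∃ a b, a ≠ b ∧ ∃ za ∈ D a, ∃ zb ∈ D b,
    za ≠ 0 ∧ zb ≠ 0 ∧ Q za = α ∧ Q zb = β ∧ InW Q D M (za + zb)

variable (hQ : (polB Q).Nondegenerate) (hD : OD Q D k) (hk : 3 ≤ k) (ht : 2 ≤ t)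
  (hgen : ReflGenerates F V) {M : Subgroup (orthGroup Q)}
  (hHM : DStab Q D ⊓ commutator (orthGroup Q) ≤ M)

include hQ hD hk ht hgen hHM

lemma wSide_pair {i j : Fin t} {a b : V} (ha : a ∈ D i) (hb : b ∈ D j) (hab : SameCls Q a b) :
    refl Q a * refl Q b ∈ M :=
  hHM ⟨mul_mem (refl_mem_DStab hD ha) (refl_mem_DStab hD hb),
    refl_mul_refl_mem_commutator hQ hgen (two_le_finrank_wreath hk hgen hD i) hab.1 hab.2.1
      hab.2.2⟩

lemma inW_side {i : Fin t} {z : V} (hz : z ∈ D i) (hz0 : Q z ≠ 0) : InW Q D M z :=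
  ⟨i, z, hz, sameCls_of_eq hz0 rfl, by rw [refl_sq]; exact one_mem M⟩

lemma inW_pair {z : V} (hz : InW Q D M z) {j : Fin t} {w : V} (hw : w ∈ D j)
    (hzw : SameCls Q z w) : refl Q z * refl Q w ∈ M := by
  obtain ⟨i, w₀, hw₀, hc, hmem⟩ := hz
  have := mul_mem hmem (wSide_pair hQ hD hk ht hgen hHM hw₀ hw (hc.symm.trans hzw))
  rwa [mul_assoc, ← mul_assoc (refl Q w₀), refl_sq, one_mul] at this

lemma inW_act {h : orthGroup Q} (hh : h ∈ M) {z v : V} (hz : InW Q D M z) {i j : Fin t}
    (hv : v ∈ D i) (hc : SameCls Q z v) (hside : h.1 v ∈ D j) : InW Q D M (h.1 z) := by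
  refine ⟨j, h.1 v, hside, ?_, ?_⟩
  · unfold SameCls
    rw [orth_qmap, orth_qmap]
    exact hc
  · rw [← refl_conj, ← refl_conj, conj_mul]
    exact mul_mem (mul_mem hh (inW_pair hQ hD hk ht hgen hHM hz hv hc)) (inv_mem hh)

lemma inW_stab {h : orthGroup Q} (hh : h ∈ DStab Q D ⊓ commutator (orthGroup Q)) {z : V}
    (hz : InW Q D M z) : InW Q D M (h.1 z) := by
  obtain ⟨i, w₀, hw₀, hc, -⟩ := id hz
  obtain ⟨j, hj⟩ := DStab_maps hh.1 i
  exact inW_act hQ hD hk ht hgen hHM (hHM hh) hz hw₀ hc (hj w₀ hw₀)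

lemma inW_refl {z u : V} (hz : InW Q D M z) (hu : InW Q D M u) :
    InW Q D M ((refl Q z).1 u) := by
  obtain ⟨_, _, _, hcz, -⟩ := id hz
  obtain ⟨_, _, _, hcu, -⟩ := id hu
  obtain ⟨i, v, hv, hvQ, hvz⟩ := exists_side_perp hQ hD hk hcz.1 hcu.1
  haveI : Nontrivial (Fin t) := Fin.nontrivial_iff_two_le.mpr ht
  obtain ⟨j, hji⟩ := exists_ne i
  obtain ⟨w, hw, hwQ⟩ := exists_value_in (hD.nd j) (by rw [hD.dim]; omega) hcz.1
  obtain ⟨l, w', hw', hw'Q, hw'u⟩ := exists_side_perp hQ hD hk hcu.1 hcz.1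
  have hw0 : Q w ≠ 0 := by rw [hwQ]; exact hcz.1
  have hzw : SameCls Q z w := sameCls_of_eq hcz.1 hwQ
  have hww : SameCls Q w w' := sameCls_of_eq hw0 (by rw [hw'Q, hwQ])
  have h1 : InW Q D M ((refl Q w).1 u) := by
    have h := inW_stab hQ hD hk ht hgen hHM (h := refl Q w * refl Q w')
      ⟨mul_mem (refl_mem_DStab hD hw) (refl_mem_DStab hD hw'),
        refl_mul_refl_mem_commutator hQ hgen (two_le_finrank_wreath hk hgen hD i) hww.1 hww.2.1
          hww.2.2⟩ hu
    rwa [orth_mul_apply, refl_fix (v := w') (x := u) (by rw [polB_comm]; exact hw'u)] at h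
  have h2 : (refl Q z * refl Q w).1 v = v := by
    rw [orth_mul_apply, refl_fix (hD.perp i j (Ne.symm hji) v hv w hw), refl_fix hvz]
  have h3 := inW_act hQ hD hk ht hgen hHM (inW_pair hQ hD hk ht hgen hHM hz hw hzw) h1 hv
    (sameCls_of_eq (by rw [orth_qmap]; exact hcu.1) (by rw [hvQ, orth_qmap]))
    (by rw [h2]; exact hv)
  rwa [← orth_mul_apply, mul_assoc, refl_sq, mul_one] at h3

lemma wPair_spread {α β : F} (h : WPair Q D M α β) {c d : Fin t} (hcd : c ≠ d) {zc zd : V}
    (hzc : zc ∈ D c) (hzd : zd ∈ D d) (hzc0 : zc ≠ 0) (hzd0 : zd ≠ 0) (hqc : Q zc = α)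
    (hqd : Q zd = β) : InW Q D M (zc + zd) := by
  obtain ⟨a, b, hab, za, hza, zb, hzb, hza0, hzb0, hqa, hqb, hz⟩ := h
  set σ : Equiv.Perm (Fin t) := (Equiv.swap a c).trans (Equiv.swap (Equiv.swap a c b) d) with hσ
  have hb' : Equiv.swap a c b ≠ c := fun h =>
    hab ((Equiv.swap a c).injective (h.trans (Equiv.swap_apply_left a c).symm)).symm
  have hσa : σ a = c := by
    rw [hσ, Equiv.trans_apply, Equiv.swap_apply_left, Equiv.swap_apply_of_ne_of_ne hb'.symm hcd]
  have hσb : σ b = d := by rw [hσ, Equiv.trans_apply, Equiv.swap_apply_left]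
  have hpa : ∀ (x y : V) (p q i : Fin t), p ≠ q → x ∈ D p → y ∈ D q →
      dpart hQ hD i (x + y) = if i = p then x else if i = q then y else 0 := by
    intro x y p q i hpq hx hy
    rw [map_add]
    split_ifs with h1 h2
    · subst h1; rw [dpart_of_mem hQ hD hx, dpart_other hQ hD hpq hy, add_zero]
    · subst h2; rw [dpart_of_mem hQ hD hy, dpart_other hQ hD h1 hx, zero_add]
    · rw [dpart_other hQ hD h1 hx, dpart_other hQ hD h2 hy, add_zero]
  have hz0 : Q (za + zb) ≠ 0 := by
    obtain ⟨_, _, _, hc, -⟩ := id hz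
    exact hc.1
  obtain ⟨h, hh, hhz⟩ := exists_type_map hQ hD hk hgen (z := za + zb) (z' := zc + zd) hz0 σ
    (fun i => by
      rw [hpa za zb a b i hab hza hzb, hpa zc zd c d (σ i) hcd hzc hzd]
      by_cases h1 : i = a
      · subst h1; simp [hσa, hza0, hzc0]
      by_cases h2 : i = b
      · subst h2; simp [hσb, h1, hcd.symm, hzb0, hzd0]
      · have e1 : σ i ≠ c := fun e => h1 (σ.injective (e.trans hσa.symm))
        have e2 : σ i ≠ d := fun e => h2 (σ.injective (e.trans hσb.symm))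
        simp [h1, h2, e1, e2])
    (fun i => by
      rw [hpa za zb a b i hab hza hzb, hpa zc zd c d (σ i) hcd hzc hzd]
      by_cases h1 : i = a
      · subst h1; simp [hσa, hqa, hqc]
      by_cases h2 : i = b
      · subst h2; simp [hσb, h1, hcd.symm, hqb, hqd]
      · have e1 : σ i ≠ c := fun e => h1 (σ.injective (e.trans hσa.symm))
        have e2 : σ i ≠ d := fun e => h2 (σ.injective (e.trans hσb.symm))
        simp [h1, h2, e1, e2])
  have := inW_stab hQ hD hk ht hgen hHM hh hz
  rwa [hhz] at this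

lemma wPair_symm {α β : F} (h : WPair Q D M α β) : WPair Q D M β α := by
  obtain ⟨a, b, hab, za, hza, zb, hzb, hza0, hzb0, hqa, hqb, hz⟩ := h
  exact ⟨b, a, hab.symm, zb, hzb, za, hza, hzb0, hza0, hqb, hqa, by rwa [add_comm]⟩

/-- The basic step: reflect a vector of a member in a mixed vector of the block. -/
lemma wPair_step {α β δ s : F} (h : WPair Q D M α β) (hs : s ≠ 0) (hδ : δ + s * s * β ≠ 0)
    (hw : ∀ a, ∀ za ∈ D a, za ≠ 0 → Q za = α →
      ∃ w ∈ D a, w ≠ 0 ∧ Q w = δ ∧ polB Q w za = s * (β - α)) :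
    WPair Q D M δ (s * s * β) := by
  obtain ⟨a, b, hab, za, hza, zb, hzb, hza0, hzb0, hqa, hqb, hz⟩ := h
  obtain ⟨w, hw, hw0, hwQ, hwf⟩ := hw a za hza hza0 hqa
  set c := w + s • za with hc
  have hcD : c ∈ D a := add_mem hw ((D a).smul_mem _ hza)
  have hQc : Q c = δ + s * s * β := by rw [hc, qmap_add_smul, hwQ, hwf, hqa]; ring
  have hzz : Q (za + zb) = α + β := by
    rw [qmap_add, hqa, hqb, hD.perp a b hab za hza zb hzb, add_zero]
  have hne : α + β ≠ 0 := by
    obtain ⟨_, _, _, hc, -⟩ := id hz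
    rw [← hzz]; exact hc.1
  have h1 := inW_refl hQ hD hk ht hgen hHM hz
    (inW_side hQ hD hk ht hgen hHM hcD (by rw [hQc]; exact hδ))
  have e : (refl Q (za + zb)).1 c = w + -(s • zb) := by
    have hf : polB Q c (za + zb) = s * (α + β) := by
      rw [map_add, hD.perp a b hab c hcD zb hzb, add_zero, hc, map_add, map_smul,
        LinearMap.add_apply, LinearMap.smul_apply, hwf, polB_self, hqa, smul_eq_mul]
      ring
    rw [refl_apply, hzz, hf, mul_comm s, inv_mul_cancel_left₀ hne, hc, smul_add]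
    abel
  rw [e] at h1
  exact ⟨a, b, hab, w, hw, -(s • zb), neg_mem ((D b).smul_mem _ hzb), hw0,
    neg_ne_zero.mpr (smul_ne_zero hs hzb0), hwQ, by rw [qmap_neg, qmap_smul, hqb], h1⟩

/-- Every pair of values occurs. -/
lemma wPair_all (hsmall : 4 ≤ k ∨ ∀ a : F, ∃ b, b ≠ 0 ∧ b ≠ a ∧ b ≠ -a) {α β : F}
    (h : WPair Q D M α β) {X Y : F} (hXY : X + Y ≠ 0) : WPair Q D M X Y := by
  have hsum : ∀ {α β : F}, WPair Q D M α β → α + β ≠ 0 := by
    rintro α β ⟨a, b, hab, za, hza, zb, hzb, -, -, rfl, rfl, _, _, _, hc, -⟩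
    have := hc.1
    rwa [qmap_add, hD.perp a b hab za hza zb hzb, add_zero] at this
  have hk' : ∀ a, 3 ≤ Module.finrank F (D a) := fun a => by rw [hD.dim]; exact hk
  -- one component singular
  have hzero : ∀ {α β : F}, WPair Q D M α β → ∃ Y, WPair Q D M 0 Y := by
    intro α β h
    by_cases ha : α = 0
    · exact ⟨β, ha ▸ h⟩
    by_cases hb : β = 0
    · exact ⟨α, wPair_symm hQ hD hk ht hgen hHM (hb ▸ h)⟩
    have step : ∀ {α β : F}, α ≠ β → β ≠ 0 → WPair Q D M α β → ∃ Y, WPair Q D M 0 Y := by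
      intro α β hab hb h
      refine ⟨1 * 1 * β, wPair_step hQ hD hk ht hgen hHM h (s := 1) one_ne_zero
        (by simpa using hb) fun a za hza hza0 _ => ?_⟩
      obtain ⟨w, hw, hwQ, hwf⟩ := exists_sing_pair (hD.nd a) (hk' a) hza hza0
        (φ := 1 * (β - α)) (mul_ne_zero one_ne_zero (sub_ne_zero.mpr (Ne.symm hab)))
      refine ⟨w, hw, fun e => ?_, hwQ, hwf⟩
      rw [e, map_zero, LinearMap.zero_apply] at hwf
      exact mul_ne_zero one_ne_zero (sub_ne_zero.mpr (Ne.symm hab)) hwf.symm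
    by_cases hab : α ≠ β
    · exact step hab hb h
    push Not at hab
    subst hab
    rcases hsmall with h4 | hq
    · refine ⟨1 * 1 * α, wPair_step hQ hD hk ht hgen hHM h (s := 1) one_ne_zero
        (by simpa using ha) fun a za hza hza0 hqa => ?_⟩
      have h2 : (2 : F) ≠ 0 := fun h2 => hsum h (by linear_combination α * h2)
      have hzz : polB Q za za ≠ 0 := by rw [polB_self, hqa]; exact mul_ne_zero h2 ha
      obtain ⟨w, hw, hw0, hwQ⟩ := exists_singular_in (Q := Q) (perpIn Q (D a) za) (by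
        have := finrank_perpIn (Q := Q) (D a) za
        rw [hD.dim] at this
        omega)
      exact ⟨w, hw.1, hw0, hwQ, by rw [(mem_perpIn.mp hw).2]; ring⟩
    · obtain ⟨b, hb0, hba, hbn⟩ := hq α
      refine step (α := b) (β := 1 * 1 * α) (by simpa using hba) (by simpa using ha)
        (wPair_step hQ hD hk ht hgen hHM h (s := 1) one_ne_zero ?_ fun a za hza hza0 hqa => ?_)
      · intro e; exact hbn (by linear_combination e)
      · obtain ⟨w, hw, hwQ, hwf⟩ := exists_val_pair (hD.nd a) (hk' a) hza hza0 hb0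
          (φ := 1 * (α - α)) (Or.inl (by rw [hqa]; exact ha))
        exact ⟨w, hw, fun e => hb0 (by rw [← hwQ, e, QuadraticMap.map_zero]), hwQ, hwf⟩
  obtain ⟨β₀, hβ⟩ := hzero h
  have hβ0 : β₀ ≠ 0 := by simpa using hsum hβ
  have hone : ∀ Y : F, Y ≠ 0 → WPair Q D M 0 Y := by
    intro Y hY
    refine wPair_symm hQ hD hk ht hgen hHM ?_
    have h1 := wPair_step hQ hD hk ht hgen hHM (wPair_symm hQ hD hk ht hgen hHM hβ) (δ := Y)
      (s := 1) one_ne_zero (by simpa using hY) fun a za hza hza0 _ => by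
        obtain ⟨w, hw, hwQ, hwf⟩ := exists_val_pair (hD.nd a) (hk' a) hza hza0 hY
          (φ := 1 * (0 - β₀)) (Or.inr (by simpa using hβ0))
        exact ⟨w, hw, fun e => hY (by rw [← hwQ, e, QuadraticMap.map_zero]), hwQ, hwf⟩
    simpa using h1
  by_cases hX : X = 0
  · subst hX; exact hone Y (by simpa using hXY)
  by_cases hY : Y = 0
  · subst hY; exact wPair_symm hQ hD hk ht hgen hHM (hone X hX)
  have h1 := wPair_step hQ hD hk ht hgen hHM (hone Y hY) (δ := X) (s := 1) one_ne_zero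
    (by simpa using hXY) fun a za hza hza0 _ => by
      obtain ⟨w, hw, hwQ, hwf⟩ := exists_val_pair (hD.nd a) (hk' a) hza hza0 hX
        (φ := 1 * (Y - 0)) (Or.inr (by simpa using hY))
      exact ⟨w, hw, fun e => hX (by rw [← hwQ, e, QuadraticMap.map_zero]), hwQ, hwf⟩
  simpa using h1

/-- A mixed vector of the block can be taken with exactly two components. -/
lemma exists_wPair (hq : (∃ a : F, a ≠ 0 ∧ a ≠ 1) ∨ 4 ≤ k) {z : V} (hz : InW Q D M z)
    (hmix : ∀ i, z ∉ D i) : ∃ α β, WPair Q D M α β := by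
  classical
  obtain ⟨_, _, _, hcz, -⟩ := id hz
  set p := fun i => dpart hQ hD i z with hp
  have hpD : ∀ i, p i ∈ D i := fun i => dpart_mem hQ hD i z
  obtain ⟨b, hb⟩ := exists_nonsing_part hQ hD hcz.1
  have hsum : ∑ i, p i = z := sum_dpart hQ hD z
  obtain ⟨c, hcb, hc⟩ : ∃ c, c ≠ b ∧ p c ≠ 0 := by
    by_contra hcon
    push Not at hcon
    refine hmix b ?_
    rw [← hsum, Finset.sum_eq_single b (fun i _ hi => hcon i hi) (by simp)]
    exact hpD b
  by_cases h3 : ∀ i, i ≠ b → i ≠ c → p i = 0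
  · refine ⟨_, _, b, c, hcb.symm, p b, hpD b, p c, hpD c,
      fun e => hb (by rw [show dpart hQ hD b z = 0 from e, QuadraticMap.map_zero]), hc, rfl, rfl, ?_⟩
    have e : p b + p c = z := by
      rw [← hsum, ← Finset.sum_pair (f := p) hcb.symm]
      refine Finset.sum_subset (by simp) fun i _ hi => ?_
      simp at hi
      exact h3 i hi.1 hi.2
    rwa [e]
  -- the translate agreeing outside two components
  set γ := Q z with hγ
  set r := γ - Q (p b) - Q (p c) with hr
  set T := γ - 2 * r with hT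
  have hk' : ∀ a, 3 ≤ Module.finrank F (D a) := fun a => by rw [hD.dim]; exact hk
  obtain ⟨ub, hub, hubQ, hube, uc, huc, hucQ, huce, huc0, hf⟩ : ∃ ub ∈ D b, Q ub = Q (p b) ∧
      ub ≠ p b ∧ ∃ uc ∈ D c, Q uc = Q (p c) ∧ uc ≠ p c ∧ uc ≠ 0 ∧
        polB Q ub (p b) + polB Q uc (p c) = T := by
    by_cases hqc : Q (p c) = 0
    · -- singular second component
      have mk : ∀ φb φc : F, φc ≠ 0 → φb + φc = T → φb ≠ 2 * Q (p b) →
          ∃ ub ∈ D b, Q ub = Q (p b) ∧ ub ≠ p b ∧ ∃ uc ∈ D c, Q uc = Q (p c) ∧ uc ≠ p c ∧ uc ≠ 0 ∧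
            polB Q ub (p b) + polB Q uc (p c) = T := by
        intro φb φc hφc hs hne
        obtain ⟨ub, hub, hubQ, hubf⟩ := exists_val_pair (hD.nd b) (hk' b) (hpD b)
          (fun e => hb (by rw [show dpart hQ hD b z = 0 from e, QuadraticMap.map_zero])) hb
          (φ := φb) (Or.inl hb)
        obtain ⟨uc, huc, hucQ, hucf⟩ := exists_sing_pair (hD.nd c) (hk' c) (hpD c) hc hφc
        exact ⟨ub, hub, hubQ, fun e => hne (by rw [← hubf, e, polB_self]), uc, huc,
          by rw [hucQ, hqc], fun e => hφc (by rw [← hucf, e, polB_self, hqc, mul_zero]),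
          fun e => hφc (by rw [← hucf, e, map_zero, LinearMap.zero_apply]),
          by rw [hubf, hucf, hs]⟩
      by_cases hcase : ∃ φ : F, φ ≠ 0 ∧ T - φ ≠ 2 * Q (p b)
      · obtain ⟨φ, h1, h2⟩ := hcase
        exact mk (T - φ) φ h1 (by ring) h2
      push Not at hcase
      -- two elements only
      have h11 : ∀ a : F, a ≠ 0 → a = 1 := fun a ha => by
        linear_combination hcase 1 one_ne_zero - hcase a ha
      have h2 : (2 : F) = 0 := by
        by_contra h2
        exact h2 (by linear_combination (2 : F) * ((h11 2 h2) - 1 * (h11 2 h2)) + 2 * (h11 2 h2))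
      have hk4 : 4 ≤ Module.finrank F (D b) := four_le_of_two_eq_zero (hD.nd b) (hk' b) h2
      have hz2 : polB Q (p b) (p b) = 0 := by rw [polB_self, h2, zero_mul]
      obtain ⟨y, hy, hyQ, hyz⟩ := exists_val_perp_four (hD.nd b) (hk' b) hk4 (hpD b) hb
      obtain ⟨y', hy', hy'0, hy'Q, hy'z⟩ : ∃ y' ∈ D b, y' ≠ p b ∧ Q y' = Q (p b) ∧
          polB Q y' (p b) = 0 := by
        by_cases he : y = p b
        · obtain ⟨s, hs, hs0, hsQ⟩ := exists_singular_in (Q := Q) (perpIn Q (D b) (p b)) (by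
            have := finrank_perpIn (Q := Q) (D b) (p b)
            omega)
          have hsz := (mem_perpIn.mp hs).2
          refine ⟨p b + s, add_mem (hpD b) hs.1, fun e => hs0 (by simpa using e), ?_, ?_⟩
          · rw [qmap_add, hsQ, polB_comm, hsz]; ring
          · rw [map_add, LinearMap.add_apply, hz2, hsz, add_zero]
        · exact ⟨y, hy, he, hyQ, hyz⟩
      have hT : T = 1 := by
        have h := hcase 1 one_ne_zero
        rw [h2, zero_mul] at h
        linear_combination h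
      obtain ⟨uc, huc, hucQ, hucf⟩ := exists_sing_pair (hD.nd c) (hk' c) (hpD c) hc
        (φ := (1 : F)) one_ne_zero
      exact ⟨y', hy', hy'Q, hy'0, uc, huc, by rw [hucQ, hqc],
        fun e => one_ne_zero (by rw [← hucf, e, polB_self, hqc, mul_zero]),
        fun e => one_ne_zero (by rw [← hucf, e, map_zero, LinearMap.zero_apply]),
        by rw [hy'z, hucf, hT, zero_add]⟩
    · -- both components non-singular
      obtain ⟨φ, hφ1, hφ2⟩ : ∃ φ : F, φ ≠ 2 * Q (p b) ∧ T - φ ≠ 2 * Q (p c) ∨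
          ∃ h2 : (2 : F) = 0, φ = 0 ∧ T - φ ≠ 0 := by
        by_contra hcon
        push Not at hcon
        have e1 := (hcon (2 * Q (p b) + 1)).1 (by simp)
        by_cases h2 : (2 : F) = 0
        · have e0 := (hcon 0).2 h2 rfl
          rw [h2, zero_mul, zero_add] at e1
          exact one_ne_zero (by linear_combination e0 - e1)
        · have e2 := (hcon (2 * Q (p b) - 1)).1 (fun e => one_ne_zero (by linear_combination -e))
          exact h2 (by linear_combination e2 - e1)
      · obtain ⟨ub, hub, hubQ, hubf⟩ := exists_val_pair (hD.nd b) (hk' b) (hpD b)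
          (fun e => hb (by rw [show dpart hQ hD b z = 0 from e, QuadraticMap.map_zero])) hb
          (φ := φ) (Or.inl hb)
        obtain ⟨uc, huc, hucQ, hucf⟩ := exists_val_pair (hD.nd c) (hk' c) (hpD c) hc hqc
          (φ := T - φ) (Or.inl hqc)
        exact ⟨ub, hub, hubQ, fun e => hφ1 (by rw [← hubf, e, polB_self]), uc, huc, hucQ,
          fun e => hφ2 (by rw [← hucf, e, polB_self]),
          fun e => hqc (by rw [← hucQ, e, QuadraticMap.map_zero]), by rw [hubf, hucf]; ring⟩
      · -- characteristic two with the first value zero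
        obtain ⟨h2, rfl, hne⟩ := ‹∃ h2 : (2 : F) = 0, φ = 0 ∧ T - φ ≠ 0›
        have hk4 : 4 ≤ Module.finrank F (D b) := four_le_of_two_eq_zero (hD.nd b) (hk' b) h2
        have hz2 : polB Q (p b) (p b) = 0 := by rw [polB_self, h2, zero_mul]
        obtain ⟨s, hs, hs0, hsQ⟩ := exists_singular_in (Q := Q) (perpIn Q (D b) (p b)) (by
          have := finrank_perpIn (Q := Q) (D b) (p b)
          omega)
        have hsz := (mem_perpIn.mp hs).2
        obtain ⟨uc, huc, hucQ, hucf⟩ := exists_val_pair (hD.nd c) (hk' c) (hpD c) hc hqc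
          (φ := T - 0) (Or.inl hqc)
        refine ⟨p b + s, add_mem (hpD b) hs.1, ?_, fun e => hs0 (by simpa using e), uc, huc, hucQ,
          fun e => hne (by rw [← hucf, e, polB_self, h2, zero_mul]),
          fun e => hqc (by rw [← hucQ, e, QuadraticMap.map_zero]), ?_⟩
        · rw [qmap_add, hsQ, polB_comm, hsz]; ring
        · rw [map_add, LinearMap.add_apply, hz2, hsz, hucf]; ring
  -- the translate
  set u := z + (ub - p b) + (uc - p c) with hu
  have hud : ∀ i, dpart hQ hD i u = if i = b then ub else if i = c then uc else p i := by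
    intro i
    rw [hu, map_add, map_add]
    split_ifs with h1 h2
    · subst h1
      rw [dpart_of_mem hQ hD (sub_mem hub (hpD i)),
        dpart_other hQ hD hcb.symm (sub_mem huc (hpD c)), add_zero]
      exact add_sub_cancel _ _
    · subst h2
      rw [dpart_of_mem hQ hD (sub_mem huc (hpD i)),
        dpart_other hQ hD hcb (sub_mem hub (hpD b)), add_zero]
      exact add_sub_cancel _ _
    · rw [dpart_other hQ hD h1 (sub_mem hub (hpD b)),
        dpart_other hQ hD h2 (sub_mem huc (hpD c)), add_zero, add_zero]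
  have hpb0 : p b ≠ 0 := fun e => hb (by
    rw [show dpart hQ hD b z = 0 from e, QuadraticMap.map_zero])
  obtain ⟨h, hh, hhz⟩ := exists_type_map hQ hD hk hgen (z := z) (z' := u) hcz.1 (Equiv.refl _)
    (fun i => by
      rw [Equiv.refl_apply, hud]
      split_ifs with h1 h2
      · subst h1
        exact ⟨fun e => absurd e hpb0, fun e => absurd (by rw [← hubQ, e, QuadraticMap.map_zero]) hb⟩
      · subst h2
        exact ⟨fun e => absurd e hc, fun e => absurd e huc0⟩
      · exact Iff.rfl)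
    (fun i => by
      rw [Equiv.refl_apply, hud]
      split_ifs with h1 h2
      · subst h1; exact hubQ.symm
      · subst h2; exact hucQ.symm
      · rfl)
  have hu' : InW Q D M u := by
    have := inW_stab hQ hD hk ht hgen hHM hh hz
    rwa [hhz] at this
  have h1 := inW_refl hQ hD hk ht hgen hHM hz hu'
  have hzb : polB Q z (ub - p b) = polB Q (p b) (ub - p b) := by
    rw [← polB_dpart hQ hD b z (sub_mem hub (hpD b))]
  have hzc : polB Q z (uc - p c) = polB Q (p c) (uc - p c) := by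
    rw [← polB_dpart hQ hD c z (sub_mem huc (hpD c))]
  have hfu : polB Q u z = γ := by
    have hγr : γ = Q (p b) + Q (p c) + r := by rw [hr]; ring
    rw [hu, map_add, map_add, LinearMap.add_apply, LinearMap.add_apply, polB_self, ← hγ,
      polB_comm _ z, hzb, polB_comm _ z, hzc, map_sub, map_sub, polB_self, polB_self,
      polB_comm (p b) ub, polB_comm (p c) uc]
    linear_combination hf + hT + 2 * hγr
  have e : (refl Q z).1 u = (ub - p b) + (uc - p c) := by
    rw [refl_apply, hfu, inv_mul_cancel₀ hcz.1, one_smul, hu]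
    abel
  rw [e] at h1
  exact ⟨_, _, b, c, hcb.symm, ub - p b, sub_mem hub (hpD b), uc - p c, sub_mem huc (hpD c),
    sub_ne_zero.mpr hube, sub_ne_zero.mpr huce, rfl, rfl, h1⟩

end H45
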