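import Mathlib
import Cfsg.Agent.H45.WreathMax

/-!
# Wreath stabilisers: seeds and the maximality theorem
-/

set_option autoImplicit false
set_option linter.unusedSectionVars false

namespace H45

open H43

variable {F : Type*} [Field F] [Finite F] {V : Type*} [AddCommGroup V] [Module F V]
  [FiniteDimensional F V] {Q : QuadraticForm F V} {t k : ℕ} {D : Fin t → Submodule F V}

/-- Two orthogonal vectors of one value in a member have a common non-orthogonal one. -/
def ConnMembers (Q : QuadraticForm F V) (D : Fin t → Submodule F V) : Prop :=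
  ∀ i, ∀ x ∈ D i, ∀ y ∈ D i, Q x ≠ 0 → Q y = Q x → y ≠ x → y ≠ -x → polB Q x y = 0 →
    ∃ z ∈ D i, Q z = Q x ∧ polB Q z x ≠ 0 ∧ polB Q z y ≠ 0

variable (hQ : (polB Q).Nondegenerate) (hD : OD Q D k) (hk : 3 ≤ k)
  (hconn : ConnMembers Q D)

include hQ hD hk hconn

/-- An isometry sending every side vector of one non-zero value to a side vector permutes the
members. -/
lemma mem_DStab_of_value {c : F} (hc : c ≠ 0) {h : orthGroup Q}
    (hh : ∀ i, ∀ x ∈ D i, Q x = c → ∃ j, h.1 x ∈ D j) : h ∈ DStab Q D := by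
  refine mem_DStab hD.dim fun i => ?_
  have hk' : ∀ a, 3 ≤ Module.finrank F (D a) := fun a => by rw [hD.dim]; exact hk
  obtain ⟨x₀, hx₀, hx₀Q⟩ := exists_value_in (hD.nd i) (by rw [hD.dim]; omega) hc
  obtain ⟨j, hj⟩ := hh i x₀ hx₀ hx₀Q
  have hzero : ∀ (p q : Fin t) (v : V), p ≠ q → v ∈ D p → v ∈ D q → v = 0 := fun p q v hpq h1 h2 =>
    hD.nd p v h1 fun y hy => hD.perp q p (Ne.symm hpq) v h2 y hy
  have hsame : ∀ x ∈ D i, Q x = c → h.1 x ∈ D j := by
    intro x hx hQx
    obtain ⟨l, hl⟩ := hh i x hx hQx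
    have near : ∀ a ∈ D i, ∀ b ∈ D i, Q a = c → Q b = c → polB Q a b ≠ 0 →
        ∀ p q, h.1 a ∈ D p → h.1 b ∈ D q → p = q := by
      intro a _ b _ _ _ hab p q hp hq
      by_contra hpq
      exact hab (by rw [← orth_polB_map h]; exact hD.perp p q hpq _ hp _ hq)
    by_cases hf : polB Q x₀ x = 0
    · by_cases he : x = x₀
      · subst he; exact hj
      by_cases hn : x = -x₀
      · subst hn; rw [map_neg]; exact neg_mem hj
      obtain ⟨z, hz, hzQ, hz1, hz2⟩ :=
        hconn i x₀ hx₀ x hx (by rw [hx₀Q]; exact hc) (by rw [hQx, hx₀Q]) he hn hf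
      obtain ⟨p, hp⟩ := hh i z hz (by rw [hzQ, hx₀Q])
      have e1 := near z hz x₀ hx₀ (by rw [hzQ, hx₀Q]) hx₀Q hz1 p j hp hj
      have e2 := near z hz x hx (by rw [hzQ, hx₀Q]) hQx hz2 p l hp hl
      rwa [← e1, e2]
    · rwa [near x₀ hx₀ x hx hx₀Q hQx hf j l hj hl]
  refine ⟨j, fun u hu => ?_⟩
  have hcomp : ∀ l, l ≠ j → dpart hQ hD l (h.1 u) = 0 := by
    intro l hlj
    refine hD.nd l _ (dpart_mem hQ hD l _) fun y hy => ?_
    rw [polB_dpart hQ hD l _ hy, ← orth_apply_inv_self h y, orth_polB_map, polB_comm,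
      ← polB_dpart hQ hD i _ hu]
    set e := dpart hQ hD i ((h⁻¹).1 y) with he
    suffices he0 : e = 0 by rw [he0, map_zero, LinearMap.zero_apply]
    by_contra hne
    obtain ⟨x, hx, hxQ, hxe⟩ := exists_val_pair (hD.nd i) (hk' i) (dpart_mem hQ hD i _) hne hc
      (φ := (1 : F)) (Or.inr one_ne_zero)
    rw [polB_comm, polB_dpart hQ hD i _ hx, ← orth_polB_map h, orth_apply_inv_self,
      hD.perp l j hlj y hy _ (hsame x hx hxQ)] at hxe
    exact zero_ne_one hxe
  rw [← sum_dpart hQ hD (h.1 u)]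
  rw [Finset.sum_eq_single j (fun l _ hl => hcomp l hl) (by simp)]
  exact dpart_mem hQ hD j _

variable (hgen : ReflGenerates F V) {M : Subgroup (orthGroup Q)}
  (hHM : DStab Q D ⊓ commutator (orthGroup Q) ≤ M)

include hgen hHM

/-- An element of `M` outside the stabiliser gives a mixed vector of the block. -/
lemma exists_wSeed (ht : 3 ≤ t) {c₀ : F} (hc₀ : c₀ ≠ 0)
    (hperp : ∀ m, ∀ u ∈ D m, ∃ b ∈ D m, Q b = c₀ ∧ polB Q b u = 0)
    {g : orthGroup Q} (hg : g ∈ M) (hgD : g ∉ DStab Q D) :
    ∃ z, InW Q D M z ∧ ∀ i, z ∉ D i := by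
  have hzero : ∀ (p q : Fin t) (v : V), p ≠ q → v ∈ D p → v ∈ D q → v = 0 := fun p q v hpq h1 h2 =>
    hD.nd p v h1 fun y hy => hD.perp q p (Ne.symm hpq) v h2 y hy
  obtain ⟨i₀, a, ha, hQa, hmix⟩ : ∃ i₀, ∃ a ∈ D i₀, Q a = c₀ ∧ ∀ j, g.1 a ∉ D j := by
    by_contra hcon
    push Not at hcon
    exact hgD (mem_DStab_of_value hQ hD hk hconn hc₀ hcon)
  set x := g.1 a with hxdef
  have hx0 : Q x ≠ 0 := by rw [hxdef, orth_qmap, hQa]; exact hc₀
  obtain ⟨iv, v, hv, hvQ, hvx⟩ := exists_side_perp hQ hD hk hx0 one_ne_zero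
  have hua : polB Q ((g⁻¹).1 v) a = 0 := by
    rw [← orth_polB_map g, orth_apply_inv_self]; exact hvx
  choose b hb hQb hbu using fun m => hperp m _ (dpart_mem hQ hD m ((g⁻¹).1 v))
  set y := fun m => g.1 (b m) with hydef
  have hyv : ∀ m, polB Q v (y m) = 0 := fun m => by
    rw [← orth_apply_inv_self g v, hydef, orth_polB_map, ← polB_dpart hQ hD m _ (hb m), polB_comm]
    exact hbu m
  have hmem : ∀ m, refl Q x * refl Q (y m) ∈ M := fun m => by
    rw [hxdef, hydef, ← refl_conj, ← refl_conj, conj_mul]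
    exact mul_mem (mul_mem hg (wSide_pair hQ hD hk (by omega) hgen hHM ha (hb m)
      (sameCls_of_eq (by rw [hQa]; exact hc₀) (by rw [hQb, hQa])))) (inv_mem hg)
  have hfixv : ∀ m, (refl Q x * refl Q (y m)).1 v = v := fun m => by
    rw [orth_mul_apply, refl_fix (hyv m), refl_fix hvx]
  by_cases hex : ∃ m, m ≠ i₀ ∧ refl Q x * refl Q (y m) ∉ DStab Q D
  · obtain ⟨m, -, hh⟩ := hex
    obtain ⟨i, w, hw, hwQ, hwmix⟩ : ∃ i, ∃ w ∈ D i, Q w = 1 ∧
        ∀ j, (refl Q x * refl Q (y m)).1 w ∉ D j := by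
      by_contra hcon
      push Not at hcon
      exact hh (mem_DStab_of_value hQ hD hk hconn one_ne_zero hcon)
    refine ⟨_, inW_act hQ hD hk (by omega) hgen hHM (hmem m)
      (inW_side hQ hD hk (by omega) hgen hHM hw (by rw [hwQ]; exact one_ne_zero)) hv
      (sameCls_of_eq (by rw [hwQ]; exact one_ne_zero) (by rw [hvQ, hwQ]))
      (by rw [hfixv m]; exact hv), hwmix⟩
  exfalso
  push Not at hex
  set X := fun l => dpart hQ hD l x with hX
  -- the pair fixes every member
  have hrel : ∀ m, m ≠ i₀ → ∀ i l, l ≠ i → ∀ u ∈ D i,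
      polB Q (X i) u • X l + polB Q (dpart hQ hD i (y m)) u • dpart hQ hD l (y m) = 0 := by
    intro m hm i l hli u hu
    set h := refl Q x * refl Q (y m) with hh
    have hxy : polB Q x (y m) = 0 := by
      rw [hxdef, hydef, orth_polB_map]
      exact hD.perp i₀ m (Ne.symm hm) a ha _ (hb m)
    obtain ⟨j, hj⟩ := DStab_maps (hex m hm) i
    obtain ⟨w, hw, hw0⟩ := Submodule.exists_mem_ne_zero_of_ne_bot
      (p := perpIn Q (perpIn Q (D i) x) (y m)) (fun e => by
        have e1 := finrank_perpIn (Q := Q) (D i) x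
        have e2 := finrank_perpIn (Q := Q) (perpIn Q (D i) x) (y m)
        rw [e, finrank_bot] at e2
        rw [hD.dim] at e1
        omega)
    have hwfix : h.1 w = w := by
      rw [hh, orth_mul_apply, refl_fix (mem_perpIn.mp hw).2, refl_fix (mem_perpIn.mp hw.1).2]
    have hji : j = i := by
      by_contra hne
      have := hj w hw.1.1
      rw [hwfix] at this
      exact hw0 (hzero j i w hne this hw.1.1)
    subst hji
    have h0 := hj u hu
    rw [orth_mul_apply, refl_apply, refl_apply] at h0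
    simp only [map_sub, map_smul, LinearMap.sub_apply, LinearMap.smul_apply, polB_comm (y m) x,
      hxy, smul_zero, sub_zero] at h0
    have h1 : dpart hQ hD l (u - ((Q (y m))⁻¹ * polB Q u (y m)) • y m -
        ((Q x)⁻¹ * polB Q u x) • x) = 0 := dpart_other hQ hD hli h0
    rw [map_sub, map_sub, map_smul, map_smul, dpart_other hQ hD hli hu, zero_sub] at h1
    have hQy : Q (y m) = Q x := by rw [hydef, hxdef, orth_qmap, orth_qmap, hQb, hQa]
    rw [hQy, mul_smul, mul_smul, ← smul_neg, ← smul_sub, smul_eq_zero] at h1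
    have h2 := h1.resolve_left (inv_ne_zero hx0)
    rw [polB_comm u x, polB_comm u (y m)] at h2
    rw [hX, polB_dpart hQ hD j x hu, polB_dpart hQ hD j (y m) hu]
    rw [show polB Q x u • dpart hQ hD l x + polB Q (y m) u • dpart hQ hD l (y m) =
      -(-(polB Q (y m) u • dpart hQ hD l (y m)) - polB Q x u • dpart hQ hD l x) by abel, h2,
      neg_zero]
  have hXD : ∀ l, X l ∈ D l := fun l => dpart_mem hQ hD l x
  have hXsum : ∑ l, X l = x := sum_dpart hQ hD x
  obtain ⟨p, q, hpq, hp, hq⟩ : ∃ p q, p ≠ q ∧ X p ≠ 0 ∧ X q ≠ 0 := by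
    obtain ⟨p, hp⟩ := exists_nonsing_part hQ hD hx0
    by_contra hcon
    push Not at hcon
    refine hmix p ?_
    change x ∈ D p
    rw [← hXsum, Finset.sum_eq_single p (fun l _ hl => hcon p l (Ne.symm hl)
      (fun e => hp (by rw [show dpart hQ hD p x = 0 from e, QuadraticMap.map_zero]))) (by simp)]
    exact hXD p
  -- all translates lie in the plane of two components
  have hplane : ∀ m, m ≠ i₀ → x ∈ Submodule.span F ({X p, X q} : Set V) ∧
      y m ∈ Submodule.span F ({X p, X q} : Set V) := by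
    intro m hm
    set Y := fun l => dpart hQ hD l (y m) with hY
    obtain ⟨up, hup, hfp⟩ := ndOn_exists_polB (hD.nd p) (hXD p) hp 1
    obtain ⟨uq, huq, hfq⟩ := ndOn_exists_polB (hD.nd q) (hXD q) hq 1
    set μ := polB Q (Y p) up with hμ
    set ν := polB Q (Y q) uq with hν
    have h1 : ∀ l, l ≠ p → X l = (-μ) • Y l := fun l hl => by
      have h := hrel m hm p l hl up hup
      rw [polB_comm (X p), hfp, one_smul] at h
      rw [neg_smul]
      exact eq_neg_of_add_eq_zero_left h
    have h2 : ∀ l, l ≠ q → X l = (-ν) • Y l := fun l hl => by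
      have h := hrel m hm q l hl uq huq
      rw [polB_comm (X q), hfq, one_smul] at h
      rw [neg_smul]
      exact eq_neg_of_add_eq_zero_left h
    have hμ0 : μ ≠ 0 := fun e => hq (by rw [h1 q hpq.symm, e, neg_zero, zero_smul])
    have hν0 : ν ≠ 0 := fun e => hp (by rw [h2 p hpq, e, neg_zero, zero_smul])
    have hsupp : ∀ r, r ≠ p → r ≠ q → X r = 0 := by
      intro r hrp hrq
      by_contra hr
      have e := (h1 r hrp).symm.trans (h2 r hrq)
      have hYr : Y r ≠ 0 := fun e0 => hr (by rw [h1 r hrp, e0, smul_zero])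
      have hμν : μ = ν := by
        have := smul_left_injective F hYr e
        simpa using this
      have hxy : x = (-μ) • y m := by
        rw [← hXsum, ← sum_dpart hQ hD (y m), Finset.smul_sum]
        refine Finset.sum_congr rfl fun l _ => ?_
        by_cases hl : l = p
        · subst hl; rw [h2 l hpq, hμν]
        · exact h1 l hl
      rw [hxdef, hydef, ← map_smul] at hxy
      have := g.1.injective hxy
      have ha0 := hzero i₀ m a (Ne.symm hm) ha (this ▸ (D m).smul_mem _ (hb m))
      exact hc₀ (by rw [← hQa, ha0, QuadraticMap.map_zero])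
    have hY' : ∀ r, r ≠ p → r ≠ q → Y r = 0 := fun r hrp hrq => by
      have h := h1 r hrp
      rw [hsupp r hrp hrq, eq_comm, smul_eq_zero] at h
      exact h.resolve_left (neg_ne_zero.mpr hμ0)
    have hmemP : X p ∈ Submodule.span F ({X p, X q} : Set V) := Submodule.subset_span (by simp)
    have hmemQ : X q ∈ Submodule.span F ({X p, X q} : Set V) := Submodule.subset_span (by simp)
    refine ⟨?_, ?_⟩
    · rw [← hXsum]
      refine Submodule.sum_mem _ fun l _ => ?_
      by_cases h : l = p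
      · subst h; exact hmemP
      by_cases h' : l = q
      · subst h'; exact hmemQ
      rw [hsupp l h h']; exact zero_mem _
    · rw [← sum_dpart hQ hD (y m)]
      refine Submodule.sum_mem _ fun l _ => ?_
      change Y l ∈ _
      by_cases h : l = p
      · subst h
        have := Submodule.smul_mem (Submodule.span F ({X l, X q} : Set V)) (-ν)⁻¹ hmemP
        have e2 : (-ν)⁻¹ • X l = Y l := by rw [h2 l hpq, inv_smul_smul₀ (neg_ne_zero.mpr hν0)]
        rwa [e2] at this
      by_cases h' : l = q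
      · subst h'
        have := Submodule.smul_mem (Submodule.span F ({X p, X l} : Set V)) (-μ)⁻¹ hmemQ
        have e2 : (-μ)⁻¹ • X l = Y l := by rw [h1 l hpq.symm, inv_smul_smul₀ (neg_ne_zero.mpr hμ0)]
        rwa [e2] at this
      rw [hY' l h h']; exact zero_mem _
  -- three independent vectors
  obtain ⟨m₁, m₂, hm₁, hm₂, hm12⟩ : ∃ m₁ m₂, m₁ ≠ i₀ ∧ m₂ ≠ i₀ ∧ m₁ ≠ m₂ := by
    let A : Fin t := ⟨0, by omega⟩
    let B : Fin t := ⟨1, by omega⟩
    let C : Fin t := ⟨2, by omega⟩
    have hAB : A ≠ B := by simp [A, B]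
    have hAC : A ≠ C := by simp [A, C]
    have hBC : B ≠ C := by simp [B, C]
    by_cases h0 : i₀ = A
    · exact ⟨B, C, h0 ▸ hAB.symm, h0 ▸ hAC.symm, hBC⟩
    by_cases h1 : i₀ = B
    · exact ⟨A, C, h1 ▸ hAB, h1 ▸ hBC.symm, hAC⟩
    exact ⟨A, B, Ne.symm h0, Ne.symm h1, hAB⟩
  have hind : LinearIndependent F ![a, b m₁, b m₂] := by
    rw [Fintype.linearIndependent_iff]
    intro c hc
    rw [Fin.sum_univ_three] at hc
    simp only [Matrix.cons_val] at hc
    have e0 : c 0 • a = 0 := by
      have := congrArg (dpart hQ hD i₀) hc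
      rwa [map_add, map_add, map_zero, map_smul, map_smul, map_smul, dpart_of_mem hQ hD ha,
        dpart_other hQ hD (Ne.symm hm₁) (hb m₁), dpart_other hQ hD (Ne.symm hm₂) (hb m₂),
        smul_zero, smul_zero, add_zero, add_zero] at this
    have e1 : c 1 • b m₁ = 0 := by
      have := congrArg (dpart hQ hD m₁) hc
      rwa [map_add, map_add, map_zero, map_smul, map_smul, map_smul, dpart_of_mem hQ hD (hb m₁),
        dpart_other hQ hD hm₁ ha, dpart_other hQ hD hm12 (hb m₂),
        smul_zero, smul_zero, zero_add, add_zero] at this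
    have e2 : c 2 • b m₂ = 0 := by
      have := congrArg (dpart hQ hD m₂) hc
      rwa [map_add, map_add, map_zero, map_smul, map_smul, map_smul, dpart_of_mem hQ hD (hb m₂),
        dpart_other hQ hD hm₂ ha, dpart_other hQ hD (Ne.symm hm12) (hb m₁),
        smul_zero, smul_zero, zero_add, zero_add] at this
    have nz : ∀ v : V, Q v = c₀ → v ≠ 0 := fun v h e => hc₀ (by rw [← h, e, QuadraticMap.map_zero])
    intro i
    fin_cases i
    · exact (smul_eq_zero.mp e0).resolve_right (nz a hQa)
    · exact (smul_eq_zero.mp e1).resolve_right (nz _ (hQb m₁))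
    · exact (smul_eq_zero.mp e2).resolve_right (nz _ (hQb m₂))
  have hle : (Submodule.span F (Set.range ![a, b m₁, b m₂])).map (g.1 : V →ₗ[F] V) ≤
      Submodule.span F ({X p, X q} : Set V) := by
    rw [Submodule.map_span_le]
    rintro _ ⟨i, rfl⟩
    fin_cases i
    · exact (hplane m₁ hm₁).1
    · exact (hplane m₁ hm₁).2
    · exact (hplane m₂ hm₂).2
  have h1 := Submodule.finrank_mono hle
  rw [LinearEquiv.finrank_map_eq, finrank_span_eq_card hind, Fintype.card_fin] at h1
  have h2 : Module.finrank F (Submodule.span F ({X p, X q} : Set V)) ≤ 2 := by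
    classical
    refine (finrank_span_le_card ({X p, X q} : Set V)).trans ?_
    rw [Set.toFinset_card]
    exact (Fintype.card_ofFinset _ _).le.trans (by simpa using Finset.card_le_two)
  omega

omit hconn in
/-- One pair in the block puts everything in the block. -/
lemma inW_all (ht : 2 ≤ t) (hsmall : 4 ≤ k ∨ ∀ a : F, ∃ b, b ≠ 0 ∧ b ≠ a ∧ b ≠ -a) {α β : F}
    (h : WPair Q D M α β) (z : V) (hz : Q z ≠ 0) : InW Q D M z := by
  classical
  have hk' : ∀ a, 3 ≤ Module.finrank F (D a) := fun a => by rw [hD.dim]; exact hk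
  have hpair : ∀ (b c : Fin t) (u v : V), b ≠ c → u ∈ D b → v ∈ D c → Q (u + v) ≠ 0 →
      InW Q D M (u + v) := by
    intro b c u v hbc hu hv h0
    by_cases hu0 : u = 0
    · subst hu0; rw [zero_add] at h0 ⊢; exact inW_side hQ hD hk ht hgen hHM hv h0
    by_cases hv0 : v = 0
    · subst hv0; rw [add_zero] at h0 ⊢; exact inW_side hQ hD hk ht hgen hHM hu h0
    refine wPair_spread hQ hD hk ht hgen hHM (wPair_all hQ hD hk ht hgen hHM hsmall h ?_) hbc hu hv
      hu0 hv0 rfl rfl
    rwa [qmap_add, hD.perp b c hbc u hu v hv, add_zero] at h0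
  suffices key : ∀ n, ∀ z : V, Q z ≠ 0 →
      (Finset.univ.filter fun i => dpart hQ hD i z ≠ 0).card ≤ n → InW Q D M z from
    key _ z hz le_rfl
  intro n
  induction n with
  | zero =>
    intro z hz hcard
    obtain ⟨i, hi⟩ := exists_nonsing_part hQ hD hz
    exfalso
    rw [Nat.le_zero, Finset.card_eq_zero, Finset.filter_eq_empty_iff] at hcard
    exact hcard (Finset.mem_univ i) fun e => hi (by rw [e, QuadraticMap.map_zero])
  | succ n ih =>
    intro z hz hcard
    obtain ⟨b, hb⟩ := exists_nonsing_part hQ hD hz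
    by_cases hone : ∀ c, c ≠ b → dpart hQ hD c z = 0
    · rw [← sum_dpart hQ hD z, Finset.sum_eq_single b (fun c _ hc => hone c hc) (by simp)]
      exact inW_side hQ hD hk ht hgen hHM (dpart_mem hQ hD b z) hb
    push Not at hone
    obtain ⟨c, hcb, hc⟩ := hone
    set zb := dpart hQ hD b z with hzbdef
    set zc := dpart hQ hD c z with hzcdef
    have hzb : zb ∈ D b := dpart_mem hQ hD b z
    have hzc : zc ∈ D c := dpart_mem hQ hD c z
    have hzb0 : zb ≠ 0 := fun e => hb (by rw [e, QuadraticMap.map_zero])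
    set y := zb + zc with hy
    obtain ⟨e, he, hQe, hef⟩ : ∃ e ∈ D b, Q e = Q y ∧ polB Q e zb = 2 * Q y + 1 := by
      by_cases h0 : Q y = 0
      · obtain ⟨e, he, hQe, hef⟩ := exists_sing_pair (hD.nd b) (hk' b) hzb hzb0
          (φ := (1 : F)) one_ne_zero
        exact ⟨e, he, by rw [hQe, h0], by rw [hef, h0]; ring⟩
      · obtain ⟨e, he, hQe, hef⟩ := exists_val_pair (hD.nd b) (hk' b) hzb hzb0 h0
          (φ := 2 * Q y + 1) (Or.inl hb)
        exact ⟨e, he, hQe, hef⟩
    set p := y - e with hp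
    have hfy : polB Q y e = 2 * Q y + 1 := by
      rw [hy, map_add, LinearMap.add_apply, hD.perp c b hcb zc hzc e he, add_zero, polB_comm, hef]
    have hQp : Q p = -1 := by rw [hp, qmap_sub, hQe, hfy]; ring
    have hp0 : Q p ≠ 0 := by rw [hQp]; exact neg_ne_zero.mpr one_ne_zero
    have hpW : InW Q D M p := by
      have e' : p = (zb - e) + zc := by rw [hp, hy]; abel
      rw [e'] at hp0 ⊢
      exact hpair b c _ _ (Ne.symm hcb) (sub_mem hzb he) hzc hp0
    set u := (refl Q p).1 z with hu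
    have hfz : polB Q z p = Q p := by
      have h1 : polB Q z p = polB Q y p := by
        have ez : polB Q z e = polB Q zb e := (polB_dpart hQ hD b z he).symm
        have ezb : polB Q z zb = polB Q zb zb := (polB_dpart hQ hD b z hzb).symm
        have ezc : polB Q z zc = polB Q zc zc := (polB_dpart hQ hD c z hzc).symm
        rw [hp, hy]
        simp only [map_sub, map_add, LinearMap.add_apply, ez, ezb, ezc,
          hD.perp b c (Ne.symm hcb) zb hzb zc hzc, hD.perp c b hcb zc hzc zb hzb,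
          hD.perp c b hcb zc hzc e he]
        ring
      rw [h1, hp, map_sub, polB_self, hfy, qmap_sub, hQe, hfy]; ring
    have hue : u = z - zb - zc + e := by
      rw [hu, refl_apply, hfz, inv_mul_cancel₀ hp0, one_smul, hp, hy]; abel
    have hu0 : Q u ≠ 0 := by rw [hu, orth_qmap]; exact hz
    have hud : ∀ i, i ≠ b → dpart hQ hD i u = if i = c then 0 else dpart hQ hD i z := fun i hi => by
      rw [hue, map_add, map_sub, map_sub, dpart_other hQ hD hi hzb, dpart_other hQ hD hi he,
        sub_zero, add_zero]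
      split_ifs with hic
      · subst hic; rw [dpart_of_mem hQ hD hzc, ← hzcdef, sub_self]
      · rw [dpart_other hQ hD hic hzc, sub_zero]
    have hlt : (Finset.univ.filter fun i => dpart hQ hD i u ≠ 0).card <
        (Finset.univ.filter fun i => dpart hQ hD i z ≠ 0).card := by
      refine Finset.card_lt_card ((Finset.ssubset_iff_of_subset fun i hi => ?_).mpr ⟨c, ?_, ?_⟩)
      · simp only [Finset.mem_filter, Finset.mem_univ, true_and] at hi ⊢
        by_cases hib : i = b
        · subst hib; exact hzb0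
        · rw [hud i hib] at hi
          split_ifs at hi with hic
          · exact absurd rfl hi
          · exact hi
      · simpa [← hzcdef] using hc
      · simp [hud c hcb]
    have := inW_refl hQ hD hk ht hgen hHM hpW (ih u hu0 (by omega))
    rwa [hu, ← orth_mul_apply, refl_sq, orth_one_apply] at this

omit hHM in
/-- The stabiliser of the decomposition is maximal. -/
theorem wreath_maximal (ht : 2 ≤ t) (hn : 9 ≤ Module.finrank F V) (hn2 : t = 2 → 6 ≤ k ∨ (5 ≤ k ∧ (2 : F) ≠ 0))
    (hsmall : 4 ≤ k ∨ ∀ a : F, ∃ b, b ≠ 0 ∧ b ≠ a ∧ b ≠ -a)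
    {c₀ : F} (hc₀ : c₀ ≠ 0)
    (hperp : ∀ m, ∀ u ∈ D m, ∃ b ∈ D m, Q b = c₀ ∧ polB Q b u = 0) :
    DStab Q D ⊓ commutator (orthGroup Q) < commutator (orthGroup Q) ∧
    ∀ M : Subgroup (orthGroup Q), DStab Q D ⊓ commutator (orthGroup Q) ≤ M →
      M ≤ commutator (orthGroup Q) →
      M = DStab Q D ⊓ commutator (orthGroup Q) ∨ M = commutator (orthGroup Q) := by
  have hk' : ∀ a, 3 ≤ Module.finrank F (D a) := fun a => by rw [hD.dim]; exact hk
  let i₀ : Fin t := ⟨0, by omega⟩
  let i₁ : Fin t := ⟨1, by omega⟩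
  have h01 : i₁ ≠ i₀ := by simp [i₀, i₁]
  refine ⟨lt_of_le_of_ne inf_le_right fun heq => ?_, fun M hHM hMC => ?_⟩
  · obtain ⟨s, hs, hs0, hsQ⟩ := exists_singular_in (Q := Q) (D i₁) (hk' i₁)
    obtain ⟨a, ha, haQ⟩ := exists_value_in (hD.nd i₀) (by rw [hD.dim]; omega) one_ne_zero
    have hy : Q (a + s) = 1 := by
      rw [qmap_add, hsQ, haQ, hD.perp i₀ i₁ h01.symm a ha s hs]; ring
    obtain ⟨g, hg, hga⟩ := eichler_transitive hQ (by omega) (u := a) (v := a + s)
      (by rw [haQ]; exact one_ne_zero) (by rw [hy, haQ])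
    rw [← commutator_eq_eichlerSub hQ (by omega), ← heq] at hg
    obtain ⟨j, hj⟩ := DStab_maps hg.1 i₀
    have h1 := hj a ha
    rw [hga] at h1
    by_cases hj0 : j = i₀
    · rw [hj0] at h1
      refine hs0 (hD.nd i₁ s hs fun y hy => hD.perp i₀ i₁ h01.symm s ?_ y hy)
      simpa using sub_mem h1 ha
    · have e := congrArg (dpart hQ hD i₀) (show a + s = a + s from rfl)
      conv_lhs at e => rw [dpart_other hQ hD (Ne.symm hj0) h1]
      rw [map_add, dpart_of_mem hQ hD ha, dpart_other hQ hD h01.symm hs, add_zero] at e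
      exact one_ne_zero (by rw [← haQ, ← e, QuadraticMap.map_zero])
  · by_cases hsub : M ≤ DStab Q D
    · exact Or.inl (le_antisymm (le_inf hsub hMC) hHM)
    obtain ⟨g, hg, hgD⟩ := Set.not_subset.mp hsub
    refine Or.inr (le_antisymm hMC ?_)
    by_cases ht3 : 3 ≤ t
    · obtain ⟨z, hz, hmix⟩ := exists_wSeed hQ hD hk hconn hgen hHM ht3 hc₀ hperp hg hgD
      have hq : (∃ a : F, a ≠ 0 ∧ a ≠ 1) ∨ 4 ≤ k := by
        rcases hsmall with h | h
        · exact Or.inr h
        · obtain ⟨b, h0, h1, -⟩ := h 1; exact Or.inl ⟨b, h0, h1⟩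
      obtain ⟨α, β, hαβ⟩ := exists_wPair hQ hD hk ht hgen hHM hq hz hmix
      refine commutator_le_of_sameCls hQ hgen M fun x y hxy => ?_
      have hx := inW_all hQ hD hk hgen hHM ht hsmall hαβ x hxy.1
      have hy := inW_all hQ hD hk hgen hHM ht hsmall hαβ y hxy.2.1
      obtain ⟨w, hw, hwQ⟩ := exists_value_in (hD.nd i₀) (by rw [hD.dim]; omega) hxy.1
      have hxw : SameCls Q x w := sameCls_of_eq hxy.1 hwQ
      have h1 := inW_pair hQ hD hk ht hgen hHM hx hw hxw
      have h2 := inW_pair hQ hD hk ht hgen hHM hy hw (hxy.symm.trans hxw)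
      have h3 := mul_mem h1 (inv_mem h2)
      rwa [mul_inv_rev, refl_inv, refl_inv, mul_assoc, ← mul_assoc (refl Q w), refl_sq,
        one_mul] at h3
    · have ht2 : t = 2 := by omega
      subst ht2
      have hW : D 0 ⊓ (polB Q).orthogonal (D 0) = ⊥ := ndOn_inf (hD.nd 0)
      have he : D 1 = (polB Q).orthogonal (D 0) := by
        refine Submodule.eq_of_le_of_finrank_le (fun x hx w hw => hD.perp 0 1 (by decide) w hw x hx) ?_
        have h1 := finrank_orth_add hQ (D 0)
        have h2 : Module.finrank F V ≤ Module.finrank F (D 0) + Module.finrank F (D 1) := by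
          refine le_trans (le_of_eq ?_) (Submodule.finrank_add_le_finrank_add_finrank _ _)
          have hsup : D 0 ⊔ D 1 = ⊤ := by
            refine top_le_iff.mp (hD.top ▸ iSup_le fun i => ?_)
            fin_cases i
            · exact le_sup_left
            · exact le_sup_right
          rw [hsup, finrank_top]
        omega
      have hH' : commutator (orthGroup Q) ⊓ orthStab Q (D 0) ≤ M := by
        rintro x ⟨hx, hxs⟩
        refine hHM ⟨mem_DStab hD.dim fun i => ⟨i, ?_⟩, hx⟩
        fin_cases i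
        · intro y hy; exact (show (D 0).map (x.1 : V →ₗ[F] V) = D 0 from hxs).le ⟨y, hy, rfl⟩
        · intro y hy
          rw [← orthStab_orth_eq hQ (D 0), ← he] at hxs
          exact (show (D 1).map (x.1 : V →ₗ[F] V) = D 1 from hxs).le ⟨y, hy, rfl⟩
      have hdim1 : BigSide Q (D 0) := by
        unfold BigSide
        rw [← he, hD.dim, hD.dim]
        rcases hn2 rfl with h | ⟨h, h2⟩
        · exact Or.inl h
        · exact Or.inr ⟨h, h, h2⟩
      have hg0 : g ∉ orthStab Q (D 0) := fun h => hgD (mem_DStab hD.dim fun i => ⟨i, by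
        fin_cases i
        · intro y hy; exact (show (D 0).map (g.1 : V →ₗ[F] V) = D 0 from h).le ⟨y, hy, rfl⟩
        · intro y hy
          rw [← orthStab_orth_eq hQ (D 0), ← he] at h
          exact (show (D 1).map (g.1 : V →ₗ[F] V) = D 1 from h).le ⟨y, hy, rfl⟩⟩)
      have hswap : ¬ ∀ x ∈ (polB Q).orthogonal (D 0), g.1 x ∈ D 0 := by
        intro hall
        rw [← he] at hall
        apply hgD
        have hmap : (D 1).map (g.1 : V →ₗ[F] V) = D 0 := by
          refine Submodule.eq_of_le_of_finrank_le ?_ ?_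
          · rintro _ ⟨y, hy, rfl⟩; exact hall y hy
          · rw [LinearEquiv.finrank_map_eq, hD.dim, hD.dim]
        refine mem_DStab hD.dim fun i => ?_
        fin_cases i
        · refine ⟨1, fun y hy => ?_⟩
          rw [he]
          intro w hw
          rw [← hmap] at hw
          obtain ⟨w₀, hw₀, rfl⟩ := hw
          change polB Q (g.1 w₀) (g.1 y) = 0
          rw [orth_polB_map]
          exact hD.perp 1 0 (by decide) w₀ hw₀ y hy
        · exact ⟨0, hall⟩
      obtain ⟨a, ha, b, hb, ha0, hb0, hz⟩ := exists_seed hQ hW hgen hdim1 hH' hg hswap hg0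
      exact commutator_le_of_seed hQ hW hgen hdim1 hH'
        (fun _ _ _ _ _ => by rw [hD.dim]; exact hk) ha hb ha0 hb0 hz

end H45
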