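import Mathlib
import Cfsg.Agent.H45.WreathTop
import Cfsg.Agent.H45.NonMaxDecompFinal
import Cfsg.Agent.H45.NondegFinal
import Cfsg.Agent.H44.JordanEven

/-!
# Maximality of decomposition stabilisers, members of dimension at least three
-/

set_option autoImplicit false
set_option linter.unusedSectionVars false

namespace H45

open H43
open scoped Matrix

variable {F : Type*} [Field F]

lemma exists_ne_three [Fintype F] (h : 4 ≤ Fintype.card F) (a : F) :
    ∃ b, b ≠ 0 ∧ b ≠ a ∧ b ≠ -a := by
  classical
  by_contra hcon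
  push Not at hcon
  have hsub : (Finset.univ : Finset F) ⊆ {0, a, -a} := fun b _ => by
    by_cases h0 : b = 0
    · simp [h0]
    by_cases h1 : b = a
    · simp [h1]
    simp [hcon b h0 h1]
  have := (Finset.card_le_card hsub).trans Finset.card_le_three
  rw [Finset.card_univ] at this
  omega

variable {V : Type*} [AddCommGroup V] [Module F V] [FiniteDimensional F V] {Q : QuadraticForm F V}
  {t k : ℕ} {D : Fin t → Submodule F V}

/-- The value of a non-singular vector orthogonal to a singular one, in members of dimension three. -/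
lemma exists_value_perp_three [Finite F] (hD : OD Q D k) (hk : k = 3) (i₀ : Fin t) :
    ∃ c₀ : F, c₀ ≠ 0 ∧ ∀ m, ∀ u ∈ D m, ∃ b ∈ D m, Q b = c₀ ∧ polB Q b u = 0 := by
  haveI := Fintype.ofFinite F
  have hk' : ∀ a, 3 ≤ Module.finrank F (D a) := fun a => by rw [hD.dim, hk]
  obtain ⟨e, he, he0, heQ⟩ := exists_singular_in (Q := Q) (D i₀) (hk' i₀)
  obtain ⟨w, hw, hwQ⟩ : ∃ w ∈ perpIn Q (D i₀) e, Q w ≠ 0 := by
    by_contra h
    push Not at h
    have hb := two_mul_finrank_singular_le (restrict_nondeg (ndOn_inf (hD.nd i₀)))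
      ((perpIn Q (D i₀) e).comap (D i₀).subtype) (fun v hv => h _ hv)
    rw [(Submodule.comapSubtypeEquivOfLe (show perpIn Q (D i₀) e ≤ D i₀ from inf_le_left)).finrank_eq,
      hD.dim] at hb
    have h1 := finrank_perpIn (Q := Q) (D i₀) e
    rw [hD.dim] at h1
    omega
  refine ⟨Q w, hwQ, fun m u hu => ?_⟩
  by_cases hu' : u = 0 ∨ Q u ≠ 0
  · exact exists_val_perp (hD.nd m) (hk' m) hu hu' hwQ
  push Not at hu'
  obtain ⟨φ, hφ⟩ := hD.iso i₀ m
  set u' : V := (φ ⟨e, he⟩ : D m).1 with hu'def
  set w' : V := (φ ⟨w, hw.1⟩ : D m).1 with hw'def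
  have hu'm : u' ∈ D m := (φ ⟨e, he⟩).2
  have hw'm : w' ∈ D m := (φ ⟨w, hw.1⟩).2
  have hu'Q : Q u' = 0 := (hφ _).trans heQ
  have hw'Q : Q w' = Q w := hφ _
  have hwu : polB Q w' u' = 0 := (iso_polB φ hφ _ _).trans (mem_perpIn.mp hw).2
  have hu'0 : u' ≠ 0 := fun h => he0 (by
    have : φ ⟨e, he⟩ = 0 := Subtype.ext h
    rw [LinearEquiv.map_eq_zero_iff] at this
    exact congrArg Subtype.val this)
  by_cases huu : polB Q u u' = 0
  · refine ⟨w', hw'm, hw'Q, ?_⟩
    -- `u` is a multiple of `u'`
    have hind : LinearIndependent F ![u', w'] := by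
      rw [LinearIndependent.pair_iff]
      intro a b hab
      have hb := congrArg Q hab
      rw [qmap_add_smul, qmap_smul, hu'Q, hw'Q, map_smul, LinearMap.smul_apply, polB_comm, hwu,
        smul_zero, mul_zero, mul_zero, zero_add, add_zero, QuadraticMap.map_zero, mul_eq_zero,
        mul_self_eq_zero] at hb
      obtain rfl := hb.resolve_right hwQ
      rw [zero_smul, add_zero, smul_eq_zero] at hab
      exact ⟨hab.resolve_right hu'0, rfl⟩
    have hle : Submodule.span F (Set.range ![u', w']) ≤ perpIn Q (D m) u' :=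
      Submodule.span_le.mpr (by
        rintro _ ⟨i, rfl⟩
        fin_cases i
        · exact mem_perpIn.mpr ⟨hu'm, by change polB Q u' u' = 0; rw [polB_self, hu'Q, mul_zero]⟩
        · exact mem_perpIn.mpr ⟨hw'm, hwu⟩)
    have hlt : perpIn Q (D m) u' < D m := lt_of_le_of_ne inf_le_left fun h => hu'0
      (hD.nd m u' hu'm fun y hy => by
        rw [polB_comm]; exact (mem_perpIn.mp (h.symm ▸ hy : y ∈ perpIn Q (D m) u')).2)
    have h3 := Submodule.finrank_lt_finrank_of_lt hlt
    rw [hD.dim, hk] at h3
    have heq := Submodule.eq_of_le_of_finrank_le hle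
      (by rw [finrank_span_eq_card hind, Fintype.card_fin]; omega)
    have humem : u ∈ perpIn Q (D m) u' := mem_perpIn.mpr ⟨hu, huu⟩
    rw [← heq] at humem
    obtain ⟨g, rfl⟩ := (Submodule.mem_span_range_iff_exists_fun F).mp humem
    have hQu := hu'.2
    simp [Fin.sum_univ_two, qmap_add, qmap_smul, hu'Q, hw'Q, polB_comm u' w', hwu, hwQ] at hQu
    simp [Fin.sum_univ_two, hwu, hQu]
  · have hv : Q (u' - u) ≠ 0 := by
      rw [qmap_sub, hu'Q, hu'.2, polB_comm u' u]
      simpa using huu
    have hmap : (refl Q (u' - u)).1 u' = u := by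
      rw [refl_apply, qmap_sub, map_sub, polB_self, hu'Q, hu'.2]
      have : ((0 : F) + 0 - polB Q u' u)⁻¹ * (2 * 0 - polB Q u' u) = 1 := by
        rw [polB_comm u' u, add_zero, mul_zero]
        exact inv_mul_cancel₀ (by simpa using huu)
      rw [this, one_smul, sub_sub_cancel]
    refine ⟨(refl Q (u' - u)).1 w', ?_, by rw [orth_qmap, hw'Q], ?_⟩
    · rw [refl_apply]
      exact sub_mem hw'm ((D m).smul_mem _ (sub_mem hu'm hu))
    · have e' := orth_polB_map (refl Q (u' - u)) w' u'
      rw [hmap] at e'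
      rw [e']
      exact hwu

variable [Fintype F]

/-- Maximality in the orthogonal group. -/
theorem wreath_maximal' (hQ : (polB Q).Nondegenerate) (hD : OD Q D k) (hk : 3 ≤ k) (ht : 2 ≤ t)
    (hn : 10 ≤ Module.finrank F V) (h33 : ¬ (k = 3 ∧ Fintype.card F = 3))
    (h42 : k = 4 → Fintype.card F = 2 →
      ¬ ∀ i, ∃ U ≤ D i, (∀ u ∈ U, Q u = 0) ∧ Module.finrank F U = 2) :
    DStab Q D ⊓ commutator (orthGroup Q) < commutator (orthGroup Q) ∧
    ∀ M : Subgroup (orthGroup Q), DStab Q D ⊓ commutator (orthGroup Q) ≤ M →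
      M ≤ commutator (orthGroup Q) →
      M = DStab Q D ⊓ commutator (orthGroup Q) ∨ M = commutator (orthGroup Q) := by
  have hk' : ∀ a, 3 ≤ Module.finrank F (D a) := fun a => by rw [hD.dim]; exact hk
  have hmul : 10 ≤ t * k := by
    have h := finrank_iSup_le_mul D hD.dim
    rw [hD.top, finrank_top] at h
    omega
  let i₀ : Fin t := ⟨0, by omega⟩
  have hodd : k = 3 → 4 ≤ Fintype.card F := by
    intro h
    by_cases h2 : (2 : F) = 0
    · have := four_le_of_two_eq_zero (hD.nd i₀) (hk' i₀) h2
      rw [hD.dim] at this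
      omega
    · have h1 := Fintype.one_lt_card (α := F)
      by_contra h'
      have : Fintype.card F = 2 ∨ Fintype.card F = 3 := by omega
      rcases this with e | e
      · exact h2 (by
          have := FiniteField.cast_card_eq_zero F
          rw [e] at this
          exact_mod_cast this)
      · exact h33 ⟨h, e⟩
  have hconn : ConnMembers Q D := by
    intro i x hx y hy hQx hQy hne _ hxy
    by_cases h2 : (2 : F) = 0
    · refine exists_common_even (hD.nd i) (hk' i) h2 hx hy hQx hQy hne hxy ?_
      by_cases hl : ∃ l : F, l ≠ 0 ∧ l ≠ 1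
      · exact Or.inl hl
      push Not at hl
      refine Or.inr ?_
      by_cases h6 : 6 ≤ Module.finrank F (D i)
      · exact Or.inl h6
      have h4 := four_le_of_two_eq_zero (hD.nd i) (hk' i) h2
      have hev : Even (Module.finrank F (D i)) :=
        H44.even_finrank_of_alt (polB (Q.comp (D i).subtype))
          (fun x => by rw [polB_self, h2, zero_mul]) (restrict_nondeg (ndOn_inf (hD.nd i))).1
      rw [hD.dim] at h6 h4 hev
      obtain ⟨j, hj⟩ := hev
      have hk4 : k = 4 := by omega
      have hq2 : Fintype.card F = 2 := by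
        classical
        have hu : (Finset.univ : Finset F) = {0, 1} := by
          ext a
          by_cases a0 : a = 0
          · simp [a0]
          · simp [hl a a0]
        rw [← Finset.card_univ, hu, Finset.card_pair zero_ne_one]
      refine Or.inr fun S hS hSQ => ?_
      by_contra hS2
      refine h42 hk4 hq2 fun l => ?_
      have hb := two_mul_finrank_singular_le (restrict_nondeg (ndOn_inf (hD.nd i)))
        (S.comap (D i).subtype) (fun v hv => hSQ _ hv)
      rw [(Submodule.comapSubtypeEquivOfLe hS).finrank_eq, hD.dim, hk4] at hb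
      obtain ⟨φ, hφ⟩ := hD.iso i l
      refine ⟨((S.comap (D i).subtype).map (φ : D i →ₗ[F] D l)).map (D l).subtype,
        Submodule.map_subtype_le _ _, ?_, ?_⟩
      · rintro _ ⟨_, ⟨v, hv, rfl⟩, rfl⟩
        change Q (φ v : V) = 0
        rw [hφ]; exact hSQ _ hv
      · rw [Submodule.finrank_map_subtype_eq, LinearEquiv.finrank_map_eq,
          (Submodule.comapSubtypeEquivOfLe hS).finrank_eq]
        omega
    · refine exists_common_odd (hD.nd i) (hk' i) h2 ?_ hx hy hQx hQy hxy
      by_cases h4 : k = 3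
      · exact Or.inr (by have := hodd h4; omega)
      · exact Or.inl (by rw [hD.dim]; omega)
  have hgen : ReflGenerates F V := reflGenerates_of_card (Or.inr (by omega))
  have hn2 : t = 2 → 6 ≤ k ∨ (5 ≤ k ∧ (2 : F) ≠ 0) := fun h => by
    subst h
    by_cases h6 : 6 ≤ k
    · exact Or.inl h6
    refine Or.inr ⟨by omega, fun h2 => ?_⟩
    have hev : Even (Module.finrank F (D i₀)) :=
      H44.even_finrank_of_alt (polB (Q.comp (D i₀).subtype))
        (fun x => by rw [polB_self, h2, zero_mul]) (restrict_nondeg (ndOn_inf (hD.nd i₀))).1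
    rw [hD.dim, show k = 5 by omega] at hev
    exact absurd hev (by decide)
  by_cases hk4 : 4 ≤ k
  · exact wreath_maximal hQ hD hk hconn hgen ht (by omega) hn2 (Or.inl hk4) one_ne_zero
      fun m u hu => exists_val_perp_four (hD.nd m) (hk' m) (by rw [hD.dim]; exact hk4) hu one_ne_zero
  · have hk3 : k = 3 := by omega
    obtain ⟨c₀, hc₀, hperp⟩ := exists_value_perp_three hD hk3 i₀
    exact wreath_maximal hQ hD hk hconn hgen ht (by omega) hn2
      (Or.inr (exists_ne_three (hodd hk3))) hc₀ hperp

section matrices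

variable {ι : Type} [Fintype ι] [DecidableEq ι] {q : QuadraticForm F (ι → F)}
  {D : Fin t → Submodule F (ι → F)}

lemma od_of_decomposition (hD : Cfsg.Geo.IsOrthogonalMDecomposition (⇑q) k D) : OD q D k where
  dim := hD.decomp.decomp.finrank_eq
  top := hD.decomp.decomp.iSup_eq_top
  perp i j h x hx y hy := hD.decomp.orthogonal i j h x hx y hy
  nd i x hx h := by
    by_contra h0
    obtain ⟨y, hy, hy0⟩ := (hD.decomp.nondegenerate i x hx h0).2
    exact hy0 (h y hy)
  iso := hD.isometric

/-- The stabiliser of the decomposition in the two languages. -/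
lemma toGL_mem_decompositionStabilizer_iff (hk : 0 < k) (hD : OD q D k) (g : orthGroup q) :
    toGL q g ∈ Cfsg.Geo.decompositionStabilizer D ↔ g ∈ DStab q D := by
  constructor
  · intro h
    obtain ⟨σ, hσ⟩ := apply_mem_of_mem_decompositionStabilizer h
    exact mem_DStab hD.dim fun i => ⟨σ i, fun x hx => toGL_apply q g x ▸ hσ i x hx⟩
  · intro h
    have hinj : Function.Injective D := by
      intro a b hab
      by_contra hne
      obtain ⟨x, hx, hx0⟩ := Submodule.exists_mem_ne_zero_of_ne_bot (p := D a) (fun e => by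
        have := hD.dim a
        rw [e, finrank_bot] at this
        omega)
      exact hx0 (hD.nd a x hx fun y hy => hD.perp a b hne x hx y (hab ▸ hy))
    choose σ hσ using h
    have hσi : Function.Injective σ := fun a b e => hinj
      (Submodule.map_injective_of_injective g.1.injective (by rw [hσ, hσ, e]))
    refine mem_decompositionStabilizer_of_maps_into hD.dim
      (Equiv.ofBijective σ (Finite.injective_iff_bijective.mp hσi)) fun i x hx => ?_
    have hgx : g.1 x ∈ D (σ i) := (hσ i).le ⟨x, hx, rfl⟩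
    rw [← toGL_apply q g x] at hgx
    exact hgx

/-- The criterion in the language of matrices, for members of dimension at least three. -/
theorem decomposition_maximal (hn : 10 ≤ Fintype.card ι) (hq : (polB q).Nondegenerate)
    (hk : 3 ≤ k) (hD : Cfsg.Geo.IsOrthogonalMDecomposition (⇑q) k D)
    (h33 : ¬ (k = 3 ∧ Fintype.card F = 3))
    (h42 : k = 4 → Fintype.card F = 2 → ¬ ∀ i, Cfsg.Geo.IsPlusTypeOn (⇑q) (D i)) :
    Cfsg.Geo.IsMaximalIn (Cfsg.Geo.omegaGL ⇑q)
      (Cfsg.Geo.decompositionStabilizer D ⊓ Cfsg.Geo.omegaGL ⇑q) := by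
  have hOD := od_of_decomposition hD
  refine isMaximalIn_of_orth q _ (DStab q D)
    (fun g _ => toGL_mem_decompositionStabilizer_iff (by omega) hOD g)
    (wreath_maximal' hq hOD hk hD.decomp.decomp.two_le (by rw [Module.finrank_pi]; omega) h33
      fun h4 h2 hall => h42 h4 h2 fun i => ?_)
  obtain ⟨U, hU, hUs, hU2⟩ := hall i
  exact ⟨U, hU, hUs, by rw [hU2, hOD.dim, h4]⟩

/-- The ambient dimension is the number of members times their dimension. -/
lemma finrank_eq_mul (hD : Cfsg.Geo.IsOrthogonalMDecomposition (⇑q) k D) :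
    Fintype.card ι = t * k := by
  classical
  have h := DirectSum.isInternal_submodule_of_iSupIndep_of_iSup_eq_top hD.decomp.decomp.indep
    hD.decomp.decomp.iSup_eq_top
  have e := (LinearEquiv.ofBijective (DirectSum.coeLinearMap D) h).finrank_eq
  rw [Module.finrank_directSum, Module.finrank_pi,
    Finset.sum_congr rfl fun i _ => hD.decomp.decomp.finrank_eq i, Finset.sum_const,
    Finset.card_univ, Fintype.card_fin, smul_eq_mul] at e
  exact e.symm

end matrices

end H45
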