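import Mathlib
import Cfsg.Agent.H45.FrameUnits
import Cfsg.Agent.H45.FrameThree
import Cfsg.Agent.H45.FrameSeven
import Cfsg.Agent.H45.WreathFinal

/-!
# Maximality of the stabiliser of an orthogonal frame over a prime field
-/

set_option autoImplicit false
set_option linter.unusedSectionVars false

namespace H45
namespace Frame

open H43
open scoped Matrix symmDiff

variable {F : Type*} [Field F] [Fintype F] {n : ℕ}

theorem commutator_le_of_wv (h2 : (2 : F) ≠ 0) (hn : 7 ≤ n)
    (M : Subgroup (orthGroup (qStd n F))) (hM : HS n F ≤ M)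
    (hall : ∀ z : Fin n → F, qStd n F z = 1 → Wv M z) :
    commutator (orthGroup (qStd n F)) ≤ M := by
  have hQ := qStd_nondeg (F := F) (n := n) h2
  let S : Set (orthGroup (qStd n F)) :=
    {g | ∃ x y, qStd n F x = 1 ∧ qStd n F y = 1 ∧ g = refl (qStd n F) x * refl (qStd n F) y}
  have hSM : Subgroup.closure S ≤ M := by
    rw [Subgroup.closure_le]
    rintro _ ⟨x, y, hx, hy, rfl⟩
    exact wv_pair h2 hn M hM (hall x hx) (hall y hy)
  have hSconj : ∀ g : orthGroup (qStd n F), ∀ s ∈ Subgroup.closure S,
      g * s * g⁻¹ ∈ Subgroup.closure S := by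
    intro g s hs
    induction hs using Subgroup.closure_induction with
    | mem x hx =>
      obtain ⟨a, b, ha, hb, rfl⟩ := hx
      refine Subgroup.subset_closure ⟨g.1 a, g.1 b, by rw [orth_qmap]; exact ha,
        by rw [orth_qmap]; exact hb, ?_⟩
      rw [← refl_conj, ← refl_conj]; group
    | one => rw [mul_one, mul_inv_cancel]; exact one_mem _
    | mul x y _ _ hx hy =>
      rw [show g * (x * y) * g⁻¹ = (g * x * g⁻¹) * (g * y * g⁻¹) by group]
      exact mul_mem hx hy
    | inv x _ hx =>
      rw [show g * x⁻¹ * g⁻¹ = (g * x * g⁻¹)⁻¹ by group]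
      exact inv_mem hx
  let N := (Subgroup.closure S).subgroupOf (commutator (orthGroup (qStd n F)))
  have hN : N.Normal := ⟨fun x hx g => hSconj g.1 x.1 hx⟩
  let a : Fin n := ⟨0, by omega⟩
  let b : Fin n := ⟨1, by omega⟩
  let c : Fin n := ⟨2, by omega⟩
  have hab : a ≠ b := by simp [a, b]
  have hmem : (dg {a, b} : orthGroup (qStd n F)) ∈ Subgroup.closure S := by
    refine Subgroup.subset_closure ⟨ev a, ev b, q_ev a, q_ev b, ?_⟩
    rw [refl_ev_eq_dg, refl_ev_eq_dg, dg_mul]
    congr 1
  have hneg : (-1 : F) ≠ 1 := fun h => h2 (by linear_combination -h)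
  rcases normal_scalar_or_top hQ (by rw [Module.finrank_fin_fun]; omega) N hN with h | h
  · exfalso
    rcases h ⟨_, dg_mem_commutator h2 (by omega)
      (show Even ({a, b} : Finset (Fin n)).card by rw [Finset.card_pair hab]; exact even_two)⟩ hmem
      with e | e
    · have := congrFun (congrArg (fun g : orthGroup (qStd n F) => g.1 (ev a)) e) a
      simp [dg_ev, orth_one_apply, ev_self, hneg] at this
    · have := congrFun (congrArg (fun g : orthGroup (qStd n F) => g.1 (ev c)) e) c
      simp [dg_ev, negOrth_apply, ev_self, a, b, c, hneg.symm] at this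
  · exact fun g hg => hSM (show (⟨g, hg⟩ : commutator (orthGroup (qStd n F))) ∈ N by
      rw [h]; trivial)

/-- The frame stabiliser of the sum of squares is maximal. -/
theorem std_maximal (h2 : (2 : F) ≠ 0) (hn : 10 ≤ n ∨ n = 7) (hp : (Fintype.card F).Prime) :
    HS n F < commutator (orthGroup (qStd n F)) ∧
      ∀ M : Subgroup (orthGroup (qStd n F)), HS n F ≤ M →
        M ≤ commutator (orthGroup (qStd n F)) →
        M = HS n F ∨ M = commutator (orthGroup (qStd n F)) := by
  constructor
  · refine lt_of_le_of_ne inf_le_right fun e => ?_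
    let a : Fin n := ⟨0, by omega⟩
    let b : Fin n := ⟨1, by omega⟩
    let c : Fin n := ⟨2, by omega⟩
    let d : Fin n := ⟨3, by omega⟩
    have hab : a ≠ b := by simp [a, b]
    have hac : a ≠ c := by simp [a, c]
    have had : a ≠ d := by simp [a, d]
    have hbc : b ≠ c := by simp [b, c]
    have hbd : b ≠ d := by simp [b, d]
    have hcd : c ≠ d := by simp [c, d]
    set x : Fin n → F := (2 : F)⁻¹ • (ev a + ev b + ev c + ev d) with hx
    have hQx : qStd n F x = 1 := by
      rw [hx, qmap_smul]
      simp only [qmap_add, map_add, LinearMap.add_apply, polB_qStd, q_ev, ev_dot, ev_ne hab,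
        ev_ne hac, ev_ne had, ev_ne hbc, ev_ne hbd, ev_ne hcd, mul_zero, add_zero]
      field_simp
      ring
    have hmem : refl (qStd n F) x * refl (qStd n F) (ev a) ∈ HS n F := by
      rw [e]
      exact refl_mul_refl_mem_commutator (qStd_nondeg h2) (reflGenerates_of_two_ne_zero h2)
        (by rw [Module.finrank_fin_fun]; omega) (by rw [hQx]; exact one_ne_zero)
        (by rw [q_ev]; exact one_ne_zero) (by rw [hQx, q_ev])
    obtain ⟨j, hj⟩ := exists_image_of_mem_mon hmem.1 a
    have hval : (refl (qStd n F) x * refl (qStd n F) (ev a)).1 (ev a) = x - ev a := by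
      rw [orth_mul_apply, refl_self (by rw [q_ev]; exact one_ne_zero), map_neg, refl_unit hQx,
        ev_dot, hx, Pi.smul_apply, Pi.add_apply, Pi.add_apply, Pi.add_apply, ev_self, ev_ne hab,
        ev_ne hac, ev_ne had, add_zero, add_zero, add_zero, smul_eq_mul, mul_one,
        mul_inv_cancel₀ h2, one_smul]
      abel
    rw [hval] at hj
    have hxb : (x - (ev a : Fin n → F)) b = (2 : F)⁻¹ := by
      simp [hx, ev_self, ev_ne hab.symm, ev_ne hbc, ev_ne hbd]
    have hxc : (x - (ev a : Fin n → F)) c = (2 : F)⁻¹ := by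
      simp [hx, ev_self, ev_ne hac.symm, ev_ne hbc.symm, ev_ne hcd]
    have hi := inv_ne_zero h2
    by_cases hjb : j = b
    · rcases hj with h | h <;> rw [h] at hxc <;>
        simp [hjb, ev_ne hbc.symm] at hxc <;> exact h2 (by simpa using hxc.symm)
    · rcases hj with h | h <;> rw [h] at hxb <;>
        simp [ev_ne (Ne.symm hjb)] at hxb <;> exact h2 (by simpa using hxb.symm)
  intro M hM hMO
  by_cases hle : M ≤ HS n F
  · exact Or.inl (le_antisymm hle hM)
  right
  refine le_antisymm hMO ?_
  refine commutator_le_of_wv h2 (by omega) M hM ?_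
  have hex : ∃ z, Wv M z ∧ ¬ Rootish z ∧ (5 ≤ Fintype.card F → (supp z).card + 2 ≤ n) := by
    rcases hn with hn | hn
    · obtain ⟨z, hz, hr, hz3⟩ := exists_wv_not_rootish h2 (by omega) M hM hn hMO hle
      exact ⟨z, hz, hr, fun _ => by omega⟩
    · subst hn
      by_cases h5 : 5 ≤ Fintype.card F
      · obtain ⟨z, hz, hr, h⟩ := exists_small_wv rfl hp h5 h2 M hM hMO hle
        exact ⟨z, hz, hr, fun _ => h⟩
      · obtain ⟨z, hz, hr⟩ := exists_wv_not_rootish_odd h2 le_rfl M hM (by decide) hMO hle
        exact ⟨z, hz, hr, fun h => absurd h h5⟩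
  obtain ⟨z, hz, hr, hz3⟩ := hex
  rcases (show Fintype.card F = 3 ∨ 5 ≤ Fintype.card F by
    have h1 := hp.two_le
    by_contra hcon
    push Not at hcon
    have : Fintype.card F = 2 ∨ Fintype.card F = 4 := by omega
    rcases this with e | e
    · have h := FiniteField.cast_card_eq_zero F
      rw [e] at h
      exact h2 (by exact_mod_cast h)
    · rw [e] at hp; exact absurd hp (by decide)) with h | h
  · exact wv_all_three h h2 (by omega) M hM hz hr
  · exact wv_all rfl hp h h2 (by omega) M hM
      (hasTriple_of_not_rootish rfl hp h h2 (by omega) M hM _ z hz hr (hz3 h) le_rfl)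

section transfer

variable {ι : Type} [Fintype ι] [DecidableEq ι] {q : QuadraticForm F (ι → F)} {t : ℕ}
  {D : Fin t → Submodule F (ι → F)}

/-- The stabiliser of a frame of lines of one square class is maximal. -/
theorem frame_maximal (h2 : (2 : F) ≠ 0) (hn : 10 ≤ Fintype.card ι ∨ Fintype.card ι = 7)
    (hp : (Fintype.card F).Prime) (hq : (polB q).Nondegenerate)
    (hD : Cfsg.Geo.IsOrthogonalMDecomposition (⇑q) 1 D) :
    Cfsg.Geo.IsMaximalIn (Cfsg.Geo.omegaGL ⇑q)
      (Cfsg.Geo.decompositionStabilizer D ⊓ Cfsg.Geo.omegaGL ⇑q) := by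
  classical
  have hOD := od_of_decomposition hD
  have ht : Fintype.card ι = t := by rw [finrank_eq_mul hD, mul_one]
  have i₀ : Fin t := ⟨0, by omega⟩
  obtain ⟨v, hv, hv0⟩ := Submodule.exists_mem_ne_zero_of_ne_bot (p := D i₀) (fun e => by
    have := hOD.dim i₀
    rw [e, finrank_bot] at this
    omega)
  set c := q v with hc
  have hspan : ∀ i, ∀ w ∈ D i, w ≠ 0 → D i = F ∙ w := fun i w hw hw0 =>
    (Submodule.eq_of_le_of_finrank_le (by rwa [Submodule.span_singleton_le_iff_mem])
      (by rw [hOD.dim, finrank_span_singleton hw0])).symm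
  have hc0 : c ≠ 0 := by
    intro h0
    refine hv0 (hOD.nd i₀ v hv fun y hy => ?_)
    rw [hspan i₀ v hv hv0, Submodule.mem_span_singleton] at hy
    obtain ⟨a, rfl⟩ := hy
    rw [map_smul, polB_self, ← hc, h0, mul_zero, smul_zero]
  choose e he using fun i => hOD.iso i₀ i
  let bv : Fin t → (ι → F) := fun i => (e i ⟨v, hv⟩ : ι → F)
  have hbD : ∀ i, bv i ∈ D i := fun i => (e i ⟨v, hv⟩).2
  have hbq : ∀ i, q (bv i) = c := fun i => he i ⟨v, hv⟩
  have hb0 : ∀ i, bv i ≠ 0 := fun i h => hc0 (by rw [← hbq i, h, QuadraticMap.map_zero])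
  have hperp : ∀ i j, i ≠ j → polB q (bv i) (bv j) = 0 := fun i j h =>
    hOD.perp i j h _ (hbD i) _ (hbD j)
  let L : (Fin t → F) →ₗ[F] (ι → F) := Fintype.linearCombination F bv
  have hLapp : ∀ x, L x = ∑ i, x i • bv i := fun x => Fintype.linearCombination_apply F bv x
  have hLp : ∀ x j, polB q (L x) (bv j) = 2 * c * x j := by
    intro x j
    rw [hLapp, map_sum, LinearMap.sum_apply, Finset.sum_eq_single j]
    · rw [map_smul, LinearMap.smul_apply, polB_self, hbq, smul_eq_mul]; ring
    · intro i _ hij; rw [map_smul, LinearMap.smul_apply, hperp i j hij, smul_zero]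
    · intro h; exact absurd (Finset.mem_univ j) h
  have hLinj : Function.Injective L := by
    rw [← LinearMap.ker_eq_bot, LinearMap.ker_eq_bot']
    intro x hx
    funext j
    have h := hLp x j
    rw [hx, map_zero, LinearMap.zero_apply] at h
    exact (mul_eq_zero.mp h.symm).resolve_left (mul_ne_zero h2 hc0)
  let Le : (Fin t → F) ≃ₗ[F] (ι → F) := LinearEquiv.ofBijective L ⟨hLinj,
    (LinearMap.injective_iff_surjective_of_finrank_eq_finrank
      (by rw [Module.finrank_fin_fun, Module.finrank_pi, ht])).mp hLinj⟩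
  have hLe : ∀ x, Le x = L x := fun x => rfl
  have hLq : ∀ x, q (Le x) = c * qStd t F x := by
    intro x
    have h1 : polB q (L x) (L x) = 2 * c * (x ⬝ᵥ x) := by
      conv_lhs => arg 2; rw [hLapp x]
      rw [map_sum, dotProduct, Finset.mul_sum]
      refine Finset.sum_congr rfl fun i _ => ?_
      rw [map_smul, hLp, smul_eq_mul]; ring
    rw [polB_self] at h1
    rw [hLe, qStd_apply]
    exact mul_left_cancel₀ h2 (by linear_combination h1)
  let φ : orthGroup (qStd t F) ≃* orthGroup q :=
    { toFun := fun g => ⟨(Le.symm.trans g.1).trans Le, fun x => by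
        show q (Le (g.1 (Le.symm x))) = q x
        rw [hLq, orth_qmap, ← hLq, Le.apply_symm_apply]⟩
      invFun := fun g => ⟨(Le.trans g.1).trans Le.symm, fun x => by
        show qStd t F (Le.symm (g.1 (Le x))) = qStd t F x
        apply mul_left_cancel₀ hc0
        rw [← hLq, ← hLq, Le.apply_symm_apply, orth_qmap]⟩
      left_inv := fun g => orth_ext fun x => by simp
      right_inv := fun g => orth_ext fun x => by simp
      map_mul' := fun g h => orth_ext fun x => by simp [orth_mul_apply] }
  have hLev : ∀ i, Le (ev i) = bv i := fun i => by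
    rw [hLe, hLapp, Finset.sum_eq_single i]
    · rw [ev_self, one_smul]
    · intro j _ hji; rw [ev_ne hji, zero_smul]
    · intro h; exact absurd (Finset.mem_univ i) h
  have hφev : ∀ (g : orthGroup (qStd t F)) i, (φ g).1 (bv i) = Le (g.1 (ev i)) := fun g i => by
    show Le (g.1 (Le.symm (bv i))) = _
    rw [← hLev, Le.symm_apply_apply]
  have hstab : ∀ g, φ g ∈ DStab q D ↔ g ∈ Mon t F := by
    intro g
    constructor
    · intro h
      refine mem_mon_of_forall fun i => ?_
      obtain ⟨j, hj⟩ := h i
      refine ⟨j, ?_⟩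
      have hm : (φ g).1 (bv i) ∈ D j := hj ▸ ⟨bv i, hbD i, rfl⟩
      rw [hspan j _ (hbD j) (hb0 j), Submodule.mem_span_singleton] at hm
      obtain ⟨a, ha⟩ := hm
      rw [hφev, ← hLev j, ← map_smul] at ha
      have hga := (Le.injective ha).symm
      have hsq := orth_qmap g (ev i)
      rw [hga, qmap_smul, q_ev, q_ev, mul_one] at hsq
      rw [hga]
      rcases mul_self_eq_one_iff.mp hsq with h' | h' <;> rw [h'] <;> simp
    · intro h
      refine mem_DStab hOD.dim fun i => ?_
      obtain ⟨j, hj⟩ := exists_image_of_mem_mon h i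
      refine ⟨j, fun x hx => ?_⟩
      rw [hspan i _ (hbD i) (hb0 i), Submodule.mem_span_singleton] at hx
      obtain ⟨a, rfl⟩ := hx
      rw [map_smul, hφev]
      refine (D j).smul_mem a ?_
      rcases hj with h' | h' <;> rw [h']
      · rw [hLev]; exact hbD j
      · rw [map_neg, hLev]; exact (D j).neg_mem (hbD j)
  have hcomm : (commutator (orthGroup (qStd t F))).map φ.toMonoidHom = commutator (orthGroup q) := by
    rw [commutator_def, commutator_def, Subgroup.map_commutator,
      Subgroup.map_top_of_surjective _ φ.surjective]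
  refine isMaximalIn_of_orth q _ (DStab q D)
    (fun g _ => toGL_mem_decompositionStabilizer_iff one_pos hOD g) ?_
  have hS : DStab q D ⊓ commutator (orthGroup q) = (HS t F).map φ.toMonoidHom := by
    rw [HS, Subgroup.map_inf _ _ _ φ.injective, hcomm]
    congr 1
    ext x
    rw [Subgroup.mem_map_equiv, ← hstab, MulEquiv.apply_symm_apply]
  obtain ⟨hlt, hmax⟩ := std_maximal (F := F) (n := t) h2 (by omega) hp
  rw [hS, ← hcomm]
  refine ⟨(Subgroup.map_lt_map_iff_of_injective φ.injective).mpr hlt, fun M h1 h2' => ?_⟩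
  have hM : (M.comap φ.toMonoidHom).map φ.toMonoidHom = M :=
    Subgroup.map_comap_eq_self_of_surjective φ.surjective M
  rcases hmax (M.comap φ.toMonoidHom) (Subgroup.map_le_iff_le_comap.mp h1) (fun x hx => by
      obtain ⟨y, hy, hyx⟩ := h2' hx
      exact φ.injective hyx ▸ hy) with e | e
  · exact Or.inl (by rw [← hM, e])
  · exact Or.inr (by rw [← hM, e])

end transfer

end Frame
end H45
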