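import Cfsg.Agent.H46.ClsTensor

/-!
The Heisenberg group of order 27 over the field of four elements and its tensor powers: the
tensor wreath product of GU₃(2) normalises a symplectic-type 3-group.
-/

set_option autoImplicit false
set_option linter.style.haveILetI false
set_option linter.unusedSectionVars false
set_option maxHeartbeats 1000000

open Cfsg.Geo
open scoped Matrix Kronecker MatrixGroups
open Fin.CommRing

namespace H45

namespace HeisFour

open H46

variable {F : Type*} [Field F]

/-! ### Cube roots of unity -/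

/-- Powers of a cube root of unity, indexed by Fin 3. -/
def W (w : F) (j : Fin 3) : F := w ^ j.val

variable {w : F}

theorem W_zero (w : F) : W w 0 = 1 := pow_zero w

theorem W_add (hw : w ^ 2 + w + 1 = 0) (i j : Fin 3) : W w (i + j) = W w i * W w j := by
  have hw3 : w ^ 3 = 1 := by linear_combination (w - 1) * hw
  fin_cases i <;> fin_cases j <;> simp [W] <;>
    first
      | ring1
      | linear_combination -hw3
      | linear_combination -w * hw3

theorem W_ne_zero (hw : w ^ 2 + w + 1 = 0) (i : Fin 3) : W w i ≠ 0 := by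
  refine pow_ne_zero _ fun h => ?_
  rw [h] at hw
  simp at hw

theorem w_ne_one (hw : w ^ 2 + w + 1 = 0) (h2 : (2 : F) = 0) : w ≠ 1 := by
  rintro rfl
  exact one_ne_zero (show (1 : F) = 0 by linear_combination hw - h2)

theorem W_injective (hw : w ^ 2 + w + 1 = 0) (h2 : (2 : F) = 0) : Function.Injective (W w) := by
  have h1 := w_ne_one hw h2
  have h0 : w ≠ 0 := fun h => by rw [h] at hw; simp at hw
  have key : ∀ k : Fin 3, W w k = 1 → k = 0 := by
    intro k hk
    fin_cases k
    · rfl
    · simp [W, h1] at hk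
    · simp only [W] at hk
      exact absurd (show w = 0 by
        have hk' : w ^ 2 = 1 := hk
        linear_combination hw - hk' - h2) h0
  intro i j hij
  have h : W w (i - j) * W w j = 1 * W w j := by rw [← W_add hw, sub_add_cancel, one_mul, hij]
  exact sub_eq_zero.1 (key _ (mul_right_cancel₀ (W_ne_zero hw j) h))

theorem sum_W (hw : w ^ 2 + w + 1 = 0) (h2 : (2 : F) = 0) (β γ : Fin 3) :
    ∑ j, W w (β * j + γ) = if β = 0 then W w γ else 0 := by
  split_ifs with hβ
  · subst hβ
    simp only [zero_mul, zero_add, Finset.sum_const, Finset.card_univ, Fintype.card_fin, nsmul_eq_mul]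
    push_cast
    linear_combination W w γ * h2
  · have : ∀ β γ : Fin 3, β ≠ 0 → Function.Injective fun j => β * j + γ := by
      unfold Function.Injective; decide
    rw [Fintype.sum_bijective (fun j => β * j + γ) (Finite.injective_iff_bijective.1 (this β γ hβ))
      (fun j => W w (β * j + γ)) (W w) fun j => rfl]
    simp only [Fin.sum_univ_three, W, Fin.val_zero, Fin.val_one, Fin.val_two]
    linear_combination hw

theorem map_W {σ : F ≃+* F} (hw : w ^ 2 + w + 1 = 0) (hσw : σ w = w ^ 2) (j : Fin 3) :
    σ (W w j) = W w (-j) := by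
  have h : -j = j + j := by revert j; decide
  rw [h, W_add hw, W, map_pow, hσw, ← pow_mul, ← pow_add]
  congr 1
  omega

theorem affine_fin3 : ∀ h : Fin 3 → Fin 3, h 0 + h 1 + h 2 = 0 →
    ∀ j, h j = (h 1 - h 0) * j + h 0 := by decide

theorem affine_of_injective : ∀ h : Fin 3 → Fin 3, Function.Injective h →
    ∀ j, h j = (h 1 - h 0) * j + h 0 := by
  unfold Function.Injective
  decide

theorem sum_fin3_zero (h : Fin 3 → Fin 3) (a : Fin 3) :
    (fun j => h j - h (j + a)) 0 + (fun j => h j - h (j + a)) 1 + (fun j => h j - h (j + a)) 2 = 0 := by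
  rw [← Fin.sum_univ_three (fun j => h j - h (j + a)), Finset.sum_sub_distrib, sub_eq_zero]
  exact (Equiv.sum_comp (Equiv.addRight a) h).symm

/-! ### The group -/

/-- The monomial matrix with shift a and exponents b i + c. -/
def hMat (w : F) (a b c : Fin 3) : Matrix (Fin 3) (Fin 3) F :=
  Matrix.of fun i j => if j = i + a then W w (b * i + c) else 0

theorem hMat_mul (hw : w ^ 2 + w + 1 = 0) (a b c a' b' c' : Fin 3) :
    hMat w a b c * hMat w a' b' c' = hMat w (a + a') (b + b') (c + c' + b' * a) := by
  ext i k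
  rw [Matrix.mul_apply, Finset.sum_eq_single (i + a)]
  · simp only [hMat, Matrix.of_apply, if_true, mul_ite, mul_zero]
    rw [← W_add hw, show b * i + c + (b' * (i + a) + c') = (b + b') * i + (c + c' + b' * a) by ring,
      add_assoc i a a']
  · intro j _ hj
    simp [hMat, hj]
  · simp

theorem hMat_one (w : F) : hMat w 0 0 0 = 1 := by
  ext i j
  simp [hMat, Matrix.one_apply, W_zero, eq_comm]

theorem hMat_scalar (w : F) (c : Fin 3) : hMat w 0 0 c = W w c • 1 := by
  ext i j
  simp [hMat, Matrix.one_apply, eq_comm]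

theorem hMat_ne_zero (hw : w ^ 2 + w + 1 = 0) (a b c : Fin 3) : hMat w a b c ≠ 0 := fun h => by
  have := congrFun (congrFun h 0) a
  simp [hMat, W_ne_zero hw] at this

/-- Proportional members have the same shift and slope. -/
theorem hMat_prop (hw : w ^ 2 + w + 1 = 0) (h2 : (2 : F) = 0) {a b c a' b' c' : Fin 3} {l : F}
    (h : hMat w a b c = l • hMat w a' b' c') : a = a' ∧ b = b' ∧ l * W w c' = W w c := by
  have h0 := congrFun (congrFun h 0) a
  have haa : a = a' := by
    by_contra hne
    simp [hMat, hne, W_ne_zero hw] at h0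
  subst haa
  have h0' : W w c = l * W w c' := by simpa [hMat] using h0
  have h1 := congrFun (congrFun h 1) (1 + a)
  have h1' : W w (b + c) = l * W w (b' + c') := by simpa [hMat] using h1
  refine ⟨rfl, W_injective hw h2 ?_, h0'.symm⟩
  rw [W_add hw, W_add hw, h0'] at h1'
  have hl : l * W w c' ≠ 0 := by rw [← h0']; exact W_ne_zero hw c
  refine mul_left_cancel₀ hl ?_
  linear_combination h1'

theorem hMat_commute (hw : w ^ 2 + w + 1 = 0) (h2 : (2 : F) = 0) {a b c a' b' c' : Fin 3}
    (h : hMat w a b c * hMat w a' b' c' = hMat w a' b' c' * hMat w a b c) : b' * a = b * a' := by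
  rw [hMat_mul hw, hMat_mul hw] at h
  obtain ⟨-, -, h3⟩ := hMat_prop hw h2 (show hMat w (a + a') (b + b') (c + c' + b' * a) =
    (1 : F) • hMat w (a' + a) (b' + b) (c' + c + b * a') by rw [one_smul, h])
  rw [one_mul] at h3
  have h4 := W_injective hw h2 h3
  linear_combination -h4

/-- The members as invertible matrices. -/
theorem hMat_isUnit (hw : w ^ 2 + w + 1 = 0) (a b c : Fin 3) : IsUnit (hMat w a b c) := by
  rw [Matrix.isUnit_iff_isUnit_det, isUnit_iff_ne_zero]
  intro h
  have h1 := congrArg Matrix.det (hMat_mul hw a b c (-a) (-b) (-c + b * a))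
  rw [Matrix.det_mul, h, zero_mul, show a + -a = 0 by ring, show b + -b = 0 by ring,
    show c + (-c + b * a) + -b * a = 0 by ring, hMat_one, Matrix.det_one] at h1
  exact zero_ne_one h1

theorem det_hMat (hw : w ^ 2 + w + 1 = 0) (a b c : Fin 3) : (hMat w a b c).det = 1 := by
  have hz : ∀ x : Fin 3, (b * x + c) + (b * (x + 1) + c) + (b * (x + 2) + c) = 0 := by
    intro x; revert b c x; decide
  have key : W w (b * 0 + c) * W w (b * 1 + c) * W w (b * 2 + c) = 1 := by
    rw [← W_add hw, ← W_add hw]
    have := hz 0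
    simp only [zero_add] at this
    rw [this, W_zero]
  rw [Matrix.det_fin_three]
  fin_cases a <;> simp [hMat] at key ⊢ <;> linear_combination key

/-- A cyclic monomial matrix. -/
def IsCyc (X : Matrix (Fin 3) (Fin 3) F) : Prop :=
  ∃ a : Fin 3, ∀ i j, j ≠ i + a → X i j = 0

/-- A cyclic monomial matrix of determinant one over the field of four elements is a member. -/
theorem exists_hMat (hw : w ^ 2 + w + 1 = 0) (h2 : (2 : F) = 0)
    (hcube : ∀ x : F, x ≠ 0 → ∃ k, x = W w k) {X : Matrix (Fin 3) (Fin 3) F} (hX : IsCyc X)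
    (hd : X.det = 1) : ∃ a b c, X = hMat w a b c := by
  obtain ⟨a, ha⟩ := hX
  have hne : ∀ i, X i (i + a) ≠ 0 := by
    intro i h0
    have : X.det = 0 := Matrix.det_eq_zero_of_row_eq_zero i fun j => by
      rcases eq_or_ne j (i + a) with rfl | h
      · exact h0
      · exact ha i j h
    rw [hd] at this
    exact one_ne_zero this
  choose e he using fun i => hcube _ (hne i)
  have hsum : e 0 + e 1 + e 2 = 0 := by
    refine W_injective hw h2 ?_
    rw [W_add hw, W_add hw, W_zero, ← hd, ← he, ← he, ← he, Matrix.det_fin_three]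
    have h : ∀ i j : Fin 3, j ≠ i + a → X i j = 0 := ha
    fin_cases a <;> simp [h] <;> ring
  refine ⟨a, e 1 - e 0, e 0, ?_⟩
  ext i j
  rw [hMat, Matrix.of_apply]
  split_ifs with h
  · rw [h, he, ← affine_fin3 e hsum i]
  · exact ha i j h

/-! ### Isometries -/

/-- Conjugation by an isometry, entrywise. -/
theorem conj_entry {σ : F ≃+* F} (g x : GL (Fin 3) F)
    (hg : (g : Matrix (Fin 3) (Fin 3) F) * ((g : Matrix (Fin 3) (Fin 3) F).map σ)ᵀ = 1) (i k : Fin 3) :
    ((g * x * g⁻¹ : GL (Fin 3) F) : Matrix (Fin 3) (Fin 3) F) i k =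
      ∑ j, ∑ l, (g : Matrix (Fin 3) (Fin 3) F) i j * (x : Matrix (Fin 3) (Fin 3) F) j l *
        σ ((g : Matrix (Fin 3) (Fin 3) F) k l) := by
  have hinv : ((g⁻¹ : GL (Fin 3) F) : Matrix (Fin 3) (Fin 3) F) =
      ((g : Matrix (Fin 3) (Fin 3) F).map σ)ᵀ := by
    refine Units.inv_eq_of_mul_eq_one_right hg
  rw [Units.val_mul, Units.val_mul, hinv, Matrix.mul_apply]
  simp only [Matrix.mul_apply, Finset.sum_mul, Matrix.transpose_apply, Matrix.map_apply]
  rw [Finset.sum_comm]

variable [Fintype F]

/-- The isometries normalise the members. -/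
theorem isometry_conj (hw : w ^ 2 + w + 1 = 0) (h2 : (2 : F) = 0)
    (hcube : ∀ x : F, x ≠ 0 → ∃ k, x = W w k) {σ : F ≃+* F} (hσw : σ w = w ^ 2) (g : GL (Fin 3) F)
    (hg : (g : Matrix (Fin 3) (Fin 3) F) * ((g : Matrix (Fin 3) (Fin 3) F).map σ)ᵀ = 1)
    (x : GL (Fin 3) F) (a b c : Fin 3) (hx : (x : Matrix (Fin 3) (Fin 3) F) = hMat w a b c) :
    ∃ a' b' c', ((g * x * g⁻¹ : GL (Fin 3) F) : Matrix (Fin 3) (Fin 3) F) = hMat w a' b' c' := by
  refine exists_hMat hw h2 hcube ?_ (by
    rw [Units.val_mul, Units.val_mul, Matrix.det_mul_right_comm, ← Units.val_mul, mul_inv_cancel,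
      Units.val_one, one_mul, hx, det_hMat hw])
  set A := (g : Matrix (Fin 3) (Fin 3) F) with hA
  have hrow : ∀ i k, ∑ j, A i j * σ (A k j) = if i = k then 1 else 0 := fun i k => by
    have := congrFun (congrFun hg i) k
    simpa [Matrix.mul_apply, Matrix.one_apply] using this
  have hsum : ∀ i k, ((g * x * g⁻¹ : GL (Fin 3) F) : Matrix (Fin 3) (Fin 3) F) i k =
      ∑ j, A i j * W w (b * j + c) * σ (A k (j + a)) := fun i k => by
    rw [conj_entry g x hg, hx]
    refine Finset.sum_congr rfl fun j _ => ?_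
    rw [Finset.sum_eq_single (j + a)]
    · simp [hMat, hA]
    · intro l _ hl; simp [hMat, hl]
    · simp
  have hnorm : ∀ y : F, y ≠ 0 → y * σ y = 1 := fun y hy => by
    obtain ⟨k, rfl⟩ := hcube y hy
    rw [map_W hw hσw, ← W_add hw, add_neg_cancel, W_zero]
  by_cases hfull : ∀ i j, A i j ≠ 0
  · -- no zero entry
    choose E hE using fun i j => hcube _ (hfull i j)
    have hprod : ∀ i k j l, A i j * σ (A k l) = W w (E i j - E k l) := fun i k j l => by
      rw [hE, hE, map_W hw hσw, ← W_add hw, sub_eq_add_neg]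
    -- differences of rows
    have hdist : ∀ i k, i ≠ k → Function.Injective fun j => E i j - E k j := by
      intro i k hik
      have h := hrow i k
      simp only [hprod, if_neg hik] at h
      have key : ∀ f : Fin 3 → Fin 3, Function.Injective f ∨ f 0 = f 1 ∨ f 0 = f 2 ∨ f 1 = f 2 := by
        unfold Function.Injective; decide
      rcases key (fun j => E i j - E k j) with h' | h' | h' | h'
      · exact h'
      all_goals
        exfalso
        rw [Fin.sum_univ_three, h'] at h
      · exact W_ne_zero hw _ (show W w (E i 2 - E k 2) = 0 by linear_combination h - W w (E i 1 - E k 1) * h2)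
      · exact W_ne_zero hw _ (show W w (E i 1 - E k 1) = 0 by linear_combination h - W w (E i 2 - E k 2) * h2)
      · exact W_ne_zero hw _ (show W w (E i 0 - E k 0) = 0 by linear_combination h - W w (E i 2 - E k 2) * h2)
    let s : Fin 3 → Fin 3 := fun i => (E i 1 - E 0 1) - (E i 0 - E 0 0)
    have hs0 : s 0 = 0 := by simp [s]
    have hlin : ∀ i j, E i j = E 0 j + s i * j + (E i 0 - E 0 0) := by
      intro i j
      rcases eq_or_ne i 0 with rfl | hi
      · rw [hs0]; ring
      · have := affine_of_injective _ (hdist i 0 hi) j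
        linear_combination this
    have hsinj : Function.Injective s := by
      intro i k hik
      by_contra hne
      have h1 := hdist i k hne (a₁ := 0) (a₂ := 1) (by
        show E i 0 - E k 0 = E i 1 - E k 1
        rw [hlin i 0, hlin i 1, hlin k 0, hlin k 1, hik]; ring)
      exact absurd h1 (by decide)
    obtain ⟨β, γ, hh⟩ : ∃ β γ : Fin 3, ∀ j, E 0 j - E 0 (j + a) = β * j + γ :=
      ⟨_, _, affine_fin3 (fun j => E 0 j - E 0 (j + a)) (sum_fin3_zero (E 0) a)⟩
    refine ⟨(s 1 - s 0) * (β + b), fun i k hik => ?_⟩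
    rw [hsum]
    have hterm : ∀ j, A i j * W w (b * j + c) * σ (A k (j + a)) =
        W w ((β + (s i - s k) + b) * j + (γ + (E i 0 - E 0 0) - (E k 0 - E 0 0) - s k * a + c)) := by
      intro j
      rw [mul_right_comm, hprod, ← W_add hw]
      congr 1
      rw [hlin i j, hlin k (j + a)]
      linear_combination hh j
    simp only [hterm]
    rw [sum_W hw h2, if_neg]
    intro h0
    apply hik
    have e1 := affine_of_injective s hsinj i
    have e2 := affine_of_injective s hsinj k
    have hd : s 1 - s 0 ≠ 0 := fun h => absurd (hsinj (sub_eq_zero.1 h)) (by decide)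
    have hdd : ∀ d : Fin 3, d ≠ 0 → d * d = 1 := by decide
    rw [e1, e2] at h0
    linear_combination (-(s 1 - s 0)) * h0 + (i - k) * hdd _ hd
  · -- monomial
    have hone : ∀ i, ∃ j, ∀ l, l ≠ j → A i l = 0 := by
      have hw1 : ∀ i j₁, A i j₁ = 0 → ∃ j, A i j ≠ 0 ∧ ∀ l, l ≠ j → A i l = 0 := by
        intro i j₁ hj₁
        have h := hrow i i
        rw [if_pos rfl, Fin.sum_univ_three] at h
        have hcase : ∀ y : F, y * σ y = 0 ∧ y = 0 ∨ y * σ y = 1 ∧ y ≠ 0 := fun y => by
          rcases eq_or_ne y 0 with rfl | hy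
          · exact Or.inl ⟨zero_mul _, rfl⟩
          · exact Or.inr ⟨hnorm y hy, hy⟩
        rcases hcase (A i 0) with ⟨e0, z0⟩ | ⟨e0, z0⟩ <;> rcases hcase (A i 1) with ⟨e1, z1⟩ | ⟨e1, z1⟩ <;>
          rcases hcase (A i 2) with ⟨e2, z2⟩ | ⟨e2, z2⟩ <;> rw [e0, e1, e2] at h
        · exact absurd h (by simp)
        · exact ⟨2, z2, fun l hl => by fin_cases l <;> simp_all⟩
        · exact ⟨1, z1, fun l hl => by fin_cases l <;> simp_all⟩
        · exact absurd (show (1 : F) = 0 by linear_combination h2 - h) one_ne_zero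
        · exact ⟨0, z0, fun l hl => by fin_cases l <;> simp_all⟩
        · exact absurd (show (1 : F) = 0 by linear_combination h2 - h) one_ne_zero
        · exact absurd (show (1 : F) = 0 by linear_combination h2 - h) one_ne_zero
        · fin_cases j₁ <;> simp_all
      simp only [not_forall, not_not] at hfull
      obtain ⟨i₀, j₁, hj₁⟩ := hfull
      obtain ⟨j₀, hj₀, hz⟩ := hw1 i₀ j₁ hj₁
      intro i
      rcases eq_or_ne i i₀ with rfl | hi
      · exact ⟨j₀, hz⟩
      have h := hrow i i₀
      rw [if_neg hi, Finset.sum_eq_single j₀ (fun l _ hl => by rw [hz l hl, map_zero, mul_zero])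
        (fun h => absurd (Finset.mem_univ _) h)] at h
      obtain ⟨j, -, hj⟩ := hw1 i j₀ ((mul_eq_zero.1 h).resolve_right ((map_ne_zero σ).2 hj₀))
      exact ⟨j, hj⟩
    choose π hπ using hone
    have hπinj : Function.Injective π := by
      intro i k hik
      by_contra hne
      have h := hrow i k
      rw [if_neg hne, Finset.sum_eq_single (π i) (fun l _ hl => by rw [hπ i l hl, zero_mul])
        (fun h => absurd (Finset.mem_univ _) h)] at h
      have hnz : ∀ i, A i (π i) ≠ 0 := fun i h0 => by
        have h := hrow i i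
        rw [if_pos rfl, Finset.sum_eq_single (π i) (fun l _ hl => by rw [hπ i l hl, zero_mul])
          (fun h => absurd (Finset.mem_univ _) h), h0, zero_mul] at h
        exact zero_ne_one h
      rcases mul_eq_zero.1 h with h' | h'
      · exact hnz i h'
      · exact hnz k (by rw [← hik]; exact (map_eq_zero σ).1 h')
    refine ⟨(π 1 - π 0) * a, fun i k hik => ?_⟩
    rw [hsum, Finset.sum_eq_single (π i) (fun l _ hl => by rw [hπ i l hl, zero_mul, zero_mul])
      (fun h => absurd (Finset.mem_univ _) h), hπ k (π i + a) (fun h => hik ?_), map_zero, mul_zero]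
    have e1 := affine_of_injective π hπinj i
    have e2 := affine_of_injective π hπinj k
    have hd : π 1 - π 0 ≠ 0 := fun h => absurd (hπinj (sub_eq_zero.1 h)) (by decide)
    have hdd : ∀ d : Fin 3, d ≠ 0 → d * d = 1 := by decide
    rw [e1, e2] at h
    linear_combination (-(π 1 - π 0)) * h + (i - k) * hdd _ hd

end HeisFour

end H45
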