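import Mathlib
import Cfsg.Agent.H43.Restrict
import Cfsg.Agent.H45.NondegMaxThm

/-!
# The stabiliser of a non-degenerate subspace of a seven-dimensional space is maximal

The complement may have dimension four or five only; in odd dimension the negatives of the
reflections of one class give the first mixed vector.
-/

set_option autoImplicit false
set_option linter.unusedSectionVars false

namespace H45
namespace Low

open H43

variable {F : Type*} [Field F] [Finite F] {V : Type*} [AddCommGroup V] [Module F V]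
  [FiniteDimensional F V] {Q : QuadraticForm F V}

section values

variable (hQ : (polB Q).Nondegenerate) {U : Submodule F V}
  (hU : U ⊓ (polB Q).orthogonal U = ⊥)

include hQ hU

/-- Every non-zero value orthogonally to two vectors inside a non-degenerate subspace. -/
lemma exists_perp (h2 : (2 : F) ≠ 0) (u v : V) {c : F} (hc : c ≠ 0)
    (h : (u = v ∧ 4 ≤ Module.finrank F U) ∨ ∃ x ∈ U, x ∈ Submodule.span F ({u, v} : Set V) ∧
      Q x ≠ 0 ∧ ((u = v ∧ 3 ≤ Module.finrank F U) ∨ 5 ≤ Module.finrank F U)) :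
    ∃ y ∈ U, y ∉ (polB Q).orthogonal U ⊔ Submodule.span F {u, v} ∧ polB Q y u = 0 ∧
      polB Q y v = 0 ∧ Q y = c := by
  set W := (polB Q).orthogonal U with hWdef
  have hWW : (polB Q).orthogonal W = U :=
    LinearMap.BilinForm.orthogonal_orthogonal hQ (polB_isRefl Q) U
  set P := Submodule.span F ({u, v} : Set V) with hP
  set T := W ⊔ P with hT
  set S := (polB Q).orthogonal T with hS
  have hPdim : Module.finrank F P ≤ 2 := by
    classical
    refine (finrank_span_le_card ({u, v} : Set V)).trans ?_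
    rw [Set.toFinset_card]
    exact (Fintype.card_ofFinset _ _).le.trans (by simpa using Finset.card_le_two)
  have hP1 : u = v → Module.finrank F P ≤ 1 := by
    intro e
    rw [hP, e, Set.pair_eq_singleton]
    exact (finrank_span_le_card _).trans (by simp)
  have hT' := Submodule.finrank_sup_add_finrank_inf_eq W P
  rw [← hT] at hT'
  have hS' := finrank_orth_add hQ T
  have hU' := finrank_orth_add hQ U
  rw [← hS] at hS'
  rw [← hWdef] at hU'
  have hle : S ⊓ (polB Q).orthogonal S ≤ T := by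
    rw [hS, LinearMap.BilinForm.orthogonal_orthogonal hQ (polB_isRefl Q) T]
    exact inf_le_right
  have hdis : W ⊓ (S ⊓ (polB Q).orthogonal S) = ⊥ := by
    rw [eq_bot_iff, ← hU]
    rintro x ⟨hx, hxS, -⟩
    refine ⟨?_, hx⟩
    rw [← hWW]
    exact fun w hw => hxS w (Submodule.mem_sup_left hw)
  have hsum := Submodule.finrank_sup_add_finrank_inf_eq W (S ⊓ (polB Q).orthogonal S)
  rw [hdis, finrank_bot] at hsum
  have hbound : Module.finrank F ↥(W ⊔ S ⊓ (polB Q).orthogonal S) ≤ Module.finrank F T :=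
    Submodule.finrank_mono (sup_le le_sup_left hle)
  obtain ⟨y, hy, hy', hyc⟩ := exists_value' (Q := Q) S (by
    rcases h with ⟨e, h4⟩ | ⟨x, hx, hxP, hx0, h'⟩
    · have := hP1 e; omega
    -- the radical does not exhaust the anisotropic vector
    have hlt : Module.finrank F ↥(W ⊔ S ⊓ (polB Q).orthogonal S) < Module.finrank F T := by
      rcases hbound.lt_or_eq with hlt | heq
      · exact hlt
      exfalso
      have hxT : x ∈ W ⊔ S ⊓ (polB Q).orthogonal S := by
        rw [Submodule.eq_of_le_of_finrank_le (sup_le le_sup_left hle) heq.ge]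
        exact Submodule.mem_sup_right hxP
      obtain ⟨w, hw, r, hr, hwr⟩ := Submodule.mem_sup.mp hxT
      have hrU : r ∈ U := by rw [← hWW]; exact fun z hz => hr.1 z (Submodule.mem_sup_left hz)
      have hw0 : w ∈ U ⊓ W := ⟨by simpa [← hwr] using sub_mem hx hrU, hw⟩
      rw [hU, Submodule.mem_bot] at hw0
      rw [hw0, zero_add] at hwr
      have h0 : polB Q r r = 0 := hr.2 r hr.1
      rw [polB_self, mul_eq_zero, hwr] at h0
      exact hx0 (h0.resolve_left h2)
    rcases h' with ⟨e, h3⟩ | h5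
    · have := hP1 e; omega
    · omega) c (Or.inl hc)
  refine ⟨y, ?_, fun h' => hy' ?_, ?_, ?_, hyc⟩
  · rw [← hWW]
    exact fun w hw => hy w (Submodule.mem_sup_left hw)
  · intro s hs
    change polB Q s y = 0
    rw [polB_comm]
    exact hs y h'
  · rw [polB_comm]
    exact hy u (Submodule.mem_sup_right (Submodule.subset_span (by simp)))
  · rw [polB_comm]
    exact hy v (Submodule.mem_sup_right (Submodule.subset_span (by simp)))

/-- Every non-zero value orthogonally to two orthogonal anisotropic vectors of a subspace. -/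
lemma exists_perp_pair (h2 : (2 : F) ≠ 0) (h4 : 4 ≤ Module.finrank F U) {x w : V} (hx : x ∈ U)
    (hw : w ∈ U) (hx0 : Q x ≠ 0) (hw0 : Q w ≠ 0) (hxw : polB Q x w = 0) {c : F} (hc : c ≠ 0) :
    ∃ y ∈ U, polB Q y x = 0 ∧ polB Q y w = 0 ∧ Q y = c := by
  set U' := U ⊓ (polB Q).orthogonal (F ∙ x) with hU'
  have hxx : polB Q x x ≠ 0 := by rw [polB_self]; exact mul_ne_zero h2 hx0
  have hdec : ∀ y ∈ U, y - (polB Q x y / polB Q x x) • x ∈ U' := fun y hy =>
    ⟨sub_mem hy (U.smul_mem _ hx), mem_orth_singleton.2 (by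
      rw [map_sub, map_smul, smul_eq_mul, div_mul_cancel₀ _ hxx, sub_self])⟩
  have hnd : U' ⊓ (polB Q).orthogonal U' = ⊥ := by
    rw [eq_bot_iff, ← hU]
    rintro r ⟨hr, hr'⟩
    refine ⟨hr.1, fun y hy => ?_⟩
    change polB Q y r = 0
    have h1 : polB Q (y - (polB Q x y / polB Q x x) • x) r = 0 := hr' _ (hdec y hy)
    rwa [map_sub, map_smul, LinearMap.sub_apply, LinearMap.smul_apply,
      mem_orth_singleton.1 hr.2, smul_zero, sub_zero] at h1
  have hdim : 3 ≤ Module.finrank F U' := by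
    have hle : U ≤ U' ⊔ (F ∙ x) := fun y hy => by
      have := add_mem (Submodule.mem_sup_left (hdec y hy) :
        y - (polB Q x y / polB Q x x) • x ∈ U' ⊔ (F ∙ x))
        (Submodule.mem_sup_right (Submodule.smul_mem _ (polB Q x y / polB Q x x)
          (Submodule.mem_span_singleton_self x)))
      rwa [sub_add_cancel] at this
    have h1 := (Submodule.finrank_mono hle).trans
      (Submodule.finrank_add_le_finrank_add_finrank _ _)
    rw [finrank_span_singleton fun e => hx0 (by rw [e, QuadraticMap.map_zero])] at h1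
    omega
  have hwU' : w ∈ U' := ⟨hw, mem_orth_singleton.2 hxw⟩
  obtain ⟨y, hy, -, hyw, -, hyc⟩ := exists_perp hQ hnd h2 w w hc
    (Or.inr ⟨w, hwU', Submodule.subset_span (by simp), hw0, Or.inl ⟨rfl, hdim⟩⟩)
  exact ⟨y, hy.1, by rw [polB_comm]; exact mem_orth_singleton.1 hy.2, hyw, hyc⟩

end values

variable (hQ : (polB Q).Nondegenerate) {W : Submodule F V}
  (hW : W ⊓ (polB Q).orthogonal W = ⊥) (hgen : ReflGenerates F V) (h2 : (2 : F) ≠ 0)
  (hm : 4 ≤ Module.finrank F ((polB Q).orthogonal W))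

include hQ hW h2 hm

lemma orth_inf : (polB Q).orthogonal W ⊓ (polB Q).orthogonal ((polB Q).orthogonal W) = ⊥ := by
  rw [LinearMap.BilinForm.orthogonal_orthogonal hQ (polB_isRefl Q) W, inf_comm, hW]

lemma exists_one (u : V) {c : F} (hc : c ≠ 0) :
    ∃ y ∈ (polB Q).orthogonal W, y ∉ W ⊔ Submodule.span F {u} ∧ polB Q y u = 0 ∧ Q y = c := by
  obtain ⟨y, hy, hn, hu, -, hyc⟩ := exists_perp hQ (orth_inf hQ hW h2 hm) h2 u u hc
    (Or.inl ⟨rfl, hm⟩)
  refine ⟨y, hy, ?_, hu, hyc⟩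
  rwa [Set.pair_eq_singleton, LinearMap.BilinForm.orthogonal_orthogonal hQ (polB_isRefl Q) W] at hn

/-- Prescribed polar value against `b` and prescribed value, off the line of `b`. -/
lemma exists_big_pair {b : V} (hb : b ∈ (polB Q).orthogonal W) (hb0 : b ≠ 0) (t c : F)
    (h : t ≠ 0 ∨ c ≠ 0) :
    ∃ x ∈ (polB Q).orthogonal W, polB Q x b = t ∧ Q x = c ∧ x ∉ Submodule.span F {b} := by
  set W' := (polB Q).orthogonal W with hW'
  have hnd := orth_inf hQ hW h2 hm
  by_cases hQb : Q b = 0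
  · by_cases ht : t = 0
    · obtain ⟨y, hy, hn, hyb, hyc⟩ := exists_one hQ hW h2 hm b (h.resolve_left (not_not.mpr ht))
      exact ⟨y, hy, hyb.trans ht.symm, hyc, fun hm' => hn (Submodule.mem_sup_right hm')⟩
    obtain ⟨⟨e, he⟩, hep⟩ := exists_hypPair (restrict_nondeg hnd) (c := ⟨b, hb⟩)
      (by simpa using hQb) (by simpa using hb0)
    have hQe : Q e = 0 := by simpa using hep.right
    have hbe : polB Q b e = 1 := by
      have := hep.pair
      rwa [polB_restrict] at this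
    have hxb : polB Q (t • e + (c / t) • b) b = t := by
      rw [map_add, map_smul, map_smul, LinearMap.add_apply, LinearMap.smul_apply,
        LinearMap.smul_apply, polB_comm e b, hbe, polB_self, hQb]
      simp
    refine ⟨t • e + (c / t) • b, add_mem (W'.smul_mem _ he) (W'.smul_mem _ hb), hxb, ?_,
      fun hmem => ?_⟩
    · rw [qmap_add_smul, qmap_smul, hQe, hQb, map_smul, LinearMap.smul_apply, polB_comm e b, hbe]
      simp [ht]
    · obtain ⟨s, hs⟩ := Submodule.mem_span_singleton.mp hmem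
      rw [← hs, map_smul, LinearMap.smul_apply, polB_self, hQb] at hxb
      exact ht (by rw [← hxb]; simp)
  · have hbb : polB Q b b ≠ 0 := by rw [polB_self]; exact mul_ne_zero h2 hQb
    set r := t / polB Q b b with hr
    obtain ⟨z, hz, hzb, hzn, hzc⟩ : ∃ z ∈ W', polB Q z b = 0 ∧ z ≠ 0 ∧ Q z = c - r * r * Q b := by
      by_cases h0 : c - r * r * Q b = 0
      · obtain ⟨y, hy, hyn, hyc⟩ := exists_value (Q := Q) (W' ⊓ (polB Q).orthogonal (F ∙ b)) (by
          set U := W' ⊓ (polB Q).orthogonal (F ∙ b)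
          have hdec : ∀ y ∈ W', y - (polB Q b y / polB Q b b) • b ∈ U := fun y hy =>
            ⟨sub_mem hy (W'.smul_mem _ hb), mem_orth_singleton.2 (by
              rw [map_sub, map_smul, smul_eq_mul, div_mul_cancel₀ _ hbb, sub_self])⟩
          have hrad : U ⊓ (polB Q).orthogonal U = ⊥ := by
            rw [eq_bot_iff, ← hnd]
            rintro v ⟨hv, hv'⟩
            refine ⟨hv.1, fun y hy => ?_⟩
            change polB Q y v = 0
            have h1 : polB Q (y - (polB Q b y / polB Q b b) • b) v = 0 := hv' _ (hdec y hy)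
            rwa [map_sub, map_smul, LinearMap.sub_apply, LinearMap.smul_apply,
              mem_orth_singleton.1 hv.2, smul_zero, sub_zero] at h1
          have hle : W' ≤ U ⊔ (F ∙ b) := fun y hy => by
            have := add_mem (Submodule.mem_sup_left (hdec y hy) :
              y - (polB Q b y / polB Q b b) • b ∈ U ⊔ (F ∙ b))
              (Submodule.mem_sup_right (Submodule.smul_mem _ (polB Q b y / polB Q b b)
                (Submodule.mem_span_singleton_self b)))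
            rwa [sub_add_cancel] at this
          have h1 := (Submodule.finrank_mono hle).trans
            (Submodule.finrank_add_le_finrank_add_finrank _ _)
          rw [finrank_span_singleton hb0] at h1
          rw [hrad, finrank_bot]
          omega) 0
        refine ⟨y, hy.1, by rw [polB_comm]; exact mem_orth_singleton.1 hy.2, fun e => hyn ?_,
          by rw [hyc, h0]⟩
        rw [e]; exact zero_mem _
      · obtain ⟨y, hy, hn, hyb, hyc⟩ := exists_one hQ hW h2 hm b h0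
        exact ⟨y, hy, hyb, fun e => hn (e ▸ zero_mem _), hyc⟩
    refine ⟨r • b + z, add_mem (W'.smul_mem _ hb) hz, ?_, ?_, fun hmem => ?_⟩
    · rw [map_add, map_smul, LinearMap.add_apply, LinearMap.smul_apply, hzb, add_zero, smul_eq_mul,
        hr, div_mul_cancel₀ _ hbb]
    · rw [qmap_add, qmap_smul, hzc, map_smul, LinearMap.smul_apply, polB_comm b z, hzb]
      simp
    · obtain ⟨s, hs⟩ := Submodule.mem_span_singleton.mp hmem
      have hz' : z = (s - r) • b := by rw [sub_smul, hs]; abel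
      rw [hz', map_smul, LinearMap.smul_apply, smul_eq_mul, mul_eq_zero] at hzb
      exact hzn (by rw [hz', hzb.resolve_right hbb, zero_smul])

/-- Witt's theorem componentwise, corrected into the commutator subgroup. -/
lemma exists_H_map (hgen : ReflGenerates F V) {a a' b b' : V}
    (ha : a ∈ W) (ha' : a' ∈ W) (hb : b ∈ ((polB Q).orthogonal W)) (hb' : b' ∈ ((polB Q).orthogonal W)) (ha0 : a ≠ 0) (ha0' : a' ≠ 0)
    (hb0 : b ≠ 0) (hb0' : b' ≠ 0) (hQa : Q a = Q a') (hQb : Q b = Q b') :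
    ∃ h ∈ commutator (orthGroup Q) ⊓ orthStab Q W, h.1 (a + b) = a' + b' := by
  have hW'' : ((polB Q).orthogonal W) ⊓ (polB Q).orthogonal ((polB Q).orthogonal W) = ⊥ := by
    rw [LinearMap.BilinForm.orthogonal_orthogonal hQ (polB_isRefl Q) W, inf_comm, hW]
  obtain ⟨g₁, hg₁⟩ := exists_orth_map (restrict_nondeg hW) (x := ⟨a, ha⟩) (y := ⟨a', ha'⟩)
    (by simpa using ha0) (by simpa using ha0') (by simpa using hQa)
  obtain ⟨g₂, hg₂⟩ := exists_orth_map (restrict_nondeg hW'') (x := ⟨b, hb⟩) (y := ⟨b', hb'⟩)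
    (by simpa using hb0) (by simpa using hb0') (by simpa using hQb)
  let c := isCompl_orth hQ hW
  let φ : V →ₗ[F] V :=
    W.subtype ∘ₗ (g₁.1 : W →ₗ[F] W) ∘ₗ W.projectionOnto ((polB Q).orthogonal W) c +
      (((polB Q).orthogonal W)).subtype ∘ₗ (g₂.1 : ((polB Q).orthogonal W) →ₗ[F] ((polB Q).orthogonal W)) ∘ₗ (((polB Q).orthogonal W)).projectionOnto W c.symm
  have hφ : ∀ x, φ x = (g₁.1 (W.projectionOnto ((polB Q).orthogonal W) c x) : V) + (g₂.1 ((((polB Q).orthogonal W)).projectionOnto W c.symm x) : V) :=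
    fun x => rfl
  have hiso : ∀ x, Q (φ x) = Q x := by
    intro x
    have h1 : Q (g₁.1 (W.projectionOnto ((polB Q).orthogonal W) c x) : V) = Q (W.projectionOnto ((polB Q).orthogonal W) c x : V) :=
      orth_qmap g₁ _
    have h2 : Q (g₂.1 ((((polB Q).orthogonal W)).projectionOnto W c.symm x) : V) =
        Q ((((polB Q).orthogonal W)).projectionOnto W c.symm x : V) := orth_qmap g₂ _
    conv_rhs => rw [← Submodule.projection_add_projection_eq_self c x]
    rw [hφ, qmap_add, h1, h2, Submodule.projection_apply, Submodule.projection_apply, qmap_add,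
      polB_side (Submodule.coe_mem _) (Submodule.coe_mem _),
      polB_side (Submodule.coe_mem _) (Submodule.coe_mem _)]
  let g := ofIsometry hQ φ hiso
  have hgW : g ∈ orthStab Q W := mem_orthStab fun x hx => by
    change φ x ∈ W
    rw [hφ, (Submodule.projectionOnto_apply_eq_zero_iff c.symm).mpr hx, map_zero]
    simp
  have hgab : g.1 (a + b) = a' + b' := by
    change φ (a + b) = _
    rw [hφ, map_add (W.projectionOnto ((polB Q).orthogonal W) c),
      map_add (((polB Q).orthogonal W).projectionOnto W c.symm),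
      Submodule.projectionOnto_apply_left c ⟨a, ha⟩,
      (Submodule.projectionOnto_apply_eq_zero_iff c).mpr hb,
      (Submodule.projectionOnto_apply_eq_zero_iff c.symm).mpr ha,
      Submodule.projectionOnto_apply_left c.symm ⟨b, hb⟩, add_zero, zero_add, hg₁, hg₂]
  -- correction by reflections in `((polB Q).orthogonal W)` orthogonal to `b`
  have hn : 2 ≤ Module.finrank F V := by
    have := finrank_orth_add hQ W; omega
  have hval : ∀ l : F, l ≠ 0 → ∃ v ∈ ((polB Q).orthogonal W), Q v = l ∧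
      refl Q v ∈ orthStab Q W ∧ (refl Q v).1 (a + b) = a + b := by
    intro l hl
    obtain ⟨v, hv, -, hvb, hvl⟩ := exists_one hQ hW h2 hm b hl
    refine ⟨v, hv, hvl, refl_mem_orthStab (Or.inr hv), refl_fix ?_⟩
    rw [map_add, LinearMap.add_apply, polB_side ha hv, polB_comm, hvb, add_zero]
  let S : Subgroup (orthGroup Q) := orthStab Q W ⊓
    { carrier := {h | h.1 (a + b) = a + b}
      mul_mem' := fun {x y} hx hy => by
        change (x * y).1 (a + b) = a + b
        rw [orth_mul_apply, hy, hx]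
      one_mem' := rfl
      inv_mem' := fun {x} hx => by
        change (x⁻¹).1 (a + b) = a + b
        conv_lhs => rw [← hx]
        rw [orth_inv_apply_self] }
  obtain ⟨h, hh, hgh⟩ := exists_mem_commutator hQ hgen hn S (fun x => invHom_cases hQ hgen S
    (fun l hl => by
      obtain ⟨v, hv, hvl, hv1, hv2⟩ := hval l hl
      obtain ⟨u, hu, hu1, hu1', hu2⟩ := hval 1 one_ne_zero
      refine ⟨refl Q v * refl Q u, ⟨mul_mem hv1 hu1', ?_⟩, ?_⟩
      · change (refl Q v * refl Q u).1 (a + b) = a + b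
        rw [orth_mul_apply, hu2, hv2]
      · rw [map_mul, invHom_refl hQ hgen (by rw [hvl]; exact hl),
          invHom_refl hQ hgen (by rw [hu1]; exact one_ne_zero), hvl, hu1, sqc_one]
        exact Prod.ext
          (by show Multiplicative.ofAdd (1 : ZMod 2) * Multiplicative.ofAdd 1 = 1; rfl) (mul_one _))
    (by
      obtain ⟨u, hu, hu1, hu1', hu2⟩ := hval 1 one_ne_zero
      exact ⟨u, by rw [hu1]; exact one_ne_zero, ⟨hu1', hu2⟩⟩) x) g
  exact ⟨g * h, ⟨hgh, mul_mem hgW hh.1⟩, by rw [orth_mul_apply, hh.2, hgab]⟩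

variable {M : Subgroup (orthGroup Q)} (hHM : commutator (orthGroup Q) ⊓ orthStab Q W ≤ M)

include hgen hHM

lemma side_pair {a b : V} (ha : a ∈ W ∨ a ∈ (polB Q).orthogonal W)
    (hb : b ∈ W ∨ b ∈ (polB Q).orthogonal W) (hab : SameCls Q a b) :
    refl Q a * refl Q b ∈ M :=
  hHM ⟨refl_mul_refl_mem_commutator hQ hgen (by have := finrank_orth_add hQ W; omega) hab.1 hab.2.1 hab.2.2,
    mul_mem (refl_mem_orthStab ha) (refl_mem_orthStab hb)⟩

lemma inB_side {z : V} (hz : z ∈ W ∨ z ∈ (polB Q).orthogonal W) (hz0 : Q z ≠ 0) :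
    InB Q W M z :=
  ⟨z, hz, sameCls_of_eq hz0 rfl, by rw [refl_sq]; exact one_mem M⟩

lemma inB_pair {z w : V} (hz : InB Q W M z) (hw : w ∈ W ∨ w ∈ (polB Q).orthogonal W)
    (hzw : SameCls Q z w) : refl Q z * refl Q w ∈ M := by
  obtain ⟨w₀, hw₀, hc, hmem⟩ := hz
  have := mul_mem hmem (side_pair hQ hW hgen h2 hm hHM hw₀ hw (hc.symm.trans hzw))
  rwa [mul_assoc, ← mul_assoc (refl Q w₀), refl_sq, one_mul] at this

lemma inB_act {h : orthGroup Q} (hh : h ∈ M) {z w₀ : V} (hz : InB Q W M z)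
    (hw₀ : w₀ ∈ W ∨ w₀ ∈ (polB Q).orthogonal W) (hc : SameCls Q z w₀)
    (hside : h.1 w₀ ∈ W ∨ h.1 w₀ ∈ (polB Q).orthogonal W) : InB Q W M (h.1 z) := by
  refine ⟨h.1 w₀, hside, ?_, ?_⟩
  · unfold SameCls
    rw [orth_qmap, orth_qmap]
    exact hc
  · rw [← refl_conj, ← refl_conj, conj_mul]
    exact mul_mem (mul_mem hh (inB_pair hQ hW hgen h2 hm hHM hz hw₀ hc)) (inv_mem hh)

lemma inB_stab {h : orthGroup Q} (hh : h ∈ commutator (orthGroup Q) ⊓ orthStab Q W) {z : V}
    (hz : InB Q W M z) : InB Q W M (h.1 z) := by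
  obtain ⟨w₀, hw₀, hc, -⟩ := id hz
  exact inB_act hQ hW hgen h2 hm hHM (hHM hh) hz hw₀ hc (orthStab_side hQ hh.2 hw₀)

lemma inB_refl_side (hkm : 5 ≤ Module.finrank F ((polB Q).orthogonal W) ∨
      3 ≤ Module.finrank F W) {a b x : V} (ha : a ∈ W) (hb : b ∈ (polB Q).orthogonal W)
    (hz : InB Q W M (a + b)) (hx : x ∈ W ∨ x ∈ (polB Q).orthogonal W) (hx0 : Q x ≠ 0) :
    InB Q W M ((refl Q (a + b)).1 x) := by
  set z := a + b with hzdef
  obtain ⟨w₀, hw₀, hc, -⟩ := id hz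
  obtain ⟨w, hw, -, hwz, hwQ⟩ := exists_one hQ hW h2 hm z hc.1
  have hw0 : Q w ≠ 0 := by rw [hwQ]; exact hc.1
  set x' := (refl Q w).1 x with hx'
  have hx'side : x' ∈ W ∨ x' ∈ (polB Q).orthogonal W :=
    orthStab_side hQ (refl_mem_orthStab (Or.inr hw)) hx
  obtain ⟨v, hv, hvz, hvw, hvQ⟩ : ∃ v, (v ∈ W ∨ v ∈ (polB Q).orthogonal W) ∧ polB Q v z = 0 ∧
      polB Q v w = 0 ∧ Q v = Q x := by
    by_cases h5 : 5 ≤ Module.finrank F ((polB Q).orthogonal W)
    · obtain ⟨v, hv, -, h1, h3, h4⟩ := exists_perp hQ (orth_inf hQ hW h2 hm) h2 z w hx0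
        (Or.inr ⟨w, hw, Submodule.subset_span (by simp), hw0, Or.inr h5⟩)
      exact ⟨v, Or.inr hv, h1, h3, h4⟩
    by_cases hQa : Q a = 0
    · have hQb : Q b ≠ 0 := by
        intro h0; apply hc.1
        rw [hzdef, qmap_add, hQa, h0, polB_side ha hb]; simp
      have hbw : polB Q b w = 0 := by
        rw [hzdef, map_add, polB_side' hw ha, zero_add, polB_comm] at hwz; exact hwz
      obtain ⟨v, hv, h1, h3, h4⟩ := exists_perp_pair hQ (orth_inf hQ hW h2 hm) h2 hm hb hw hQb hw0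
        hbw hx0
      exact ⟨v, Or.inr hv, by rw [hzdef, map_add, h1, polB_side' hv ha, add_zero], h3, h4⟩
    · obtain ⟨v, hv, -, h1, -, h4⟩ := exists_perp hQ hW h2 a a hx0
        (Or.inr ⟨a, ha, Submodule.subset_span (by simp), hQa, Or.inl ⟨rfl, hkm.resolve_left h5⟩⟩)
      exact ⟨v, Or.inl hv, by rw [hzdef, map_add, h1, polB_side hv hb, add_zero],
        polB_side hv hw, h4⟩
  have hx'0 : Q x' ≠ 0 := by rw [hx', orth_qmap]; exact hx0
  have h1 : (refl Q z * refl Q w).1 v = v := by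
    rw [orth_mul_apply, refl_fix hvw, refl_fix hvz]
  have := inB_act hQ hW hgen h2 hm hHM
    (inB_pair hQ hW hgen h2 hm hHM hz (Or.inr hw) (sameCls_of_eq hc.1 hwQ))
    (inB_side hQ hW hgen h2 hm hHM hx'side hx'0) hv
    (sameCls_of_eq hx'0 (by rw [hvQ, hx', orth_qmap])) (by rw [h1]; exact hv)
  rwa [orth_mul_apply, hx', ← orth_mul_apply (refl Q w), refl_sq, orth_one_apply] at this

lemma inB_refl (hkm : 5 ≤ Module.finrank F ((polB Q).orthogonal W) ∨
      3 ≤ Module.finrank F W) {a b a₁ b₁ : V} (ha : a ∈ W) (hb : b ∈ (polB Q).orthogonal W)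
    (ha₁ : a₁ ∈ W) (hb₁ : b₁ ∈ (polB Q).orthogonal W) (hz : InB Q W M (a + b))
    (hu : InB Q W M (a₁ + b₁))
    (hcase : Q a ≠ 0 ∨ (Q b ≠ 0 ∧ Q b₁ ≠ 0 ∧ polB Q b b₁ = 0)) :
    InB Q W M ((refl Q (a + b)).1 (a₁ + b₁)) := by
  set z := a + b with hzdef
  set u := a₁ + b₁ with hudef
  obtain ⟨w₀, hw₀, hc, -⟩ := id hz
  obtain ⟨u₀, hu₀, hcu, -⟩ := id hu
  obtain ⟨w, hw, hwu, hwQ, v, hv, hvz, hvw, hvQ⟩ : ∃ w ∈ (polB Q).orthogonal W,
      polB Q w u = 0 ∧ Q w = Q z ∧ ∃ v, (v ∈ W ∨ v ∈ (polB Q).orthogonal W) ∧ polB Q v z = 0 ∧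
      polB Q v w = 0 ∧ Q v = Q u := by
    by_cases h5 : 5 ≤ Module.finrank F ((polB Q).orthogonal W)
    · obtain ⟨w, hw, -, hwu, hwQ⟩ := exists_one hQ hW h2 hm u hc.1
      obtain ⟨v, hv, -, h1, h3, h4⟩ := exists_perp hQ (orth_inf hQ hW h2 hm) h2 z w hcu.1
        (Or.inr ⟨w, hw, Submodule.subset_span (by simp), by rw [hwQ]; exact hc.1, Or.inr h5⟩)
      exact ⟨w, hw, hwu, hwQ, v, Or.inr hv, h1, h3, h4⟩
    rcases hcase with hQa | ⟨hQb, hQb₁, hbb⟩
    · obtain ⟨w, hw, -, hwu, hwQ⟩ := exists_one hQ hW h2 hm u hc.1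
      obtain ⟨v, hv, -, h1, -, h4⟩ := exists_perp hQ hW h2 a a hcu.1
        (Or.inr ⟨a, ha, Submodule.subset_span (by simp), hQa, Or.inl ⟨rfl, hkm.resolve_left h5⟩⟩)
      exact ⟨w, hw, hwu, hwQ, v, Or.inl hv, by rw [hzdef, map_add, h1, polB_side hv hb, add_zero],
        polB_side hv hw, h4⟩
    · obtain ⟨w, hw, hwb, hwb₁, hwQ⟩ := exists_perp_pair hQ (orth_inf hQ hW h2 hm) h2 hm hb hb₁
        hQb hQb₁ hbb hc.1
      obtain ⟨v, hv, h1, h3, h4⟩ := exists_perp_pair hQ (orth_inf hQ hW h2 hm) h2 hm hb hw hQb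
        (by rw [hwQ]; exact hc.1) (by rw [polB_comm]; exact hwb) hcu.1
      exact ⟨w, hw, by rw [hudef, map_add, hwb₁, polB_side' hw ha₁, add_zero], hwQ, v, Or.inr hv,
        by rw [hzdef, map_add, h1, polB_side' hv ha, add_zero], h3, h4⟩
  have h1 : (refl Q z * refl Q w).1 v = v := by
    rw [orth_mul_apply, refl_fix hvw, refl_fix hvz]
  have := inB_act hQ hW hgen h2 hm hHM
    (inB_pair hQ hW hgen h2 hm hHM hz (Or.inr hw) (sameCls_of_eq hc.1 hwQ)) hu hv
    (sameCls_of_eq hcu.1 hvQ) (by rw [h1]; exact hv)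
  rwa [orth_mul_apply, refl_fix (v := w) (x := u) (by rw [polB_comm]; exact hwu)] at this

lemma inB_type {a a' b b' : V} (ha : a ∈ W) (ha' : a' ∈ W) (hb : b ∈ (polB Q).orthogonal W)
    (hb' : b' ∈ (polB Q).orthogonal W) (ha0 : a ≠ 0) (ha0' : a' ≠ 0) (hb0 : b ≠ 0) (hb0' : b' ≠ 0)
    (hQa : Q a = Q a') (hQb : Q b = Q b') (hz : InB Q W M (a + b)) : InB Q W M (a' + b') := by
  obtain ⟨h, hh, hab⟩ := exists_H_map hQ hW h2 hm hgen ha ha' hb hb' ha0 ha0' hb0 hb0' hQa hQb
  have := inB_stab hQ hW hgen h2 hm hHM hh hz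
  rwa [hab] at this

/-- Changing the component in the large side, and scaling the other one by a square. -/
lemma inB_big_step (hkm : 5 ≤ Module.finrank F ((polB Q).orthogonal W) ∨
      3 ≤ Module.finrank F W) {a a' b b' : V} (ha : a ∈ W) (ha' : a' ∈ W)
    (hb : b ∈ (polB Q).orthogonal W) (hb' : b' ∈ (polB Q).orthogonal W) (ha0 : a ≠ 0)
    (ha0' : a' ≠ 0) (hb0 : b ≠ 0) (hb0' : b' ≠ 0) (s : F) (hs : s ≠ 0) (hQa : Q a' = s * s * Q a)
    (hc : Q (a' + b') ≠ 0) (hz : InB Q W M (a + b)) : InB Q W M (a' + b') := by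
  have hγ : Q (a + b) ≠ 0 := by obtain ⟨w₀, -, hc, -⟩ := id hz; exact hc.1
  obtain ⟨x, hx, hxb, hxQ, hxspan⟩ :=
    exists_big_pair hQ hW h2 hm hb hb0 (s * Q (a + b)) (Q (a' + b')) (Or.inr hc)
  have h1 := inB_refl_side hQ hW hgen h2 hm hHM hkm ha hb hz (Or.inr hx) (by rw [hxQ]; exact hc)
  have h2' : (refl Q (a + b)).1 x = (-(s • a)) + (x - s • b) := by
    rw [refl_apply, (polB Q x).map_add, polB_side' hx ha, zero_add, hxb]
    rw [show (Q (a + b))⁻¹ * (s * Q (a + b)) = s by field_simp, smul_add]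
    abel
  rw [h2'] at h1
  have hm2 : x - s • b ∈ (polB Q).orthogonal W := sub_mem hx (Submodule.smul_mem _ _ hb)
  have hm1 : -(s • a) ∈ W := neg_mem (W.smul_mem _ ha)
  have hne : x - s • b ≠ 0 := fun h => hxspan (Submodule.mem_span_singleton.mpr
    ⟨s, (sub_eq_zero.mp h).symm⟩)
  have e1 : Q (-(s • a)) = Q a' := by rw [qmap_neg, qmap_smul, hQa]
  refine inB_type hQ hW hgen h2 hm hHM hm1 ha' hm2 hb'
    (neg_ne_zero.mpr (smul_ne_zero hs ha0)) ha0' hne hb0' e1 ?_ h1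
  have e2 : Q ((-(s • a)) + (x - s • b)) = Q x := by rw [← h2', orth_qmap]
  rw [qmap_add, polB_side hm1 hm2, hxQ, qmap_add, polB_side ha' hb', e1] at e2
  simpa using e2

/-- The mixed vector can be given a singular component in the large side. -/
lemma inB_zero_big (hkm : 5 ≤ Module.finrank F ((polB Q).orthogonal W) ∨
      3 ≤ Module.finrank F W) {a b : V} (ha : a ∈ W) (hb : b ∈ (polB Q).orthogonal W) (hb0 : b ≠ 0)
    (hQa : Q a ≠ 0) (hz : InB Q W M (a + b)) :
    ∃ b₀ ∈ (polB Q).orthogonal W, b₀ ≠ 0 ∧ Q b₀ = 0 ∧ InB Q W M (a + b₀) := by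
  obtain ⟨b₀, hb₀, hout, hb₀Q⟩ := exists_value (Q := Q) ((polB Q).orthogonal W)
    (by rw [orth_inf hQ hW h2 hm, finrank_bot]; omega) 0
  have ha0 : a ≠ 0 := fun h => hQa (by rw [h, QuadraticMap.map_zero])
  have hb₀0 : b₀ ≠ 0 := fun h => hout (h ▸ zero_mem _)
  refine ⟨b₀, hb₀, hb₀0, hb₀Q, inB_big_step hQ hW hgen h2 hm hHM hkm ha ha hb hb₀ ha0 ha0 hb0 hb₀0
    1 one_ne_zero (by ring) ?_ hz⟩
  rw [qmap_add, hb₀Q, polB_side ha hb₀]
  simpa using hQa

variable (hkm : 5 ≤ Module.finrank F ((polB Q).orthogonal W) ∨ 3 ≤ Module.finrank F W)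
  (hplane : (¬ ∃ t : F, t ≠ 0 ∧ t ≠ 1 ∧ t ≠ -1) → ∀ a ∈ W, a ≠ 0 → Q a = 0 →
    3 ≤ Module.finrank F W)

include hkm hplane

/-- From one mixed vector, every value of `W` occurs with a singular large component. -/
lemma inB_reach {a b : V} (ha : a ∈ W) (hb : b ∈ (polB Q).orthogonal W) (ha0 : a ≠ 0)
    (hb0 : b ≠ 0) (hz : InB Q W M (a + b)) {a' : V} (ha' : a' ∈ W) (hQa' : Q a' ≠ 0) :
    ∃ b₀ ∈ (polB Q).orthogonal W, b₀ ≠ 0 ∧ InB Q W M (a' + b₀) := by
  have ha0' : a' ≠ 0 := fun h => hQa' (by rw [h, QuadraticMap.map_zero])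
  by_cases hQa : Q a = 0
  · -- a singular component: use a hyperbolic partner
    obtain ⟨⟨e, he⟩, hep⟩ := exists_hypPair (restrict_nondeg hW) (c := ⟨a, ha⟩)
      (by simpa using hQa) (by simpa using ha0)
    have hQe : Q e = 0 := by simpa using hep.right
    have hae : polB Q a e = 1 := by
      have := hep.pair
      rwa [polB_restrict] at this
    set ν := Q a' with hν
    set c := -(ν⁻¹) with hc
    have hc0 : c ≠ 0 := neg_ne_zero.mpr (inv_ne_zero hQa')
    obtain ⟨b₁, hb₁, hout, -, hb₁Q⟩ := exists_one hQ hW h2 hm b hc0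
    have hb₁0 : b₁ ≠ 0 := fun h => hout (h ▸ zero_mem _)
    have hz₁ : InB Q W M (a + b₁) :=
      inB_big_step hQ hW hgen h2 hm hHM hkm ha ha hb hb₁ ha0 ha0 hb0 hb₁0 1 one_ne_zero (by ring)
        (by rw [qmap_add, polB_side ha hb₁, hQa, hb₁Q]; simpa using hc0) hz
    obtain ⟨b₂, hb₂, hb₂f, hb₂Q, hb₂s⟩ := exists_big_pair hQ hW h2 hm hb₁ hb₁0 0 c (Or.inr hc0)
    have he0 : e ≠ 0 := fun h => by rw [h, map_zero] at hae; exact zero_ne_one hae
    have hb₂0 : b₂ ≠ 0 := fun h => hb₂s (h ▸ zero_mem _)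
    have hu : InB Q W M (e + b₂) := inB_type hQ hW hgen h2 hm hHM ha he hb₁ hb₂ ha0 he0 hb₁0 hb₂0
      (by rw [hQa, hQe]) (by rw [hb₁Q, hb₂Q]) hz₁
    have h1 := inB_refl hQ hW hgen h2 hm hHM hkm ha hb₁ he hb₂ hz₁ hu (Or.inr ⟨by rw [hb₁Q]; exact hc0,
      by rw [hb₂Q]; exact hc0, by rw [polB_comm]; exact hb₂f⟩)
    have h2' : (refl Q (a + b₁)).1 (e + b₂) = (e + ν • a) + (b₂ + ν • b₁) := by
      rw [refl_apply, qmap_add, polB_side ha hb₁, hQa, hb₁Q]
      simp only [map_add, LinearMap.add_apply, polB_side he hb₁, polB_side' hb₂ ha, hb₂f,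
        polB_comm e a, hae]
      have : (0 + c + 0)⁻¹ * (1 + 0 + (0 + 0)) = -ν := by
        rw [hc]; simp
      rw [this, smul_add]
      module
    rw [h2'] at h1
    have hm1 : e + ν • a ∈ W := add_mem he (W.smul_mem _ ha)
    have hm2 : b₂ + ν • b₁ ∈ (polB Q).orthogonal W := add_mem hb₂ (Submodule.smul_mem _ _ hb₁)
    have hne : b₂ + ν • b₁ ≠ 0 := fun h => hb₂s (Submodule.mem_span_singleton.mpr
      ⟨-ν, by rw [neg_smul, eq_comm, eq_neg_of_add_eq_zero_left h]⟩)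
    have e1 : Q (e + ν • a) = ν := by
      rw [qmap_add_smul, hQe, hQa, polB_comm, hae]; ring
    have hne1 : e + ν • a ≠ 0 := fun h => hQa' (by
      rw [← e1, h, QuadraticMap.map_zero])
    obtain ⟨b₀, hb₀, hb₀0, -, hres⟩ :=
      inB_zero_big hQ hW hgen h2 hm hHM hkm hm1 hm2 hne (by rw [e1]; exact hQa') h1
    exact ⟨b₀, hb₀, hb₀0,
      inB_type hQ hW hgen h2 hm hHM hm1 ha' hb₀ hb₀ hne1 ha0' hb₀0 hb₀0 e1 rfl hres⟩
  · obtain ⟨b₀, hb₀, hb₀0, hb₀Q, hz₀⟩ := inB_zero_big hQ hW hgen h2 hm hHM hkm ha hb hb0 hQa hz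
    by_cases hcls : sqc (Q a') = sqc (Q a)
    · obtain ⟨t, ht, hta⟩ := isSquare_of_sqc_eq hQa' hQa hcls
      exact ⟨b₀, hb₀, hb₀0, inB_big_step hQ hW hgen h2 hm hHM hkm ha ha' hb₀ hb₀ ha0 ha0' hb₀0 hb₀0 t ht
        hta (by rw [qmap_add, polB_side ha' hb₀, hb₀Q]; simpa using hQa') hz₀⟩
    · obtain ⟨x, hx, hxQ, hxa⟩ := exists_change hQ hW hplane ha ha' hQa hQa' hcls
      have h1 := inB_refl_side hQ hW hgen h2 hm hHM hkm ha hb₀ hz₀ (Or.inl hx) (by rw [hxQ]; exact hQa')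
      set s := (Q a)⁻¹ * polB Q x a with hs
      have hs0 : s ≠ 0 := mul_ne_zero (inv_ne_zero hQa) hxa
      have h2' : (refl Q (a + b₀)).1 x = (x - s • a) + -(s • b₀) := by
        rw [refl_apply, qmap_add, polB_side ha hb₀, hb₀Q, (polB Q x).map_add, polB_side hx hb₀]
        rw [add_zero, add_zero, add_zero, ← hs, smul_add]
        abel
      rw [h2'] at h1
      have hm1 : x - s • a ∈ W := sub_mem hx (W.smul_mem _ ha)
      have hm2 : -(s • b₀) ∈ (polB Q).orthogonal W := neg_mem (Submodule.smul_mem _ _ hb₀)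
      have e1 : Q (x - s • a) = Q a' := by
        have e2 : Q ((x - s • a) + -(s • b₀)) = Q x := by rw [← h2', orth_qmap]
        rw [qmap_add, polB_side hm1 hm2, qmap_neg, qmap_smul, hb₀Q, hxQ] at e2
        simpa using e2
      have hne1 : x - s • a ≠ 0 := fun h => hQa' (by rw [← e1, h, QuadraticMap.map_zero])
      exact ⟨b₀, hb₀, hb₀0, inB_type hQ hW hgen h2 hm hHM hm1 ha' hm2 hb₀ hne1 ha0'
        (neg_ne_zero.mpr (smul_ne_zero hs0 hb₀0)) hb₀0 e1
        (by rw [qmap_neg, qmap_smul, hb₀Q, mul_zero]) h1⟩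

/-- A single mixed vector puts every non-singular vector in the block. -/
lemma inB_all {a b : V} (ha : a ∈ W) (hb : b ∈ (polB Q).orthogonal W) (ha0 : a ≠ 0)
    (hb0 : b ≠ 0) (hz : InB Q W M (a + b)) (z : V) (hz0 : Q z ≠ 0) : InB Q W M z := by
  have hns : ∀ a' ∈ W, ∀ b' ∈ (polB Q).orthogonal W, Q a' ≠ 0 → Q (a' + b') ≠ 0 →
      InB Q W M (a' + b') := by
    intro a' ha' b' hb' hQa' hsum
    by_cases hb'0 : b' = 0
    · rw [hb'0, add_zero]; exact inB_side hQ hW hgen h2 hm hHM (Or.inl ha') hQa'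
    obtain ⟨b₀, hb₀, hb₀0, h⟩ := inB_reach hQ hW hgen h2 hm hHM hkm hplane ha hb ha0 hb0 hz ha' hQa'
    have ha0' : a' ≠ 0 := fun h => hQa' (by rw [h, QuadraticMap.map_zero])
    exact inB_big_step hQ hW hgen h2 hm hHM hkm ha' ha' hb₀ hb' ha0' ha0' hb₀0 hb'0 1 one_ne_zero
      (by ring) hsum h
  set a' := cmp hQ hW z with ha'def
  have ha' : a' ∈ W := cmp_mem hQ hW z
  set b' := z - a' with hb'def
  have hb' : b' ∈ (polB Q).orthogonal W := sub_cmp_mem hQ hW z
  have hsplit : z = a' + b' := by rw [hb'def]; abel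
  by_cases ha'0 : a' = 0
  · rw [hsplit, ha'0, zero_add]
    exact inB_side hQ hW hgen h2 hm hHM (Or.inr hb') (by rwa [hsplit, ha'0, zero_add] at hz0)
  by_cases hb'0 : b' = 0
  · rw [hsplit, hb'0, add_zero]
    exact inB_side hQ hW hgen h2 hm hHM (Or.inl ha') (by rwa [hsplit, hb'0, add_zero] at hz0)
  by_cases hQa' : Q a' ≠ 0
  · rw [hsplit]; exact hns a' ha' b' hb' hQa' (by rwa [← hsplit])
  push Not at hQa'
  -- reduce to the previous case by a reflection in the block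
  suffices h : ∃ a₁ ∈ W, ∃ b₁ ∈ (polB Q).orthogonal W, Q a₁ ≠ 0 ∧ Q (a₁ + b₁) ≠ 0 ∧
      Q (a' - ((Q (a₁ + b₁))⁻¹ * polB Q z (a₁ + b₁)) • a₁) ≠ 0 by
    obtain ⟨a₁, ha₁, b₁, hb₁, hQ₁, hv0, hnew⟩ := h
    have hv := hns a₁ ha₁ b₁ hb₁ hQ₁ hv0
    set s := (Q (a₁ + b₁))⁻¹ * polB Q z (a₁ + b₁) with hs
    have h2' : (refl Q (a₁ + b₁)).1 z = (a' - s • a₁) + (b' - s • b₁) := by
      rw [refl_apply, ← hs, smul_add, hsplit]; abel
    have h3 := hns _ (sub_mem ha' (W.smul_mem _ ha₁)) _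
      (sub_mem hb' (Submodule.smul_mem _ _ hb₁)) hnew (by rw [← h2', orth_qmap]; exact hz0)
    rw [← h2'] at h3
    have hs3 := sub_mem hb' (Submodule.smul_mem _ s hb₁)
    rw [h2'] at h3
    have h4 := inB_refl hQ hW hgen h2 hm hHM hkm ha₁ hb₁ (sub_mem ha' (W.smul_mem s ha₁)) hs3 hv h3
      (Or.inl hQ₁)
    rw [← h2'] at h4
    rwa [← orth_mul_apply, refl_sq, orth_one_apply] at h4
  have hf : ∀ a₁ ∈ W, ∀ b₁ ∈ (polB Q).orthogonal W,
      polB Q z (a₁ + b₁) = polB Q a' a₁ + polB Q b' b₁ := by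
    intro a₁ ha₁ b₁ hb₁
    rw [hsplit]
    simp [polB_side ha' hb₁, polB_side' hb' ha₁]
  by_cases ht : ∃ t : F, t ≠ 0 ∧ t ≠ 1
  · obtain ⟨t, ht0, ht1⟩ := ht
    obtain ⟨⟨e, he⟩, hep⟩ := exists_hypPair (restrict_nondeg hW) (c := ⟨a', ha'⟩)
      (by simpa using hQa') (by simpa using ha'0)
    have hQe : Q e = 0 := by simpa using hep.right
    have hae : polB Q a' e = 1 := by
      have := hep.pair
      rwa [polB_restrict] at this
    obtain ⟨b₁, hb₁, hb₁f, hb₁Q, -⟩ := exists_big_pair hQ hW h2 hm hb' hb'0 (t - 1) 0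
      (Or.inl (sub_ne_zero.mpr ht1))
    have hQa₁ : Q (e + a') = 1 := by rw [qmap_add, hQe, hQa', polB_comm, hae]; ring
    refine ⟨e + a', add_mem he ha', b₁, hb₁, by rw [hQa₁]; exact one_ne_zero, ?_, ?_⟩
    · rw [qmap_add, hQa₁, hb₁Q, polB_side (add_mem he ha') hb₁]
      simp
    · rw [hf _ (add_mem he ha') _ hb₁, qmap_add (e + a') b₁, hQa₁, hb₁Q,
        polB_side (add_mem he ha') hb₁, polB_comm b', hb₁f, map_add, hae, polB_self, hQa']
      rw [qmap_sub, qmap_smul, hQa₁, hQa', map_smul, map_add, hae, polB_self, hQa']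
      simp
      intro h
      have : t * (t - 1) = 0 := by linear_combination h
      rcases mul_eq_zero.mp this with h | h
      · exact ht0 h
      · exact ht1 (sub_eq_zero.mp h)
  · have hk := hplane (fun ⟨t, h0, h1, _⟩ => ht ⟨t, h0, h1⟩) a' ha' ha'0 hQa'
    obtain ⟨a₁, ha₁, hQ₁, hperp⟩ := exists_nonsing_perp hQ hW hk a'
    obtain ⟨b₁, hb₁, hb₁f, hb₁Q, -⟩ := exists_big_pair hQ hW h2 hm hb' hb'0 1 0
      (Or.inl one_ne_zero)
    refine ⟨a₁, ha₁, b₁, hb₁, hQ₁, ?_, ?_⟩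
    · rw [qmap_add, hb₁Q, polB_side ha₁ hb₁]
      simpa using hQ₁
    · rw [hf _ ha₁ _ hb₁, qmap_add a₁ b₁, hb₁Q, polB_side ha₁ hb₁, polB_comm b', hb₁f,
        polB_comm a', hperp]
      rw [qmap_sub, qmap_smul, hQa', map_smul, polB_comm a', hperp]
      simp [hQ₁]

lemma commutator_le_of_seed {a b : V} (ha : a ∈ W) (hb : b ∈ (polB Q).orthogonal W) (ha0 : a ≠ 0)
    (hb0 : b ≠ 0) (hz : InB Q W M (a + b)) : commutator (orthGroup Q) ≤ M := by
  refine commutator_le_of_sameCls hQ hgen M fun x y hxy => ?_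
  have hx := inB_all hQ hW hgen h2 hm hHM hkm hplane ha hb ha0 hb0 hz x hxy.1
  have hy := inB_all hQ hW hgen h2 hm hHM hkm hplane ha hb ha0 hb0 hz y hxy.2.1
  obtain ⟨w, hw, -, -, hwQ⟩ := exists_one hQ hW h2 hm x hxy.1
  have hxw : SameCls Q x w := sameCls_of_eq hxy.1 hwQ
  have h1 := inB_pair hQ hW hgen h2 hm hHM hx (Or.inr hw) hxw
  have h3 := inB_pair hQ hW hgen h2 hm hHM hy (Or.inr hw) (hxy.symm.trans hxw)
  have h4 := mul_mem h1 (inv_mem h3)
  rwa [mul_inv_rev, refl_inv, refl_inv, mul_assoc, ← mul_assoc (refl Q w), refl_sq, one_mul] at h4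

omit hHM hkm hplane in
/-- A sum of two vectors of the given class from two orthogonal parts. -/
lemma exists_split {T T' : Submodule F V} (hT : T ⊓ (polB Q).orthogonal T = ⊥)
    (hT' : T' ⊓ (polB Q).orthogonal T' = ⊥) (horth : ∀ x ∈ T, ∀ y ∈ T', polB Q x y = 0)
    (hne : T' ≠ ⊥) (h : (2 ≤ Module.finrank F T ∧ 2 ≤ Module.finrank F T') ∨
      3 ≤ Module.finrank F T) {δ : F} (hδ : δ ≠ 0) :
    ∃ x ∈ T, ∃ y ∈ T', x ≠ 0 ∧ y ≠ 0 ∧ Q (x + y) = δ := by
  have hrad : Module.finrank F ↥(T ⊓ (polB Q).orthogonal T) = 0 := by rw [hT, finrank_bot]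
  have hsum : ∀ x ∈ T, ∀ y ∈ T', Q (x + y) = Q x + Q y := fun x hx y hy => by
    rw [qmap_add, horth x hx y hy, add_zero]
  rcases h with ⟨h3, h4⟩ | h3
  · obtain ⟨y, hy, hy', hyc⟩ := exists_value' (Q := Q) T' (by rw [hT', finrank_bot]; omega) (-δ)
      (Or.inl (neg_ne_zero.mpr hδ))
    obtain ⟨x, hx, hx', hxc⟩ := exists_value' (Q := Q) T (by omega) (δ + δ)
      (Or.inl (by rw [← two_mul]; exact mul_ne_zero h2 hδ))
    exact ⟨x, hx, y, hy, fun e => hx' (e ▸ zero_mem _), fun e => hy' (e ▸ zero_mem _),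
      by rw [hsum x hx y hy, hxc, hyc]; ring⟩
  · obtain ⟨y, hy, hy0⟩ := Submodule.exists_mem_ne_zero_of_ne_bot hne
    obtain ⟨x, hx, hx', hxc⟩ := exists_value (Q := Q) T (by omega) (δ - Q y)
    exact ⟨x, hx, y, hy, fun e => hx' (e ▸ zero_mem _), hy0, by rw [hsum x hx y hy, hxc]; ring⟩

omit hkm hplane in
/-- An element outside the stabiliser moves a vector of the class of the negation to a mixed
vector. -/
lemma exists_seed (hodd : Odd (Module.finrank F V)) {g : orthGroup Q} (hg : g ∈ M)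
    (hswap : ¬ ∀ x ∈ (polB Q).orthogonal W, g.1 x ∈ W) (hgs : g ∉ orthStab Q W) :
    ∃ a ∈ W, ∃ b ∈ (polB Q).orthogonal W, a ≠ 0 ∧ b ≠ 0 ∧ InB Q W M (a + b) := by
  set W' := (polB Q).orthogonal W with hW'
  have hn2 : 2 ≤ Module.finrank F V := by
    have := finrank_orth_add hQ W; rw [← hW'] at this; omega
  obtain ⟨δ, hδ0, hδ⟩ := sqc_surjective (spinor (negOrth Q))
  set N := negOrth Q with hN
  have hdN : dickson N = Multiplicative.ofAdd 1 := by
    have h1 : dickson N ≠ 1 := fun h => by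
      rw [dickson_eq_one_iff hQ h2, hN, detHom_negOrth, hodd.neg_one_pow] at h
      exact h2 (by
        have := congrArg (fun u : Fˣ => (u : F)) h
        simp at this
        linear_combination -this)
    revert h1
    generalize dickson N = d
    revert d
    decide
  have hNr : ∀ x, Q x ≠ 0 → sqc (Q x) = sqc δ → N * refl Q x ∈ commutator (orthGroup Q) := by
    intro x hx hc
    rw [commutator_eq_invKer hQ hgen hn2, MonoidHom.mem_ker, map_mul, invHom_refl hQ hgen hx,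
      invHom_apply, hdN, ← hδ, hc]
    exact Prod.ext (by show Multiplicative.ofAdd (1 : ZMod 2) * Multiplicative.ofAdd 1 = 1; rfl)
      (sqClass_mul_self _)
  have hNM : ∀ x, x ∈ W ∨ x ∈ W' → Q x ≠ 0 → sqc (Q x) = sqc δ → N * refl Q x ∈ M :=
    fun x hx hx0 hc => hHM ⟨hNr x hx0 hc, mul_mem (mem_orthStab fun y hy => by
      rw [hN, negOrth_apply]; exact neg_mem hy) (refl_mem_orthStab hx)⟩
  have hNc : ∀ h : orthGroup Q, h * N = N * h := fun h => orth_ext fun x => by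
    rw [orth_mul_apply, orth_mul_apply, hN, negOrth_apply, negOrth_apply, map_neg]
  have hNN : N * N = 1 := orth_ext fun x => by
    rw [orth_mul_apply, hN, negOrth_apply, negOrth_apply, neg_neg, orth_one_apply]
  by_cases hmix : ∃ x ∈ W', Q x = δ ∧ g.1 x ∉ W ∧ g.1 x ∉ W'
  · obtain ⟨x, hx, hxQ, hxW, hxW'⟩ := hmix
    have hx0 : Q x ≠ 0 := by rw [hxQ]; exact hδ0
    set a := cmp hQ hW (g.1 x) with hadef
    have ha : a ∈ W := cmp_mem hQ hW _
    set b := g.1 x - a with hbdef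
    have hb : b ∈ W' := sub_cmp_mem hQ hW _
    have hsplit : g.1 x = a + b := by rw [hbdef]; abel
    refine ⟨a, ha, b, hb, fun h => hxW' (by rw [hsplit, h, zero_add]; exact hb),
      fun h => hxW (by rw [hsplit, h, add_zero]; exact ha), ?_⟩
    rw [← hsplit]
    refine ⟨x, Or.inr hx, sameCls_of_eq (by rw [orth_qmap]; exact hx0) (by rw [orth_qmap]), ?_⟩
    have hh := hNM x (Or.inr hx) hx0 (by rw [hxQ])
    have h1 := mul_mem (mul_mem (mul_mem hg hh) (inv_mem hg)) hh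
    have e : g * (N * refl Q x) * g⁻¹ * (N * refl Q x) = refl Q (g.1 x) * refl Q x := by
      rw [← mul_assoc g N, hNc g, show N * g * refl Q x * g⁻¹ = N * (g * refl Q x * g⁻¹) by group,
        refl_conj, mul_assoc, ← mul_assoc (refl Q (g.1 x)) N, hNc, ← mul_assoc, ← mul_assoc,
        hNN, one_mul]
    rwa [e] at h1
  exfalso
  push Not at hmix
  have hside : ∀ x ∈ W', Q x = δ → g.1 x ∈ W ∨ g.1 x ∈ W' := fun x hx hxQ =>
    or_iff_not_imp_left.mpr (hmix x hx hxQ)
  have hzero : ∀ x, x ∈ W → x ∈ W' → x = 0 := fun x h h' => by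
    have : x ∈ W ⊓ W' := ⟨h, h'⟩
    rwa [hW, Submodule.mem_bot] at this
  set T₁ := W' ⊓ W.comap (g.1 : V →ₗ[F] V) with hT₁
  set T₂ := W' ⊓ W'.comap (g.1 : V →ₗ[F] V) with hT₂
  have horth : ∀ x ∈ T₁, ∀ y ∈ T₂, polB Q x y = 0 := fun x hx y hy => by
    rw [← orth_polB_map g]; exact polB_side hx.2 hy.2
  have hperp : ∀ r ∈ W', (∀ x ∈ T₁, polB Q x r = 0) → (∀ x ∈ T₂, polB Q x r = 0) → r = 0 := by
    intro r hr h1 h3
    by_contra hr0
    obtain ⟨x, hx, hxr, hxQ, -⟩ := exists_big_pair hQ hW h2 hm hr hr0 1 δ (Or.inl one_ne_zero)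
    rcases hside x hx hxQ with h | h
    · rw [h1 x ⟨hx, h⟩] at hxr; exact zero_ne_one hxr
    · rw [h3 x ⟨hx, h⟩] at hxr; exact zero_ne_one hxr
  have htop : W' ≤ T₁ ⊔ T₂ := by
    intro y hy
    have hall : W ⊔ (T₁ ⊔ T₂) = ⊤ := by
      refine Submodule.eq_top_of_finrank_eq ?_
      have h1 := finrank_orth_add hQ (W ⊔ (T₁ ⊔ T₂))
      have h0 : (polB Q).orthogonal (W ⊔ (T₁ ⊔ T₂)) = ⊥ := by
        rw [eq_bot_iff]
        intro r hr
        rw [Submodule.mem_bot]
        exact hperp r (fun w hw => hr w (Submodule.mem_sup_left hw))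
          (fun x hx => hr x (Submodule.mem_sup_right (Submodule.mem_sup_left hx)))
          (fun x hx => hr x (Submodule.mem_sup_right (Submodule.mem_sup_right hx)))
      rw [h0, finrank_bot] at h1
      omega
    obtain ⟨w, hw, t, ht, rfl⟩ := Submodule.mem_sup.mp (hall ▸ Submodule.mem_top : y ∈ W ⊔ (T₁ ⊔ T₂))
    have ht' : t ∈ W' := (sup_le inf_le_left inf_le_left : T₁ ⊔ T₂ ≤ W') ht
    rw [hzero w hw (by simpa using sub_mem hy ht'), zero_add]
    exact ht
  have hT₁0 : T₁ ≠ ⊥ := by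
    intro e
    refine hgs (orthStab_of_orthStab_orth hQ (mem_orthStab fun x hx => ?_))
    have := htop hx
    rw [e, bot_sup_eq] at this
    exact this.2
  have hT₂0 : T₂ ≠ ⊥ := by
    intro e
    refine hswap fun x hx => ?_
    have := htop hx
    rw [e, sup_bot_eq] at this
    exact this.2
  have hnd₁ : T₁ ⊓ (polB Q).orthogonal T₁ = ⊥ := by
    rw [eq_bot_iff]
    rintro r ⟨hr, hr'⟩
    rw [Submodule.mem_bot]
    exact hperp r hr.1 hr' fun x hx => by rw [polB_comm]; exact horth r hr x hx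
  have hnd₂ : T₂ ⊓ (polB Q).orthogonal T₂ = ⊥ := by
    rw [eq_bot_iff]
    rintro r ⟨hr, hr'⟩
    rw [Submodule.mem_bot]
    exact hperp r hr.1 (fun x hx => horth x hx r hr) hr'
  have hdim : Module.finrank F W' ≤ Module.finrank F T₁ + Module.finrank F T₂ :=
    (Submodule.finrank_mono htop).trans (Submodule.finrank_add_le_finrank_add_finrank _ _)
  obtain ⟨x, hx, y, hy, hx0, hy0, hxy⟩ : ∃ x ∈ T₁, ∃ y ∈ T₂, x ≠ 0 ∧ y ≠ 0 ∧ Q (x + y) = δ := by
    rcases Nat.lt_or_ge (Module.finrank F T₁) 2 with h1 | h1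
    · obtain ⟨y, hy, x, hx, hy0, hx0, he⟩ := exists_split hQ hW hgen h2 hm hnd₂ hnd₁
        (fun x hx y hy => by rw [polB_comm]; exact horth y hy x hx) hT₁0 (Or.inr (by omega)) hδ0
      exact ⟨x, hx, y, hy, hx0, hy0, by rw [add_comm]; exact he⟩
    rcases Nat.lt_or_ge (Module.finrank F T₂) 2 with h3 | h3
    · exact exists_split hQ hW hgen h2 hm hnd₁ hnd₂ horth hT₂0 (Or.inr (by omega)) hδ0
    · exact exists_split hQ hW hgen h2 hm hnd₁ hnd₂ horth hT₂0 (Or.inl ⟨h1, h3⟩) hδ0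
  rcases hside (x + y) (add_mem hx.1 hy.1) hxy with h | h <;> rw [map_add] at h
  · exact hy0 (g.1.injective (by
      rw [map_zero]; exact hzero _ (by simpa using sub_mem h hx.2) hy.2))
  · exact hx0 (g.1.injective (by
      rw [map_zero]; exact hzero _ hx.2 (by simpa using sub_mem h hy.2)))

omit hHM in
/-- Maximality with a complement of dimension four or five, or more, in odd dimension. -/
theorem nondeg_stab_maximal_odd (hodd : Odd (Module.finrank F V)) (hne : W ≠ ⊥)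
    (hswap : ∀ g ∈ commutator (orthGroup Q), ¬ ∀ x ∈ (polB Q).orthogonal W, g.1 x ∈ W) :
    orthStab Q W ⊓ commutator (orthGroup Q) < commutator (orthGroup Q) ∧
    ∀ M : Subgroup (orthGroup Q), orthStab Q W ⊓ commutator (orthGroup Q) ≤ M →
      M ≤ commutator (orthGroup Q) →
      M = orthStab Q W ⊓ commutator (orthGroup Q) ∨ M = commutator (orthGroup Q) := by
  refine ⟨lt_of_le_of_ne inf_le_right fun heq => ?_, fun M hHM hMC => ?_⟩
  · obtain ⟨a, ha, ha0⟩ := Submodule.exists_mem_ne_zero_of_ne_bot hne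
    obtain ⟨b₁, hb₁, hb₁n, -, -⟩ := exists_one hQ hW h2 hm a (one_ne_zero (α := F))
    obtain ⟨b, hb, hbb, hbQ, hbout⟩ := exists_big_pair hQ hW h2 hm hb₁
      (fun h => hb₁n (h ▸ zero_mem _)) 1 (1 - Q a) (Or.inl one_ne_zero)
    have hb0 : b ≠ 0 := fun h => hbout (h ▸ zero_mem _)
    have hx1 : Q (a + b) = 1 := by rw [qmap_add, hbQ, polB_side ha hb]; ring
    have hx0 : Q (a + b) ≠ 0 := by rw [hx1]; exact one_ne_zero
    obtain ⟨w, hw, hwb, hwQ, hwspan⟩ := exists_big_pair hQ hW h2 hm hb hb0 1 1 (Or.inl one_ne_zero)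
    obtain ⟨y, hy, -, hyw, hyQ⟩ := exists_one hQ hW h2 hm w (one_ne_zero (α := F))
    have hmem : refl Q (a + b) * refl Q y ∈ commutator (orthGroup Q) :=
      refl_mul_refl_mem_commutator hQ hgen (by have := finrank_orth_add hQ W; omega) hx0
        (by rw [hyQ]; exact one_ne_zero) (by rw [hx1, hyQ])
    rw [← heq] at hmem
    have e : (refl Q (a + b) * refl Q y).1 w = -a + (w - b) := by
      rw [orth_mul_apply, refl_fix (v := y) (x := w) (by rw [polB_comm]; exact hyw), refl_apply, hx1, map_add,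
        polB_side' hw ha, hwb, zero_add, inv_one, one_mul, one_smul]
      abel
    rcases orthStab_side hQ hmem.1 (Or.inr hw) with h | h <;> rw [e] at h
    · have h1 : w - b ∈ W ⊓ (polB Q).orthogonal W :=
        ⟨by simpa using sub_mem h (neg_mem ha), sub_mem hw hb⟩
      rw [hW, Submodule.mem_bot, sub_eq_zero] at h1
      exact hwspan (by rw [h1]; exact Submodule.mem_span_singleton_self b)
    · have h1 : -a ∈ W ⊓ (polB Q).orthogonal W :=
        ⟨neg_mem ha, by simpa using sub_mem h (sub_mem hw hb)⟩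
      rw [hW, Submodule.mem_bot, neg_eq_zero] at h1
      exact ha0 h1
  · by_cases hsub : M ≤ orthStab Q W
    · exact Or.inl (le_antisymm (le_inf hsub hMC) hHM)
    · obtain ⟨g, hg, hgs⟩ := Set.not_subset.mp hsub
      have hHM' : commutator (orthGroup Q) ⊓ orthStab Q W ≤ M := by rwa [inf_comm]
      obtain ⟨a, ha, b, hb, ha0, hb0, hz⟩ :=
        exists_seed hQ hW hgen h2 hm hHM' hodd hg (hswap g (hMC hg)) hgs
      exact Or.inr (le_antisymm hMC
        (commutator_le_of_seed hQ hW hgen h2 hm hHM' hkm hplane ha hb ha0 hb0 hz))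

end Low
end H45
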