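import Mathlib
import Cfsg.Agent.H45.NondegFinal
import Cfsg.Agent.H45.NondegSeven

/-!
# Stabilisers of even-dimensional non-degenerate subspaces in odd dimension seven or more
-/

set_option autoImplicit false
set_option linter.unusedSectionVars false

namespace H45
namespace Low

open H43
open scoped Matrix

variable {F : Type*} [Field F]

section

variable {V : Type*} [AddCommGroup V] [Module F V] [FiniteDimensional F V] {Q : QuadraticForm F V}

lemma nondeg_stab_maximal_even [Fintype F] (hQ : (polB Q).Nondegenerate) (h2 : (2 : F) ≠ 0)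
    {W : Submodule F V} (hW : W ⊓ (polB Q).orthogonal W = ⊥) (hn : 7 ≤ Module.finrank F V)
    (hodd : Odd (Module.finrank F V)) (hev : Even (Module.finrank F W)) (hW0 : W ≠ ⊥)
    (hplane : Fintype.card F ≤ 3 → Module.finrank F W = 2 → ∀ a ∈ W, a ≠ 0 → Q a ≠ 0) :
    orthStab Q W ⊓ commutator (orthGroup Q) < commutator (orthGroup Q) ∧
    ∀ M : Subgroup (orthGroup Q), orthStab Q W ⊓ commutator (orthGroup Q) ≤ M →
      M ≤ commutator (orthGroup Q) →
      M = orthStab Q W ⊓ commutator (orthGroup Q) ∨ M = commutator (orthGroup Q) := by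
  have hgen : ReflGenerates F V := H43.reflGenerates_of_card (Or.inr (by omega))
  have hfin := finrank_orth_add hQ W
  have hWW : ((polB Q).orthogonal ((polB Q).orthogonal W)) = W :=
    LinearMap.BilinForm.orthogonal_orthogonal hQ (polB_isRefl Q) W
  obtain ⟨j, hj⟩ := hev
  obtain ⟨i, hi⟩ := id hodd
  -- a larger space does not map into a smaller one
  have hswap : ∀ U U' : Submodule F V, Module.finrank F U < Module.finrank F U' →
      ∀ g : orthGroup Q, ¬ ∀ x ∈ U', g.1 x ∈ U := by
    intro U U' hlt g hg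
    have hle : U'.map (g.1 : V →ₗ[F] V) ≤ U := by
      rintro _ ⟨x, hx, rfl⟩
      exact hg x hx
    have h1 := Submodule.finrank_mono hle
    rw [LinearEquiv.finrank_map_eq] at h1
    omega
  by_cases hd : Module.finrank F W ≤ Module.finrank F ((polB Q).orthogonal W)
  · refine nondeg_stab_maximal_odd hQ hW hgen h2 (by omega) (Or.inl (by omega))
      (fun hsmall a ha ha0 hQa => ?_) hodd hW0 (fun g _ => hswap _ _ (by omega) g)
    have hk2 := two_le_of_singular hW ha ha0 hQa
    by_contra h3
    exact hplane (card_le_three_of_no_elt hsmall) (by omega) a ha ha0 hQa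
  · have hW' : (polB Q).orthogonal W ⊓ (polB Q).orthogonal ((polB Q).orthogonal W) = ⊥ := by
      rw [hWW, inf_comm, hW]
    have hW'0 : (polB Q).orthogonal W ≠ ⊥ := fun h => by rw [h, finrank_bot] at hfin; omega
    have := nondeg_stab_maximal_odd hQ hW' hgen h2 (by rw [hWW]; omega)
      (by
        rcases Nat.lt_or_ge (Module.finrank F ((polB Q).orthogonal W)) 3 with h | h
        · exact Or.inl (by rw [hWW]; omega)
        · exact Or.inr h)
      (fun _ a ha ha0 hQa => by have := two_le_of_singular hW' ha ha0 hQa; omega) hodd hW'0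
      (fun g _ => by rw [hWW]; exact hswap _ _ (by omega) g)
    rwa [orthStab_orth_eq hQ W] at this

end

/-- The criterion in the language of matrices. -/
theorem evenSubspaceStabilizer_maximal {ι : Type} [Fintype ι] [DecidableEq ι] [Fintype F]
    (h2 : (2 : F) ≠ 0) (hn : 7 ≤ Fintype.card ι) (hodd : Odd (Fintype.card ι))
    (q : QuadraticForm F (ι → F)) (hq : (polB q).Nondegenerate)
    (W : Submodule F (ι → F)) (hW0 : W ≠ ⊥) (hev : Even (Module.finrank F W))
    (hW : Cfsg.Geo.IsNondegenerateOn (QuadraticMap.polar q) W)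
    (hplane : Fintype.card F ≤ 3 → Module.finrank F W = 2 → ¬ Cfsg.Geo.IsPlusTypeOn (⇑q) W) :
    Cfsg.Geo.IsMaximalIn (Cfsg.Geo.omegaGL ⇑q)
      (Cfsg.Geo.subspaceStabilizer W ⊓ Cfsg.Geo.omegaGL ⇑q) := by
  refine isMaximalIn_of_orth q _ (orthStab q W)
    (fun g _ => toGL_mem_subspaceStabilizer_iff q g W)
    (nondeg_stab_maximal_even hq h2 (orth_inf_eq_bot_of_nondegenerateOn hW)
      (by rw [Module.finrank_pi]; exact hn) (by rw [Module.finrank_pi]; exact hodd) hev hW0
      fun hc hk a ha ha0 hQa => ?_)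
  refine hplane hc hk ⟨Submodule.span F {a}, (Submodule.span_singleton_le_iff_mem _ _).mpr ha,
    ?_, by rw [finrank_span_singleton ha0, hk]⟩
  intro w hw
  obtain ⟨c, rfl⟩ := Submodule.mem_span_singleton.mp hw
  rw [qmap_smul, hQa, mul_zero]

end Low
end H45
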