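import Cfsg.Agent.H93.Fi22Order
import Cfsg.Agent.H96.Fi22O7
import Cfsg.Agent.H45.O7CoverData

/-!
A perfect triple cover of `PΩ₇(3)`: monomial lifts of the generators satisfy the relators of the
nested coset tables up to scalars.
-/

set_option autoImplicit false
set_option maxRecDepth 100000

namespace H45.O7

open H93 H93.Coset

/-- The image of a point under a generator. -/
def step (g n : ℕ) : ℕ := Nat.land (Nat.shiftRight (packs.getD g 0) (11 * n)) 2047

/-- A scalar applied to a point. -/
def shift (c n : ℕ) : ℕ := 3 * (n / 3) + (n % 3 + c) % 3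

/-- The generators are commuting-with-scalars involutions. -/
noncomputable def genOK : Bool :=
  allRange 0 8 fun g => allRange 0 1134 fun n =>
    Nat.blt (step g n) 1134 && Nat.beq (step g (step g n)) n &&
      Nat.beq (step g (shift 1 n)) (shift 1 (step g n))

theorem gen_ok : genOK = true := by decide +kernel

/-- Every relator acts as its scalar. -/
noncomputable def relsOK : Bool :=
  rels.all fun r => allRange 0 1134 fun n => walk step r.1 n fun e => Nat.beq e (shift r.2 n)

theorem rels_ok : relsOK = true := by decide +kernel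

theorem gen_spec {g n : ℕ} (hg : g < 8) (hn : n < 1134) :
    step g n < 1134 ∧ step g (step g n) = n ∧ step g (shift 1 n) = shift 1 (step g n) := by
  have h := allRange_spec (allRange_spec gen_ok g (Nat.zero_le _) (by omega)) n (Nat.zero_le _)
    (by omega)
  simp only [Bool.and_eq_true, Nat.blt_eq] at h
  exact ⟨h.1.1, Nat.eq_of_beq_eq_true h.1.2, Nat.eq_of_beq_eq_true h.2⟩

/-- The permutations of the labelled points. -/
abbrev Pm : Type := Equiv.Perm (Fin 1134)

/-- The scalar permutation. -/
def sig : Pm where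
  toFun n := ⟨shift 1 n.val, by have := n.isLt; unfold shift; omega⟩
  invFun n := ⟨shift 2 n.val, by have := n.isLt; unfold shift; omega⟩
  left_inv n := Fin.ext (by show shift 2 (shift 1 n.val) = n.val; unfold shift; omega)
  right_inv n := Fin.ext (by show shift 1 (shift 2 n.val) = n.val; unfold shift; omega)

/-- The monomial lift of a generator. -/
def gp (g : ℕ) : Pm :=
  if hg : g < 8 then
    { toFun := fun n => ⟨step g n.val, (gen_spec hg n.isLt).1⟩
      invFun := fun n => ⟨step g n.val, (gen_spec hg n.isLt).1⟩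
      left_inv := fun n => Fin.ext (gen_spec hg n.isLt).2.1
      right_inv := fun n => Fin.ext (gen_spec hg n.isLt).2.1 }
  else 1

theorem gp_apply {g : ℕ} (hg : g < 8) (n : Fin 1134) : ((gp g n : Fin 1134) : ℕ) = step g n.val := by
  rw [gp, dif_pos hg]; rfl

theorem gp_sq {g : ℕ} (hg : g < 8) : gp g * gp g = 1 := Equiv.ext fun n => Fin.ext (by
  rw [Equiv.Perm.mul_apply, gp_apply hg, gp_apply hg]
  exact (gen_spec hg n.isLt).2.1)

theorem gp_comm {g : ℕ} (hg : g < 8) : Commute (gp g) sig := Equiv.ext fun n => Fin.ext (by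
  rw [Equiv.Perm.mul_apply, Equiv.Perm.mul_apply, gp_apply hg]
  show step g (shift 1 n.val) = shift 1 (gp g n : Fin 1134).val
  rw [gp_apply hg]
  exact (gen_spec hg n.isLt).2.2)

theorem ev_gp : ∀ (w : List ℕ), (∀ g ∈ w, g < 8) → ∀ n : Fin 1134,
    ((ev gp w n : Fin 1134) : ℕ) = pathEnd step w n.val := by
  intro w
  induction w with
  | nil => intro _ n; rfl
  | cons g w ih =>
    intro hw n
    rw [ev, Equiv.Perm.mul_apply, ih (fun a ha => hw a (by simp [ha])), gp_apply (hw g (by simp))]
    rfl

theorem sig_pow (c : ℕ) (n : Fin 1134) : ((sig ^ c) n).val = shift c n.val := by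
  induction c with
  | zero => show n.val = shift 0 n.val; unfold shift; omega
  | succ c ih =>
    rw [pow_succ', Equiv.Perm.mul_apply]
    show shift 1 ((sig ^ c) n).val = _
    rw [ih]; unfold shift; omega

/-- The ambient group of pairs. -/
abbrev Amb : Type := Pm × Cfsg.Spor.Fi22

/-- The pairs of generators. -/
noncomputable def gg (g : ℕ) : Amb := if g < 8 then (gp g, Fi22Order.gen' g) else 1

/-- The scalar pair. -/
noncomputable def zz : Amb := (sig, 1)

/-- The group generated by the pairs. -/
noncomputable def Cov : Subgroup Amb := Subgroup.closure (gg '' {g | g < 8})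

theorem gg_mem (g : ℕ) : gg g ∈ Cov := by
  by_cases hg : g < 8
  · exact Subgroup.subset_closure ⟨g, hg, rfl⟩
  · rw [gg, if_neg hg]; exact one_mem _

theorem ev_gg : ∀ (w : List ℕ), (∀ g ∈ w, g < 8) →
    ev gg w = (ev gp w, ev Fi22Order.gen' w) ∧ ev gg w ∈ Cov := by
  intro w
  induction w with
  | nil => intro _; exact ⟨rfl, one_mem _⟩
  | cons g w ih =>
    intro hw
    obtain ⟨h1, h2⟩ := ih fun a ha => hw a (by simp [ha])
    refine ⟨?_, mul_mem h2 (gg_mem g)⟩
    rw [ev, ev, ev, h1, gg, if_pos (hw g (by simp))]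
    rfl

/-- A relator is listed, uses the generators and holds in `Fi22`. -/
def listed (w : List ℕ) : Bool :=
  w.all (fun g => decide (g < 8)) && Fi22Order.known w && (rels.map (·.1)).contains w

theorem listed_spec {w : List ℕ} (h : listed w = true) : ∃ c, ev gg w = zz ^ c := by
  simp only [listed, Bool.and_eq_true, List.all_eq_true, decide_eq_true_eq,
    List.contains_iff_mem, List.mem_map] at h
  obtain ⟨⟨hl, hk⟩, ⟨w', c⟩, hr, rfl⟩ := h
  refine ⟨c, ?_⟩
  rw [(ev_gg w' hl).1, Fi22Order.known_spec hk, zz, Prod.pow_mk, one_pow]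
  refine Prod.ext (Equiv.ext fun n => Fin.ext ?_) rfl
  have hc := allRange_spec (List.all_eq_true.mp rels_ok (w', c) hr) n.val (Nat.zero_le _)
    (by have := n.isLt; omega)
  rw [walk_eq] at hc
  show ((ev gp w' n : Fin 1134) : ℕ) = _
  rw [ev_gp w' hl, sig_pow]
  exact Nat.eq_of_beq_eq_true hc

/-- The spider relator. -/
def spider : List ℕ := expand ([6, 4, 1, 3, 2, 1, 5, 0, 1], 10)

theorem spider_ok : (spider.all (fun g => decide (g < 8)) && Fi22Order.known spider &&
    rels.contains (spider, 1)) = true := by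
  decide +kernel

theorem zz_mem : zz ∈ Cov := by
  have h := spider_ok
  simp only [Bool.and_eq_true, List.all_eq_true, decide_eq_true_eq, List.contains_iff_mem] at h
  obtain ⟨⟨hl, hk⟩, hr⟩ := h
  have e : ev gg spider = zz := by
    rw [(ev_gg spider hl).1, Fi22Order.known_spec hk, zz]
    refine Prod.ext (Equiv.ext fun n => Fin.ext ?_) rfl
    have hc := allRange_spec (List.all_eq_true.mp rels_ok (spider, 1) hr) n.val (Nat.zero_le _)
      (by have := n.isLt; omega)
    rw [walk_eq] at hc
    show ((ev gp spider n : Fin 1134) : ℕ) = _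
    rw [ev_gp spider hl]
    exact Nat.eq_of_beq_eq_true hc
  exact e ▸ (ev_gg spider hl).2

/-- The generators inside the cover. -/
noncomputable def cg (g : ℕ) : Cov := ⟨gg g, gg_mem g⟩

/-- The scalar inside the cover. -/
noncomputable def cz : Cov := ⟨zz, zz_mem⟩

theorem cg_closure : Subgroup.closure (cg '' {g | g < 8}) = ⊤ := by
  apply Subgroup.map_injective Cov.subtype_injective
  rw [MonoidHom.map_closure, ← MonoidHom.range_eq_map, Subgroup.range_subtype, ← Set.image_comp]
  rfl

theorem cg_sq {g : ℕ} (hg : g < 8) : cg g * cg g = 1 := Subtype.ext (by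
  show gg g * gg g = 1
  rw [gg, if_pos hg]
  exact Prod.ext (gp_sq hg) (Fi22Order.inv' (by omega)))

theorem cz_central : cz ∈ Subgroup.center Cov := by
  rw [Subgroup.mem_center_iff]
  intro a
  have h : a ∈ Subgroup.centralizer {cz} := by
    refine (show (⊤ : Subgroup Cov) ≤ _ from ?_) (Subgroup.mem_top a)
    rw [← cg_closure, Subgroup.closure_le]
    rintro _ ⟨g, hg, rfl⟩
    rw [SetLike.mem_coe, Subgroup.mem_centralizer_iff]
    rintro y (rfl : y = cz)
    have hg' : g < 8 := hg
    refine Subtype.ext ?_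
    show zz * gg g = gg g * zz
    rw [gg, if_pos hg', zz]
    exact Prod.ext (gp_comm hg').eq.symm (by simp)
  exact (Subgroup.mem_centralizer_iff.mp h cz rfl).symm

theorem cev : ∀ w : List ℕ, ((ev cg w : Cov) : Amb) = ev gg w := by
  intro w
  induction w with
  | nil => rfl
  | cons g w ih => rw [ev, ev, Subgroup.coe_mul, ih]; rfl

theorem cz_cube : cz ^ 3 = 1 := Subtype.ext (Prod.ext (Equiv.ext fun n => Fin.ext (by
  show ((sig ^ 3) n).val = n.val
  rw [sig_pow]; unfold shift; omega)) (one_pow _))

/-- The cover modulo scalars is no larger than the orthogonal group. -/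
theorem card_cov_le : Finite Cov ∧ Nat.card Cov ≤ 3 * 4585351680 := by
  haveI := Fi22Order.card_le.1
  haveI : Finite Cov := inferInstance
  haveI : (Subgroup.zpowers cz).Normal := ⟨fun a ha b => by
    rw [Subgroup.mem_center_iff.mp ((Subgroup.zpowers_le.2 cz_central) ha) b, mul_inv_cancel_right]
    exact ha⟩
  let q := QuotientGroup.mk' (Subgroup.zpowers cz)
  let gen : ℕ → Cov ⧸ Subgroup.zpowers cz := fun g => q (cg g)
  have hev : ∀ w, ev gen w = q (ev cg w) := by
    intro w
    induction w with
    | nil => simp [ev]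
    | cons g w ih => simp [ev, gen, ih]
  have stepQ : ∀ (D : Data), Tables D → D.ng ≤ 8 →
      (D.words.take D.nrel).all listed = true → ∀ {k N : ℕ},
      D.words.drop D.nrel = (List.range k).map (fun g => [g]) →
      Nat.card (Subgroup.closure (gen '' {g | g < k})) ≤ N →
      Nat.card (Subgroup.closure (gen '' {g | g < D.ng})) ≤ D.n * N := by
    intro D ht hng hr k N hs hN
    obtain ⟨-, h2⟩ := card_le_of_table (gen := gen) ht
      (fun g hg => by
        show q (cg g) * q (cg g) = 1
        rw [← map_mul, cg_sq (lt_of_lt_of_le hg hng), map_one])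
      (fun w hw => by
        obtain ⟨c, hc⟩ := listed_spec (List.all_eq_true.mp hr w hw)
        rw [hev, show ev cg w = cz ^ c from Subtype.ext (by rw [cev, hc]; rfl)]
        exact (QuotientGroup.eq_one_iff _).2 (pow_mem (Subgroup.mem_zpowers cz) c))
      (L := Subgroup.closure (gen '' {g | g < k})) (by
        intro w hw
        rw [hs, List.mem_map] at hw
        obtain ⟨g, hg, rfl⟩ := hw
        have h3 : gen g ∈ Subgroup.closure (gen '' {g | g < k}) :=
          Subgroup.subset_closure ⟨g, List.mem_range.mp hg, rfl⟩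
        simpa [ev] using h3)
    exact h2.trans (Nat.mul_le_mul le_rfl hN)
  have h0 : Nat.card (Subgroup.closure (gen '' {g | g < 0})) ≤ 1 := by
    have hb : Subgroup.closure (gen '' {g | g < 0}) = ⊥ := by simp
    rw [hb, Subgroup.card_bot]
  have h5 := stepQ Fi22L5.data Fi22L5.tables (by decide) (by decide +kernel) (k := 0)
    (by decide +kernel) h0
  have h6 := stepQ Fi22L6.data Fi22L6.tables (by decide) (by decide +kernel) (k := 5)
    (by decide +kernel) h5
  have h7 := stepQ Fi22L7.data Fi22L7.tables (by decide) (by decide +kernel) (k := 6)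
    (by decide +kernel) h6
  have h8 := stepQ Fi22L8.data Fi22L8.tables (by decide) (by decide +kernel) (k := 7)
    (by decide +kernel) h7
  have h8' : Nat.card (Subgroup.closure (gen '' {g | g < 8})) ≤ 4585351680 := h8
  have htop : Subgroup.closure (gen '' {g | g < 8}) = ⊤ := by
    rw [show gen '' {g | g < 8} = q '' (cg '' {g | g < 8}) from (Set.image_image q cg _).symm,
      ← MonoidHom.map_closure, cg_closure,
      Subgroup.map_top_of_surjective _ (QuotientGroup.mk'_surjective _)]
  rw [htop, Subgroup.card_top] at h8'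
  refine ⟨inferInstance, ?_⟩
  rw [Subgroup.card_eq_card_quotient_mul_card_subgroup (Subgroup.zpowers cz), mul_comm]
  refine Nat.mul_le_mul ?_ h8'
  rw [Nat.card_zpowers]
  exact Nat.le_of_dvd (by norm_num) (orderOf_dvd_of_pow_eq_one cz_cube)

/-- The orthogonal group inside `Fi22`. -/
noncomputable abbrev HS' : Subgroup Cfsg.Spor.Fi22 := H96.Fi22O7.HS

/-- A perfect triple cover of `PΩ₇(3)`. -/
theorem exists_triple_cover :
    ∃ (S : Type) (_ : Group S) (_ : Finite S)
      (ψ : S →* Cfsg.POmega (ZMod 3) (Cfsg.quadFormOdd 3 (ZMod 3))),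
      Function.Surjective ψ ∧ ψ.ker ≤ Subgroup.center S ∧ commutator S = ⊤ ∧
        Nat.card ψ.ker = 3 := by
  obtain ⟨e⟩ := H96.Fi22O7.main
  haveI := Fi22Order.card_le.1
  haveI : Finite Cov := inferInstance
  have himg : Cov.map (MonoidHom.snd Pm Cfsg.Spor.Fi22) = HS' := by
    rw [Cov, MonoidHom.map_closure, HS', H96.Fi22O7.hs_eq]
    congr 1
    ext x
    constructor
    · rintro ⟨_, ⟨g, hg, rfl⟩, rfl⟩
      have hg' : g < 8 := hg
      show (gg g).2 ∈ _
      rw [gg, if_pos hg']
      obtain ⟨k, hk⟩ : ∃ k : Fin 8, Fi22Order.num.getD g 0 = k.val + 1 :=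
        (show ∀ j < 8, ∃ k : Fin 8, Fi22Order.num.getD j 0 = k.val + 1 by decide) g hg'
      exact ⟨k, show _ = H93.Fi22Order.gen (Fi22Order.num.getD g 0) by rw [hk]⟩
    · rintro ⟨k, rfl⟩
      obtain ⟨g, hg, hk⟩ : ∃ g < 8, Fi22Order.num.getD g 0 = k.val + 1 := by
        revert k; decide
      refine ⟨_, ⟨g, hg, rfl⟩, ?_⟩
      show (gg g).2 = _
      rw [gg, if_pos hg]
      show H93.Fi22Order.gen (Fi22Order.num.getD g 0) = _
      rw [hk]
  let π : Cov →* HS' := ((MonoidHom.snd Pm Cfsg.Spor.Fi22).comp Cov.subtype).codRestrict HS'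
    fun a => himg ▸ ⟨a.1, a.2, rfl⟩
  have hπ : Function.Surjective π := fun y => by
    have hy := y.2
    obtain ⟨a, ha, hay⟩ := himg.ge hy
    exact ⟨⟨a, ha⟩, Subtype.ext hay⟩
  let ψ := e.toMonoidHom.comp π
  have hψ : Function.Surjective ψ := e.surjective.comp hπ
  have hzk : cz ∈ ψ.ker := by
    rw [MonoidHom.mem_ker]
    show e (π cz) = 1
    rw [show π cz = 1 from Subtype.ext rfl, map_one]
  have horder : orderOf cz = 3 := by
    haveI : Fact (Nat.Prime 3) := ⟨by norm_num⟩
    refine orderOf_eq_prime cz_cube fun h => ?_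
    have h1 := congrArg (fun a : Cov => ((a : Amb).1 ⟨0, by norm_num⟩ : Fin 1134).val) h
    exact absurd h1 (by decide)
  have hle : Subgroup.zpowers cz ≤ ψ.ker := Subgroup.zpowers_le.2 hzk
  have hcardS : Nat.card ↥HS' = 4585351680 := H96.Fi22O7.card_hs
  have hker : ψ.ker = Subgroup.zpowers cz := by
    refine (Subgroup.eq_of_le_of_card_ge hle ?_).symm
    rw [Nat.card_zpowers, horder]
    have h1 := ψ.ker.card_mul_index
    rw [Subgroup.index_ker, MonoidHom.range_eq_top.2 hψ, Subgroup.card_top,
      ← Nat.card_congr e.toEquiv, hcardS] at h1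
    have h2 := card_cov_le.2
    omega
  have hk3 : Nat.card ψ.ker = 3 := by rw [hker, Nat.card_zpowers, horder]
  refine ⟨Cov, inferInstance, inferInstance, ψ, hψ, ?_, ?_, hk3⟩
  · rw [hker]; exact Subgroup.zpowers_le.2 cz_central
  · set D := commutator Cov
    have hD : D.map π = ⊤ := by
      rw [show D = commutator Cov from rfl, map_commutator_eq, MonoidHom.range_eq_top.2 hπ]
      refine eq_top_iff.2 fun y _ => ?_
      have h1 : (y : Cfsg.Spor.Fi22) ∈ Subgroup.map HS'.subtype ⁅(⊤ : Subgroup HS'), (⊤ : Subgroup HS')⁆ := by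
        rw [Subgroup.map_commutator, ← MonoidHom.range_eq_map, Subgroup.range_subtype]
        exact (H96.Fi22O7.hs_perfect).ge y.2
      obtain ⟨d, hd, hdy⟩ := h1
      exact (Subtype.ext hdy : d = y) ▸ hd
    have hsup : D ⊔ ψ.ker = ⊤ := by
      refine eq_top_iff.2 fun a _ => ?_
      obtain ⟨d, hd, hda⟩ := (hD.ge (Subgroup.mem_top (π a)))
      rw [show a = d * (d⁻¹ * a) by group]
      refine mul_mem (Subgroup.mem_sup_left hd) (Subgroup.mem_sup_right ?_)
      rw [MonoidHom.mem_ker]
      show e (π (d⁻¹ * a)) = 1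
      rw [map_mul, map_inv, show π d = π a from hda, inv_mul_cancel, map_one]
    have hidx : D.index ∣ 3 := by
      have h1 := Subgroup.relIndex_dvd_card (H := D) (K := ψ.ker)
      rwa [← Subgroup.relIndex_sup_right, sup_comm, hsup, Subgroup.relIndex_top_right, hk3] at h1
    refine eq_top_iff.2 ?_
    rw [← cg_closure, Subgroup.closure_le]
    rintro _ ⟨g, hg, rfl⟩
    show cg g ∈ D
    have hg2 : cg g ^ 2 = 1 := by rw [pow_two]; exact cg_sq hg
    have h3 : cg g ^ 3 ∈ D := by
      obtain ⟨c, hc⟩ := hidx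
      have h := D.pow_index_mem (cg g)
      rcases (Nat.dvd_prime (by norm_num : Nat.Prime 3)).1 (Dvd.intro c hc.symm) with h1 | h1
      · rw [h1, pow_one] at h; exact pow_mem h 3
      · rwa [h1] at h
    rwa [pow_succ, hg2, one_mul] at h3

end H45.O7
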