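import Cfsg.Prelude.Def_Classical
import Cfsg.Prelude.Def_KGroupFacts
import Mathlib

/-!
Transport of `PΩ₂ₘ₊₁` along a field isomorphism, and of multipliers along isomorphisms between
universes.
-/

set_option autoImplicit false

namespace H45.O7

universe u

/-- The derived groups of isomorphic groups correspond. -/
noncomputable def commutatorEquiv {A B : Type*} [Group A] [Group B] (e : A ≃* B) :
    ↥(commutator A) ≃* ↥(commutator B) :=
  (e.subgroupMap (commutator A)).trans (MulEquiv.subgroupCongr (by
    rw [map_commutator_eq, MonoidHom.range_eq_top.2 e.surjective]; rfl))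

/-- Quotients by centres of isomorphic groups correspond. -/
noncomputable def centreQuotEquiv {A B : Type*} [Group A] [Group B] (e : A ≃* B) :
    A ⧸ Subgroup.center A ≃* B ⧸ Subgroup.center B :=
  QuotientGroup.congr _ _ e (by
    ext b
    simp only [Subgroup.mem_map, Subgroup.mem_center_iff]
    constructor
    · rintro ⟨a, ha, rfl⟩ g
      obtain ⟨g, rfl⟩ := e.surjective g
      show e g * e a = e a * e g
      rw [← map_mul, ha g, map_mul]
    · intro hb
      obtain ⟨a, rfl⟩ := e.surjective b
      exact ⟨a, fun g => e.injective (by rw [map_mul, map_mul, hb]), rfl⟩)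

theorem map_quadFormOdd {F K : Type*} [Field F] [Field K] (e : F ≃+* K) (m : ℕ)
    (v : Unit ⊕ (Fin m ⊕ Fin m) → F) :
    Cfsg.quadFormOdd m K (fun i => e (v i)) = e (Cfsg.quadFormOdd m F v) := by
  simp [Cfsg.quadFormOdd, map_sum]

theorem mem_iso_map {ι : Type} [Fintype ι] [DecidableEq ι] {F K : Type*} [Field F] [Field K]
    (e : F ≃+* K) {f : (ι → F) → F} {f' : (ι → K) → K}
    (hf : ∀ v, f' (fun i => e (v i)) = e (f v)) (g : Matrix.GeneralLinearGroup ι F) :
    Units.map e.mapMatrix.toMonoidHom g ∈ Cfsg.isometryGroup K f' ↔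
      g ∈ Cfsg.isometryGroup F f := by
  have key : ∀ v : ι → F, Matrix.mulVec (e.mapMatrix (g : Matrix ι ι F)) (fun i => e (v i)) =
      fun i => e (Matrix.mulVec (g : Matrix ι ι F) v i) := by
    intro v
    funext i
    simp [Matrix.mulVec, dotProduct, map_sum]
  constructor
  · intro h v z
    show f _ = f v
    apply e.injective
    rw [← hf, ← hf]
    simp only [Units.coeHom_apply]
    rw [← key]
    exact h (fun i => e (v i)) (fun i => e (z i))
  · intro h v z
    obtain ⟨w, rfl⟩ : ∃ w : ι → F, (fun i => e (w i)) = v :=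
      ⟨fun i => e.symm (v i), by simp⟩
    show f' (Matrix.mulVec (e.mapMatrix (g : Matrix ι ι F)) _) = f' _
    rw [key, hf, hf]
    exact congrArg e (h w w)

/-- `PΩ₂ₘ₊₁` depends on the field up to isomorphism only. -/
noncomputable def pomegaFieldEquiv {F K : Type*} [Field F] [Field K] (e : F ≃+* K) (m : ℕ) :
    Cfsg.POmega F (Cfsg.quadFormOdd m F) ≃* Cfsg.POmega K (Cfsg.quadFormOdd m K) :=
  let E := Units.mapEquiv (e.mapMatrix (m := Unit ⊕ (Fin m ⊕ Fin m))).toMulEquiv
  let E1 : ↥(Cfsg.isometryGroup F (Cfsg.quadFormOdd m F)) ≃*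
      ↥(Cfsg.isometryGroup K (Cfsg.quadFormOdd m K)) :=
    (E.subgroupMap _).trans (MulEquiv.subgroupCongr (by
      ext g
      obtain ⟨g, rfl⟩ := E.surjective g
      constructor
      · rintro ⟨a, ha, hga⟩
        rw [← E.injective hga]
        exact (mem_iso_map e (map_quadFormOdd e m) a).2 ha
      · intro hg
        exact ⟨g, (mem_iso_map e (map_quadFormOdd e m) g).1 hg, rfl⟩))
  centreQuotEquiv (commutatorEquiv E1)

/-- A multiplier statement passes to an isomorphic group of another universe. -/
theorem multiplier_transfer {G : Type u} [Group G] {G0 : Type} [Group G0] (e : G ≃* G0) {A : Type}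
    [CommGroup A] (h : Cfsg.HasSchurMultiplier G0 A) : Cfsg.HasSchurMultiplier G A := by
  obtain ⟨⟨Γ, _, _, σ, ⟨h1, h2, h3⟩, ⟨f⟩⟩, huniv⟩ := h
  constructor
  · let u : ULift.{u} Γ ≃* Γ := MulEquiv.ulift
    refine ⟨ULift.{u} Γ, inferInstance, inferInstance,
      e.symm.toMonoidHom.comp (σ.comp u.toMonoidHom), ⟨?_, ?_, ?_⟩, ⟨?_⟩⟩
    · exact e.symm.surjective.comp (h1.comp u.surjective)
    · intro x hx
      have hx' : σ (u x) = 1 := e.symm.injective ((show e.symm (σ (u x)) = 1 from hx).trans (map_one _).symm)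
      exact Subgroup.mem_center_iff.2 fun y => u.injective (by
        rw [map_mul, map_mul]; exact Subgroup.mem_center_iff.1 (h2 hx') (u y))
    · intro x hx
      have hx' : σ (u x) = 1 := e.symm.injective ((show e.symm (σ (u x)) = 1 from hx).trans (map_one _).symm)
      have hm : u.symm (u x) ∈ (commutator Γ).map u.symm.toMonoidHom := ⟨_, h3 hx', rfl⟩
      rw [map_commutator_eq, MonoidHom.range_eq_top.2 u.symm.surjective, MulEquiv.symm_apply_apply]
        at hm
      exact hm
    · refine MulEquiv.trans ?_ f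
      exact ((MulEquiv.subgroupCongr (K := σ.ker.comap u.toMonoidHom) (by
        ext a
        exact ⟨fun h => e.symm.injective ((show e.symm (σ (u a)) = 1 from h).trans (map_one _).symm),
          fun h => (congrArg e.symm (show σ (u a) = 1 from h)).trans (map_one _)⟩)).trans
        (u.subgroupMap _)).trans (MulEquiv.subgroupCongr (Subgroup.map_comap_eq_self_of_surjective
          (f := u.toMonoidHom) u.surjective σ.ker))
  · intro Γ' _ _ τ ⟨t1, t2, t3⟩
    let s : Shrink.{0} Γ' ≃* Γ' := (equivShrink.{0} Γ').symm.mulEquiv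
    haveI : Finite (Shrink.{0} Γ') := Finite.of_equiv _ (equivShrink.{0} Γ')
    obtain ⟨π, hπ⟩ := huniv (Shrink.{0} Γ') (e.toMonoidHom.comp (τ.comp s.toMonoidHom)) ⟨
      e.surjective.comp (t1.comp s.surjective), fun x hx => by
        have hx' : τ (s x) = 1 := e.injective ((show e (τ (s x)) = 1 from hx).trans (map_one _).symm)
        exact Subgroup.mem_center_iff.2 fun y => s.injective (by
          rw [map_mul, map_mul]; exact Subgroup.mem_center_iff.1 (t2 hx') (s y)),
      fun x hx => by
        have hx' : τ (s x) = 1 := e.injective ((show e (τ (s x)) = 1 from hx).trans (map_one _).symm)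
        have hm : s.symm (s x) ∈ (commutator Γ').map s.symm.toMonoidHom := ⟨_, t3 hx', rfl⟩
        rw [map_commutator_eq, MonoidHom.range_eq_top.2 s.symm.surjective,
          MulEquiv.symm_apply_apply] at hm
        exact hm⟩
    have hmem : ∀ x, x ∈ (e.toMonoidHom.comp (τ.comp s.toMonoidHom)).ker → s x ∈ τ.ker := fun x hx =>
      e.injective ((show e (τ (s x)) = 1 from hx).trans (map_one _).symm)
    refine ⟨((s.toMonoidHom.comp (Subgroup.subtype _)).codRestrict τ.ker
      fun x => hmem x.1 x.2).comp π, fun y => ?_⟩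
    obtain ⟨a, ha⟩ := hπ ⟨s.symm y, by
      have := y.2
      simp only [MonoidHom.mem_ker] at this ⊢
      simp [this]⟩
    refine ⟨a, Subtype.ext ?_⟩
    show s ((π a : Shrink.{0} Γ')) = _
    rw [ha]
    exact s.apply_symm_apply _

end H45.O7
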