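import Cfsg.Agent.H45.O7Section

/-!
Moving singular vectors by Eichler transformations, and the reduction of all plane values to one.
-/

set_option autoImplicit false

namespace H45.O7

open H43 H50.Or

universe u v w w'

section move
variable {F : Type u} [Field F] [Finite F] {V : Type w} [AddCommGroup V] [Module F V]
  [FiniteDimensional F V] {Q : QuadraticForm F V}

/-- An Eichler transformation moving one singular vector to a multiple of another. -/
theorem exists_el_map (hQ : (polB Q).Nondegenerate) (h5 : 5 ≤ Module.finrank F V) {a a' x : V}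
    (ha : Q a = 0) (ha' : Q a' = 0) (hx : Q x = 0) (hb : polB Q a x ≠ 0)
    (hb' : polB Q a' x ≠ 0) :
    ∃ (r : F) (l : Om Q), r ≠ 0 ∧ l.1.1 a = r • a' ∧
      ∀ z, polB Q z x = 0 → polB Q z a = 0 → polB Q z a' = 0 → l.1.1 z = z := by
  set r := polB Q a x / polB Q a' x with hr
  set b := polB Q a x with hbdef
  set m := b⁻¹ • (r • a' - a) with hm
  have hxm : polB Q x m = 0 := by
    rw [hm, map_smul, map_sub, map_smul, polB_comm x a', polB_comm x a, hr]
    simp only [smul_eq_mul]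
    rw [div_mul_cancel₀ _ hb', ← hbdef, sub_self, mul_zero]
  refine ⟨r, el Q x m, div_ne_zero hb hb', ?_, fun z hz hza hza' => ?_⟩
  · rw [coe_el hQ h5 hx hxm, eichler_apply hx hxm, ← hbdef, hm, smul_smul, mul_inv_cancel₀ hb,
      one_smul, qmap_smul, map_smul, qmap_sub, qmap_smul, ha, ha', map_sub, map_smul, map_smul,
      LinearMap.smul_apply, polB_comm a' a, polB_self, ha, smul_eq_mul, smul_eq_mul]
    match_scalars <;> field_simp <;> ring
  · rw [coe_el hQ h5 hx hxm, eichler_fix hx hxm hz]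
    rw [hm, map_smul, map_sub, map_smul, hza, hza', smul_zero, sub_zero, smul_zero]

/-- A singular vector pairing with two singular vectors, from a vector pairing with both. -/
theorem exists_pairing_orth {a a' u : V} (ha : Q a = 0) (haa : polB Q a a' = 0)
    (h1 : polB Q a u ≠ 0) (h2 : polB Q a' u ≠ 0) :
    ∃ x, Q x = 0 ∧ polB Q a x ≠ 0 ∧ polB Q a' x ≠ 0 ∧
      ∀ z, polB Q z u = 0 → polB Q z a = 0 → polB Q z x = 0 := by
  refine ⟨u + (-(Q u / polB Q a u)) • a, ?_, ?_, ?_, fun z hzu hza => ?_⟩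
  · rw [qmap_add_smul, ha, polB_comm u a]; field_simp; ring
  · simp [polB_self, ha, h1]
  · simp [polB_comm a' a, haa, h2]
  · simp [hzu, hza]

/-- A singular vector pairing with two singular vectors that are not orthogonal. -/
theorem exists_pairing_pair {a a' c : V} (ha : Q a = 0) (ha' : Q a' = 0)
    (haa : polB Q a a' ≠ 0) (hc : Q c ≠ 0) (hca : polB Q a c = 0) (hca' : polB Q a' c = 0) :
    ∃ x, Q x = 0 ∧ polB Q a x ≠ 0 ∧ polB Q a' x ≠ 0 ∧
      ∀ z, polB Q z c = 0 → polB Q z a = 0 → polB Q z a' = 0 → polB Q z x = 0 := by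
  set t := -(Q c / polB Q a a') with ht
  have ht0 : t ≠ 0 := neg_ne_zero.2 (div_ne_zero hc haa)
  refine ⟨a + t • a' + c, ?_, ?_, ?_, fun z hzc hza hza' => ?_⟩
  · rw [qmap_add, qmap_add, qmap_smul, ha, ha', map_add, LinearMap.add_apply, map_smul, map_smul,
      LinearMap.smul_apply, hca, hca', smul_eq_mul, smul_eq_mul, ht]
    field_simp; ring
  · simp [polB_self, ha, hca, ht0, haa]
  · simp [polB_self, ha', hca', polB_comm a' a, haa]
  · simp [hzc, hza, hza']

/-- Two non-zero singular vectors differ by an element of `Ω` and a scalar. -/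
theorem exists_map_singular (hQ : (polB Q).Nondegenerate) (h5 : 5 ≤ Module.finrank F V) {a a' : V}
    (ha : Q a = 0) (ha' : Q a' = 0) (ha0 : a ≠ 0) (ha'0 : a' ≠ 0) :
    ∃ (r : F) (l : Om Q), r ≠ 0 ∧ l.1.1 a = r • a' := by
  obtain ⟨x, hx, h1, h2⟩ : ∃ x, Q x = 0 ∧ polB Q a x ≠ 0 ∧ polB Q a' x ≠ 0 := by
    by_cases haa : polB Q a a' = 0
    · obtain ⟨u, h1, h2⟩ : ∃ u, polB Q a u ≠ 0 ∧ polB Q a' u ≠ 0 := by
        by_cases hsp : a' ∈ F ∙ a
        · obtain ⟨r, rfl⟩ := Submodule.mem_span_singleton.1 hsp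
          obtain ⟨u, hu⟩ := exists_polB_eq hQ ha0 1
          exact ⟨u, by simp [hu], by simp [hu]; exact fun h => ha'0 (by rw [h, zero_smul])⟩
        · obtain ⟨u, h1, h2⟩ := exists_polB_eq₂ hQ ha0 hsp 1 1
          exact ⟨u, by simp [h1], by simp [h2]⟩
      obtain ⟨x, e1, e2, e3, -⟩ := exists_pairing_orth (Q := Q) ha haa h1 h2
      exact ⟨x, e1, e2, e3⟩
    · have hp : HypPair Q a ((polB Q a a')⁻¹ • a') := ⟨ha, by rw [qmap_smul, ha', mul_zero],
        by rw [map_smul, smul_eq_mul, inv_mul_cancel₀ haa]⟩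
      obtain ⟨f2⟩ := exists_frame hQ hp
      have := f2.finrank_eq
      obtain ⟨c, hc⟩ := exists_aniso' f2.nd' (by omega)
      have h2 := (f2.orth c).2
      rw [map_smul, LinearMap.smul_apply, smul_eq_mul, mul_eq_zero,
        or_iff_right (inv_ne_zero haa)] at h2
      obtain ⟨x, e1, e2, e3, -⟩ := exists_pairing_pair (Q := Q) ha ha' haa
        (c := f2.j c) (by rwa [f2.form]) (f2.orth c).1 h2
      exact ⟨x, e1, e2, e3⟩
  obtain ⟨r, l, hr, hl, -⟩ := exists_el_map hQ h5 ha ha' hx h1 h2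
  exact ⟨r, l, hr, hl⟩

/-- The same fixing a singular vector orthogonal to both. -/
theorem exists_map_singular_fix (hQ : (polB Q).Nondegenerate) (h5 : 5 ≤ Module.finrank F V)
    {e a a' : V} (he : Q e = 0) (ha : Q a = 0) (ha' : Q a' = 0) (hea : polB Q e a = 0)
    (hea' : polB Q e a' = 0) (hae : LinearIndependent F ![e, a])
    (ha'e : LinearIndependent F ![e, a']) :
    ∃ (r : F) (l : Om Q), r ≠ 0 ∧ l.1.1 e = e ∧ l.1.1 a = r • a' := by
  have he0 : e ≠ 0 := hae.ne_zero 0
  obtain ⟨x, hx, h1, h2, h3⟩ :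
      ∃ x, Q x = 0 ∧ polB Q a x ≠ 0 ∧ polB Q a' x ≠ 0 ∧ polB Q e x = 0 := by
    by_cases haa : polB Q a a' = 0
    · obtain ⟨u, h0, h1, h2⟩ : ∃ u, polB Q e u = 0 ∧ polB Q a u ≠ 0 ∧ polB Q a' u ≠ 0 := by
        have nea : a ∉ F ∙ e := fun h => by
          obtain ⟨t, ht⟩ := Submodule.mem_span_singleton.1 h
          exact ((LinearIndependent.pair_iff' he0).1 hae) t ht
        by_cases hsp : a' ∈ Submodule.span F {e, a}
        · obtain ⟨t, r, rfl⟩ := Submodule.mem_span_pair.1 hsp
          obtain ⟨u, h0, h1⟩ := exists_polB_eq₂ hQ he0 nea 0 1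
          have hr : r ≠ 0 := fun hr => ((LinearIndependent.pair_iff' he0).1 ha'e) t
            (by rw [hr, zero_smul, add_zero])
          exact ⟨u, h0, by simp [h1], by simp [h0, h1, hr]⟩
        · have hsp' : a ∉ Submodule.span F {e, a'} := fun h => by
            obtain ⟨t, r, hrt⟩ := Submodule.mem_span_pair.1 h
            have hr : r ≠ 0 := fun hr => nea (Submodule.mem_span_singleton.2
              ⟨t, by rw [← hrt, hr, zero_smul, add_zero]⟩)
            refine hsp (Submodule.mem_span_pair.2 ⟨-(r⁻¹ * t), r⁻¹, ?_⟩)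
            rw [← hrt, smul_add, smul_smul, smul_smul, inv_mul_cancel₀ hr, one_smul]
            module
          obtain ⟨w1, a1, b1⟩ := exists_orth_polB_eq hQ hsp' 1
          obtain ⟨w2, a2, b2⟩ := exists_orth_polB_eq hQ hsp 1
          have q1 := a1 e (Submodule.subset_span (Set.mem_insert _ _))
          have q2 := a1 a' (Submodule.subset_span (Set.mem_insert_of_mem _ rfl))
          have q3 := a2 e (Submodule.subset_span (Set.mem_insert _ _))
          have q4 := a2 a (Submodule.subset_span (Set.mem_insert_of_mem _ rfl))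
          exact ⟨w1 + w2, by simp [q1, q3], by simp [b1, q4], by simp [q2, b2]⟩
      obtain ⟨x, e1, e2, e3, e4⟩ := exists_pairing_orth (Q := Q) ha haa h1 h2
      exact ⟨x, e1, e2, e3, e4 e h0 hea⟩
    · have hp : HypPair Q a ((polB Q a a')⁻¹ • a') := ⟨ha, by rw [qmap_smul, ha', mul_zero],
        by rw [map_smul, smul_eq_mul, inv_mul_cancel₀ haa]⟩
      obtain ⟨f2⟩ := exists_frame hQ hp
      obtain ⟨e', he'⟩ := f2.surj e (by rw [polB_comm]; exact hea)
        (by simp [polB_comm a' e, hea'])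
      obtain ⟨g', hp'⟩ := exists_hypPair f2.nd' (show _ = (0 : F) by rw [← f2.form, he', he])
        (fun h0 => he0 (by rw [← he', h0, map_zero]))
      obtain ⟨f3⟩ := exists_frame f2.nd' hp'
      have := f2.finrank_eq
      have := f3.finrank_eq
      obtain ⟨c, hc⟩ := exists_aniso' f3.nd' (by omega)
      have h2 := (f2.orth (f3.j c)).2
      rw [map_smul, LinearMap.smul_apply, smul_eq_mul, mul_eq_zero,
        or_iff_right (inv_ne_zero haa)] at h2
      obtain ⟨x, e1, e2, e3, e4⟩ := exists_pairing_pair (Q := Q) ha ha' haa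
        (c := f2.j (f3.j c)) (by rwa [f2.form, f3.form]) (f2.orth _).1 h2
      exact ⟨x, e1, e2, e3, e4 e (by rw [← he', f2.bform]; exact (f3.orth c).1) hea hea'⟩
  obtain ⟨r, l, hr, hl, hf⟩ := exists_el_map hQ h5 ha ha' hx h1 h2
  exact ⟨r, l, hr, hf e h3 hea hea', hl⟩

end move

section plane
variable {F : Type u} [Field F] [Finite F] {V : Type w} [AddCommGroup V] [Module F V]
  [FiniteDimensional F V] {Q : QuadraticForm F V} {W : Type w'} [AddCommGroup W] [Module F W]
  [FiniteDimensional F W] {Q' : QuadraticForm F W} {x y : V} (fr : Frame Q x y Q')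
  (h7 : 7 ≤ Module.finrank F V)
  {Γ : Type v} [Group Γ] (σ : Γ →* Om Q) (hs : Function.Surjective σ)
  (hc : σ.ker ≤ Subgroup.center Γ)
  (hP : ∀ a b, cP fr σ hs a b = 1) (hq : ∀ c : F, c = 0 ∨ c = 1 ∨ c = -1)
include h7 hc hP hq

omit hP hq in
include fr in
theorem el_neg_left {e k : W} (he : Q' e = 0) (hek : polB Q' e k = 0) :
    el Q' (-e) k = (el Q' e k)⁻¹ := by
  have h5 := finrank_w fr h7
  apply Subtype.ext
  show _ = (el Q' e k).1⁻¹
  rw [coe_el fr.nd' h5 (by rw [qmap_neg, he]) (by simp [hek]),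
    coe_el fr.nd' h5 he hek, eichler_inv he hek,
    ← eichler_smul_left he (by simp [hek] : polB Q' e (-k) = 0) (t := (-1 : F)) (by simp)]
  simp [inv_neg]

/-- Root elements against their plane. -/
theorem br_span {e k z : W} (he : Q' e = 0) (hek : polB Q' e k = 0) (hk : Q' k = 0)
    (hz : z ∈ Submodule.span F {e, k}) : br fr σ hs (el Q' e k) z = 1 := by
  obtain ⟨α, β, rfl⟩ := Submodule.mem_span_pair.1 hz
  have hke : polB Q' k e = 0 := by rw [polB_comm]; exact hek
  have h1 := br_line fr h7 σ hs hc hP hq he hek hk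
  have h2 := br_line fr h7 σ hs hc hP hq hk (k := -e) (by simp [hke]) (by rw [qmap_neg, he])
  rw [el_swap fr h7 (e := -e) (k := k) (by rw [qmap_neg, he]) hk (by simp [hek]),
    el_neg_left fr h7 σ hc he (by simp [hek]), el_neg_eq_inv fr h7 he hek, inv_inv] at h2
  rw [br_add fr h7 σ hs hc hP, br_smul_one fr h7 σ hs hc hP hq h1,
    br_smul_one fr h7 σ hs hc hP hq h2, one_mul]

/-- The values of a pair vanish. -/
def PairTrivial (e k : W) : Prop :=
  ∀ d, polB Q' e d = 0 → polB Q' k d = 0 → br fr σ hs (el Q' e k) d = 1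

omit hq in
theorem pair_conj {e k : W} (he : Q' e = 0) (hek : polB Q' e k = 0) (l : Om Q')
    (h : PairTrivial fr σ hs e k) : PairTrivial fr σ hs (l.1.1 e) (l.1.1 k) := by
  intro d h1 h2
  obtain ⟨L, hL⟩ := hs (fr.extOm l)
  obtain ⟨d, rfl⟩ := l.1.1.surjective d
  rw [orth_polB_map] at h1 h2
  rw [← el_conj fr.nd' (finrank_w fr h7) l he hek, ← br_conj fr h7 σ hs hc hL, h d h1 h2, mul_one,
    mul_inv_cancel]

theorem pair_neg {e k : W} (he : Q' e = 0) (hek : polB Q' e k = 0)
    (h : PairTrivial fr σ hs e k) : PairTrivial fr σ hs (-e) k := by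
  intro d h1 h2
  have h1' : polB Q' e d = 0 := by simpa using h1
  rw [el_neg_left fr h7 σ hc he hek, br_inv_central fr h7 σ hs hc hP hq, h d h1' h2, inv_one]
  rw [coe_el fr.nd' (finrank_w fr h7) he hek]
  exact eichler_fix he hek (by rw [polB_comm]; exact h1') (by rw [polB_comm]; exact h2)

theorem pair_smul {e k : W} (he : Q' e = 0) (hek : polB Q' e k = 0) (hk : Q' k = 0) {r t : F}
    (hr : r = 1 ∨ r = -1) (ht : t = 1 ∨ t = -1) (h : PairTrivial fr σ hs e k) :
    PairTrivial fr σ hs (r • e) (t • k) := by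
  have h5 := finrank_w fr h7
  have key : ∀ s : F, (s = 1 ∨ s = -1) → PairTrivial fr σ hs (s • e) k := by
    rintro s (rfl | rfl)
    · rwa [one_smul]
    · rw [neg_one_smul]; exact pair_neg fr h7 σ hs hc hP hq he hek h
  have hflip : ∀ s : F, (s = 1 ∨ s = -1) → s • e = s⁻¹ • e := by
    rintro s (rfl | rfl) <;> simp [inv_neg]
  intro d h1 h2
  have hrt : r * t = 1 ∨ r * t = -1 := by
    rcases hr with rfl | rfl <;> rcases ht with rfl | rfl <;> simp
  have hr0 : r ≠ 0 := by rcases hr with rfl | rfl <;> simp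
  have ht0 : t ≠ 0 := by rcases ht with rfl | rfl <;> simp
  have hel : el Q' (r • e) (t • k) = el Q' ((r * t) • e) k := by
    apply Subtype.ext
    rw [coe_el fr.nd' h5 (by rw [qmap_smul, he, mul_zero]) (by simp [hek]),
      coe_el fr.nd' h5 (by rw [qmap_smul, he, mul_zero]) (by simp [hek]),
      ← eichler_smul_left (u := r • e) (w := t • k) (by rw [qmap_smul, he, mul_zero])
        (by simp [hek]) ht0, smul_smul, smul_smul, inv_mul_cancel₀ ht0, one_smul, mul_comm t r]
  rw [hel]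
  refine key _ hrt d ?_ ?_
  · rw [map_smul, LinearMap.smul_apply, smul_eq_mul, mul_eq_zero, or_iff_right hr0] at h1
    simp [h1]
  · rw [map_smul, LinearMap.smul_apply, smul_eq_mul, mul_eq_zero, or_iff_right ht0] at h2
    exact h2

/-- One value decides all. -/
theorem planeTrivial_of_one (h5' : Module.finrank F W = 5) {e0 k0 d0 : W} (he : Q' e0 = 0)
    (hek : polB Q' e0 k0 = 0) (hk : Q' k0 = 0) (hli : LinearIndependent F ![e0, k0])
    (hed : polB Q' e0 d0 = 0) (hkd : polB Q' k0 d0 = 0)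
    (hd : d0 ∉ Submodule.span F {e0, k0}) (h : br fr σ hs (el Q' e0 k0) d0 = 1) :
    PlaneTrivial fr σ hs := by
  have h5 := finrank_w fr h7
  have hnd := fr.nd'
  set S := Submodule.span F ({e0, k0} : Set W) with hS
  have base : PairTrivial fr σ hs e0 k0 := by
    intro d h1 h2
    have hmem : ∀ z : W, z ∈ (polB Q').orthogonal S ↔ polB Q' e0 z = 0 ∧ polB Q' k0 z = 0 :=
      fun z => ⟨fun hz => ⟨hz e0 (Submodule.subset_span (Set.mem_insert _ _)),
        hz k0 (Submodule.subset_span (Set.mem_insert_of_mem _ rfl))⟩,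
        fun hz => mem_orth_pair.2 hz⟩
    have hS2 : Module.finrank F S = 2 := by
      rw [hS, ← Matrix.range_cons_cons_empty e0 k0 ![], finrank_span_eq_card hli, Fintype.card_fin]
    have hle : S ⊔ F ∙ d0 ≤ (polB Q').orthogonal S := by
      refine sup_le (fun z hz => ?_) ((Submodule.span_singleton_le_iff_mem _ _).2 ((hmem d0).2 ⟨hed, hkd⟩))
      obtain ⟨α, β, rfl⟩ := Submodule.mem_span_pair.1 hz
      exact (hmem _).2 ⟨by simp [polB_self, he, hek],
        by simp [polB_self, hk, polB_comm k0 e0, hek]⟩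
    have h3 : Module.finrank F ((polB Q').orthogonal S) = 3 := by
      have := finrank_orth_add hnd S
      omega
    have hd0 : d0 ≠ 0 := fun h0 => hd (h0 ▸ S.zero_mem)
    have hinf : S ⊓ F ∙ d0 = ⊥ := by
      rw [eq_bot_iff]
      rintro z ⟨hz1, hz2⟩
      obtain ⟨t, rfl⟩ := Submodule.mem_span_singleton.1 hz2
      by_cases ht : t = 0
      · rw [ht, zero_smul]; exact zero_mem _
      · exact absurd (by simpa [smul_smul, ht] using S.smul_mem t⁻¹ hz1) hd
    have hsum := Submodule.finrank_sup_add_finrank_inf_eq S (F ∙ d0)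
    rw [hinf, finrank_bot, hS2, finrank_span_singleton hd0] at hsum
    have heq := Submodule.eq_of_le_of_finrank_eq hle (by omega)
    obtain ⟨z, hz, w, hw, rfl⟩ := Submodule.mem_sup.1 (heq ▸ (hmem d).2 ⟨h1, h2⟩)
    obtain ⟨t, rfl⟩ := Submodule.mem_span_singleton.1 hw
    rw [br_add fr h7 σ hs hc hP, br_span fr h7 σ hs hc hP hq he hek hk hz,
      br_smul_one fr h7 σ hs hc hP hq h, one_mul]
  intro e k d he' hek' hk' hli' h1 h2
  suffices hpt : PairTrivial fr σ hs e k from hpt d h1 h2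
  obtain ⟨r, l, hr, hl⟩ := exists_map_singular hnd h5 he' he (hli'.ne_zero 0) (hli.ne_zero 0)
  set k1 := l.1.1 k with hk1
  have hk1q : Q' k1 = 0 := by rw [hk1, orth_qmap, hk']
  have hek1 : polB Q' e0 k1 = 0 := by
    have e1 := orth_polB_map l.1 e k
    rw [hl, hek', map_smul, LinearMap.smul_apply, smul_eq_mul, mul_eq_zero,
      or_iff_right hr] at e1
    exact e1
  have hli1 : LinearIndependent F ![e0, k1] := by
    rw [LinearIndependent.pair_iff]
    intro s t hst
    have e1 : l.1.1 ((s * r⁻¹) • e + t • k) = 0 := by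
      rw [map_add, map_smul, map_smul, hl, smul_smul, mul_assoc, inv_mul_cancel₀ hr, mul_one, hst]
    obtain ⟨a1, a2⟩ := (LinearIndependent.pair_iff.1 hli') _ _
      ((LinearEquiv.map_eq_zero_iff l.1.1).1 e1)
    exact ⟨(mul_eq_zero.1 a1).resolve_right (inv_ne_zero hr), a2⟩
  obtain ⟨t, l2, ht, hl2e, hl2k⟩ :=
    exists_map_singular_fix hnd h5 he hk1q hk hek1 hek hli1 hli
  have hunit : ∀ {s : F}, s ≠ 0 → s = 1 ∨ s = -1 := fun hs0 => (hq _).resolve_left hs0
  have hp := pair_smul fr h7 σ hs hc hP hq he hek hk (hunit hr) (hunit ht) base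
  have hp2 := pair_conj fr h7 σ hs hc hP (e := r • e0) (k := t • k0)
    (by rw [qmap_smul, he, mul_zero]) (by simp [hek]) (l2 * l)⁻¹ hp
  have eE : (l2 * l)⁻¹.1.1 (r • e0) = e := by
    have : (l2 * l).1.1 e = r • e0 := by
      show (l2.1 * l.1).1 e = _
      rw [orth_mul_apply, hl, map_smul, hl2e]
    rw [← this]
    show ((l2 * l).1⁻¹ * (l2 * l).1).1 e = e
    rw [inv_mul_cancel, orth_one_apply]
  have eK : (l2 * l)⁻¹.1.1 (t • k0) = k := by
    have : (l2 * l).1.1 k = t • k0 := by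
      show (l2.1 * l.1).1 k = _
      rw [orth_mul_apply, ← hk1, hl2k]
    rw [← this]
    show ((l2 * l).1⁻¹ * (l2 * l).1).1 k = k
    rw [inv_mul_cancel, orth_one_apply]
  rwa [eE, eK] at hp2

end plane

end H45.O7
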