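import Cfsg.Agent.H45.O7Move
import Cfsg.Agent.H50.OrMult

/-!
The kernel of a stem extension of `Ω₇(3)` has order dividing six: modulo one plane value the
radicals split.
-/

set_option autoImplicit false

namespace H45.O7

open H43 H50.Or H50.CExt
open scoped commutatorElement

universe u v w w'

section conj
variable {F : Type u} [Field F] [Finite F] {V : Type w} [AddCommGroup V] [Module F V]
  [FiniteDimensional F V] {Q : QuadraticForm F V} {Γ : Type v} [Group Γ] (σ : Γ →* Om Q)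

omit [Finite F] [FiniteDimensional F V] in
theorem radU_conj_mem {x : V} (hx : Q x = 0) (l : Om Q) {g : Om Q} (hg : g ∈ radU Q x) :
    l * g * l⁻¹ ∈ radU Q (l.1.1 x) := by
  obtain ⟨w, hw, hgw⟩ := (mem_radU hx).1 hg
  refine (mem_radU (by rw [orth_qmap, hx])).2 ⟨l.1.1 w, by rw [orth_polB_map, hw], ?_⟩
  show l.1 * g.1 * l.1⁻¹ = _
  rw [hgw, eichler_conj l.1 hx hw]

omit [Finite F] in
theorem radU_smul {x : V} (hx : Q x = 0) {r : F} (hr : r ≠ 0) : radU Q (r • x) = radU Q x := by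
  have hrx : Q (r • x) = 0 := by rw [qmap_smul, hx, mul_zero]
  ext g
  rw [mem_radU hrx, mem_radU hx]
  constructor
  · rintro ⟨w, hw, e⟩
    refine ⟨r • w, ?_, ?_⟩
    · simpa [hr] using hw
    · rw [e, ← eichler_smul_left (u := x) (w := r • w) hx (by simpa [hr] using hw) hr, smul_smul,
        inv_mul_cancel₀ hr, one_smul]
  · rintro ⟨w, hw, e⟩
    exact ⟨r⁻¹ • w, by simp [hw], by rw [e, eichler_smul_left hx hw hr]⟩

omit [Finite F] [FiniteDimensional F V] in
/-- Split radicals are carried along. -/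
theorem good_conj {x : V} (hx : Q x = 0) (g : Γ) (h : Good σ x) : Good σ ((σ g).1.1 x) := by
  obtain ⟨N0, h1, h2, h3⟩ := h
  refine ⟨N0.map (MulAut.conj g).toMonoidHom, ?_, ?_, ?_⟩
  · apply le_antisymm
    · rintro _ ⟨_, ⟨a, ha, rfl⟩, rfl⟩
      show σ (g * a * g⁻¹) ∈ _
      rw [map_mul, map_mul, map_inv]
      exact radU_conj_mem hx _ (h1 ▸ ⟨a, ha, rfl⟩)
    · intro b hb
      have hb' := radU_conj_mem (by rw [orth_qmap, hx]) (σ g)⁻¹ hb
      rw [show ((σ g)⁻¹).1.1 ((σ g).1.1 x) = x from by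
        show ((σ g).1⁻¹ * (σ g).1).1 x = x
        rw [inv_mul_cancel, orth_one_apply], ← h1] at hb'
      obtain ⟨a, ha, e⟩ := hb'
      exact ⟨g * a * g⁻¹, ⟨a, ha, rfl⟩, by rw [map_mul, map_mul, map_inv, e]; group⟩
  · rintro _ ⟨a, ha, rfl⟩ he
    change σ (g * a * g⁻¹) = 1 at he
    rw [map_mul, map_mul, map_inv, conj_eq_one_iff] at he
    show g * a * g⁻¹ = 1
    rw [h2 a ha he, mul_one, mul_inv_cancel]
  · intro b hb
    have hm : g⁻¹ * b * g ∈ Subgroup.normalizer (N0 : Set Γ) := h3 (by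
      show (σ (g⁻¹ * b * g)).1.1 x = x
      rw [map_mul, map_mul, map_inv]
      show ((σ g).1⁻¹ * (σ b).1 * (σ g).1).1 x = x
      rw [orth_mul_apply, orth_mul_apply, show (σ b).1.1 ((σ g).1.1 x) = (σ g).1.1 x from hb]
      show ((σ g).1⁻¹ * (σ g).1).1 x = x
      rw [inv_mul_cancel, orth_one_apply])
    rw [Subgroup.mem_normalizer_iff] at hm ⊢
    intro z
    constructor
    · rintro ⟨a, ha, rfl⟩
      exact ⟨_, (hm a).1 ha, by simp [mul_assoc]⟩
    · rintro ⟨a, ha, e⟩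
      refine ⟨g⁻¹ * z * g, (hm _).2 ?_, by simp [mul_assoc]⟩
      have e' : g * a * g⁻¹ = b * z * b⁻¹ := e
      rw [show g⁻¹ * b * g * (g⁻¹ * z * g) * (g⁻¹ * b * g)⁻¹ = g⁻¹ * (b * z * b⁻¹) * g by group,
        ← e', show g⁻¹ * (g * a * g⁻¹) * g = a by group]
      exact ha

omit [Finite F] in
theorem good_smul {x : V} (hx : Q x = 0) {r : F} (hr : r ≠ 0) (h : Good σ x) :
    Good σ (r • x) := by
  obtain ⟨N0, h1, h2, h3⟩ := h
  refine ⟨N0, by rw [radU_smul hx hr, h1], h2, fun b hb => h3 ?_⟩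
  have hb' : (σ b).1.1 (r • x) = r • x := hb
  rw [map_smul] at hb'
  exact smul_right_injective V hr hb'

end conj

section main
variable {F : Type u} [Field F] [Fintype F] {V : Type w} [AddCommGroup V] [Module F V]
  [FiniteDimensional F V] {Q : QuadraticForm F V} {W : Type w'} [AddCommGroup W] [Module F W]
  [FiniteDimensional F W] {Q' : QuadraticForm F W} {x y : V} (fr : Frame Q x y Q')
  (hdim : Module.finrank F V = 7) (hF : Fintype.card F = 3) [CharP F 3]
  (hx0 : x ≠ 0) {e0 k0 d0 : W} (he : Q' e0 = 0) (hek : polB Q' e0 k0 = 0) (hk : Q' k0 = 0)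
  (hli : LinearIndependent F ![e0, k0]) (hed : polB Q' e0 d0 = 0) (hkd : polB Q' k0 d0 = 0)
  (hd : d0 ∉ Submodule.span F {e0, k0})

include hF in
theorem three_scalars (c : F) : c = 0 ∨ c = 1 ∨ c = -1 := by
  classical
  have h3 : (3 : F) = 0 := by exact_mod_cast CharP.cast_eq_zero F 3
  by_contra hne
  push Not at hne
  obtain ⟨h1, h2, h3'⟩ := hne
  have h := Finset.card_le_univ ({0, 1, -1, c} : Finset F)
  have hn : (1 : F) ≠ -1 := fun h => one_ne_zero (α := F) (by linear_combination h3 - h)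
  rw [hF, Finset.card_insert_of_notMem (by simp [h1.symm]),
    Finset.card_insert_of_notMem (by simp [hn, h2.symm]),
    Finset.card_insert_of_notMem (by simp [h3'.symm]), Finset.card_singleton] at h
  omega

include fr hdim hF hx0 he hek hk hli hed hkd hd

/-- Modulo the value of one plane the radicals split. -/
theorem good_of_value {Γ : Type v} [Group Γ] [Finite Γ] (σ : Γ →* Om Q)
    (hs : Function.Surjective σ) (hc : σ.ker ≤ Subgroup.center Γ)
    (hexp : ∀ z, σ z = 1 → z ^ 3 = 1) (hval : br fr σ hs (el Q' e0 k0) d0 = 1) {z : V}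
    (hz0 : z ≠ 0) (hz : Q z = 0) : Good σ z := by
  haveI : Fact (Nat.Prime 3) := ⟨by norm_num⟩
  have h7 : 7 ≤ Module.finrank F V := hdim.ge
  have hdimW : Module.finrank F W = 5 := by have := fr.finrank_eq; omega
  have hq := three_scalars hF
  have hP := cP_eq_one_of_odd fr h7 σ hs hc (show (3 : ℕ) ≠ 2 by omega)
  have h3 : (3 : F) = 0 := by exact_mod_cast CharP.cast_eq_zero F 3
  have hord : ∀ (g : Γ) (a : W), σ g = eOm fr a → g ^ 3 = 1 := fun g a hg => by
    rw [pow_eq σ hc hexp (g' := la fr σ hs a) (by rw [hg, σ_la]),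
      pow_la_eq_one fr h7 σ hs hc hexp hP]
  have hgood : Good σ x := good_of_section fr h7 σ hs hc hP hq
    (planeTrivial_of_one fr h7 σ hs hc hP hq hdimW he hek hk hli hed hkd hd hval)
    fun g a hg => ⟨fun h2 => absurd (by linear_combination h3 - h2 : (1 : F) = 0) one_ne_zero,
      fun _ => (pow_three' g).symm.trans (hord g a hg)⟩
  obtain ⟨r, l, hr, hl⟩ := exists_map_singular fr.nd (by omega) fr.qx hz hx0 hz0
  obtain ⟨g, rfl⟩ := hs l
  have h := good_smul σ (r := r⁻¹) (by rw [orth_qmap, fr.qx]) (inv_ne_zero hr)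
    (good_conj σ fr.qx g hgood)
  rwa [hl, smul_smul, inv_mul_cancel₀ hr, one_smul] at h

/-- With that value trivial a stem extension has kernel prime to three. -/
theorem not_three_dvd {Γ : Type v} [Group Γ] [Finite Γ] (σ : Γ →* Om Q)
    (hs : Function.Surjective σ) (hc : σ.ker ≤ Subgroup.center Γ) (hd' : σ.ker ≤ commutator Γ)
    (hval : br fr σ hs (el Q' e0 k0) d0 = 1) : ¬ 3 ∣ Nat.card σ.ker := by
  classical
  haveI : Fact (Nat.Prime 3) := ⟨by norm_num⟩
  intro hdvd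
  let K0 : Subgroup Γ :=
    { carrier := {g | ∃ z ∈ σ.ker, z ^ 3 = g}
      one_mem' := ⟨1, one_mem _, one_pow _⟩
      mul_mem' := by
        rintro _ _ ⟨a, ha, rfl⟩ ⟨b, hb, rfl⟩
        exact ⟨a * b, mul_mem ha hb, (show Commute a b from Subgroup.mem_center_iff.1 (hc hb) a).mul_pow 3⟩
      inv_mem' := by
        rintro _ ⟨a, ha, rfl⟩
        exact ⟨a⁻¹, inv_mem ha, inv_pow _ _⟩ }
  have hK0 : K0 ≤ σ.ker := by
    rintro _ ⟨z, hz, rfl⟩; exact pow_mem hz 3
  haveI : K0.Normal := ⟨fun a ha g => by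
    rw [Subgroup.mem_center_iff.1 (hc (hK0 ha)) g, mul_inv_cancel_right]; exact ha⟩
  obtain ⟨w, hw, hwK⟩ : ∃ w ∈ σ.ker, w ∉ K0 := by
    by_contra h
    push Not at h
    obtain ⟨⟨a, ha⟩, hord⟩ := exists_prime_orderOf_dvd_card' 3 hdvd
    rw [Subgroup.orderOf_mk] at hord
    let f : σ.ker → σ.ker := fun z => ⟨z.1 ^ 3, pow_mem z.2 3⟩
    have hsur : Function.Surjective f := fun z => by
      obtain ⟨z', hz', e⟩ := h z.1 z.2
      exact ⟨⟨z', hz'⟩, Subtype.ext e⟩
    have h1 : (⟨a, ha⟩ : σ.ker) = 1 := Finite.injective_iff_surjective.2 hsur (Subtype.ext (by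
      show a ^ 3 = (1 : Γ) ^ 3
      rw [one_pow, ← hord, pow_orderOf_eq_one]))
    rw [show a = 1 from congrArg Subtype.val h1, orderOf_one] at hord
    omega
  let σ' : Γ ⧸ K0 →* Om Q := QuotientGroup.lift K0 σ fun g hg => hK0 hg
  have hs' : Function.Surjective σ' := fun g => by
    obtain ⟨a, rfl⟩ := hs g; exact ⟨QuotientGroup.mk' K0 a, rfl⟩
  have hc' : σ'.ker ≤ Subgroup.center _ := fun g hg => by
    obtain ⟨a, rfl⟩ := QuotientGroup.mk'_surjective K0 g
    rw [Subgroup.mem_center_iff]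
    intro b
    obtain ⟨b, rfl⟩ := QuotientGroup.mk'_surjective K0 b
    rw [← map_mul, ← map_mul, Subgroup.mem_center_iff.1 (hc (show a ∈ σ.ker from hg)) b]
  have hexp : ∀ g, σ' g = 1 → g ^ 3 = 1 := fun g hg => by
    obtain ⟨a, rfl⟩ := QuotientGroup.mk'_surjective K0 g
    rw [← map_pow]
    exact (QuotientGroup.eq_one_iff _).2 ⟨a, hg, rfl⟩
  have hval' : br fr σ' hs' (el Q' e0 k0) d0 = 1 := by
    rw [← br_congr fr (hdim.ge) σ' hs' hc' (G := QuotientGroup.mk' K0 (lg fr σ hs (el Q' e0 k0)))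
      (A := QuotientGroup.mk' K0 (la fr σ hs d0)) (σ_lg fr σ hs _) (σ_la fr σ hs _),
      ← map_commutatorElement]
    exact (congrArg (QuotientGroup.mk' K0) hval).trans (map_one _)
  refine hwK ((QuotientGroup.eq_one_iff w).1 ?_)
  refine eq_one_of_good (p := 3) σ' hs' hc' fr.nd (by omega)
    (fun z hz0 hz => good_of_value fr hdim hF hx0 he hek hk hli hed hkd hd σ' hs' hc' hexp hval'
      hz0 hz) ?_ hw (hexp _ hw)
  have hm : QuotientGroup.mk' K0 w ∈ (commutator Γ).map (QuotientGroup.mk' K0) := ⟨w, hd' hw, rfl⟩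
  rw [commutator_def, Subgroup.map_commutator] at hm
  exact Subgroup.commutator_mono le_top le_top hm

/-- The kernel has order dividing six. -/
theorem stem_dvd_six_of_plane (hbd : Bd.{u, v, w} 3 Q 2) {Γ : Type v} [Group Γ] [Finite Γ]
    (σ : Γ →* Om Q) (hσ : Cfsg.IsStemExtension σ) : Nat.card σ.ker ∣ 6 := by
  classical
  haveI : Fact (Nat.Prime 3) := ⟨by norm_num⟩
  obtain ⟨hs, hc, hd'⟩ := hσ
  haveI : Finite (Om Q) := Finite.of_surjective σ hs
  have h7 : 7 ≤ Module.finrank F V := hdim.ge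
  have h3 : (3 : F) = 0 := by exact_mod_cast CharP.cast_eq_zero F 3
  have hP := cP_eq_one_of_odd fr h7 σ hs hc (show (3 : ℕ) ≠ 2 by omega)
  set z0 := br fr σ hs (el Q' e0 k0) d0 with hz0def
  have hfix : (el Q' e0 k0).1.1 d0 = d0 := by
    rw [coe_el fr.nd' (finrank_w fr h7) he hek]
    exact eichler_fix he hek (by rw [polB_comm]; exact hed) (by rw [polB_comm]; exact hkd)
  have hz0 : z0 ∈ σ.ker := by
    rw [MonoidHom.mem_ker, hz0def, σ_br fr h7 σ hs, hfix, sub_self, eOm_zero fr h7]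
  have hcube : z0 ^ 3 = 1 := by
    rw [pow_three', hz0def, ← br_add fr h7 σ hs hc hP, ← br_add fr h7 σ hs hc hP,
      show d0 + d0 + d0 = (3 : F) • d0 by module, h3, zero_smul, br_zero fr h7 σ hs hc hP]
  let N : Subgroup Γ := Subgroup.zpowers z0
  have hNk : N ≤ σ.ker := Subgroup.zpowers_le.2 hz0
  haveI : N.Normal := ⟨fun a ha g => by
    rw [Subgroup.mem_center_iff.1 (hc (hNk ha)) g, mul_inv_cancel_right]; exact ha⟩
  let σ' : Γ ⧸ N →* Om Q := QuotientGroup.lift N σ fun g hg => hNk hg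
  have hs' : Function.Surjective σ' := fun g => by
    obtain ⟨a, rfl⟩ := hs g; exact ⟨QuotientGroup.mk' N a, rfl⟩
  have hc' : σ'.ker ≤ Subgroup.center _ := fun g hg => by
    obtain ⟨a, rfl⟩ := QuotientGroup.mk'_surjective N g
    rw [Subgroup.mem_center_iff]
    intro b
    obtain ⟨b, rfl⟩ := QuotientGroup.mk'_surjective N b
    rw [← map_mul, ← map_mul, Subgroup.mem_center_iff.1 (hc (show a ∈ σ.ker from hg)) b]
  have hd'' : σ'.ker ≤ commutator _ := fun g hg => by
    obtain ⟨a, rfl⟩ := QuotientGroup.mk'_surjective N g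
    have hm : QuotientGroup.mk' N a ∈ (commutator Γ).map (QuotientGroup.mk' N) :=
      ⟨a, hd' (show a ∈ σ.ker from hg), rfl⟩
    rw [commutator_def, Subgroup.map_commutator] at hm
    exact Subgroup.commutator_mono le_top le_top hm
  have hval' : br fr σ' hs' (el Q' e0 k0) d0 = 1 := by
    rw [← br_congr fr h7 σ' hs' hc' (G := QuotientGroup.mk' N (lg fr σ hs (el Q' e0 k0)))
      (A := QuotientGroup.mk' N (la fr σ hs d0)) (σ_lg fr σ hs _) (σ_la fr σ hs _),
      ← map_commutatorElement]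
    exact (QuotientGroup.eq_one_iff z0).2 (Subgroup.mem_zpowers z0)
  have hcop : ¬ 3 ∣ Nat.card σ'.ker :=
    not_three_dvd fr hdim hF hx0 he hek hk hli hed hkd hd σ' hs' hc' hd'' hval'
  have hgen := pGen_top (p := 3) fr.nd (show 5 ≤ Module.finrank F V by omega)
  have hcomm : commutator (Γ ⧸ N) ≤ liftGrp 3 σ' ⊤ := by
    rw [commutator_def, Subgroup.commutator_le]
    intro a _ b _
    obtain ⟨k, hk, x, hx, rfl⟩ := exists_mul_ker 3 σ' hc' hcop hs' hgen a
    obtain ⟨k', hk', y, hy, rfl⟩ := exists_mul_ker 3 σ' hc' hcop hs' hgen b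
    rw [H76.Cover.comm_congr σ' hc' (x' := k) (y' := k')
      (by rw [map_mul, show σ' x = 1 from hx, mul_one])
      (by rw [map_mul, show σ' y = 1 from hy, mul_one]), commutatorElement_def]
    exact mul_mem (mul_mem (mul_mem hk hk') (inv_mem hk)) (inv_mem hk')
  have h2 : Nat.card σ'.ker ∣ 2 := (Subgroup.card_dvd_of_le (K := liftGrp 3 σ' ⊤ ⊓ σ'.ker)
    fun z hz => ⟨hcomm (hd'' hz), hz⟩).trans (hbd (Γ ⧸ N) σ' hs' hc' hcop)
  have hN3 : Nat.card N ∣ 3 := by
    rw [Nat.card_zpowers]; exact orderOf_dvd_of_pow_eq_one hcube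
  have hcomap : σ'.ker.comap (QuotientGroup.mk' N) = σ.ker := MonoidHom.comap_ker _ _
  have hsplit : Nat.card σ.ker = Nat.card N * Nat.card σ'.ker := by
    rw [← hcomap, card_comap_eq _ (QuotientGroup.mk'_surjective N), QuotientGroup.ker_mk']
  rw [hsplit]
  exact (Nat.mul_dvd_mul hN3 h2)

end main

/-- The kernel of a stem extension of `Ω₇(3)` has order dividing six. -/
theorem stem_dvd_six {F : Type u} [Field F] [Fintype F] {V : Type w} [AddCommGroup V] [Module F V]
    [FiniteDimensional F V] {Q : QuadraticForm F V} [CharP F 3] (hQ : (polB Q).Nondegenerate)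
    (hdim : Module.finrank F V = 7) (hF : Fintype.card F = 3) (hbd : Bd.{u, v, w} 3 Q 2)
    {Γ : Type v} [Group Γ] [Finite Γ] (σ : Γ →* Om Q) (hσ : Cfsg.IsStemExtension σ) :
    Nat.card σ.ker ∣ 6 := by
  obtain ⟨x, hx0, hx⟩ := exists_singular Q (by omega)
  obtain ⟨y, hp⟩ := exists_hypPair hQ hx hx0
  obtain ⟨fr⟩ := exists_frame hQ hp
  have := fr.finrank_eq
  set Q1 := Q.restrict ((polB Q).orthogonal (Submodule.span F {x, y})) with hQ1
  obtain ⟨e0, he0, he⟩ := exists_singular Q1 (by omega)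
  obtain ⟨f0, hp0⟩ := exists_hypPair fr.nd' he he0
  obtain ⟨f2⟩ := exists_frame fr.nd' hp0
  have := f2.finrank_eq
  obtain ⟨a, ha0, ha⟩ := exists_singular
    (Q1.restrict ((polB Q1).orthogonal (Submodule.span F {e0, f0}))) (by omega)
  obtain ⟨b, hp1⟩ := exists_hypPair f2.nd' ha ha0
  obtain ⟨f3⟩ := exists_frame f2.nd' hp1
  have := f3.finrank_eq
  obtain ⟨c, hc⟩ := exists_aniso' f3.nd' (by omega)
  have hek := (f2.orth a).1
  have hkq : Q1 (f2.j a) = 0 := by
    rw [f2.form, ha]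
  refine stem_dvd_six_of_plane fr hdim hF hx0 (e0 := e0) (k0 := f2.j a) (d0 := f2.j (f3.j c))
    he hek hkq ?_ (f2.orth _).1 (by rw [f2.bform]; exact (f3.orth c).1) ?_ hbd σ hσ
  · rw [LinearIndependent.pair_iff]
    intro r t hrt
    have h1 := congrArg (polB Q1 f0) hrt
    simp [hp0.symm.pair, (f2.orth a).2] at h1
    rw [h1, zero_smul, zero_add, smul_eq_zero] at hrt
    exact ⟨h1, hrt.resolve_right (fun h => ha0 (f2.inj (h.trans (map_zero f2.j).symm)))⟩
  · intro hmem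
    obtain ⟨r, t, hrt⟩ := Submodule.mem_span_pair.1 hmem
    refine hc ?_
    rw [← f3.form, ← f2.form, ← hrt, qmap_add, qmap_smul, qmap_smul, he, hkq]
    simp [hek]

end H45.O7
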