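import Cfsg.Agent.H45.O7Cover
import Cfsg.Agent.H45.O7Upper
import Cfsg.Agent.H45.O7FieldIso
import Cfsg.Agent.H50.OrModels

/-!
The Schur multiplier of `PΩ₇(3)` is cyclic of order six: two perfect covers are combined, and the
kernel bound makes the result splitting.
-/

set_option autoImplicit false

namespace H45.O7

open H43 H50.Or

section covers

variable {G S : Type*} [Group G] [Group S]

/-- A subgroup of a perfect central extension mapping onto the quotient is everything. -/
theorem eq_top_of_map_eq_top (ψ : S →* G) (hc : ψ.ker ≤ Subgroup.center S)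
    (hperf : commutator S = ⊤) (H : Subgroup S) (h : H.map ψ = ⊤) : H = ⊤ := by
  refine top_le_iff.1 (hperf ▸ ?_)
  rw [commutator_def, Subgroup.commutator_le]
  intro a _ b _
  obtain ⟨a', ha', ea⟩ := h.ge (Subgroup.mem_top (ψ a))
  obtain ⟨b', hb', eb⟩ := h.ge (Subgroup.mem_top (ψ b))
  rw [H76.Cover.comm_congr ψ hc (x' := a') (y' := b') ea.symm eb.symm, commutatorElement_def]
  exact mul_mem (mul_mem (mul_mem ha' hb') (inv_mem ha')) (inv_mem hb')

end covers

/-- Two perfect covers are covered by a third. -/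
theorem exists_common_cover {G S T : Type} [Group G] [Group S] [Group T] [Finite S] [Finite T]
    (hG : commutator G = ⊤) (ψ : S →* G) (φ : T →* G) (hψs : Function.Surjective ψ)
    (hψc : ψ.ker ≤ Subgroup.center S) (hψp : commutator S = ⊤) (hφs : Function.Surjective φ)
    (hφc : φ.ker ≤ Subgroup.center T) (hφp : commutator T = ⊤) :
    ∃ (D : Type) (_ : Group D) (_ : Finite D) (χ : D →* G),
      Function.Surjective χ ∧ χ.ker ≤ Subgroup.center D ∧ commutator D = ⊤ ∧
        Nat.card ψ.ker ∣ Nat.card χ.ker ∧ Nat.card φ.ker ∣ Nat.card χ.ker := by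
  let P : Subgroup (S × T) := (ψ.comp (MonoidHom.fst S T)).eqLocus (φ.comp (MonoidHom.snd S T))
  let θ : P →* G := (ψ.comp (MonoidHom.fst S T)).comp P.subtype
  have hθs : Function.Surjective θ := fun y => by
    obtain ⟨a, ha⟩ := hψs y
    obtain ⟨b, hb⟩ := hφs y
    exact ⟨⟨(a, b), ha.trans hb.symm⟩, ha⟩
  have hθc : θ.ker ≤ Subgroup.center P := fun x hx => by
    have h1 : ψ x.1.1 = 1 := hx
    have h2 : φ x.1.2 = 1 := (show ψ x.1.1 = φ x.1.2 from x.2).symm.trans h1
    exact Subgroup.mem_center_iff.2 fun y => Subtype.ext (Prod.ext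
      (Subgroup.mem_center_iff.1 (hψc h1) y.1.1) (Subgroup.mem_center_iff.1 (hφc h2) y.1.2))
  let D := commutator P
  let χ : D →* G := θ.comp D.subtype
  have hmap : D.map θ = ⊤ := by
    show (commutator P).map θ = ⊤
    rw [map_commutator_eq, MonoidHom.range_eq_top.2 hθs, ← commutator_def, hG]
  have hχs : Function.Surjective χ := fun y => by
    obtain ⟨a, ha, hay⟩ := hmap.ge (Subgroup.mem_top y)
    exact ⟨⟨a, ha⟩, hay⟩
  have hχc : χ.ker ≤ Subgroup.center D := fun x hx =>
    Subgroup.mem_center_iff.2 fun y => Subtype.ext (Subgroup.mem_center_iff.1 (hθc hx) y.1)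
  have hDperf : commutator D = ⊤ := by
    apply Subgroup.map_injective D.subtype_injective
    rw [Subgroup.map_subtype_commutator, ← MonoidHom.range_eq_map, Subgroup.range_subtype]
    refine le_antisymm (Subgroup.commutator_mono le_top le_top) ?_
    show commutator P ≤ _
    rw [commutator_def, Subgroup.commutator_le]
    intro a _ b _
    obtain ⟨a', ha', ea⟩ := hmap.ge (Subgroup.mem_top (θ a))
    obtain ⟨b', hb', eb⟩ := hmap.ge (Subgroup.mem_top (θ b))
    rw [H76.Cover.comm_congr θ hθc (x' := a') (y' := b') ea.symm eb.symm]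
    exact Subgroup.commutator_mem_commutator ha' hb'
  let p1 : D →* S := (MonoidHom.fst S T).comp (P.subtype.comp D.subtype)
  let p2 : D →* T := (MonoidHom.snd S T).comp (P.subtype.comp D.subtype)
  have hp1 : ψ.comp p1 = χ := rfl
  have hp2 : φ.comp p2 = χ :=
    MonoidHom.ext fun x => (show ψ x.1.1.1 = φ x.1.1.2 from x.1.2).symm
  have h1 : Function.Surjective p1 := MonoidHom.range_eq_top.1
    (eq_top_of_map_eq_top ψ hψc hψp _ (by
      rw [MonoidHom.map_range, hp1]; exact MonoidHom.range_eq_top.2 hχs))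
  have h2 : Function.Surjective p2 := MonoidHom.range_eq_top.1
    (eq_top_of_map_eq_top φ hφc hφp _ (by
      rw [MonoidHom.map_range, hp2]; exact MonoidHom.range_eq_top.2 hχs))
  refine ⟨D, inferInstance, inferInstance, χ, hχs, hχc, hDperf, ?_, ?_⟩
  · rw [← hp1, ← MonoidHom.comap_ker, card_comap_eq p1 h1]
    exact dvd_mul_left _ _
  · rw [← hp2, ← MonoidHom.comap_ker, card_comap_eq p2 h2]
    exact dvd_mul_left _ _

/-- A commutative group of order six is cyclic. -/
theorem isCyclic_six {K : Type*} [Group K] (hcomm : ∀ a b : K, a * b = b * a)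
    (h : Nat.card K = 6) : IsCyclic K := by
  haveI : Finite K := Nat.finite_of_card_ne_zero (by omega)
  haveI : Fact (Nat.Prime 2) := ⟨by norm_num⟩
  haveI : Fact (Nat.Prime 3) := ⟨by norm_num⟩
  obtain ⟨a, ha⟩ := exists_prime_orderOf_dvd_card' (G := K) 2 (by omega)
  obtain ⟨b, hb⟩ := exists_prime_orderOf_dvd_card' (G := K) 3 (by omega)
  refine isCyclic_of_orderOf_eq_card (a * b) ?_
  rw [(show Commute a b from hcomm a b).orderOf_mul_eq_mul_orderOf_of_coprime
    (by rw [ha, hb]; norm_num), ha, hb, h]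

theorem two_ne_zero_three : (2 : ZMod 3) ≠ 0 := by decide

theorem neg_one_ne_one_three : (-1 : ZMod 3) ≠ 1 := by decide

/-- The multiplier of `PΩ₇(3)`. -/
theorem multiplier_seven_three :
    Cfsg.HasCyclicSchurMultiplier (Cfsg.POmega (ZMod 3) (Cfsg.quadFormOdd 3 (ZMod 3))) 6 := by
  haveI : Fact (Nat.Prime 3) := ⟨by norm_num⟩
  have h2 : (2 : ZMod 3) ≠ 0 := two_ne_zero_three
  have hq : Odd (Fintype.card (ZMod 3)) := by rw [ZMod.card]; decide
  obtain ⟨S3, _, _, ψ3, hs3, hc3, hp3, hk3⟩ := exists_triple_cover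
  revert ψ3
  rw [← H43.coe_qOdd]
  set Q := H43.qOdd 3 (ZMod 3)
  have hQ : (polB Q).Nondegenerate := H43.qOdd_nondeg h2 3
  have hdim : Module.finrank (ZMod 3) (Unit ⊕ (Fin 3 ⊕ Fin 3) → ZMod 3) = 7 := by simp
  have hcent : Subgroup.center (Om Q) = ⊥ := center_eq_bot hQ (by omega) fun h => absurd h fun hneg => by
    have hd := ((H43.mem_commutator_iff_odd hQ h2 (by simp) _).1 hneg).1
    rw [H43.detHom_negOrth, hdim, Odd.neg_one_pow (by decide : Odd 7)] at hd
    exact neg_one_ne_one_three (congrArg Units.val hd)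
  let E : Cfsg.POmega (ZMod 3) ⇑Q ≃* Om Q := (H43.pomegaEquiv Q).trans
    ((QuotientGroup.quotientMulEquivOfEq hcent).trans QuotientGroup.quotientBot)
  intro ψ3 hs3 hc3 hk3
  have hperf : commutator (Om Q) = ⊤ := by
    apply Subgroup.map_injective (commutator (orthGroup Q)).subtype_injective
    rw [Subgroup.map_subtype_commutator, ← MonoidHom.range_eq_map, Subgroup.range_subtype,
      commutator_perfect hQ (by omega)]
  obtain ⟨S2, _, _, ψ2, hs2, hc2, hp2, hk2, -⟩ := H50.Or.Spin.exists_cover hQ h2 (by omega)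
  let φ3 : S3 →* Om Q := E.toMonoidHom.comp ψ3
  have hker3 : φ3.ker = ψ3.ker := MonoidHom.ker_mulEquiv_comp ψ3 E
  obtain ⟨D, _, _, χ, hχs, hχc, hχp, hd2, hd3⟩ := exists_common_cover hperf ψ2 φ3 hs2 hc2 hp2
    (E.surjective.comp hs3) (hker3.le.trans hc3) hp3
  have hbd : Bd.{0, 0, 0} 3 Q 2 := by
    have h := H50.Or.bd_odd.{0, 0} 3 hq 3 (by omega)
    rw [ZMod.card] at h
    exact h
  have hbound : ∀ {Γ : Type} [Group Γ] [Finite Γ] (σ : Γ →* Om Q), Cfsg.IsStemExtension σ →
      Nat.card σ.ker ∣ 6 := fun σ hσ => stem_dvd_six hQ hdim (ZMod.card 3) hbd σ hσ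
  have hχstem : Cfsg.IsStemExtension χ := ⟨hχs, hχc, hχp ▸ le_top⟩
  have hcard : Nat.card χ.ker = 6 := by
    refine Nat.dvd_antisymm (hbound χ hχstem) ?_
    have h2' : 2 ∣ Nat.card χ.ker := hk2.trans hd2
    have h3' : 3 ∣ Nat.card χ.ker := by rwa [hker3, hk3] at hd3
    exact (show Nat.Coprime 2 3 by norm_num).mul_dvd_of_dvd_of_dvd h2' h3'
  have hsplits : H76.Cover.Splits D := H76.Cover.splits_of_stem hχp fun Γ _ _ τ hτ => by
    have hΓ := perfect_of_stem τ hχp hτ
    have h := hbound (χ.comp τ) ⟨hχs.comp hτ.1, fun x hx =>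
      mem_center_of_perfect τ hΓ hτ.2.1 hτ.1 (hχc hx), hΓ ▸ le_top⟩
    rw [← MonoidHom.comap_ker, card_comap_eq τ hτ.1, hcard] at h
    refine Subgroup.eq_bot_of_card_eq _ (Nat.dvd_one.1 ?_)
    exact Nat.dvd_of_mul_dvd_mul_right (by norm_num : 0 < 6) (by rwa [one_mul])
  haveI : IsCyclic χ.ker := isCyclic_six
    (fun a b => Subtype.ext (Subgroup.mem_center_iff.1 (hχc b.2) a.1)) hcard
  exact H39.hasSchurMultiplier_congr E.symm (H76.Cover.hasSchurMultiplier χ hχstem hsplits
    (mulEquivOfCyclicCardEq (by rw [hcard, Nat.card_eq_fintype_card, Fintype.card_multiplicative, ZMod.card])))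

/-- The multiplier of `PΩ₇` over a field of three elements. -/
theorem multiplier_of_card_three {F : Type*} [Field F] [Fintype F] (hF : Fintype.card F = 3) :
    Cfsg.HasCyclicSchurMultiplier (Cfsg.POmega F (Cfsg.quadFormOdd 3 F)) 6 := by
  haveI : Fact (Nat.Prime 3) := ⟨by norm_num⟩
  exact multiplier_transfer
    (pomegaFieldEquiv (ZMod.ringEquivOfPrime F (by norm_num) hF).symm 3) multiplier_seven_three

end H45.O7
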