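import Cfsg.Agent.H50.OrSection

/-!
Variant of the section of the radical: only the vanishing of the plane values is assumed, so that it
applies in dimension seven over three elements.
-/

set_option autoImplicit false

namespace H45.O7

open H43 H50.Or
open scoped commutatorElement

universe u v w w'

section
variable {F : Type u} [Field F] [Finite F] {V : Type w} [AddCommGroup V] [Module F V]
  [FiniteDimensional F V] {Q : QuadraticForm F V} {W : Type w'} [AddCommGroup W] [Module F W]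
  [FiniteDimensional F W] {Q' : QuadraticForm F W} {x y : V} (fr : Frame Q x y Q')
  (h7 : 7 ≤ Module.finrank F V)
  {Γ : Type v} [Group Γ] (σ : Γ →* Om Q) (hs : Function.Surjective σ)
  (hc : σ.ker ≤ Subgroup.center Γ)

end

section
variable {F : Type u} [Field F] {V : Type w} [AddCommGroup V] [Module F V] {Q : QuadraticForm F V}

/-- A non-zero non-degenerate space has an anisotropic vector. -/
theorem exists_aniso' (hQ : (polB Q).Nondegenerate) (h1 : 1 ≤ Module.finrank F V) : ∃ c, Q c ≠ 0 := by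
  haveI : Nontrivial V := Module.nontrivial_of_finrank_pos (R := F) h1
  obtain ⟨z, hz⟩ := exists_ne (0 : V)
  obtain ⟨v, hv⟩ := exists_polB_ne_zero hQ hz
  by_contra hcon
  push Not at hcon
  exact hv (by rw [polB_apply, QuadraticMap.polar, hcon, hcon, hcon, sub_self, sub_self])

end

section
variable {F : Type u} [Field F] [Finite F] {V : Type w} [AddCommGroup V] [Module F V]
  [FiniteDimensional F V] {Q : QuadraticForm F V} {W : Type w'} [AddCommGroup W] [Module F W]
  [FiniteDimensional F W] {Q' : QuadraticForm F W} {x y : V} (fr : Frame Q x y Q')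
  (h7 : 7 ≤ Module.finrank F V)
  {Γ : Type v} [Group Γ] (σ : Γ →* Om Q) (hs : Function.Surjective σ)
  (hc : σ.ker ≤ Subgroup.center Γ)

/-- All values of root elements at the orthogonal of their planes vanish. -/
def PlaneTrivial : Prop :=
  ∀ {e k d : W}, Q' e = 0 → polB Q' e k = 0 → Q' k = 0 → LinearIndependent F ![e, k] →
    polB Q' e d = 0 → polB Q' k d = 0 → br fr σ hs (el Q' e k) d = 1

variable (hP : ∀ a b, cP fr σ hs a b = 1) (hq : ∀ c : F, c = 0 ∨ c = 1 ∨ c = -1)
include h7 hc hP hq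

variable (hA : PlaneTrivial fr σ hs)

include hA

/-- The value at `k` with companion `e` does not depend on the auxiliary vector. -/
theorem br_aux {e k u u' : W} (hk : Q' k = 0) (h : Comp Q' e k) (hu : polB Q' e u = polB Q' e u')
    (hu' : polB Q' k u = polB Q' k u') :
    br fr σ hs (el Q' e k) u = br fr σ hs (el Q' e k) u' := by
  have := hA h.1 h.2.1 hk h.2.2 (d := u - u')
    (by rw [map_sub, hu, sub_self]) (by rw [map_sub, hu', sub_self])
  rw [← sub_add_cancel u u', br_add fr h7 σ hs hc hP, this, one_mul]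

/-- Root elements fix their own values. -/
theorem br_self_conj {e k u : W} (hk : Q' k = 0) (h : Comp Q' e k) :
    lg fr σ hs (el Q' e k) * br fr σ hs (el Q' e k) u * (lg fr σ hs (el Q' e k))⁻¹ =
      br fr σ hs (el Q' e k) u := by
  have h5 := finrank_w fr h7
  obtain ⟨he, hek, hli⟩ := h
  rw [br_conj fr h7 σ hs hc (σ_lg fr σ hs _), mul_inv_cancel_right]
  refine br_aux fr h7 σ hs hc hP hq hA hk ⟨he, hek, hli⟩ ?_ ?_
  · rw [coe_el fr.nd' h5 he hek, eichler_apply he hek]
    simp [polB_self, he, hek]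
  · rw [coe_el fr.nd' h5 he hek, eichler_apply he hek]
    simp [polB_self, hk, polB_comm k e, hek]

theorem br_el_inv {e k u : W} (hk : Q' k = 0) (h : Comp Q' e k) :
    br fr σ hs (el Q' e k)⁻¹ u = (br fr σ hs (el Q' e k) u)⁻¹ := by
  have e1 : ⁅(lg fr σ hs (el Q' e k))⁻¹, la fr σ hs u⁆ = br fr σ hs (el Q' e k)⁻¹ u :=
    br_congr fr h7 σ hs hc (by rw [map_inv, σ_lg, map_inv]) (σ_la fr σ hs u)
  have e2 := br_self_conj fr h7 σ hs hc hP hq hA (u := u) hk h
  have hcm : Commute (lg fr σ hs (el Q' e k)) (br fr σ hs (el Q' e k) u) :=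
    mul_inv_eq_iff_eq_mul.1 e2
  rw [← e1, show ⁅(lg fr σ hs (el Q' e k))⁻¹, la fr σ hs u⁆ = (lg fr σ hs (el Q' e k))⁻¹ *
      (br fr σ hs (el Q' e k) u)⁻¹ * lg fr σ hs (el Q' e k) by
        rw [br, commutatorElement_def, commutatorElement_def]; group,
    mul_assoc, ← hcm.inv_right.eq, inv_mul_cancel_left]

omit hA hq hP hc h7 [Finite F] [FiniteDimensional F V] in
theorem comp_neg {e k : W} (h : Comp Q' e k) : Comp Q' (-e) k := by
  obtain ⟨he, hek, hli⟩ := h
  refine ⟨by rw [qmap_neg, he], by simp [hek], ?_⟩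
  rw [LinearIndependent.pair_iff] at hli ⊢
  intro r t hrt
  obtain ⟨h1, h2⟩ := hli (-r) t (by linear_combination (norm := module) hrt)
  exact ⟨neg_eq_zero.1 h1, h2⟩

omit hA hq hP hc in
theorem σ_br_comp {e k u : W} (h : Comp Q' e k) (h1 : polB Q' e u = 1) (h2 : polB Q' k u = 0)
    (hk : Q' k = 0) : σ (br fr σ hs (el Q' e k) u) = eOm fr k := by
  rw [σ_br fr h7 σ hs, coe_el fr.nd' (finrank_w fr h7) h.1 h.2.1, eichler_apply h.1 h.2.1,
    polB_comm u e, h1, polB_comm u k, h2, hk]
  simp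

/-- Companions with equal non-zero polar value against a third give the same value. -/
theorem val_move {e e' e1 k u u' : W} (hk : Q' k = 0) (h : Comp Q' e k) (h' : Comp Q' e' k)
    (he1 : Q' e1 = 0) (he1k : polB Q' e1 k = 0) (hb : polB Q' e e1 ≠ 0)
    (hbb : polB Q' e' e1 = polB Q' e e1) (hu1 : polB Q' e u = 1) (hu2 : polB Q' k u = 0)
    (hu1' : polB Q' e' u' = 1) (hu2' : polB Q' k u' = 0) :
    br fr σ hs (el Q' e k) u = br fr σ hs (el Q' e' k) u' := by
  have h5 := finrank_w fr h7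
  have hnd := fr.nd'
  have hk0 : k ≠ 0 := h.2.2.ne_zero 1
  have hee1 : polB Q' k e1 = 0 := by rw [polB_comm]; exact he1k
  have hc1 : Comp Q' e1 k := ⟨he1, he1k, by
    rw [LinearIndependent.pair_iff]
    intro r t hrt
    have h1 := congrArg (polB Q' e) hrt
    simp [h.2.1, hb] at h1
    rw [h1, zero_smul, zero_add, smul_eq_zero] at hrt
    exact ⟨h1, hrt.resolve_right hk0⟩⟩
  have hk1 : k ∉ F ∙ e1 := fun hm => by
    obtain ⟨r, hr⟩ := Submodule.mem_span_singleton.1 hm
    exact one_ne_zero (α := F) (neg_eq_zero.1 ((LinearIndependent.pair_iff.1 hc1.2.2) r (-1)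
      (by rw [hr, neg_one_smul, add_neg_cancel])).2)
  obtain ⟨u1, hv1, hv2⟩ := exists_polB_eq₂ hnd (hc1.2.2.ne_zero 0) hk1 1 0
  set b := polB Q' e e1 with hbdef
  set m := b⁻¹ • (e' - e) with hm
  have he1m : polB Q' e1 m = 0 := by
    rw [hm, map_smul, map_sub, polB_comm e1 e', polB_comm e1 e, hbb, ← hbdef, sub_self, smul_zero]
  have hkm : polB Q' k m = 0 := by
    rw [hm, map_smul, map_sub, polB_comm k e', polB_comm k e, h'.2.1, h.2.1, sub_self, smul_zero]
  set l := el Q' e1 m
  have hlk : l.1.1 k = k := by rw [coe_el hnd h5 he1 he1m, eichler_fix he1 he1m hee1 hkm]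
  have hl1 : l.1.1 e1 = e1 := by rw [coe_el hnd h5 he1 he1m, eichler_self_fix he1 he1m]
  have hle : l.1.1 e = e' := by
    rw [coe_el hnd h5 he1 he1m, eichler_apply he1 he1m, ← hbdef, hm, smul_smul,
      mul_inv_cancel₀ hb, one_smul, qmap_smul, map_smul, qmap_sub, h.1, h'.1, polB_comm e' e,
      map_sub, polB_self, h.1, smul_eq_mul]
    match_scalars <;> field_simp <;> ring
  have hel : l * el Q' e k * l⁻¹ = el Q' e' k := by rw [el_conj hnd h5 l h.1 h.2.1, hle, hlk]
  have hel1 : l * el Q' e1 k * l⁻¹ = el Q' e1 k := by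
    rw [el_conj hnd h5 l he1 he1k, hl1, hlk]
  obtain ⟨L, hL⟩ := hs (fr.extOm l)
  set A := br fr σ hs (el Q' e k) u
  set B := br fr σ hs (el Q' e1 k) u1
  have hAB : Commute L (A * B⁻¹) := Subgroup.mem_center_iff.1 (hc (by
    rw [MonoidHom.mem_ker, map_mul, map_inv, σ_br_comp fr h7 σ hs h hu1 hu2 hk,
      σ_br_comp fr h7 σ hs hc1 hv1 hv2 hk, mul_inv_cancel])) L
  have eA : L * A * L⁻¹ = br fr σ hs (el Q' e' k) u' := by
    rw [br_conj fr h7 σ hs hc hL, hel]
    refine br_aux fr h7 σ hs hc hP hq hA hk h' ?_ ?_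
    · rw [← hle, orth_polB_map, hu1, hle, hu1']
    · rw [← hlk, orth_polB_map, hu2, hlk, hu2']
  have eB : L * B * L⁻¹ = B := by
    rw [br_conj fr h7 σ hs hc hL, hel1]
    refine br_aux fr h7 σ hs hc hP hq hA hk hc1 ?_ ?_
    · nth_rw 1 [← hl1]; rw [orth_polB_map]
    · nth_rw 1 [← hlk]; rw [orth_polB_map]
  have h3 : L * (A * B⁻¹) * L⁻¹ = (L * A * L⁻¹) * (L * B * L⁻¹)⁻¹ := by group
  rw [hAB.eq, mul_inv_cancel_right, eA, eB] at h3
  exact mul_right_cancel h3

/-- A companion with non-zero polar values to two companions identifies their values. -/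
theorem val_common {e e' e1 k u u' : W} (hk : Q' k = 0) (h : Comp Q' e k) (h' : Comp Q' e' k)
    (he1 : Q' e1 = 0) (he1k : polB Q' e1 k = 0) (hb : polB Q' e e1 ≠ 0)
    (hb' : polB Q' e' e1 ≠ 0) (hu1 : polB Q' e u = 1) (hu2 : polB Q' k u = 0)
    (hu1' : polB Q' e' u' = 1) (hu2' : polB Q' k u' = 0) :
    br fr σ hs (el Q' e k) u = br fr σ hs (el Q' e' k) u' := by
  have h5 := finrank_w fr h7
  by_cases hbb : polB Q' e' e1 = polB Q' e e1
  · exact val_move fr h7 σ hs hc hP hq hA hk h h' he1 he1k hb hbb hu1 hu2 hu1' hu2'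
  have hn : polB Q' e' e1 = -polB Q' e e1 := by
    rcases hq (polB Q' e e1) with h1 | h1 | h1 <;> rcases hq (polB Q' e' e1) with h2 | h2 | h2 <;>
      first
      | exact absurd h1 hb
      | exact absurd h2 hb'
      | exact absurd (h2.trans h1.symm) hbb
      | simp [h1, h2]
  rw [val_move fr h7 σ hs hc hP hq hA hk h (comp_neg h') he1 he1k hb
    (by rw [map_neg, LinearMap.neg_apply, hn, neg_neg]) hu1 hu2 (u' := -u')
    (by simp [hu1']) (by simp [hu2'])]
  have e3 : el Q' (-e') k = (el Q' e' k)⁻¹ := by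
    apply Subtype.ext
    show _ = (el Q' e' k).1⁻¹
    rw [coe_el fr.nd' h5 (by rw [qmap_neg, h'.1]) (by simp [h'.2.1]),
      coe_el fr.nd' h5 h'.1 h'.2.1, eichler_inv h'.1 h'.2.1,
      ← eichler_smul_left h'.1 (by simp [h'.2.1] : polB Q' e' (-k) = 0) (t := (-1 : F)) (by simp)]
    simp [inv_neg]
  rw [e3, br_el_inv fr h7 σ hs hc hP hq hA hk h', br_neg fr h7 σ hs hc hP, inv_inv]

/-- The value at `k` is canonical. -/
theorem val_unique {e e' k u u' : W} (hk : Q' k = 0) (h : Comp Q' e k) (h' : Comp Q' e' k)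
    (hu1 : polB Q' e u = 1) (hu2 : polB Q' k u = 0) (hu1' : polB Q' e' u' = 1)
    (hu2' : polB Q' k u' = 0) :
    br fr σ hs (el Q' e k) u = br fr σ hs (el Q' e' k) u' := by
  have hnd := fr.nd'
  have he0 : e ≠ 0 := h.2.2.ne_zero 0
  have hk0 : k ≠ 0 := h.2.2.ne_zero 1
  by_cases hb : polB Q' e e' = 0
  · obtain ⟨w, hwk, hwe, hwe'⟩ :
        ∃ w, polB Q' k w = 0 ∧ polB Q' e w = 1 ∧ polB Q' e' w ≠ 0 := by
      by_cases hsp : e' ∈ Submodule.span F {e, k}
      · obtain ⟨α, β, rfl⟩ := Submodule.mem_span_pair.1 hsp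
        have hek' : k ∉ F ∙ e := fun hm => by
          obtain ⟨r, hr⟩ := Submodule.mem_span_singleton.1 hm
          exact one_ne_zero (α := F) (neg_eq_zero.1 ((LinearIndependent.pair_iff.1 h.2.2) r (-1)
            (by rw [hr, neg_one_smul, add_neg_cancel])).2)
        obtain ⟨w, h1, h2⟩ := exists_polB_eq₂ hnd he0 hek' 1 0
        refine ⟨w, h2, h1, ?_⟩
        simp [h1, h2]
        rintro rfl
        exact one_ne_zero (α := F) (neg_eq_zero.1 ((LinearIndependent.pair_iff.1 h'.2.2) (-1) β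
          (by simp)).1)
      · have hsp' : e ∉ Submodule.span F {e', k} := fun hm => by
          obtain ⟨r, t, hrt⟩ := Submodule.mem_span_pair.1 hm
          have hr : r ≠ 0 := fun h0 => by
            rw [h0, zero_smul, zero_add] at hrt
            exact one_ne_zero (α := F) ((LinearIndependent.pair_iff.1 h.2.2) 1 (-t)
              (by rw [one_smul, neg_smul, ← hrt, add_neg_cancel])).1
          refine hsp (Submodule.mem_span_pair.2 ⟨r⁻¹, -(r⁻¹ * t), ?_⟩)
          rw [← hrt, smul_add, smul_smul, smul_smul, inv_mul_cancel₀ hr, one_smul]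
          module
        obtain ⟨w1, a1, b1⟩ := exists_orth_polB_eq hnd hsp' 1
        obtain ⟨w2, a2, b2⟩ := exists_orth_polB_eq hnd hsp 1
        have q1 := a1 e' (Submodule.subset_span (Set.mem_insert _ _))
        have q2 := a1 k (Submodule.subset_span (Set.mem_insert_of_mem _ rfl))
        have q3 := a2 e (Submodule.subset_span (Set.mem_insert _ _))
        have q4 := a2 k (Submodule.subset_span (Set.mem_insert_of_mem _ rfl))
        exact ⟨w1 + w2, by simp [q2, q4], by simp [b1, q3], by simp [q1, b2]⟩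
    refine val_common fr h7 σ hs hc hP hq hA hk h h' (e1 := w + (-Q' w) • e) ?_ ?_ ?_ ?_
      hu1 hu2 hu1' hu2'
    · rw [qmap_add_smul, h.1, polB_comm w e, hwe]; ring
    · rw [polB_comm]
      simp [hwk, polB_comm k e, h.2.1]
    · simp [hwe, polB_self, h.1]
    · simp [polB_comm e' e, hb, hwe']
  · set b := polB Q' e e'
    have hp : HypPair Q' e (b⁻¹ • e') := ⟨h.1, by rw [qmap_smul, h'.1, mul_zero],
      by rw [map_smul, smul_eq_mul, inv_mul_cancel₀ hb]⟩
    obtain ⟨f2⟩ := exists_frame hnd hp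
    obtain ⟨k', hk'⟩ := f2.surj k h.2.1 (by simp [h'.2.1])
    have hk'0 : k' ≠ 0 := fun h0 => hk0 (by rw [← hk', h0, map_zero])
    obtain ⟨k2, hp2⟩ := exists_hypPair f2.nd' (show _ = (0 : F) by rw [← f2.form, hk', hk]) hk'0
    obtain ⟨f3⟩ := exists_frame f2.nd' hp2
    have := f2.finrank_eq
    have := f3.finrank_eq
    have := finrank_w fr h7
    obtain ⟨c, hc0⟩ := exists_aniso' f3.nd' (by omega)
    have hc3 : Q' (f2.j (f3.j c)) ≠ 0 := by rw [f2.form, f3.form]; exact hc0
    set c' := f2.j (f3.j c)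
    have hec : polB Q' e c' = 0 := (f2.orth _).1
    have he'c : polB Q' e' c' = 0 := by
      have := (f2.orth (f3.j c)).2
      rwa [map_smul, LinearMap.smul_apply, smul_eq_mul, mul_eq_zero,
        or_iff_right (inv_ne_zero hb)] at this
    have hkc : polB Q' k c' = 0 := by rw [← hk', f2.bform]; exact (f3.orth c).1
    set β := -(Q' c' / b) with hβ
    have hβ0 : β ≠ 0 := neg_ne_zero.2 (div_ne_zero hc3 hb)
    refine val_common fr h7 σ hs hc hP hq hA hk h h' (e1 := e + β • e' + c') ?_ ?_ ?_ ?_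
      hu1 hu2 hu1' hu2'
    · rw [qmap_add, qmap_add, qmap_smul, h.1, h'.1, map_add, LinearMap.add_apply, hec, map_smul,
        map_smul, LinearMap.smul_apply, he'c, smul_eq_mul, smul_eq_mul]
      rw [hβ]; field_simp; ring
    · rw [polB_comm]
      simp [polB_comm k e, polB_comm k e', h.2.1, h'.2.1, hkc]
    · simp [polB_self, h.1, hec, hβ0]; exact hb
    · simp [polB_self, h'.1, he'c, polB_comm e' e]; exact hb

omit hq hP hA hc hs in
include fr in
theorem exists_val {k : W} (hk : Q' k = 0) (hk0 : k ≠ 0) :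
    ∃ e u, Comp Q' e k ∧ polB Q' e u = 1 ∧ polB Q' k u = 0 := by
  obtain ⟨k', hp⟩ := exists_hypPair fr.nd' hk hk0
  obtain ⟨a, b, hq', h1, -, h3, -⟩ := exists_orth_pair fr.nd' (finrank_w fr h7) hp
  have hcomp : Comp Q' a k := ⟨hq'.left, by rw [polB_comm]; exact h1, by
    rw [LinearIndependent.pair_iff]
    intro r t hrt
    have ht : t = 0 := by
      have e1 := congrArg (polB Q' k') hrt
      simpa [h3, hp.symm.pair] using e1
    rw [ht, zero_smul, add_zero, smul_eq_zero] at hrt
    exact ⟨hrt.resolve_right hq'.left_ne_zero, ht⟩⟩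
  have hk' : k ∉ F ∙ a := fun hm => by
    obtain ⟨r, hr⟩ := Submodule.mem_span_singleton.1 hm
    exact one_ne_zero (α := F) (neg_eq_zero.1 ((LinearIndependent.pair_iff.1 hcomp.2.2) r (-1)
      (by rw [hr, neg_one_smul, add_neg_cancel])).2)
  obtain ⟨u, hu1, hu2⟩ := exists_polB_eq₂ fr.nd' hq'.left_ne_zero hk' 1 0
  exact ⟨a, u, hcomp, hu1, hu2⟩

omit hA hq hP hc h7 [FiniteDimensional F W] in
open scoped Classical in
/-- The section on singular vectors. -/
noncomputable def sec (k : W) : Γ :=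
  if h : ∃ e u, Comp Q' e k ∧ polB Q' e u = 1 ∧ polB Q' k u = 0 then
    br fr σ hs (el Q' h.choose k) h.choose_spec.choose
  else 1

theorem sec_eq {e k u : W} (hk : Q' k = 0) (h : Comp Q' e k) (h1 : polB Q' e u = 1)
    (h2 : polB Q' k u = 0) : sec fr σ hs k = br fr σ hs (el Q' e k) u := by
  have hex : ∃ e u, Comp Q' e k ∧ polB Q' e u = 1 ∧ polB Q' k u = 0 := ⟨e, u, h, h1, h2⟩
  rw [sec, dif_pos hex]
  obtain ⟨a, b, c⟩ := hex.choose_spec.choose_spec
  exact val_unique fr h7 σ hs hc hP hq hA hk a h b c h1 h2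

omit hA hq hP hc h7 [FiniteDimensional F W] in
theorem sec_zero : sec fr σ hs 0 = 1 := by
  rw [sec, dif_neg]
  rintro ⟨e, u, ⟨-, -, hli⟩, -⟩
  exact hli.ne_zero 1 rfl

theorem σ_sec {k : W} (hk : Q' k = 0) : σ (sec fr σ hs k) = eOm fr k := by
  by_cases hk0 : k = 0
  · rw [hk0, sec_zero fr σ hs, map_one, eOm_zero fr h7]
  obtain ⟨e, u, h, h1, h2⟩ := exists_val fr h7 hk hk0
  rw [sec_eq fr h7 σ hs hc hP hq hA hk h h1 h2, σ_br_comp fr h7 σ hs h h1 h2 hk]

/-- The section is equivariant. -/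
theorem sec_conj {L : Γ} {l : Om Q'} (hL : σ L = fr.extOm l) {k : W} (hk : Q' k = 0) :
    L * sec fr σ hs k * L⁻¹ = sec fr σ hs (l.1.1 k) := by
  by_cases hk0 : k = 0
  · rw [hk0, map_zero, sec_zero fr σ hs, mul_one, mul_inv_cancel]
  obtain ⟨e, u, h, h1, h2⟩ := exists_val fr h7 hk hk0
  rw [sec_eq fr h7 σ hs hc hP hq hA hk h h1 h2, br_conj fr h7 σ hs hc hL,
    el_conj fr.nd' (finrank_w fr h7) l h.1 h.2.1]
  refine (sec_eq fr h7 σ hs hc hP hq hA (by rw [orth_qmap, hk])
    ⟨by rw [orth_qmap, h.1], by rw [orth_polB_map, h.2.1], ?_⟩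
    (by rw [orth_polB_map, h1]) (by rw [orth_polB_map, h2])).symm
  rw [LinearIndependent.pair_iff]
  intro r t hrt
  refine LinearIndependent.pair_iff.1 h.2.2 r t (l.1.1.injective ?_)
  rw [map_add, map_smul, map_smul, hrt, map_zero]

/-- Additivity on orthogonal independent singular vectors. -/
theorem sec_add_indep {k k' : W} (hk : Q' k = 0) (hk' : Q' k' = 0) (hkk : polB Q' k k' = 0)
    (hli : LinearIndependent F ![k', k]) :
    sec fr σ hs (k + k') = sec fr σ hs k * sec fr σ hs k' := by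
  have hnd := fr.nd'
  have h5 := finrank_w fr h7
  have hk'k : polB Q' k' k = 0 := by rw [polB_comm]; exact hkk
  have hk'0 : k' ≠ 0 := hli.ne_zero 0
  have hn : k ∉ F ∙ k' := fun hm => by
    obtain ⟨r, hr⟩ := Submodule.mem_span_singleton.1 hm
    exact one_ne_zero (α := F) (neg_eq_zero.1 ((LinearIndependent.pair_iff.1 hli) r (-1)
      (by rw [hr, neg_one_smul, add_neg_cancel])).2)
  obtain ⟨u1, a1, b1⟩ := exists_polB_eq₂ hnd hk'0 hn 1 0
  obtain ⟨u2, a2, b2⟩ := exists_polB_eq₂ hnd hk'0 hn 0 1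
  have hc1 : Comp Q' k' k := ⟨hk', hk'k, hli⟩
  have hc2 : Comp Q' k k' := ⟨hk, hkk, LinearIndependent.pair_symm_iff.1 hli⟩
  have hc3 : Comp Q' k' (k + k') := ⟨hk', by simp [hk'k, polB_self, hk'], by
    rw [LinearIndependent.pair_iff]
    intro r t hrt
    obtain ⟨p1, p2⟩ := (LinearIndependent.pair_iff.1 hli) (r + t) t
      (by linear_combination (norm := module) hrt)
    exact ⟨by rwa [p2, add_zero] at p1, p2⟩⟩
  have hel : el Q' k' (k + k') = el Q' k' k := by
    apply Subtype.ext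
    rw [coe_el hnd h5 hk' hc3.2.1, coe_el hnd h5 hk' hk'k]
    have := eichler_add_smul hk' hk'k (1 : F)
    rwa [one_smul] at this
  rw [sec_eq fr h7 σ hs hc hP hq hA (by rw [qmap_add, hk, hk', hkk]; simp) hc3 (u := u1 + -u2)
      (by simp [a1, a2]) (by simp [a1, a2, b1, b2]), hel,
    sec_eq fr h7 σ hs hc hP hq hA hk hc1 a1 b1, sec_eq fr h7 σ hs hc hP hq hA hk' hc2 b2 a2,
    br_add fr h7 σ hs hc hP, el_swap fr h7 hk' hk hk'k, el_neg_eq_inv fr h7 hk' hk'k,
    br_el_inv fr h7 σ hs hc hP hq hA hk hc1, br_neg fr h7 σ hs hc hP]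

theorem sec_neg {k : W} (hk : Q' k = 0) : sec fr σ hs (-k) = (sec fr σ hs k)⁻¹ := by
  by_cases hk0 : k = 0
  · rw [hk0, neg_zero, sec_zero fr σ hs, inv_one]
  obtain ⟨e, -, ⟨he, hek, hli⟩, -⟩ := exists_val fr h7 hk hk0
  have hli' := LinearIndependent.pair_iff.1 hli
  have h1 := sec_add_indep fr h7 σ hs hc hP hq hA he hk hek (LinearIndependent.pair_symm_iff.1 hli)
  have h2 := sec_add_indep fr h7 σ hs hc hP hq hA (k := e + k) (k' := -k)
    (by rw [qmap_add, he, hk, hek]; simp) (by rw [qmap_neg, hk]) (by simp [hek, polB_self, hk])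
    (by
      rw [LinearIndependent.pair_iff]
      intro r t hrt
      obtain ⟨p1, p2⟩ := hli' t (t - r) (by linear_combination (norm := module) hrt)
      exact ⟨(sub_eq_zero.1 p2).symm.trans p1, p1⟩)
  rw [add_neg_cancel_right, h1, mul_assoc, left_eq_mul] at h2
  exact eq_inv_of_mul_eq_one_right h2

variable (hord : ∀ (g : Γ) (a : W), σ g = eOm fr a →
  ((2 : F) = 0 → g * g = 1) ∧ ((3 : F) = 0 → g * g * g = 1))
include hord

/-- Additivity on orthogonal singular vectors. -/
theorem sec_add {k k' : W} (hk : Q' k = 0) (hk' : Q' k' = 0) (hkk : polB Q' k k' = 0) :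
    sec fr σ hs (k + k') = sec fr σ hs k * sec fr σ hs k' := by
  by_cases hk'0 : k' = 0
  · rw [hk'0, add_zero, sec_zero fr σ hs, mul_one]
  by_cases hli : LinearIndependent F ![k', k]
  · exact sec_add_indep fr h7 σ hs hc hP hq hA hk hk' hkk hli
  rw [LinearIndependent.pair_iff' hk'0] at hli
  push Not at hli
  obtain ⟨r, hr⟩ := hli
  obtain ⟨h2, h3⟩ := hord (sec fr σ hs k') k' (σ_sec fr h7 σ hs hc hP hq hA hk')
  rcases hq r with h | h | h <;> subst h
  · rw [zero_smul] at hr
    rw [← hr, zero_add, sec_zero fr σ hs, one_mul]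
  · rw [one_smul] at hr
    rw [← hr]
    by_cases h2' : (2 : F) = 0
    · rw [← two_smul F k', h2', zero_smul, sec_zero fr σ hs, h2 h2']
    · have h3' : (3 : F) = 0 := by
        rcases hq 2 with h | h | h
        · exact absurd h h2'
        · exact absurd (by linear_combination h : (1 : F) = 0) one_ne_zero
        · linear_combination h
      rw [← two_smul F k', show (2 : F) = -1 by linear_combination h3', neg_one_smul,
        sec_neg fr h7 σ hs hc hP hq hA hk']
      exact inv_eq_of_mul_eq_one_left (by rw [← h3 h3', mul_assoc])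
  · rw [neg_one_smul] at hr
    rw [← hr, neg_add_cancel, sec_zero fr σ hs, sec_neg fr h7 σ hs hc hP hq hA hk', inv_mul_cancel]

/-- The complement to the kernel over the radical. -/
theorem good_of_section : Good σ x := by
  classical
  have h5 := finrank_w fr h7
  have hnd := fr.nd'
  let A : Subgroup Γ := (radU Q x).comap σ
  have hAe : ∀ g ∈ A, ∃ a, σ g = eOm fr a := fun g hg => by
    obtain ⟨a, ha⟩ := fr.mem_radO_iff.1 (show (σ g).1 ∈ radO Q x from hg)
    exact ⟨a, Subtype.ext (by rw [coe_eOm fr h7, ha])⟩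
  letI : CommGroup A := { (inferInstance : Group A) with
    mul_comm := fun g g' => by
      obtain ⟨a, ha⟩ := hAe g g.2
      obtain ⟨b, hb⟩ := hAe g' g'.2
      exact Subtype.ext (commute_of_cP fr h7 σ hs hc hP ha hb).eq }
  have hmemA : ∀ k, Q' k = 0 → sec fr σ hs k ∈ A := fun k hk => by
    show σ _ ∈ radU Q x
    rw [σ_sec fr h7 σ hs hc hP hq hA hk]
    exact el_mem_radU fr.nd (by omega) fr.qx (fr.orth k).1
  let S : W → Additive A := fun k =>
    if hk : Q' k = 0 then Additive.ofMul ⟨sec fr σ hs k, hmemA k hk⟩ else 0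
  have hS : ∀ {k}, Q' k = 0 → ((S k).toMul : Γ) = sec fr σ hs k := fun {k} hk => by
    simp only [S, dif_pos hk]; rfl
  have hSadd : ∀ {k k'}, Q' k = 0 → Q' k' = 0 → polB Q' k k' = 0 → S (k + k') = S k + S k' := by
    intro k k' hk hk' hkk
    apply Additive.toMul.injective
    apply Subtype.ext
    show _ = ((S k).toMul : Γ) * ((S k').toMul : Γ)
    rw [hS hk, hS hk', hS (by rw [qmap_add, hk, hk', hkk]; simp),
      sec_add fr h7 σ hs hc hP hq hA hord hk hk' hkk]
  have hS0 : S 0 = 0 := by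
    apply Additive.toMul.injective
    apply Subtype.ext
    rw [hS (map_zero _), sec_zero fr σ hs]
    rfl
  have hSneg : ∀ {k}, Q' k = 0 → S (-k) = -S k := fun {k} hk => by
    rw [eq_neg_iff_add_eq_zero, ← hSadd (by rw [qmap_neg, hk]) hk (by simp [polB_self, hk]),
      neg_add_cancel, hS0]
  obtain ⟨v, hv0, hv⟩ := exists_singular Q' (by omega)
  obtain ⟨w, hp⟩ := exists_hypPair hnd hv hv0
  obtain ⟨f2⟩ := exists_frame hnd hp
  have hline : ∀ {z : W}, Q' z = 0 → ∀ r r' : F, S ((r + r') • z) = S (r • z) + S (r' • z) :=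
    fun {z} hz r r' => by
    rw [add_smul, hSadd (by rw [qmap_smul, hz, mul_zero]) (by rw [qmap_smul, hz, mul_zero])
      (by simp [polB_self, hz])]
  let zc := fun c => f2.j c + v - (Q' (f2.j c)) • w
  have hwv : polB Q' w v = 1 := hp.symm.pair
  have hvv : polB Q' v v = 0 := by rw [polB_self, hv, mul_zero]
  have hww : polB Q' w w = 0 := by rw [polB_self, hp.right, mul_zero]
  have hqz : ∀ c, Q' (zc c) = 0 := fun c => by
    simp only [zc]
    rw [sub_eq_add_neg, ← neg_smul, qmap_add_smul, qmap_add, hp.left, hp.right,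
      map_add, LinearMap.add_apply, (f2.orth' c).1, (f2.orth' c).2, hp.pair]
    ring
  let Fc := fun c => S (zc c) - S v + S (Q' (f2.j c) • w)
  have hqw : ∀ r : F, Q' (r • w) = 0 := fun r => by rw [qmap_smul, hp.right, mul_zero]
  have hqv : ∀ r : F, Q' (r • v) = 0 := fun r => by rw [qmap_smul, hv, mul_zero]
  have hjw : ∀ c, polB Q' (f2.j c) w = 0 := fun c => (f2.orth' c).2
  have hjv : ∀ c, polB Q' (f2.j c) v = 0 := fun c => (f2.orth' c).1
  have hFk : ∀ c {k}, Q' (f2.j k) = 0 → Fc (c + k) = Fc c + S (f2.j k) := by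
    intro c k hk
    set β := polB Q' (f2.j c) (f2.j k)
    have hq' : Q' (f2.j (c + k)) = Q' (f2.j c) + β := by rw [map_add, qmap_add, hk, add_zero]
    have hz : zc (c + k) = zc c + (f2.j k + (-β) • w) := by
      simp only [zc]; rw [hq', map_add]; module
    have hsing : Q' (f2.j k + (-β) • w) = 0 := by
      rw [qmap_add_smul, hk, hp.right, hjw]; ring
    have horth : polB Q' (zc c) (f2.j k + (-β) • w) = 0 := by
      simp only [zc, map_add, map_sub, map_smul, LinearMap.add_apply, LinearMap.sub_apply,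
        LinearMap.smul_apply, (f2.orth k).1, (f2.orth k).2, hjw, hp.pair, hww, smul_eq_mul]
      ring
    simp only [Fc]
    rw [hz, hSadd (hqz c) hsing horth, hSadd hk (hqw _) (by rw [map_smul, hjw, smul_zero]), hq',
      hline hp.right, neg_smul, hSneg (hqw β)]
    abel
  have hF0 : Fc 0 = 0 := by
    simp [Fc, zc, hS0]
  have hFsing : ∀ {k}, Q' (f2.j k) = 0 → Fc k = S (f2.j k) := fun {k} hk => by
    have := hFk 0 hk
    rwa [zero_add, hF0, zero_add] at this
  have hFadd : ∀ c d, Fc (c + d) = Fc c + Fc d := by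
    have h2 := f2.finrank_eq
    obtain ⟨z0, hz0, hz⟩ := exists_singular
      (Q'.restrict ((polB Q').orthogonal (Submodule.span F {v, w}))) (by omega)
    intro c d
    suffices h : ∀ (r : F) c, Fc (c + r • d) = Fc c + Fc (r • d) by simpa using h 1 c
    have hd := mem_span_all_singular f2.nd' hz0 hz d
    clear c
    induction hd using Submodule.span_induction with
    | mem k hk =>
      intro r c
      have : Q' (f2.j (r • k)) = 0 := by rw [f2.form, qmap_smul, hk, mul_zero]
      rw [hFk c this, hFsing this]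
    | zero => intro r c; rw [smul_zero, add_zero, hF0, add_zero]
    | add a b _ _ ha hb =>
      intro r c; rw [smul_add, ← add_assoc, hb, ha, hb, add_assoc]
    | smul t a _ ha => intro r c; rw [smul_smul]; exact ha _ c
  have hFneg : ∀ c, Fc (-c) = -Fc c := fun c => by
    rw [eq_neg_iff_add_eq_zero, ← hFadd, neg_add_cancel, hF0]
  let T := fun z : W => S (polB Q' z w • v) + S (polB Q' z v • w) + Fc (f2.P z)
  have hTadd : ∀ a b, T (a + b) = T a + T b := fun a b => by
    simp only [T, map_add, LinearMap.add_apply]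
    rw [hline hv, hline hp.right, hFadd]
    abel
  have hTS : ∀ {z}, Q' z = 0 → T z = S z := by
    intro z hz
    have hd := f2.decomp z
    simp only [T]
    generalize polB Q' z w = α at hd
    generalize polB Q' z v = β at hd
    generalize f2.P z = c at hd
    subst hd
    have hγ : Q' (f2.j c) = -(α * β) := by
      rw [qmap_add, qmap_add, hqv, hqw] at hz
      simp [hp.pair, (f2.orth c).1, (f2.orth c).2] at hz
      linear_combination hz
    rcases hq α with h | h | h <;> subst h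
    · rw [zero_mul, neg_zero] at hγ
      rw [zero_smul, zero_add, hS0, zero_add, hFsing hγ,
        hSadd (hqw β) hγ (by simp [(f2.orth c).2])]
    · rw [one_mul] at hγ
      have hzc : zc c = (1 : F) • v + β • w + f2.j c := by
        simp only [zc]; rw [hγ]; module
      simp only [Fc]
      rw [hzc, hγ, one_smul, neg_smul, hSneg (hqw β)]
      abel
    · have hγ' : Q' (f2.j c) = β := by linear_combination hγ
      have hzc : zc (-c) = -((-1 : F) • v + β • w + f2.j c) := by
        simp only [zc]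
        rw [map_neg, qmap_neg, hγ']; module
      have hFc : Fc c = -Fc (-c) := by rw [hFneg, neg_neg]
      rw [hFc]
      simp only [Fc]
      rw [hzc, hSneg hz, map_neg, qmap_neg, hγ', neg_one_smul, hSneg hp.left]
      abel
  let Φ : Multiplicative W →* Γ := MonoidHom.mk' (fun a => ((T a.toAdd).toMul : Γ)) fun a b => by
    show ((T (a.toAdd + b.toAdd)).toMul : Γ) = _
    rw [hTadd]; rfl
  have hΦS : ∀ {z}, Q' z = 0 → Φ (Multiplicative.ofAdd z) = sec fr σ hs z := fun {z} hz => by
    show ((T z).toMul : Γ) = _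
    rw [hTS hz, hS hz]
  obtain ⟨z0, hz00, hz0⟩ := exists_singular Q' (by omega)
  have hσΦ : ∀ z, σ (Φ (Multiplicative.ofAdd z)) = eOm fr z := by
    intro z
    suffices h : ∀ r : F, σ (Φ (Multiplicative.ofAdd (r • z))) = eOm fr (r • z) by simpa using h 1
    have hz := mem_span_all_singular hnd hz00 hz0 z
    induction hz using Submodule.span_induction with
    | mem k hk =>
      intro r
      have hk' : Q' (r • k) = 0 := by rw [qmap_smul, hk, mul_zero]
      rw [hΦS hk', σ_sec fr h7 σ hs hc hP hq hA hk']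
    | zero => intro r; rw [smul_zero, ofAdd_zero, map_one, map_one, eOm_zero fr h7]
    | add a b _ _ ha hb => intro r; rw [smul_add, ofAdd_add, map_mul, map_mul, ha, hb, eOm_add fr h7]
    | smul t a _ ha => intro r; rw [smul_smul]; exact ha _
  have hΦconj : ∀ {L : Γ} {l : Om Q'}, σ L = fr.extOm l → ∀ z,
      L * Φ (Multiplicative.ofAdd z) * L⁻¹ = Φ (Multiplicative.ofAdd (l.1.1 z)) := by
    intro L l hL z
    suffices h : ∀ r : F, L * Φ (Multiplicative.ofAdd (r • z)) * L⁻¹ =
        Φ (Multiplicative.ofAdd (l.1.1 (r • z))) by simpa using h 1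
    have hz := mem_span_all_singular hnd hz00 hz0 z
    induction hz using Submodule.span_induction with
    | mem k hk =>
      intro r
      have hk' : Q' (r • k) = 0 := by rw [qmap_smul, hk, mul_zero]
      rw [hΦS hk', hΦS (by rw [orth_qmap, hk']), sec_conj fr h7 σ hs hc hP hq hA hL hk']
    | zero => intro r; rw [smul_zero, map_zero l.1.1, ofAdd_zero, map_one, mul_one, mul_inv_cancel]
    | add a b _ _ ha hb =>
      intro r
      rw [smul_add, map_add l.1.1, ofAdd_add, ofAdd_add, map_mul, map_mul, ← ha, ← hb]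
      group
    | smul t a _ ha => intro r; rw [smul_smul]; exact ha _
  refine ⟨Φ.range, ?_, ?_, ?_⟩
  · apply le_antisymm
    · rintro _ ⟨_, ⟨a, rfl⟩, rfl⟩
      rw [show σ (Φ a) = eOm fr a.toAdd from hσΦ a.toAdd]
      exact el_mem_radU fr.nd (by omega) fr.qx (fr.orth _).1
    · intro g hg
      obtain ⟨a, ha⟩ := fr.mem_radO_iff.1 (show g.1 ∈ radO Q x from hg)
      exact ⟨_, ⟨Multiplicative.ofAdd a, rfl⟩,
        (hσΦ a).trans (Subtype.ext (by rw [coe_eOm fr h7, ha]))⟩
  · rintro _ ⟨a, rfl⟩ hk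
    rw [show σ (Φ a) = eOm fr a.toAdd from hσΦ a.toAdd] at hk
    have h := fr.E_inj (a := a.toAdd) (b := 0) (by rw [← coe_eOm fr h7, hk, fr.E_zero]; rfl)
    rw [show a = 1 from h, map_one]
  · have key : ∀ g : Γ, σ g ∈ stab Q x → ∀ b ∈ Φ.range, g * b * g⁻¹ ∈ Φ.range := by
      rintro g hg _ ⟨a, rfl⟩
      obtain ⟨c, h, L, hL, rfl⟩ := exists_stab_parts fr h7 σ hs hc hg
      have hh : h ∈ commutator (orthGroup Q') := fr.mem_of_ext_mem h7 (hL ▸ (σ L).2)
      refine ⟨Multiplicative.ofAdd (h.1 a.toAdd), ?_⟩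
      have e := hΦconj (L := L) (l := ⟨h, hh⟩) (Subtype.ext hL) a.toAdd
      rw [ofAdd_toAdd] at e
      rw [show la fr σ hs c * L * Φ a * (la fr σ hs c * L)⁻¹ =
          la fr σ hs c * (L * Φ a * L⁻¹) * (la fr σ hs c)⁻¹ by group, e,
        (commute_of_cP fr h7 σ hs hc hP (σ_la fr σ hs c) (hσΦ _)).eq, mul_inv_cancel_right]
    intro g hg
    rw [Subgroup.mem_normalizer_iff]
    refine fun b => ⟨key g hg b, fun h => ?_⟩
    have := key g⁻¹ (by rw [map_inv]; exact inv_mem hg) _ h
    simpa [mul_assoc] using this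

end

end H45.O7
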