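import Cfsg.Agent.H51.FormAsch.OrthMax

/-!
Geometric structures for groups of isometries of a quadratic form in odd dimension, odd characteristic:
the list, and orthogonal decompositions.
-/

set_option autoImplicit false
set_option linter.style.haveILetI false
set_option linter.unusedSectionVars false
set_option maxHeartbeats 800000

open Cfsg.Geo
open scoped Matrix MatrixGroups Kronecker

namespace H45

namespace OrthStruct

open H51.FormAsch (sform_polar quad_rational)

variable {ι : Type} [Fintype ι] [DecidableEq ι] {F : Type*} [Field F] [Fintype F]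

/-- The possible structures. -/
inductive OddOutcome (q : QuadraticForm F (ι → F)) (H : Subgroup (GL ι F)) : Prop
  | singular (W : Submodule F (ι → F)) (hW : W ≠ ⊥) (hs : IsTotallySingularQuad ⇑q W)
      (h : H ≤ subspaceStabilizer W)
  | nondeg (W : Submodule F (ι → F)) (hW : W ≠ ⊥) (ht : W ≠ ⊤)
      (hn : IsNondegenerateOn (QuadraticMap.polar ⇑q) W) (h : H ≤ subspaceStabilizer W)
  | decomp (t k : ℕ) (D : Fin t → Submodule F (ι → F)) (hk : 1 < k) (hD : IsOrthogonalMDecomposition ⇑q k D)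
      (h : H ≤ decompositionStabilizer D)
  | frame (t : ℕ) (D : Fin t → Submodule F (ι → F)) (hp : (Fintype.card F).Prime)
      (hD : IsOrthogonalMDecomposition ⇑q 1 D) (h : H ≤ decompositionStabilizer D)
  | field (r : ℕ) (K : Subalgebra F (Matrix ι ι F)) (hr : r.Prime) (hne : Fintype.card ι ≠ r)
      (hK : IsFieldSubalgebra r K) (hsa : IsSelfAdjointFor (QuadraticMap.polar ⇑q) K)
      (h : H ≤ subalgebraNormalizer K)
  | tensor (n₁ n₂ : ℕ) (e : ι ≃ Fin n₁ × Fin n₂) (P : GL ι F)
      (f₁ : (Fin n₁ → F) → (Fin n₁ → F) → F) (f₂ : (Fin n₂ → F) → (Fin n₂ → F) → F)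
      (h1 : 3 ≤ n₁) (h2 : n₁ < n₂) (hf₁ : IsSymmetricForm f₁) (hf₂ : IsSymmetricForm f₂)
      (hs : IsTensorFormStructure id (QuadraticMap.polar ⇑q) f₁ f₂ e P)
      (h : H ≤ tensorProductSubgroup n₁ n₂ e P)
  | subfield (F₀ : Subfield F) (r : ℕ) (P : GL ι F) (hr : r.Prime) (hc : Fintype.card F = Nat.card F₀ ^ r)
      (hR : IsQuadFormRationalStructure ⇑q F₀ P) (h : H ≤ subfieldSubgroup F₀ P)
  | power (k t : ℕ) (e : ι ≃ (Fin t → Fin k)) (P : GL ι F) (f₁ : (Fin k → F) → (Fin k → F) → F)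
      (hk : 3 ≤ k) (ht : 2 ≤ t) (hex : ¬ (Fintype.card F = 3 ∧ k = 3)) (hf₁ : IsSymmetricForm f₁)
      (hs : IsTensorPowerFormStructure id (QuadraticMap.polar ⇑q) f₁ e P)
      (h : H ≤ tensorWreathSubgroup k t e P)
  | residual (h : InOrthogonalResidualClass H)

/-- An irreducible group permutes the members of a decomposition transitively. -/
theorem transitive_of_irreducible {H : Subgroup (GL ι F)} (hirr : ActsIrreducibly (matrixSet H)) {t k : ℕ}
    {D : Fin t → Submodule F (ι → F)} (hD : IsMDecomposition k D) (h : H ≤ decompositionStabilizer D)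
    (i j : Fin t) : ∃ g ∈ H, (D i).map (Matrix.toLin' (g : Matrix ι ι F)) = D j := by
  classical
  have hne : ∀ l, D l ≠ ⊥ := fun l e => by
    have := hD.finrank_eq l
    rw [e, finrank_bot] at this
    exact absurd hD.pos (by omega)
  let orbit : Set (Fin t) := {j | ∃ g ∈ H, (D i).map (Matrix.toLin' (g : Matrix ι ι F)) = D j}
  have hmem : i ∈ orbit := ⟨1, one_mem H, by simp⟩
  have hW : (⨆ l ∈ orbit, D l) = ⊤ := by
    refine (hirr _ ?_).resolve_left fun e => hne i (eq_bot_iff.2 (e ▸ le_iSup₂_of_le _ hmem le_rfl))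
    rintro _ ⟨g, hg, rfl⟩
    rw [Submodule.map_iSup]
    refine iSup_le fun l => ?_
    rw [Submodule.map_iSup]
    refine iSup_le fun hl => ?_
    obtain ⟨g', hg', hgl⟩ := hl
    obtain ⟨s, hs⟩ := h hg
    rw [hs l]
    refine le_iSup₂_of_le (s l) ⟨g * g', mul_mem hg hg', ?_⟩ le_rfl
    rw [Units.val_mul, Matrix.toLin'_mul, Submodule.map_comp, hgl, hs l]
  by_contra hj
  apply hne j
  rw [eq_bot_iff]
  refine le_trans ?_ (hD.indep.disjoint_biSup (y := orbit) (fun hmem => hj hmem)).le_bot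
  exact le_inf le_rfl (hW ▸ le_top)

variable {q : QuadraticForm F (ι → F)} {H : Subgroup (GL ι F)}

/-- The members of a decomposition permuted by an irreducible group of isometries are isometric. -/
theorem isometric_of_irreducible (hiso : ∀ g ∈ H, ∀ x, q ((g : Matrix ι ι F) *ᵥ x) = q x)
    (hirr : ActsIrreducibly (matrixSet H)) {t k : ℕ}
    {D : Fin t → Submodule F (ι → F)} (hD : IsNondegenerateMDecomposition (QuadraticMap.polar ⇑q) k D)
    (h : H ≤ decompositionStabilizer D) : IsOrthogonalMDecomposition ⇑q k D := by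
  refine ⟨hD, fun i j => ?_⟩
  obtain ⟨g, hg, hgij⟩ := transitive_of_irreducible hirr hD.decomp h i j
  have hinj : Function.Injective (Matrix.toLin' (g : Matrix ι ι F)) := fun u v huv => by
    have := congrArg (fun z => ((g⁻¹ : GL ι F) : Matrix ι ι F) *ᵥ z) huv
    simpa [Matrix.mulVec_mulVec] using this
  refine ⟨(Submodule.equivMapOfInjective _ hinj (D i)).trans (LinearEquiv.ofEq _ _ hgij), fun w => ?_⟩
  rw [LinearEquiv.trans_apply, LinearEquiv.coe_ofEq_apply, Submodule.coe_equivMapOfInjective_apply,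
    Matrix.toLin'_apply]
  exact hiso g hg _

/-- A frame over a field which is not prime gives a subfield structure. -/
theorem subfield_of_frame (hq : (H43.polB q).Nondegenerate) (h2 : (2 : F) ≠ 0) (hodd : Odd (Fintype.card ι))
    (hstd : ∀ (K : Subfield F) i j, gramMatrix (QuadraticMap.polar ⇑q) i j ∈ K)
    (hiso' : ∀ g ∈ H, ∀ x, q ((g : Matrix ι ι F) *ᵥ x) = q x)
    {t : ℕ} {D : Fin t → Submodule F (ι → F)}
    (hD : IsOrthogonalMDecomposition ⇑q 1 D) (h : H ≤ decompositionStabilizer D)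
    (hp : ¬ (Fintype.card F).Prime) : OddOutcome q H := by
  classical
  have hs := sform_polar hq
  have hct : Fintype.card ι = t := by
    have hint : DirectSum.IsInternal D :=
      DirectSum.isInternal_submodule_of_iSupIndep_of_iSup_eq_top hD.decomp.decomp.indep hD.decomp.decomp.iSup_eq_top
    rw [← Module.finrank_fintype_fun_eq_card F, Module.finrank_eq_card_basis
      (hint.collectedBasis fun i => Module.finBasisOfFinrankEq F (D i) (hD.decomp.decomp.finrank_eq i))]
    simp
  have hd : ∀ i, ∃ d, d ∈ D i ∧ d ≠ 0 := fun i => (D i).exists_mem_ne_zero_of_ne_bot fun e => by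
    have := hD.decomp.decomp.finrank_eq i
    rw [e, finrank_bot] at this
    omega
  choose d hd hd0 using hd
  have hline : ∀ i, ∀ y ∈ D i, ∃ c : F, y = c • d i := by
    intro i y hy
    obtain ⟨c, hc⟩ := (finrank_eq_one_iff_of_nonzero' (⟨d i, hd i⟩ : D i) (fun e => hd0 i (congrArg Subtype.val e))).1
      (hD.decomp.decomp.finrank_eq i) ⟨y, hy⟩
    exact ⟨c, (congrArg Subtype.val hc).symm⟩
  have hqd : ∀ i, q (d i) ≠ 0 := by
    intro i hq0
    obtain ⟨y, hy, hyd⟩ := (hD.decomp.nondegenerate i (d i) (hd i) (hd0 i)).1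
    obtain ⟨c, rfl⟩ := hline i y hy
    apply hyd
    rw [← H43.polB_apply, map_smul, LinearMap.smul_apply, H43.polB_self, hq0, mul_zero, smul_zero]
  have hmove : ∀ g ∈ H, ∀ i, ∃ (j : Fin t) (c : F), (g : Matrix ι ι F) *ᵥ d i = c • d j ∧ q (d i) = c * c * q (d j) := by
    intro g hg i
    obtain ⟨s, hs'⟩ := h hg
    have hm : (g : Matrix ι ι F) *ᵥ d i ∈ D (s i) := by
      rw [← hs' i]
      exact ⟨d i, hd i, Matrix.toLin'_apply _ _⟩
    obtain ⟨c, hc⟩ := hline _ _ hm
    exact ⟨s i, c, hc, by rw [← H43.qmap_smul, ← hc, hiso' g hg]⟩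
  set i0 : Fin t := ⟨0, by have := hD.decomp.decomp.two_le; omega⟩
  have hiso : ∀ i, ∃ c : F, q (c • d i) = q (d i0) := fun i => by
    obtain ⟨ψ, hψ⟩ := hD.isometric i0 i
    obtain ⟨c, hc⟩ := hline i _ (ψ ⟨d i0, hd i0⟩).2
    exact ⟨c, by rw [← hc]; exact hψ ⟨d i0, hd i0⟩⟩
  choose cs hcs using hiso
  have hcs0 : ∀ i, cs i ≠ 0 := fun i e => hqd i0 (by rw [← hcs i, e, zero_smul, QuadraticMap.map_zero])
  have hbot : (⊥ : Subfield F) ≠ ⊤ := by
    intro e
    apply hp
    obtain ⟨p, hp'⟩ := CharP.exists F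
    haveI := hp'
    obtain ⟨-, hpp, -⟩ := FiniteField.card F p
    have h1 : Nat.card (⊥ : Subfield F) = p := by
      haveI : Fact p.Prime := ⟨hpp⟩
      exact Subfield.card_bot F p
    rw [e, Nat.card_congr (Subfield.topEquiv (K := F)).toEquiv, Nat.card_eq_fintype_card] at h1
    rwa [h1]
  obtain ⟨F₁, r, -, hr, hc⟩ := H46.exists_prime_index_subfield (⊥ : Subfield F) hbot
  let ε : ι ≃ Fin t := (Fintype.equivFin ι).trans (finCongr hct)
  let Pm : Matrix ι ι F := Matrix.of fun a j => (cs (ε j) • d (ε j)) a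
  have hPm : ∀ u : ι → F, Pm *ᵥ u = ∑ j, u j • (cs (ε j) • d (ε j)) := fun u => by
    funext a
    simp [Pm, Matrix.mulVec, dotProduct, mul_comm]
  have hsingle : ∀ j, Pm *ᵥ Pi.single j 1 = cs (ε j) • d (ε j) := fun j => by
    funext a; simp [Pm, Matrix.mulVec_single_one]
  have horth : ∀ i j, i ≠ j → QuadraticMap.polar (⇑q) (cs (ε i) • d (ε i)) (cs (ε j) • d (ε j)) = 0 := fun i j hij =>
    hD.decomp.orthogonal (ε i) (ε j) (ε.injective.ne hij) _ ((D _).smul_mem _ (hd _)) _ ((D _).smul_mem _ (hd _))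
  have hPu : IsUnit Pm := by
    rw [← Matrix.mulVec_injective_iff_isUnit]
    intro u v huv
    funext i
    have h1 := congrArg (fun z => QuadraticMap.polar (⇑q) z (cs (ε i) • d (ε i))) huv
    simp only [hPm, hs.sum_left] at h1
    rw [Finset.sum_eq_single i (fun j _ hj => by rw [hs.smul_left, horth j i hj, mul_zero]) (by simp),
      Finset.sum_eq_single i (fun j _ hj => by rw [hs.smul_left, horth j i hj, mul_zero]) (by simp),
      hs.smul_left (u i), hs.smul_left (v i), ← H43.polB_apply, H43.polB_self, hcs] at h1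
    exact mul_right_cancel₀ (mul_ne_zero h2 (hqd i0)) h1
  set P : GL ι F := hPu.unit
  have hPv : (P : Matrix ι ι F) = Pm := IsUnit.unit_spec hPu
  have hR : IsFormRationalStructure (QuadraticMap.polar ⇑q) F₁ (q (d i0))⁻¹ P := by
    intro u v hu hv
    rw [hPv, hPm, hPm, hs.sum_left, Finset.mul_sum]
    refine sum_mem fun i _ => ?_
    rw [hs.smul_left, show QuadraticMap.polar (⇑q) (cs (ε i) • d (ε i)) (∑ j, v j • (cs (ε j) • d (ε j))) =
      v i * QuadraticMap.polar (⇑q) (cs (ε i) • d (ε i)) (cs (ε i) • d (ε i)) by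
        refine (map_sum (AddMonoidHom.mk' (fun z => QuadraticMap.polar (⇑q) (cs (ε i) • d (ε i)) z)
          (hs.add_right _)) _ _).trans ?_
        rw [Finset.sum_eq_single i (fun j _ hj => ?_) (by simp)]
        · exact hs.smul_right _ _ _
        · show QuadraticMap.polar (⇑q) _ _ = 0
          rw [hs.smul_right, horth i j (Ne.symm hj), mul_zero],
      ← H43.polB_apply, H43.polB_self, hcs,
      show (q (d i0))⁻¹ * (u i * (v i * (2 * q (d i0)))) = u i * v i * (1 + 1) by
        rw [one_add_one_eq_two]; field_simp [hqd i0]]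
    exact mul_mem (mul_mem (hu i) (hv i)) (add_mem (one_mem _) (one_mem _))
  obtain ⟨P', hP', heq⟩ := quad_rational hq h2 hodd (hstd F₁) (inv_ne_zero (hqd i0)) hR
  refine .subfield F₁ r P' hr hc hP' ?_
  intro g hg
  rw [heq]
  have hcol : ∀ j i, (((P⁻¹ * g * P : GL ι F)) : Matrix ι ι F) i j ∈ F₁ := by
    intro j i
    obtain ⟨k, c, hgc, hqc⟩ := hmove g hg (ε j)
    obtain ⟨k, rfl⟩ := ε.surjective k
    set b := cs (ε j) * c * (cs (ε k))⁻¹
    have hb : (g : Matrix ι ι F) *ᵥ (Pm *ᵥ Pi.single j 1) = b • (Pm *ᵥ Pi.single k 1) := by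
      rw [hsingle, hsingle, Matrix.mulVec_smul, hgc, smul_smul, smul_smul, mul_assoc (cs (ε j) * c),
        inv_mul_cancel₀ (hcs0 _), mul_one]
    have hbsq : b * b = 1 := by
      have h3 := hcs (ε j)
      rw [H43.qmap_smul, hqc, ← hcs (ε k), H43.qmap_smul] at h3
      refine mul_right_cancel₀ (mul_ne_zero (mul_self_ne_zero.2 (hcs0 (ε k))) (hqd (ε k))) ?_
      simp only [b]
      field_simp [hcs0 (ε k)]
      linear_combination h3
    have hbm : b ∈ F₁ := by
      rcases mul_self_eq_one_iff.1 hbsq with e | e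
      · rw [e]; exact one_mem _
      · rw [e]; exact neg_mem (one_mem _)
    have h4 : (((P⁻¹ * g * P : GL ι F)) : Matrix ι ι F) *ᵥ Pi.single j 1 = b • Pi.single k 1 := by
      rw [Units.val_mul, Units.val_mul, ← Matrix.mulVec_mulVec, ← Matrix.mulVec_mulVec, hPv, hb, Matrix.mulVec_smul,
        ← hPv, Matrix.mulVec_mulVec, ← Units.val_mul, inv_mul_cancel, Units.val_one, Matrix.one_mulVec]
    have h5 := congrFun h4 i
    rw [Matrix.mulVec_single_one, Matrix.col_apply] at h5
    rw [h5, Pi.smul_apply, smul_eq_mul, Pi.single_apply]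
    exact mul_mem hbm (by split; exacts [one_mem _, zero_mem _])
  set M₁ : Matrix ι ι F₁ := fun i j => ⟨_, hcol j i⟩
  have hM₁ : M₁.map (F₁.subtype : F₁ →+* F) = (((P⁻¹ * g * P : GL ι F)) : Matrix ι ι F) := rfl
  have hMu : IsUnit M₁.det := by
    rw [isUnit_iff_ne_zero]
    intro h0
    have h6 := congrArg (F₁.subtype : F₁ →+* F) h0
    rw [RingHom.map_det, map_zero, RingHom.mapMatrix_apply, hM₁] at h6
    exact ((Matrix.isUnit_iff_isUnit_det _).1 (P⁻¹ * g * P).isUnit).ne_zero h6
  refine Subgroup.mem_map.2 ⟨P⁻¹ * g * P, Subgroup.mem_sup_left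
    ⟨((Matrix.isUnit_iff_isUnit_det _).2 hMu).unit, Units.ext hM₁⟩, ?_⟩
  simp [mul_assoc]

/-- An irreducible group of isometries preserving an orthogonal decomposition. -/
theorem decomp_outcome (hq : (H43.polB q).Nondegenerate) (h2 : (2 : F) ≠ 0) (hodd : Odd (Fintype.card ι))
    (hstd : ∀ (K : Subfield F) i j, gramMatrix (QuadraticMap.polar ⇑q) i j ∈ K)
    (hiso : ∀ g ∈ H, ∀ x, q ((g : Matrix ι ι F) *ᵥ x) = q x)
    (hirr : ActsIrreducibly (matrixSet H)) {t k : ℕ}
    {D : Fin t → Submodule F (ι → F)} (hD : IsNondegenerateMDecomposition (QuadraticMap.polar ⇑q) k D)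
    (h : H ≤ decompositionStabilizer D) : OddOutcome q H := by
  have hO := isometric_of_irreducible hiso hirr hD h
  rcases (show 1 < k ∨ k = 1 by have := hD.decomp.pos; omega) with hk | rfl
  · exact .decomp t k D hk hO h
  by_cases hp : (Fintype.card F).Prime
  · exact .frame t D hp hO h
  · exact subfield_of_frame hq h2 hodd hstd hiso hO h hp

end OrthStruct

end H45
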