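import Cfsg.Agent.H51.FormAsch.Power
import Cfsg.Agent.H46.ClsTensor

/-!
Tensor power structures for a symmetric or alternating form: the Gram matrix is a tensor power, and three-dimensional
symmetric factors over the field of three elements carry no perfect groups.
-/

set_option autoImplicit false
set_option linter.style.haveILetI false
set_option linter.unusedSectionVars false
set_option maxHeartbeats 800000

open Cfsg.Geo
open scoped Matrix MatrixGroups commutatorElement

namespace H45

namespace PowerForm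

open H46 (ptm ptm_mul ptm_one ptm_transpose ptm_smul ptm_eq_ptm glPtm glPtm_val glPerm glConj glConj_apply
  matCoords glCoords glCoords_val matCoords_mulVec mem_matrixSet)
open H51.FormAsch (unc SForm PowerData IsAdj matCoords_unc formOfGram_mulVec_left formOfGram_mulVec_right gram_ext)

variable {F : Type*} [Field F] [Fintype F]

/-- An isometry of determinant one of a three-dimensional bilinear form over three elements, of order dividing 13,
is trivial. -/
theorem eq_one_of_isometry_three (hq : Fintype.card F = 3) {A M : Matrix (Fin 3) (Fin 3) F}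
    (hA : A.det ≠ 0) (hM : Mᵀ * A * M = A) (h13 : M ^ 13 = 1) : M = 1 := by
  have hd2 : M.det * M.det = 1 := by
    have := congrArg Matrix.det hM
    rw [Matrix.det_mul, Matrix.det_mul, Matrix.det_transpose] at this
    exact mul_right_cancel₀ hA (by linear_combination this)
  have hd : M.det = 1 := by
    have h1 := congrArg Matrix.det h13
    rw [Matrix.det_pow, Matrix.det_one, show (13 : ℕ) = 2 * 6 + 1 from rfl, pow_succ, pow_mul, sq, hd2,
      one_pow, one_mul] at h1
    exact h1
  have h2 : (2 : F) ≠ 0 := fun h => by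
    haveI := charP_of_card_eq_prime (R := F) (p := 3) hq
    have : ((2 : ℕ) : F) = 0 := by exact_mod_cast h
    rw [CharP.cast_eq_zero_iff F 3] at this
    omega
  have h3 : (3 : F) = 0 := by
    haveI := charP_of_card_eq_prime (R := F) (p := 3) hq
    exact_mod_cast CharP.cast_eq_zero F 3
  -- the eigenvalue one
  have hfix : (M - 1).det = 0 := by
    have e : (Mᵀ - 1) * (A * M) = A * (1 - M) := by
      rw [sub_mul, ← mul_assoc, hM, one_mul, mul_sub, mul_one]
    have e' := congrArg Matrix.det e
    rw [Matrix.det_mul, Matrix.det_mul, Matrix.det_mul, hd,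
      show Mᵀ - 1 = (M - 1)ᵀ by rw [Matrix.transpose_sub, Matrix.transpose_one], Matrix.det_transpose,
      show (1 : Matrix (Fin 3) (Fin 3) F) - M = -(M - 1) from (neg_sub _ _).symm, Matrix.det_neg] at e'
    simp only [Fintype.card_fin] at e'
    have : (2 : F) * A.det * (M - 1).det = 0 := by linear_combination e'
    exact (mul_eq_zero.1 this).resolve_left (mul_ne_zero h2 hA)
  set t := M 0 0 + M 1 1 + M 2 2 with ht
  set s := M 0 0 * M 1 1 - M 0 1 * M 1 0 + (M 0 0 * M 2 2 - M 0 2 * M 2 0) +
    (M 1 1 * M 2 2 - M 1 2 * M 2 1) with hs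
  have hst : s = t := by
    have e : (M - 1).det = M.det - s + t - 1 := by
      simp only [Matrix.det_fin_three, hs, ht, Matrix.sub_apply, Matrix.one_apply, Fin.isValue,
        if_true, Fin.reduceEq, if_false]
      ring
    rw [e, hd] at hfix
    linear_combination -hfix
  have hch : M * M * M = t • (M * M) - t • M + 1 := by
    have e : M * M * M = t • (M * M) - s • M + M.det • 1 := by
      ext i j
      fin_cases i <;> fin_cases j <;>
        simp only [Matrix.mul_apply, Fin.sum_univ_three, Matrix.det_fin_three, hs, ht, Matrix.sub_apply,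
          Matrix.add_apply, Matrix.smul_apply, smul_eq_mul, Matrix.one_apply, Fin.zero_eta, Fin.mk_one,
          Fin.reduceFinMk, Fin.isValue, if_true, Fin.reduceEq, if_false] <;> ring
    rw [e, hst, hd, one_smul]
  have ht3 : t = 0 ∨ t = 1 ∨ t = -1 := by
    have hf := FiniteField.pow_card t
    rw [hq] at hf
    by_cases h0 : t = 0
    · exact Or.inl h0
    right
    exact mul_self_eq_one_iff.1 (mul_right_cancel₀ h0 (by linear_combination hf))
  have h12 : M ^ 12 = 1 := by
    rcases ht3 with h | h | h <;> rw [h] at hch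
    · have : M ^ 3 = 1 := by rw [pow_three, ← mul_assoc, hch]; simp
      rw [show (12 : ℕ) = 3 * 4 from rfl, pow_mul, this, one_pow]
    · have e3 : M ^ 3 = M * M - M + 1 := by rw [pow_three, ← mul_assoc, hch]; simp
      have e4 : M ^ 4 = 1 := by
        rw [pow_succ, e3, add_mul, sub_mul, one_mul, ← pow_three' M, e3]
        abel
      rw [show (12 : ℕ) = 4 * 3 from rfl, pow_mul, e4, one_pow]
    · have e3 : M ^ 3 = -(M * M) + M + 1 := by rw [pow_three, ← mul_assoc, hch]; simp
      have hsplit : ∀ X : Matrix (Fin 3) (Fin 3) F, (3 : F) • X = 0 := fun X => by rw [h3, zero_smul]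
      have e6 : M ^ 6 = 1 := by
        have e4 : M ^ 4 = (2 : F) • (M * M) - 1 := by
          rw [pow_succ, e3, add_mul, add_mul, neg_mul, one_mul, ← pow_three' M, e3, two_smul]
          abel
        have e5 : M ^ 5 = (2 : F) • M ^ 3 - M := by
          rw [pow_succ, e4, sub_mul, one_mul, smul_mul_assoc, ← pow_three' M]
        have e5' : M ^ 5 = (-2 : F) • (M * M) + M + (2 : F) • 1 := by
          rw [e5, e3]
          module
        rw [pow_succ, e5', add_mul, add_mul, smul_mul_assoc, smul_mul_assoc, one_mul, ← pow_three' M, e3]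
        have := hsplit (M * M)
        have h5 : ((-2 : F) • (-(M * M) + M + 1) + M * M + (2 : F) • M) = (3 : F) • (M * M) + (-2 : F) • 1 := by
          module
        rw [h5, this, zero_add, show (-2 : F) = 1 by linear_combination -h3, one_smul]
      rw [show (12 : ℕ) = 6 * 2 from rfl, pow_mul, e6, one_pow]
  rwa [pow_succ, h12, one_mul] at h13

/-- A perfect group of isometries of a three-dimensional form over three elements is trivial. -/
theorem eq_bot_of_perfect_three (hq : Fintype.card F = 3) {A : Matrix (Fin 3) (Fin 3) F} (hA : A.det ≠ 0)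
    {E : Subgroup (GL (Fin 3) F)} (hE : ⁅E, E⁆ = E)
    (h : ∀ y ∈ E, (y : Matrix (Fin 3) (Fin 3) F)ᵀ * A * (y : Matrix (Fin 3) (Fin 3) F) = A) : E = ⊥ := by
  classical
  haveI : Finite (GL (Fin 3) F) := inferInstance
  haveI : Group.IsSolvable E := H33.isSolvable_of_two_primes Nat.prime_two Nat.prime_three (by
    intro r hr hd
    have hd' := hd.trans (Subgroup.card_subgroup_dvd_card E)
    rw [Matrix.card_GL_field, Fin.prod_univ_three, hq] at hd'
    norm_num at hd'
    have h13 : r ≠ 13 := by
      rintro rfl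
      haveI : Fact (Nat.Prime 13) := ⟨by norm_num⟩
      obtain ⟨y, hy⟩ := exists_prime_orderOf_dvd_card' (G := E) 13 hd
      have hy1 : ((y : GL (Fin 3) F) : Matrix (Fin 3) (Fin 3) F) = 1 := by
        refine eq_one_of_isometry_three hq hA (h _ y.2) ?_
        have hp := pow_orderOf_eq_one y
        rw [hy] at hp
        exact congrArg (fun z : E => ((z : GL (Fin 3) F) : Matrix (Fin 3) (Fin 3) F)) hp
      have : y = 1 := Subtype.ext (Units.ext hy1)
      rw [this, orderOf_one] at hy
      norm_num at hy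
    have h4 : r ∣ 2 ^ 5 * 3 ^ 3 * 13 := hd'.trans (by norm_num)
    rcases hr.dvd_mul.1 h4 with h5 | h5
    · rcases hr.dvd_mul.1 h5 with h6 | h6
      · exact Or.inl ((Nat.prime_dvd_prime_iff_eq hr Nat.prime_two).1 (hr.dvd_of_dvd_pow h6))
      · exact Or.inr ((Nat.prime_dvd_prime_iff_eq hr Nat.prime_three).1 (hr.dvd_of_dvd_pow h6))
    · exact absurd ((Nat.prime_dvd_prime_iff_eq hr (by norm_num)).1 h5) h13)
  by_contra hne
  haveI : Nontrivial E := (Subgroup.nontrivial_iff_ne_bot _).2 hne
  refine (Group.IsSolvable.commutator_lt_top_of_nontrivial E).ne ?_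
  apply Subgroup.map_injective E.subtype_injective
  rw [commutator_def, Subgroup.map_commutator, ← MonoidHom.range_eq_map, Subgroup.range_subtype, hE]

/-- Moving a pure tensor past a permutation of the factors. -/
theorem glPtm_glPerm {k a : ℕ} (s : Equiv.Perm (Fin k)) (r : Fin k → GL (Fin a) F) :
    glPtm r * glPerm s = glPerm s * glPtm (r ∘ s) := by
  apply Units.ext
  have h := (H46.glConj_eq_iff (glPerm s) (ptm fun i => ((r ∘ s) i : Matrix (Fin a) (Fin a) F)) _).1
    (H46.glPerm_ptm s fun i => ((r ∘ s) i : Matrix (Fin a) (Fin a) F))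
  rw [Units.val_mul, Units.val_mul, glPtm_val, glPtm_val]
  refine Eq.trans ?_ h.symm
  congr 2
  funext i
  simp

variable {ι : Type} [Fintype ι] [DecidableEq ι]

/-- The form of a tensor power decomposition is a tensor power. -/
theorem power_form [Nonempty ι] {f : (ι → F) → (ι → F) → F} (hf : SForm (RingEquiv.refl F) f)
    {G : Subgroup (GL ι F)} (hG : G ≤ similarityGroup f) {a k : ℕ} (hd : PowerData G a k) :
    ¬ (Fintype.card F = 3 ∧ a = 3) ∧
    ∃ (e : ι ≃ (Fin k → Fin a)) (P : GL ι F) (M₁ : Matrix (Fin a) (Fin a) F) (c : F),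
      c ≠ 0 ∧ IsUnit M₁ ∧ (M₁ᵀ = M₁ ∨ M₁ᵀ = -M₁) ∧
      (∀ x y, f (unc e P x) (unc e P y) = c * formOfGram (id : F → F) (ptm fun _ : Fin k => M₁) x y) ∧
      ∀ g ∈ G, ∃ (s : Equiv.Perm (Fin k)) (x : Fin k → GL (Fin a) F),
        g = glCoords e P (glPerm s * glPtm x) := by
  classical
  obtain ⟨ha, hk, φ, hc, hgen, hperm, htrans, hD⟩ := hd
  haveI : NeZero a := ⟨by omega⟩
  haveI : Nonempty (Fin a) := ⟨0⟩
  obtain ⟨e, P, hφ⟩ := H46.exists_tensor_coords φ hc hgen
  have hinjφ : ∀ i, Function.Injective (φ i) := fun i => RingHom.injective (φ i).toRingHom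
  have hconj : ∀ (h : GL (Fin k → Fin a) F) Z,
      glConj (glCoords e P h) (matCoords e P Z) = matCoords e P (glConj h Z) := by
    intro h Z
    rw [glConj_apply, glConj_apply, ← map_inv, glCoords_val, glCoords_val, map_mul, map_mul]
  have hdec : ∀ (g : GL ι F) (s : Equiv.Perm (Fin k)),
      (∀ i X, ∃ Y, glConj g (φ i X) = φ (s i) Y) →
        ∃ gs : Fin k → GL (Fin a) F, g = glCoords e P (glPerm s * glPtm gs) := by
    intro g s hs
    obtain ⟨h, rfl⟩ := (glCoords e P).surjective g
    obtain ⟨gs, hgs⟩ := H46.exists_perm_ptm (by omega) (by omega) e P φ hgen hφ h s fun i X => by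
      obtain ⟨Y, hY⟩ := hs i X
      rw [hφ, hφ, hconj] at hY
      exact ⟨Y, (matCoords e P).injective hY⟩
    exact ⟨gs, by rw [hgs]⟩
  have hGT : ∀ g ∈ G, ∃ (s : Equiv.Perm (Fin k)) (x : Fin k → GL (Fin a) F),
      g = glCoords e P (glPerm s * glPtm x) := fun g hg => by
    obtain ⟨s, hs⟩ := hperm g hg
    exact ⟨s, hdec g s hs⟩
  -- the form in coordinates
  let f' : ((Fin k → Fin a) → F) → ((Fin k → Fin a) → F) → F := fun x y => f (unc e P x) (unc e P y)
  have hadd : ∀ x y, unc e P (x + y) = unc e P x + unc e P y := fun x y => by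
    simp only [unc, show (x + y) ∘ e = x ∘ e + y ∘ e from rfl, Matrix.mulVec_add]
  have hsmul : ∀ (t : F) x, unc e P (t • x) = t • unc e P x := fun t x => by
    simp only [unc, show (t • x) ∘ e = t • (x ∘ e) from rfl, Matrix.mulVec_smul]
  set M := gramMatrix f' with hMdef
  have hf' : ∀ x y, f (unc e P x) (unc e P y) = formOfGram (id : F → F) M x y := fun x y => by
    refine congrFun (congrFun (H46.eq_formOfGram (RingEquiv.refl F) f'
      (fun x y v => by simp only [f', hadd, hf.add_left])
      (fun t x v => by simp only [f', hsmul, hf.smul_left])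
      (fun v x y => by simp only [f', hadd, hf.add_right])
      (fun t v x => by simp only [f', hsmul, hf.smul_right])) x) y
  have hsurj : ∀ v : ι → F, ∃ x, unc e P x = v := fun v => ⟨_, H51.FormAsch.unc_vecCoords e P v⟩
  have hMu : IsUnit M := by
    refine H46.isUnit_gram_of_nondegenerate (RingEquiv.refl F) M fun x hx => ?_
    have hx' : unc e P x ≠ 0 := fun h => hx (by
      have := congrArg (H46.vecCoords e P) h
      rwa [H51.FormAsch.vecCoords_unc, map_zero] at this)
    obtain ⟨⟨u, hu⟩, ⟨w, hw⟩⟩ := hf.nondegenerate _ hx'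
    obtain ⟨u, rfl⟩ := hsurj u
    obtain ⟨w, rfl⟩ := hsurj w
    exact ⟨⟨u, by rw [hf'] at hu; exact hu⟩, ⟨w, by rw [hf'] at hw; exact hw⟩⟩
  have hsim : ∀ (h : GL (Fin k → Fin a) F) (l : F),
      (∀ u v, f ((glCoords e P h : GL ι F).val *ᵥ u) ((glCoords e P h : GL ι F).val *ᵥ v) = l * f u v) →
      (h : Matrix (Fin k → Fin a) (Fin k → Fin a) F)ᵀ * M * h = l • M := by
    intro h l hl
    refine gram_ext fun x y => ?_
    rw [mul_assoc, ← formOfGram_mulVec_left, ← formOfGram_mulVec_right, H46.formOfGram_smul_gram, ← hf', ← hf',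
      ← hl, glCoords_val, matCoords_unc, matCoords_unc]
  -- it is a pure tensor
  have hadj : ∀ i X, ∃ Y, (ptm (Function.update 1 i X) : Matrix (Fin k → Fin a) (Fin k → Fin a) F)ᵀ * M =
      M * ptm (Function.update 1 i Y) := by
    intro i X
    obtain ⟨D, hDG, -, -, hDadj⟩ := hD i
    have hX : φ i X ∈ Algebra.adjoin F (matrixSet D) := hDadj ▸ ⟨X, rfl⟩
    obtain ⟨Z, hZ, hZadj⟩ := hf.adj_mem_adjoin (hDG.trans hG) hX
    rw [hDadj] at hZ
    obtain ⟨Y, rfl⟩ := hZ
    refine ⟨Y, gram_ext fun x y => ?_⟩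
    rw [← formOfGram_mulVec_left, ← formOfGram_mulVec_right, ← hf', ← hf', ← matCoords_unc, ← matCoords_unc,
      ← hφ, ← hφ]
    exact hZadj _ _
  obtain ⟨U, hU⟩ := hMu
  obtain ⟨us, hus⟩ := H46.exists_perm_ptm (by omega) (by omega) e P φ hgen hφ U⁻¹ (Equiv.refl _) fun i X => by
    obtain ⟨Y, hY⟩ := hadj i Xᵀ
    refine ⟨Y, ?_⟩
    rw [H46.update_one_transpose, Matrix.transpose_transpose, ← hU] at hY
    show glConj U⁻¹ _ = ptm (Function.update 1 i Y)
    rw [glConj_apply, inv_inv, mul_assoc, hY, ← mul_assoc, Units.inv_mul, one_mul]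
  set A : Fin k → Matrix (Fin a) (Fin a) F :=
    fun i => (((us i)⁻¹ : GL (Fin a) F) : Matrix (Fin a) (Fin a) F) with hA
  have hAu : ∀ i, IsUnit (A i) := fun i => ((us i)⁻¹).isUnit
  have hA0 : ∀ i, A i ≠ 0 := fun i => (hAu i).ne_zero
  have hgram : M = ptm A := by
    rw [show glPerm (Equiv.refl (Fin k)) = (1 : GL (Fin k → Fin a) F) from Units.ext (by
      ext u v; simp [glPerm, Matrix.one_apply, eq_comm]), one_mul] at hus
    rw [← hU, ← inv_inv U, hus]
    rfl
  let i0 : Fin k := ⟨0, by omega⟩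
  have hsm : ∀ (c : F) (B : Fin k → Matrix (Fin a) (Fin a) F),
      c • ptm B = ptm fun i => Function.update (1 : Fin k → F) i0 c i • B i := fun c B => by
    rw [ptm_smul, Finset.prod_update_of_mem (Finset.mem_univ _)]
    simp
  have hupd0 : ∀ (c : F), c ≠ 0 → ∀ i, Function.update (1 : Fin k → F) i0 c i • A i ≠ 0 := fun c hc i =>
    smul_ne_zero (by
      rcases eq_or_ne i i0 with rfl | h
      · simpa using hc
      · simp [Function.update_of_ne h]) (hA0 i)
  -- symmetry of one factor
  have hsym : ∃ ε : F, (A i0)ᵀ = ε • A i0 := by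
    obtain ⟨ε, hε⟩ := hf.symm
    have h1 : Mᵀ = ε • M := gram_ext fun x y => by
      rw [H46.formOfGram_smul_gram, H46.formOfGram_eq, H46.formOfGram_eq]
      have := hε (unc e P x) (unc e P y)
      rw [hf', hf', RingEquiv.refl_apply, H46.formOfGram_eq, H46.formOfGram_eq] at this
      simp only [Function.id_comp] at this ⊢
      rw [← this, Matrix.mulVec_transpose, dotProduct_comm x, Matrix.dotProduct_mulVec]
    have hε0 : ε ≠ 0 := fun h => by
      rw [h, zero_smul] at h1
      exact U.ne_zero (hU.trans (Matrix.transpose_eq_zero.1 h1))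
    rw [hgram, ptm_transpose, hsm] at h1
    obtain ⟨d, hd, -⟩ := ptm_eq_ptm h1 (hupd0 ε hε0)
    exact ⟨_, (hd i0).trans (smul_smul _ _ _)⟩
  have hM₁ : (A i0)ᵀ = A i0 ∨ (A i0)ᵀ = -(A i0) := by
    obtain ⟨ε, hε⟩ := hsym
    have h1 := congrArg Matrix.transpose hε
    rw [Matrix.transpose_transpose, Matrix.transpose_smul, hε, smul_smul] at h1
    have h2 : ε * ε = 1 := by
      by_contra hne
      have h3 : (ε * ε - 1) • A i0 = 0 := by rw [sub_smul, one_smul, ← h1, sub_self]
      exact hA0 i0 ((smul_eq_zero.1 h3).resolve_left (sub_ne_zero.2 hne))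
    rcases mul_self_eq_one_iff.1 h2 with h | h
    · exact Or.inl (by rw [hε, h, one_smul])
    · exact Or.inr (by rw [hε, h, neg_one_smul])
  -- the factors are similar
  have hrel : ∀ j, ∃ (y : GL (Fin a) F) (c : F), c ≠ 0 ∧
      (y : Matrix (Fin a) (Fin a) F)ᵀ * A j * (y : Matrix (Fin a) (Fin a) F) = c • A i0 := by
    intro j
    obtain ⟨g, hg, hgj⟩ := htrans i0 j
    obtain ⟨s, hs⟩ := hperm g hg
    have hsij : s i0 = j := by
      by_contra hne
      haveI : NeZero a := ⟨by omega⟩
      let u : Fin a := ⟨0, by omega⟩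
      let v : Fin a := ⟨1, by omega⟩
      have huv : u ≠ v := by simp [u, v]
      set X := Matrix.single u v (1 : F)
      set X' := Matrix.single v u (1 : F)
      obtain ⟨Y, hY⟩ := hs i0 X
      obtain ⟨Y', hY'⟩ := hgj X'
      have h1 : glConj g (φ i0 (X * X')) = glConj g (φ i0 (X' * X)) := by
        rw [map_mul, map_mul, map_mul, map_mul, hY, hY']
        exact hc _ _ hne Y Y'
      have h2 := hinjφ i0 ((glConj g).injective h1)
      have h3 := congrFun (congrFun h2 u) u
      simp [X, X', huv, Ne.symm huv] at h3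
    obtain ⟨gs, rfl⟩ := hdec g s hs
    obtain ⟨l, hl⟩ := hG hg
    have h2 := hsim _ _ hl
    have h4 := H46.perm_ptm_gram (RingEquiv.refl F) s gs A
    simp only [RingEquiv.coe_refl, Matrix.map_id] at h4
    rw [hgram, h4, hsm] at h2
    obtain ⟨w, hw, hwp⟩ := ptm_eq_ptm h2 (hupd0 _ l.ne_zero)
    have h3 := hw i0
    rw [smul_smul, hsij] at h3
    refine ⟨gs i0, _, mul_ne_zero ?_ ?_, h3⟩
    · exact Finset.prod_ne_zero_iff.1 (hwp ▸ one_ne_zero) i0 (Finset.mem_univ _)
    · simp
  refine ⟨?_, ?_⟩
  · -- no perfect groups for three elements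
    rintro ⟨hq, rfl⟩
    obtain ⟨D, hDG, hDp, hDns, hDadj⟩ := hD i0
    let ψ : GL (Fin 3) F →* GL ι F := Units.map (φ i0).toRingHom.toMonoidHom
    have hψ : ∀ y : GL (Fin 3) F, ((ψ y : GL ι F) : Matrix ι ι F) = φ i0 (y : Matrix (Fin 3) (Fin 3) F) :=
      fun y => rfl
    have hψi : Function.Injective ψ := fun y y' h => Units.ext (hinjφ i0 (congrArg Units.val h))
    have hrange : D ≤ ψ.range := by
      intro d hd
      have h1 : ∀ z ∈ D, ∃ Y, φ i0 Y = (z : Matrix ι ι F) := fun z hz => by
        rw [← AlgHom.mem_range, ← hDadj]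
        exact Algebra.subset_adjoin (mem_matrixSet hz)
      obtain ⟨Y, hY⟩ := h1 d hd
      obtain ⟨Y', hY'⟩ := h1 d⁻¹ (inv_mem hd)
      refine ⟨⟨Y, Y', hinjφ i0 ?_, hinjφ i0 ?_⟩, Units.ext hY⟩
      · rw [map_mul, map_one, hY, hY', ← Units.val_mul, mul_inv_cancel, Units.val_one]
      · rw [map_mul, map_one, hY, hY', ← Units.val_mul, inv_mul_cancel, Units.val_one]
    have hmap : (D.comap ψ).map ψ = D := Subgroup.map_comap_eq_self hrange
    have hbot : D.comap ψ = ⊥ := by
      refine eq_bot_of_perfect_three hq ((Matrix.isUnit_iff_isUnit_det _).1 (hAu i0)).ne_zero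
        (Subgroup.map_injective hψi (by rw [Subgroup.map_commutator, hmap, hDp])) fun y hy => ?_
      have hiso := H51.FormAsch.isometry_of_perfect (hDG.trans hG) hDp (ψ y) hy
      have h2 : (ptm (Function.update 1 i0 (y : Matrix (Fin 3) (Fin 3) F)))ᵀ * M *
          ptm (Function.update 1 i0 (y : Matrix (Fin 3) (Fin 3) F)) = M := by
        refine gram_ext fun x z => ?_
        rw [mul_assoc, ← formOfGram_mulVec_left, ← formOfGram_mulVec_right, ← hf', ← hf', ← matCoords_unc,
          ← matCoords_unc, ← hφ, ← hψ]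
        exact hiso _ _
      rw [hgram, H46.update_one_transpose, ← ptm_mul, ← ptm_mul] at h2
      obtain ⟨w, hw, hwp⟩ := ptm_eq_ptm h2 hA0
      have hw1 : ∀ j, j ≠ i0 → w j = 1 := fun j hj => by
        have h3 := hw j
        simp only [Pi.mul_apply, Function.update_of_ne hj, Pi.one_apply, one_mul, mul_one] at h3
        by_contra hne
        have h4 : (w j - 1) • A j = 0 := by rw [sub_smul, one_smul, ← h3, sub_self]
        exact hA0 j ((smul_eq_zero.1 h4).resolve_left (sub_ne_zero.2 hne))
      rw [Finset.prod_eq_single i0 (fun j _ hj => hw1 j hj) (by simp)] at hwp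
      have h3 := hw i0
      simpa [hwp] using h3
    apply hDns
    rw [← hmap, hbot, Subgroup.map_bot]
    exact bot_le
  -- equalising the factors
  choose y c hc0 hy using hrel
  set K : GL (Fin k → Fin a) F := glPtm y with hK
  set P' : GL ι F := P * glCoords e 1 K with hP'
  have hvec : ∀ x, unc e P' x = unc e P ((K : Matrix (Fin k → Fin a) (Fin k → Fin a) F) *ᵥ x) := by
    intro x
    rw [hP']
    simp only [unc, Units.val_mul, ← Matrix.mulVec_mulVec]
    congr 1
    rw [glCoords_val]
    have := matCoords_unc e (1 : GL ι F) (K : Matrix (Fin k → Fin a) (Fin k → Fin a) F) x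
    simpa [unc] using this
  refine ⟨e, P', A i0, ∏ i, c i, Finset.prod_ne_zero_iff.2 fun i _ => hc0 i, hAu i0, hM₁, fun x z => ?_,
    fun g hg => ?_⟩
  · have h1 : (K : Matrix (Fin k → Fin a) (Fin k → Fin a) F)ᵀ * M * K =
        (∏ i, c i) • ptm (fun _ : Fin k => A i0) := by
      rw [hK, glPtm_val, hgram, ptm_transpose, ← ptm_mul, ← ptm_mul, ← ptm_smul]
      exact congrArg ptm (funext hy)
    rw [hvec, hvec, hf', formOfGram_mulVec_left, formOfGram_mulVec_right, h1, H46.formOfGram_smul_gram]
  · obtain ⟨s, x, rfl⟩ := hGT g hg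
    refine ⟨s, fun i => (y (s i))⁻¹ * x i * y i, ?_⟩
    rw [hP', H46.glCoords_mul_right]
    congr 1
    rw [hK, ← mul_assoc, glPtm_glPerm, mul_assoc (glPerm s), mul_assoc (glPerm s)]
    congr 1
    rw [eq_mul_inv_iff_mul_eq]
    apply Units.ext
    rw [Units.val_mul, Units.val_mul, glPtm_val, glPtm_val, glPtm_val, glPtm_val, ← ptm_mul, ← ptm_mul]
    congr 1
    funext i
    simp only [Pi.mul_apply, Function.comp_apply, ← Units.val_mul]
    congr 1
    group

end PowerForm

end H45
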