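import Cfsg.Agent.H45.OrthGeom
import Cfsg.Agent.H45.PowerForm
import Cfsg.Agent.H47.OrthCongr
import Cfsg.Agent.H46.ClsKron

/-!
Tensor products of symmetric forms in odd dimensions: the second factor can be normalised, and the possible
structures for a group of isometries.
-/

set_option autoImplicit false
set_option linter.style.haveILetI false
set_option linter.unusedSectionVars false
set_option maxHeartbeats 800000

open Cfsg.Geo
open scoped Matrix MatrixGroups Kronecker

namespace H45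

namespace OrthStruct

open H51.FormAsch (SForm IsAdj unc vecCoords_unc unc_vecCoords matCoords_unc formOfGram_mulVec_left
  formOfGram_mulVec_right gram_ext gramMatrix_formOfGram isSymmetricForm_gram sform_polar matCoords_swap centreOf
  mem_centreOf)
open H46 (glCoords glCoords_val glKron glKron_val matCoords glConj glConj_apply)

variable {F : Type*} [Field F] [Fintype F]

/-- In odd dimension any two invertible symmetric matrices are congruent up to a scalar. -/
theorem exists_congr_smul (hF : Odd (Fintype.card F)) {a : ℕ} (ha : Odd a) {S C : Matrix (Fin a) (Fin a) F}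
    (hS : Sᵀ = S) (hC : Cᵀ = C) (hS0 : S.det ≠ 0) (hC0 : C.det ≠ 0) :
    ∃ (R : GL (Fin a) F) (c : F), c ≠ 0 ∧
      (R : Matrix (Fin a) (Fin a) F)ᵀ * C * (R : Matrix (Fin a) (Fin a) F) = c • S := by
  classical
  have h2 : (2 : F) ≠ 0 := H43.two_ne_zero_of_odd_card hF
  set c : F := C.det * S.det with hc
  have hc0 : c ≠ 0 := mul_ne_zero hC0 hS0
  have half : ∀ G : Matrix (Fin a) (Fin a) F, Gᵀ = G → (2 : F)⁻¹ • G + ((2 : F)⁻¹ • G)ᵀ = G := fun G hG => by
    rw [Matrix.transpose_smul, hG, ← add_smul, ← two_mul, mul_inv_cancel₀ h2, one_smul]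
  have hgram : ∀ G : Matrix (Fin a) (Fin a) F, Gᵀ = G → ∀ x y,
      QuadraticMap.polar (⇑(H44.matForm ((2 : F)⁻¹ • G))) x y = x ⬝ᵥ (G *ᵥ y) := fun G hG x y => by
    rw [H44.matForm_polar, half G hG]
  have hsep : ∀ G : Matrix (Fin a) (Fin a) F, Gᵀ = G → G.det ≠ 0 →
      H44.PolarSep (H44.matForm ((2 : F)⁻¹ • G)) := fun G hG hG0 =>
    H44.polarSep_matForm _ G⁻¹ (by rw [half G hG, Matrix.mul_nonsing_inv _ (Ne.isUnit hG0)])
  have hcS : (c • S)ᵀ = c • S := by rw [Matrix.transpose_smul, hS]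
  have hcS0 : (c • S).det ≠ 0 := by
    rw [Matrix.det_smul]
    exact mul_ne_zero (pow_ne_zero _ hc0) hS0
  have hof : ∀ G : Matrix (Fin a) (Fin a) F, Gᵀ = G →
      (Matrix.of fun i j => QuadraticMap.polar (⇑(H44.matForm ((2 : F)⁻¹ • G)))
        (Pi.basisFun F (Fin a) i) (Pi.basisFun F (Fin a) j)) = G := fun G hG => by
    ext i j
    rw [Matrix.of_apply, hgram G hG, Pi.basisFun_apply, Pi.basisFun_apply, Matrix.mulVec_single_one,
      single_one_dotProduct]
    rfl
  obtain ⟨g, hg⟩ := H47.equiv_of_det hF _ _ (hsep _ hcS hcS0) (hsep C hC hC0) (Pi.basisFun F (Fin a))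
    (Pi.basisFun F (Fin a)) rfl (by
      rw [hof _ hcS, hof _ hC, Matrix.det_smul, Fintype.card_fin]
      obtain ⟨j, rfl⟩ := ha
      exact ⟨c ^ (j + 1), by rw [pow_succ, pow_succ, pow_mul, hc]; ring⟩)
  have hRu : IsUnit (LinearMap.toMatrix' (g : (Fin a → F) →ₗ[F] Fin a → F)) := by
    rw [← Matrix.mulVec_injective_iff_isUnit]
    intro u v h
    rw [LinearMap.toMatrix'_mulVec, LinearMap.toMatrix'_mulVec] at h
    exact g.injective h
  refine ⟨hRu.unit, c, hc0, ?_⟩
  rw [IsUnit.unit_spec]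
  refine gram_ext fun x y => ?_
  have hpol : QuadraticMap.polar (⇑(H44.matForm ((2 : F)⁻¹ • C))) (g x) (g y) =
      QuadraticMap.polar (⇑(H44.matForm ((2 : F)⁻¹ • (c • S)))) x y := by
    simp only [QuadraticMap.polar, ← map_add, hg]
  rw [hgram C hC, hgram _ hcS] at hpol
  rw [mul_assoc, ← formOfGram_mulVec_left, ← formOfGram_mulVec_right, H46.formOfGram_eq, H46.formOfGram_eq,
    LinearMap.toMatrix'_mulVec, LinearMap.toMatrix'_mulVec]
  simpa using hpol

variable {ι : Type} [Fintype ι] [DecidableEq ι]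

/-- Coordinates in which the form is a Kronecker product and the group acts diagonally on the factors. -/
structure KronData (f : (ι → F) → (ι → F) → F) (G : Subgroup (GL ι F)) {a m : ℕ} (e : ι ≃ Fin a × Fin m)
    (P : GL ι F) (S : Matrix (Fin a) (Fin a) F) (C : Matrix (Fin m) (Fin m) F) : Prop where
  unit_fst : IsUnit S
  unit_snd : IsUnit C
  symm_fst : Sᵀ = S
  symm_snd : Cᵀ = C
  form : ∀ x y, f (unc e P x) (unc e P y) = formOfGram (id : F → F) (S ⊗ₖ C) x y
  mem : ∀ g ∈ G, ∃ (x : GL (Fin a) F) (y : GL (Fin m) F), (g : Matrix ι ι F) =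
    matCoords e P ((x : Matrix (Fin a) (Fin a) F) ⊗ₖ (y : Matrix (Fin m) (Fin m) F))

variable {f : (ι → F) → (ι → F) → F} {G : Subgroup (GL ι F)}

theorem KronData.swap {a m : ℕ} {e : ι ≃ Fin a × Fin m} {P : GL ι F} {S : Matrix (Fin a) (Fin a) F}
    {C : Matrix (Fin m) (Fin m) F} (h : KronData f G e P S C) :
    KronData f G (e.trans (Equiv.prodComm _ _)) P C S where
  unit_fst := h.unit_snd
  unit_snd := h.unit_fst
  symm_fst := h.symm_snd
  symm_snd := h.symm_fst
  form x y := by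
    show f (unc e P (x ∘ Prod.swap)) (unc e P (y ∘ Prod.swap)) = _
    rw [h.form]
    simp only [formOfGram, Matrix.kroneckerMap_apply, Function.comp_apply, id]
    rw [← (Equiv.prodComm (Fin m) (Fin a)).sum_comp]
    refine Finset.sum_congr rfl fun z _ => ?_
    rw [← (Equiv.prodComm (Fin m) (Fin a)).sum_comp]
    exact Finset.sum_congr rfl fun z' _ => by
      simp only [Equiv.prodComm_apply, Prod.fst_swap, Prod.snd_swap, Prod.swap_swap]
      ring
  mem g hg := by
    obtain ⟨x, y, hxy⟩ := h.mem g hg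
    exact ⟨y, x, by rw [matCoords_swap, hxy]⟩

/-- Changing the coordinates of the second factor. -/
theorem KronData.change_second {a m : ℕ} {e : ι ≃ Fin a × Fin m} {P : GL ι F} {S : Matrix (Fin a) (Fin a) F}
    {C T : Matrix (Fin m) (Fin m) F} (h : KronData f G e P S C) {R : GL (Fin m) F} {c : F} (hc : c ≠ 0)
    (hT : IsUnit T) (hTs : Tᵀ = T)
    (hR : (R : Matrix (Fin m) (Fin m) F)ᵀ * C * (R : Matrix (Fin m) (Fin m) F) = c • T) :
    ∃ P' : GL ι F, KronData f G e P' (c • S) T := by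
  refine ⟨P * glCoords e 1 (glKron 1 R), ⟨?_, hT, ?_, hTs, fun x y => ?_, fun g hg => ?_⟩⟩
  · rw [show c • S = (Units.mk0 c hc) • S from rfl]; exact h.unit_fst.smul _
  · rw [Matrix.transpose_smul, h.symm_fst]
  · have hvec : ∀ x, unc e (P * glCoords e 1 (glKron 1 R)) x =
        unc e P ((glKron (1 : GL (Fin a) F) R : GL (Fin a × Fin m) F).val *ᵥ x) := fun x => by
      simp only [unc, Units.val_mul, ← Matrix.mulVec_mulVec]
      congr 1
      rw [glCoords_val]
      simpa [unc] using matCoords_unc e (1 : GL ι F) (glKron (1 : GL (Fin a) F) R).val x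
    rw [hvec, hvec, h.form, formOfGram_mulVec_left, formOfGram_mulVec_right, glKron_val,
      ← Matrix.kroneckerMap_transpose, ← Matrix.mul_kronecker_mul, ← Matrix.mul_kronecker_mul, Units.val_one,
      Matrix.transpose_one, one_mul, mul_one, hR, Matrix.kronecker_smul, ← Matrix.smul_kronecker]
  · obtain ⟨x, y, hxy⟩ := h.mem g hg
    refine ⟨x, R⁻¹ * y * R, ?_⟩
    have h1 : (glCoords e (P * glCoords e 1 (glKron 1 R)) (glKron x (R⁻¹ * y * R))) =
        glCoords e P (glKron x y) := by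
      rw [H46.glCoords_mul_right]
      congr 1
      apply Units.ext
      rw [Units.val_mul, Units.val_mul, glKron_val, glKron_val, glKron_val,
        show ((glKron (1 : GL (Fin a) F) R)⁻¹ : GL (Fin a × Fin m) F).val =
          ((1 : GL (Fin a) F)⁻¹ : GL (Fin a) F).val ⊗ₖ ((R⁻¹ : GL (Fin m) F) : Matrix (Fin m) (Fin m) F) from rfl,
        ← Matrix.mul_kronecker_mul, ← Matrix.mul_kronecker_mul]
      simp only [inv_one, ← Units.val_mul, one_mul, mul_one]
      congr 2
      group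
    rw [← glKron_val, ← glCoords_val, h1, glCoords_val, glKron_val, hxy]

/-- A normalised algebra with scalar centre, closed under adjoints. -/
theorem kron_of_scalar_centre (hι : Odd (Fintype.card ι)) (hs : SForm (RingEquiv.refl F) f)
    (hsym : ∀ u v, f u v = f v u) (h2 : (2 : F) ≠ 0)
    (hirr : ActsIrreducibly (matrixSet G))
    {A : Subalgebra F (Matrix ι ι F)} (hA : ∀ g ∈ G, ∀ X ∈ A, glConj g X ∈ A)
    (hadj : ∀ X ∈ A, ∃ Y ∈ A, IsAdj f X Y) (hbot : A ≠ ⊥) (htop : A ≠ ⊤) (hZ : centreOf A = ⊥) :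
    ∃ (a m : ℕ) (e : ι ≃ Fin a × Fin m) (P : GL ι F) (S : Matrix (Fin a) (Fin a) F)
      (C : Matrix (Fin m) (Fin m) F), Odd a ∧ Odd m ∧ 3 ≤ a ∧ 3 ≤ m ∧ KronData f G e P S C := by
  haveI : Nonempty ι := Fintype.card_pos_iff.1 hι.pos
  haveI := H46.isSemisimpleRing_of_normalized hirr A hA
  obtain ⟨a, m, e, P, ha, hm, hmem⟩ := H46.exists_coords_of_central A fun z hz hzc => by
    obtain ⟨c, rfl⟩ := Algebra.mem_bot.1
      (hZ ▸ mem_centreOf.2 ⟨hz, fun x hx => (hzc x hx).symm⟩ : z ∈ (⊥ : Subalgebra F (Matrix ι ι F)))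
    exact ⟨c, Algebra.algebraMap_eq_smul_one c⟩
  have ha1 : a ≠ 1 := by
    rintro rfl
    apply hbot
    rw [eq_bot_iff]
    intro X hX
    obtain ⟨Y, rfl⟩ := (hmem X).1 hX
    have : Y = algebraMap F _ (Y 0 0) := by
      ext i j
      fin_cases i; fin_cases j
      simp [Matrix.algebraMap_matrix_apply]
    rw [this, AlgHom.commutes, AlgEquiv.commutes]
    exact Subalgebra.algebraMap_mem _ _
  have hm1 : m ≠ 1 := by
    rintro rfl
    apply htop
    rw [eq_top_iff]
    intro X _
    refine (hmem X).2 ⟨Matrix.of fun i j => (matCoords e P).symm X (i, 0) (j, 0), ?_⟩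
    rw [← AlgEquiv.symm_apply_eq]
    ext ⟨i, u⟩ ⟨j, v⟩
    obtain rfl : u = 0 := Subsingleton.elim _ _
    obtain rfl : v = 0 := Subsingleton.elim _ _
    simp [H46.kronOne_apply]
  have hcard : Fintype.card ι = a * m := by
    rw [Fintype.card_congr e, Fintype.card_prod, Fintype.card_fin, Fintype.card_fin]
  have hodd : Odd a ∧ Odd m := Nat.odd_mul.1 (hcard ▸ hι)
  have ha3 : 3 ≤ a := by obtain ⟨j, rfl⟩ := hodd.1; omega
  have hm3 : 3 ≤ m := by obtain ⟨j, rfl⟩ := hodd.2; omega
  have hGc : ∀ g ∈ G, ∃ (x : GL (Fin a) F) (y : GL (Fin m) F), (g : Matrix ι ι F) =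
      matCoords e P ((x : Matrix (Fin a) (Fin a) F) ⊗ₖ (y : Matrix (Fin m) (Fin m) F)) := by
    intro g hg
    obtain ⟨x, y, rfl⟩ := H46.exists_glKron_of_normalizes ha hm e P g fun Y => by
      obtain ⟨Y', hY'⟩ := (hmem _).1 (hA g hg _ ((hmem _).2 ⟨Y, rfl⟩))
      exact ⟨Y', hY'⟩
    exact ⟨x, y, by rw [glCoords_val, glKron_val]⟩
  let M : Matrix (Fin a × Fin m) (Fin a × Fin m) F := gramMatrix fun x y => f (unc e P x) (unc e P y)
  have hunc_add : ∀ x y, unc e P (x + y) = unc e P x + unc e P y := fun x y => by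
    rw [unc, unc, unc, ← Matrix.mulVec_add]; rfl
  have hunc_smul : ∀ (c : F) x, unc e P (c • x) = c • unc e P x := fun c x => by
    rw [unc, unc, ← Matrix.mulVec_smul]; rfl
  have hMf : ∀ x y, f (unc e P x) (unc e P y) = formOfGram (id : F → F) M x y := fun x y =>
    congrFun (congrFun (H46.eq_formOfGram (RingEquiv.refl F) (fun x y => f (unc e P x) (unc e P y))
      (fun x y v => by rw [hunc_add, hs.add_left]) (fun c x v => by rw [hunc_smul, hs.smul_left])
      (fun v x y => by rw [hunc_add, hs.add_right]) (fun c v x => by rw [hunc_smul, hs.smul_right])) x) y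
  have hMsym : Mᵀ = M := Matrix.ext fun i j => hsym _ _
  have hMu : IsUnit M := H46.isUnit_gram_of_nondegenerate (RingEquiv.refl F) M fun v hv => by
    have hne : unc e P v ≠ 0 := fun h => hv (by
      rw [← vecCoords_unc e P v, h, map_zero])
    obtain ⟨⟨x, hx⟩, ⟨y, hy⟩⟩ := hs.nondegenerate _ hne
    refine ⟨⟨H46.vecCoords e P x, ?_⟩, ⟨H46.vecCoords e P y, ?_⟩⟩
    · show formOfGram id M _ _ ≠ 0
      rw [← hMf, unc_vecCoords]; exact hx
    · show formOfGram id M _ _ ≠ 0
      rw [← hMf, unc_vecCoords]; exact hy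
  let S : Fin m → Fin m → Matrix (Fin a) (Fin a) F := fun u v => Matrix.of fun i j => M (i, u) (j, v)
  have hslice : ∀ Y' : Matrix (Fin a) (Fin a) F, ∃ Y : Matrix (Fin a) (Fin a) F,
      ∀ u v, Yᵀ * S u v = S u v * Y' := by
    intro Y'
    obtain ⟨Z, hZA, hZ'⟩ := hadj _ ((hmem _).2 ⟨Y', rfl⟩)
    obtain ⟨Y, rfl⟩ := (hmem Z).1 hZA
    refine ⟨Y, fun u v => ?_⟩
    have h1 := hs.adj_symm hZ'
    have h3 : (H46.kronOne (Fin a) (Fin m) F Y)ᵀ * M = M * H46.kronOne (Fin a) (Fin m) F Y' := by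
      apply gram_ext
      intro x y
      rw [← formOfGram_mulVec_left, ← formOfGram_mulVec_right, ← hMf, ← hMf, ← matCoords_unc,
        ← matCoords_unc, h1]
    ext i j
    have := congrFun (congrFun h3 (i, u)) (j, v)
    simpa [S, Matrix.mul_apply, Fintype.sum_prod_type, Matrix.one_apply, H46.kronOne_apply,
      ite_mul, mul_ite] using this
  haveI : Nonempty (Fin a) := ⟨⟨0, ha⟩⟩
  haveI : Nonempty (Fin a × Fin m) := ⟨(⟨0, ha⟩, ⟨0, hm⟩)⟩
  obtain ⟨u₀, v₀, hS₀⟩ : ∃ u v, S u v ≠ 0 := by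
    by_contra h
    push Not at h
    apply hMu.ne_zero
    ext i j
    exact congrFun (congrFun (h i.2 j.2) i.1) j.1
  set S₀ := S u₀ v₀ with hS₀def
  have hS₀u : IsUnit S₀ := by
    rw [Matrix.isUnit_iff_isUnit_det, isUnit_iff_ne_zero]
    intro hd
    obtain ⟨x, hx, hSx⟩ := Matrix.exists_mulVec_eq_zero_iff.2 hd
    apply hS₀
    refine Matrix.ext_of_mulVec_single fun j => ?_
    obtain ⟨i, hi⟩ : ∃ i, x i ≠ 0 := Function.ne_iff.1 hx
    obtain ⟨Y, hY⟩ := hslice (Matrix.vecMulVec (Pi.single j 1) (Pi.single i (x i)⁻¹))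
    have := congrArg (· *ᵥ x) (hY u₀ v₀)
    simp only [← Matrix.mulVec_mulVec] at this
    rw [hSx, Matrix.mulVec_zero, Matrix.vecMulVec_mulVec, single_dotProduct, inv_mul_cancel₀ hi] at this
    refine Eq.trans ?_ (Matrix.zero_mulVec _).symm
    simpa using this.symm
  have hscal : ∀ u v, ∃ c : F, S u v = c • S₀ := by
    intro u v
    obtain ⟨W, hW⟩ := hS₀u
    obtain ⟨c, hc⟩ := H46.eq_scalar_of_commute_generators (S := (Set.univ : Set (Matrix (Fin a) (Fin a) F)))
      (Algebra.adjoin_univ F _) (X := ((W⁻¹ : (Matrix (Fin a) (Fin a) F)ˣ) : Matrix (Fin a) (Fin a) F) * S u v)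
      (fun Y' _ => by
        obtain ⟨Y, hY⟩ := hslice Y'
        have e1 : Yᵀ = S₀ * Y' * ((W⁻¹ : (Matrix (Fin a) (Fin a) F)ˣ) : Matrix (Fin a) (Fin a) F) := by
          have := hY u₀ v₀
          rw [← hS₀def, ← hW] at this
          rw [← hW, ← this, mul_assoc, Units.mul_inv, mul_one]
        have := hY u v
        rw [e1, ← hW] at this
        show _ * Y' = Y' * _
        calc ((W⁻¹ : (Matrix (Fin a) (Fin a) F)ˣ) : Matrix (Fin a) (Fin a) F) * S u v * Y'
            = ((W⁻¹ : (Matrix (Fin a) (Fin a) F)ˣ) : Matrix (Fin a) (Fin a) F) * ((W : Matrix (Fin a) (Fin a) F) *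
              Y' * ((W⁻¹ : (Matrix (Fin a) (Fin a) F)ˣ) : Matrix (Fin a) (Fin a) F) * S u v) := by
              rw [this, mul_assoc]
          _ = _ := by simp only [mul_assoc, Units.inv_mul_cancel_left])
    refine ⟨c, ?_⟩
    have := congrArg ((W : Matrix (Fin a) (Fin a) F) * ·) hc
    simp only [← mul_assoc, Units.mul_inv, one_mul, Matrix.mul_smul, mul_one] at this
    rwa [hW] at this
  choose c hc using hscal
  let C : Matrix (Fin m) (Fin m) F := Matrix.of c
  have hkron : M = S₀ ⊗ₖ C := by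
    ext ⟨i, u⟩ ⟨j, v⟩
    have := congrFun (congrFun (hc u v) i) j
    simpa [S, C, mul_comm] using this
  have hCu : IsUnit C := by
    rw [Matrix.isUnit_iff_isUnit_det, isUnit_iff_ne_zero]
    intro hd
    have := (Matrix.isUnit_iff_isUnit_det _).1 hMu
    rw [hkron, Matrix.det_kronecker, hd, zero_pow (by simp; omega), mul_zero] at this
    exact not_isUnit_zero this
  haveI : Nonempty (Fin m) := ⟨⟨0, hm⟩⟩
  have hkt : S₀ᵀ ⊗ₖ Cᵀ = S₀ ⊗ₖ C := by
    rw [Matrix.kroneckerMap_transpose, ← hkron, hMsym]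
  obtain ⟨d, hd, hSd, hCd⟩ := H46.kron_eq_kron hkt hS₀u.ne_zero hCu.ne_zero
  -- the factors are symmetric: an odd-dimensional skew matrix is singular
  have hd1 : d = 1 := by
    have h1 := congrArg Matrix.transpose hSd
    rw [Matrix.transpose_transpose, Matrix.transpose_smul, hSd, smul_smul] at h1
    have h3 : d * d = 1 := by
      by_contra hne
      have h4 : (d * d - 1) • S₀ = 0 := by rw [sub_smul, one_smul, ← h1, sub_self]
      exact hS₀u.ne_zero ((smul_eq_zero.1 h4).resolve_left (sub_ne_zero.2 hne))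
    refine (mul_self_eq_one_iff.1 h3).resolve_right fun h4 => ?_
    have h5 := congrArg Matrix.det hSd
    rw [Matrix.det_transpose, h4, Matrix.det_smul, Fintype.card_fin, hodd.1.neg_one_pow] at h5
    refine ((Matrix.isUnit_iff_isUnit_det _).1 hS₀u).ne_zero ?_
    exact (mul_eq_zero.1 (show (2 : F) * S₀.det = 0 by linear_combination h5)).resolve_left h2
  subst hd1
  rw [one_smul] at hSd
  rw [inv_one, one_smul] at hCd
  exact ⟨a, m, e, P, S₀, C, hodd.1, hodd.2, ha3, hm3, hS₀u, hCu, hSd, hCd, hkron ▸ hMf, hGc⟩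

/-- Three elements, equal factors of dimension three: the frame of the second factor gives a decomposition. -/
theorem decomp_of_kron_three (hq : Fintype.card F = 3) (hf : SForm (RingEquiv.refl F) f)
    (hι : Odd (Fintype.card ι)) (hG : G ≤ similarityGroup f) (hirr : ActsIrreducibly (matrixSet G))
    {e : ι ≃ Fin 3 × Fin 3} {P : GL ι F} {S : Matrix (Fin 3) (Fin 3) F}
    (h : KronData f G e P S (1 : Matrix (Fin 3) (Fin 3) F)) :
    ∃ (t k : ℕ) (D : Fin t → Submodule F (ι → F)),
      IsNondegenerateMDecomposition f k D ∧ G ≤ decompositionStabilizer D := by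
  classical
  haveI := charP_of_card_eq_prime (R := F) (p := 3) hq
  have h3 : (3 : F) = 0 := by exact_mod_cast CharP.cast_eq_zero F 3
  have hcases : ∀ t : F, t = 0 ∨ t * t = 1 := fun t => by
    by_cases h0 : t = 0
    · exact Or.inl h0
    have hc := FiniteField.pow_card t
    rw [hq] at hc
    exact Or.inr (mul_right_cancel₀ h0 (by linear_combination hc))
  -- similarities of the identity form are monomial
  have hmono : ∀ y : GL (Fin 3) F, (∃ μ : F, μ ≠ 0 ∧
      (y : Matrix (Fin 3) (Fin 3) F)ᵀ * (y : Matrix (Fin 3) (Fin 3) F) = μ • 1) →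
      ∀ j, ∃ i, ∀ i', i' ≠ i → (y : Matrix (Fin 3) (Fin 3) F) i' j = 0 := by
    rintro y ⟨μ, hμ, hy⟩ j
    have hμ1 : μ = 1 := by
      have hdet := congrArg Matrix.det hy
      rw [Matrix.det_mul, Matrix.det_transpose, Matrix.det_smul, Matrix.det_one, Fintype.card_fin, mul_one] at hdet
      have hμ2 : μ * μ = 1 := (hcases μ).resolve_left hμ
      have hy2 := (hcases (y : Matrix (Fin 3) (Fin 3) F).det).resolve_left
        ((Matrix.isUnit_iff_isUnit_det _).1 y.isUnit).ne_zero
      rw [hy2] at hdet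
      linear_combination -μ * hμ2 - hdet
    have hj := congrFun (congrFun hy j) j
    rw [hμ1, one_smul, Matrix.one_apply_eq, Matrix.mul_apply, Fin.sum_univ_three] at hj
    simp only [Matrix.transpose_apply] at hj
    have h01 : (1 : F) ≠ 0 := one_ne_zero
    have h21 : (2 : F) ≠ 1 := fun h => h01 (by linear_combination h)
    rcases hcases ((y : Matrix (Fin 3) (Fin 3) F) 0 j) with a0 | a0 <;>
      rcases hcases ((y : Matrix (Fin 3) (Fin 3) F) 1 j) with a1 | a1 <;>
        rcases hcases ((y : Matrix (Fin 3) (Fin 3) F) 2 j) with a2 | a2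
    · rw [a0, a1, a2] at hj; simp at hj
    · exact ⟨2, fun i' hi' => by fin_cases i' <;> simp_all⟩
    · exact ⟨1, fun i' hi' => by fin_cases i' <;> simp_all⟩
    · exact absurd (show (2 : F) = 1 by rw [a0] at hj; linear_combination hj - a1 - a2) h21
    · exact ⟨0, fun i' hi' => by fin_cases i' <;> simp_all⟩
    · exact absurd (show (2 : F) = 1 by rw [a1] at hj; linear_combination hj - a0 - a2) h21
    · exact absurd (show (2 : F) = 1 by rw [a2] at hj; linear_combination hj - a0 - a1) h21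
    · exact absurd (show (0 : F) = 1 by linear_combination hj - a0 - a1 - a2 - h3) (Ne.symm h01)
  let E : Fin 3 → Matrix ι ι F := fun i =>
    matCoords e P ((1 : Matrix (Fin 3) (Fin 3) F) ⊗ₖ Matrix.single i i (1 : F))
  have hEinj : Function.Injective E := fun i j hij => by
    have h1 := congrFun (congrFun ((matCoords e P).injective hij) (0, i)) (0, i)
    by_contra hne
    simp [Matrix.single_apply, Ne.symm hne] at h1
  have horth : ∀ i j, E i * E j = if i = j then E i else 0 := fun i j => by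
    simp only [E, ← map_mul, ← Matrix.mul_kronecker_mul, one_mul]
    split_ifs with hij
    · subst hij; rw [Matrix.single_mul_single_same, one_mul]
    · rw [Matrix.single_mul_single_of_ne _ _ _ _ hij, Matrix.kronecker_zero, map_zero]
  have hgE : ∀ g ∈ G, ∀ i, ∃ j, glConj g (E i) = E j := by
    intro g hg i
    obtain ⟨x, y, hxy⟩ := h.mem g hg
    obtain ⟨l, hl⟩ := hG hg
    have hM2 : ((x : Matrix (Fin 3) (Fin 3) F)ᵀ * S * (x : Matrix (Fin 3) (Fin 3) F)) ⊗ₖ
        ((y : Matrix (Fin 3) (Fin 3) F)ᵀ * (y : Matrix (Fin 3) (Fin 3) F)) =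
        ((l : F) • S) ⊗ₖ (1 : Matrix (Fin 3) (Fin 3) F) := by
      rw [Matrix.smul_kronecker, Matrix.mul_kronecker_mul, ← mul_one ((y : Matrix (Fin 3) (Fin 3) F)ᵀ),
        Matrix.mul_kronecker_mul, Matrix.kroneckerMap_transpose]
      apply gram_ext
      intro u v
      rw [mul_assoc, ← formOfGram_mulVec_left, ← formOfGram_mulVec_right, H46.formOfGram_smul_gram, ← h.form,
        ← h.form, ← hl, hxy, matCoords_unc, matCoords_unc]
    obtain ⟨d, hd, -, hyd⟩ := H46.kron_eq_kron hM2 (smul_ne_zero l.ne_zero h.unit_fst.ne_zero) one_ne_zero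
    obtain ⟨i1, hi1⟩ := hmono y ⟨_, inv_ne_zero hd, hyd⟩ i
    refine ⟨i1, ?_⟩
    rw [H46.glConj_eq_iff, hxy]
    simp only [E, ← map_mul, ← Matrix.mul_kronecker_mul, mul_one, one_mul]
    congr 2
    -- `y * E i = E i1 * y`, as `y` is monomial
    have hrow : ∀ j, j ≠ i → (y : Matrix (Fin 3) (Fin 3) F) i1 j = 0 := by
      intro j hj
      by_contra hne
      obtain ⟨i2, hi2⟩ := hmono y ⟨_, inv_ne_zero hd, hyd⟩ j
      have hi21 : i2 = i1 := by
        by_contra hh
        exact hne (hi2 i1 (Ne.symm hh))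
      subst hi21
      have h0 := congrFun (congrFun hyd i) j
      rw [Matrix.smul_apply, Matrix.one_apply_ne (Ne.symm hj), smul_zero, Matrix.mul_apply,
        Finset.sum_eq_single i2 (fun k _ hk => by rw [hi2 k hk, mul_zero]) (by simp), Matrix.transpose_apply] at h0
      have hcol : (y : Matrix (Fin 3) (Fin 3) F) i2 i ≠ 0 := fun h00 => by
        have h5 := congrFun (congrFun hyd i) i
        rw [Matrix.smul_apply, Matrix.one_apply_eq, smul_eq_mul, mul_one, Matrix.mul_apply,
          Finset.sum_eq_single i2 (fun k _ hk => by rw [hi1 k hk, mul_zero]) (by simp), h00, mul_zero] at h5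
        exact inv_ne_zero hd h5.symm
      exact hne ((mul_eq_zero.1 h0).resolve_left hcol)
    ext r k
    by_cases hk : k = i
    · subst hk
      rw [Matrix.mul_single_apply_same, mul_one]
      by_cases hr : r = i1
      · subst hr; rw [Matrix.single_mul_apply_same, one_mul]
      · rw [Matrix.single_mul_apply_of_ne _ _ _ _ _ hr, hi1 r hr]
    · rw [Matrix.mul_single_apply_of_ne _ _ _ _ _ hk]
      by_cases hr : r = i1
      · subst hr; rw [Matrix.single_mul_apply_same, one_mul, hrow k hk]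
      · rw [Matrix.single_mul_apply_of_ne _ _ _ _ _ hr]
  have hadjE : ∀ i, IsAdj f (E i) (E i) := by
    intro i u v
    obtain ⟨x, rfl⟩ : ∃ x, unc e P x = u := ⟨_, unc_vecCoords e P u⟩
    obtain ⟨y, rfl⟩ : ∃ y, unc e P y = v := ⟨_, unc_vecCoords e P v⟩
    simp only [E, matCoords_unc, h.form, formOfGram_mulVec_left, formOfGram_mulVec_right]
    rw [← Matrix.kroneckerMap_transpose, ← Matrix.mul_kronecker_mul, ← Matrix.mul_kronecker_mul,
      Matrix.transpose_one, one_mul, mul_one, mul_one, one_mul, Matrix.transpose_single]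
  refine (H51.FormAsch.of_atoms hf hG hirr (Finset.univ.image E)
      (by rw [Finset.card_image_of_injective _ hEinj]; simp) ?_ ?_ ?_ ?_ ?_).elim
    (fun ⟨t, k, D, _, hD, hle⟩ => ⟨t, k, D, hD, hle⟩)
    (fun ⟨_, k, _, hc, _⟩ => absurd ⟨k, by omega⟩ (Nat.not_even_iff_odd.2 hι))
  · simp only [Finset.mem_image, Finset.mem_univ, true_and]
    rintro _ ⟨i, rfl⟩ h0
    have h1 := congrFun (congrFun ((matCoords e P).injective (h0.trans (map_zero _).symm)) (0, i)) (0, i)
    simp at h1
  · simp only [Finset.mem_image, Finset.mem_univ, true_and]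
    rintro _ ⟨i, rfl⟩ _ ⟨j, rfl⟩
    simp only [horth, hEinj.eq_iff]
  · rw [Finset.sum_image fun i _ j _ hij => hEinj hij]
    simp only [E, ← map_sum]
    rw [show (∑ i : Fin 3, (1 : Matrix (Fin 3) (Fin 3) F) ⊗ₖ Matrix.single i i (1 : F)) = 1 from ?_, map_one]
    ext ⟨p, r⟩ ⟨s, t⟩
    fin_cases r <;> fin_cases t <;>
      simp [Fin.sum_univ_three, Matrix.one_apply, Matrix.single_apply, Prod.ext_iff]
  · simp only [Finset.mem_image, Finset.mem_univ, true_and]
    rintro g hg _ ⟨i, rfl⟩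
    obtain ⟨j, hj⟩ := hgE g hg i
    exact ⟨j, hj.symm⟩
  · simp only [Finset.mem_image, Finset.mem_univ, true_and]
    rintro _ ⟨i, rfl⟩
    exact ⟨E i, ⟨i, rfl⟩, hadjE i⟩

variable {q : QuadraticForm F (ι → F)} {H : Subgroup (GL ι F)}

/-- An irreducible group of isometries normalising an algebra with scalar centre. -/
theorem tensor_outcome (hq : (H43.polB q).Nondegenerate) (hF : Odd (Fintype.card F))
    (hodd : Odd (Fintype.card ι))
    (hstd : ∀ (K : Subfield F) i j, gramMatrix (QuadraticMap.polar ⇑q) i j ∈ K)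
    (hiso : ∀ g ∈ H, ∀ x, q ((g : Matrix ι ι F) *ᵥ x) = q x) (hirr : ActsIrreducibly (matrixSet H))
    {A : Subalgebra F (Matrix ι ι F)} (hA : ∀ g ∈ H, ∀ X ∈ A, glConj g X ∈ A)
    (hadj : ∀ X ∈ A, ∃ Y ∈ A, IsAdj (QuadraticMap.polar ⇑q) X Y) (hbot : A ≠ ⊥) (htop : A ≠ ⊤)
    (hZ : centreOf A = ⊥) : OddOutcome q H := by
  classical
  have h2 : (2 : F) ≠ 0 := H43.two_ne_zero_of_odd_card hF
  have hs := sform_polar hq
  have hH : H ≤ similarityGroup (QuadraticMap.polar ⇑q) := fun g hg => ⟨1, fun u v => by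
    simp only [QuadraticMap.polar, ← Matrix.mulVec_add, hiso g hg, Units.val_one, one_mul]⟩
  obtain ⟨a, m, e, P, S, C, hao, hmo, ha3, hm3, hk⟩ := kron_of_scalar_centre hodd hs
    (fun u v => QuadraticMap.polar_comm _ u v) h2 hirr hA hadj hbot htop hZ
  have key : ∀ {a m : ℕ} {e : ι ≃ Fin a × Fin m} {P : GL ι F} {S : Matrix (Fin a) (Fin a) F}
      {C : Matrix (Fin m) (Fin m) F}, 3 ≤ a → a < m → KronData (QuadraticMap.polar ⇑q) H e P S C →
      OddOutcome q H := by
    intro a m e P S C ha hlt hk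
    refine .tensor a m e P _ _ ha hlt (isSymmetricForm_gram S hk.unit_fst hk.symm_fst)
      (isSymmetricForm_gram C hk.unit_snd hk.symm_snd) ⟨1, one_ne_zero, fun x y => ?_⟩ fun g hg => ?_
    · rw [one_mul, gramMatrix_formOfGram, gramMatrix_formOfGram]
      exact hk.form x y
    · obtain ⟨x, y, hxy⟩ := hk.mem g hg
      refine H46.mem_tensorProductSubgroup e P g ⟨x, y, ?_⟩
      apply (matCoords e P).injective
      rw [H46.matCoords_glCoords_symm, hxy]
  rcases lt_trichotomy a m with hlt | rfl | hlt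
  · exact key ha3 hlt hk
  swap
  · exact key hm3 hlt hk.swap
  have hdet : ∀ {M : Matrix (Fin a) (Fin a) F}, IsUnit M → M.det ≠ 0 := fun hM =>
    ((Matrix.isUnit_iff_isUnit_det _).1 hM).ne_zero
  by_cases hex : Fintype.card F = 3 ∧ a = 3
  · obtain ⟨hq3, rfl⟩ := hex
    obtain ⟨R, c, hc, hR⟩ := exists_congr_smul hF hao Matrix.transpose_one hk.symm_snd
      (hdet isUnit_one) (hdet hk.unit_snd)
    obtain ⟨P', hk'⟩ := hk.change_second hc isUnit_one Matrix.transpose_one hR
    obtain ⟨t, k, D, hD, hle⟩ := decomp_of_kron_three hq3 hs hodd hH hirr hk'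
    exact decomp_outcome hq h2 hodd hstd hiso hirr hD hle
  obtain ⟨R, c, hc, hR⟩ := exists_congr_smul hF hao hk.symm_fst hk.symm_snd
    (hdet hk.unit_fst) (hdet hk.unit_snd)
  obtain ⟨P', hk'⟩ := hk.change_second hc hk.unit_fst hk.symm_fst hR
  let e' : ι ≃ (Fin 2 → Fin a) := e.trans (finTwoArrowEquiv (Fin a)).symm
  refine .power a 2 e' P' _ ha3 le_rfl hex (isSymmetricForm_gram S hk.unit_fst hk.symm_fst)
    ⟨c, hc, fun x y => ?_⟩ fun g hg => ?_
  · have h1 : ∀ z : (Fin 2 → Fin a) → F, z ∘ e' = (z ∘ (finTwoArrowEquiv (Fin a)).symm) ∘ e := fun z => rfl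
    rw [h1, h1]
    refine (hk'.form _ _).trans ?_
    rw [gramMatrix_formOfGram, Matrix.smul_kronecker, H46.formOfGram_smul_gram]
    congr 1
    simp only [formOfGram, Function.comp_apply, id, Matrix.kroneckerMap_apply]
    rw [← (finTwoArrowEquiv (Fin a)).sum_comp]
    refine Finset.sum_congr rfl fun u _ => ?_
    rw [← (finTwoArrowEquiv (Fin a)).sum_comp]
    exact Finset.sum_congr rfl fun v _ => by
      have hv : ∀ w : Fin 2 → Fin a, ![w 0, w 1] = w := fun w => by funext i; fin_cases i <;> rfl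
      simp [Fin.prod_univ_two, finTwoArrowEquiv, hv]
  · obtain ⟨x, y, hxy⟩ := hk'.mem g hg
    refine H46.mem_tensorWreathSubgroup e' P' g (Subgroup.subset_closure (Or.inl ⟨![x, y], fun u v => ?_⟩))
    have h1 : (((glCoords e' P').symm g : GL (Fin 2 → Fin a) F) : Matrix (Fin 2 → Fin a) (Fin 2 → Fin a) F) =
        ((x : Matrix (Fin a) (Fin a) F) ⊗ₖ (y : Matrix (Fin a) (Fin a) F)).submatrix
          (finTwoArrowEquiv (Fin a)) (finTwoArrowEquiv (Fin a)) := by
      apply (matCoords e' P').injective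
      rw [H46.matCoords_glCoords_symm, hxy]
      simp only [matCoords, AlgEquiv.trans_apply]
      congr 1
    rw [h1]
    simp [finTwoArrowEquiv, Fin.prod_univ_two]

end OrthStruct

end H45
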