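import Cfsg.Agent.H45.OrthKron

/-!
The structure theorem for groups of isometries of a quadratic form in odd dimension, odd characteristic.
-/

set_option autoImplicit false
set_option linter.style.haveILetI false
set_option linter.unusedSectionVars false
set_option maxHeartbeats 800000

open Cfsg.Geo
open scoped Matrix MatrixGroups Kronecker commutatorElement

namespace H45

namespace OrthStruct

open H51.FormAsch (SForm IsAdj sform_polar quad_rational centreOf centreOf_comm centreOf_normalized centreOf_adj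
  gramMatrix_formOfGram isSymmetricForm_gram unc)
open H46 (exists_scl scl scl_val adjoin_normalized glConj_matrixSet adjoin_ne_bot_of_not_scalar
  not_adjoin_top_of_comm conj_mem_commutator conj_mem_sup_scalars commutator_sup_scalars)

variable {ι : Type} [Fintype ι] [DecidableEq ι] {F : Type*} [Field F] [Fintype F]
variable {q : QuadraticForm F (ι → F)} {H : Subgroup (GL ι F)}

/-- The simple case. -/
theorem simple_outcome (hq : (H43.polB q).Nondegenerate) (h2 : (2 : F) ≠ 0) (hodd : Odd (Fintype.card ι))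
    (hstd : ∀ (K : Subfield F) i j, gramMatrix (QuadraticMap.polar ⇑q) i j ∈ K)
    (hiso : ∀ g ∈ H, ∀ x, q ((g : Matrix ι ι F) *ᵥ x) = q x) (hirr : ActsIrreducibly (matrixSet H))
    (h : H51.FormAsch.OrthOutcome (QuadraticMap.polar ⇑q) (H ⊔ scalars ι F)) : OddOutcome q H := by
  have hHG : H ≤ H ⊔ scalars ι F := le_sup_left
  rcases h with ⟨W, hW, hsing, hle⟩ | ⟨W, hW, ht, hnd, hle⟩ | ⟨t, D, hc, hD, hle⟩ |
    ⟨F₀, r, P, ζ, hr, hc, hζ, hR, hle⟩ | ⟨P, hle, hnorm, hperf, hsimple, hnab, hcent, habs, hsub, hU⟩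
  · refine .singular W hW (fun w hw => ?_) (hHG.trans hle)
    have h1 := hsing w hw w hw
    rw [← H43.polB_apply, H43.polB_self] at h1
    exact (mul_eq_zero.1 h1).resolve_left h2
  · exact .nondeg W hW ht hnd (hHG.trans hle)
  · exact decomp_outcome hq h2 hodd hstd hiso hirr hD (hHG.trans hle)
  · obtain ⟨P', hP', heq⟩ := quad_rational hq h2 hodd (hstd F₀) hζ hR
    exact .subfield F₀ r P' hr hc hP' (heq ▸ hHG.trans hle)
  · refine .residual ⟨P, ⟨?_, fun x hx => hnorm x (hHG hx), hperf, hsimple, hnab,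
      fun x hx => hcent x (hHG hx), habs, hsub⟩, hU⟩
    refine hle.trans ?_
    rw [commutator_sup_scalars]
    exact Subgroup.commutator_le_self H

/-- A normalised algebra closed under adjoints. -/
theorem algebra_outcome (hq : (H43.polB q).Nondegenerate) (hF : Odd (Fintype.card F))
    (hodd : Odd (Fintype.card ι))
    (hstd : ∀ (K : Subfield F) i j, gramMatrix (QuadraticMap.polar ⇑q) i j ∈ K)
    (hiso : ∀ g ∈ H, ∀ x, q ((g : Matrix ι ι F) *ᵥ x) = q x) (hirr : ActsIrreducibly (matrixSet H))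
    {G : Subgroup (GL ι F)} (hHG : H ≤ G) (hG : G ≤ similarityGroup (QuadraticMap.polar ⇑q))
    (hirrG : ActsIrreducibly (matrixSet G)) (hGZ : ¬ G ≤ scalars ι F)
    {A : Subalgebra F (Matrix ι ι F)} (hA : ∀ g ∈ G, ∀ X ∈ A, H46.glConj g X ∈ A)
    (hadj : ∀ X ∈ A, ∃ Y ∈ A, IsAdj (QuadraticMap.polar ⇑q) X Y) (hbot : A ≠ ⊥) (htop : A ≠ ⊤) :
    OddOutcome q H := by
  haveI : Nonempty ι := Fintype.card_pos_iff.1 hodd.pos
  have h2 : (2 : F) ≠ 0 := H43.two_ne_zero_of_odd_card hF
  have hs := sform_polar hq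
  have heven : ¬ 2 ∣ Fintype.card ι := fun h => Nat.not_even_iff_odd.2 hodd (even_iff_two_dvd.2 h)
  by_cases hZ : centreOf A = ⊥
  · exact tensor_outcome hq hF hodd hstd hiso hirr (fun g hg => hA g (hHG hg)) hadj hbot htop hZ
  by_cases hfield : ∀ x ∈ centreOf A, x ≠ 0 → ∃ y ∈ centreOf A, x * y = 1
  · rcases H51.FormAsch.of_field_centre hs hG centreOf_comm hfield hZ (centreOf_normalized hA)
      (centreOf_adj hs hadj) with ⟨r, K, hr, hK, hdvd, hself, hle⟩ | ⟨K, θ, -, h2', -⟩
    · by_cases hne : Fintype.card ι = r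
      · exact (H51.FormAsch.no_full_field hs (hne ▸ hr) hodd hG hirrG hGZ hr hK hdvd hself hle).elim
      · exact .field r K hr hne hK hself (hHG.trans hle)
    · exact absurd h2' heven
  rcases H51.FormAsch.of_split_centre hs hG hirrG hA hadj hfield with ⟨t, k, D, -, hD, hle⟩ | ⟨e, k, D, hc, -⟩
  · exact decomp_outcome hq h2 hodd hstd hiso hirr hD (hHG.trans hle)
  · exact absurd ⟨k, hc⟩ heven

/-- The tensor power case. -/
theorem power_outcome (hq : (H43.polB q).Nondegenerate) (h2 : (2 : F) ≠ 0) (hodd : Odd (Fintype.card ι))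
    {G : Subgroup (GL ι F)} (hHG : H ≤ G) (hG : G ≤ similarityGroup (QuadraticMap.polar ⇑q)) {a k : ℕ}
    (hd : H51.FormAsch.PowerData G a k) (hc : Fintype.card ι = a ^ k) : OddOutcome q H := by
  haveI : Nonempty ι := Fintype.card_pos_iff.1 hodd.pos
  have hk2 := hd.two_le_num
  have ha2 := hd.two_le_deg
  have hao : Odd a := (Nat.odd_pow_iff (by omega)).1 (hc ▸ hodd)
  have ha3 : 3 ≤ a := by obtain ⟨j, rfl⟩ := hao; omega
  obtain ⟨hex, e, P, M₁, c, hc0, hMu, hM₁, hform, hmem⟩ := PowerForm.power_form (sform_polar hq) hG hd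
  have hsym : M₁ᵀ = M₁ := hM₁.resolve_right fun h => by
    have h1 := congrArg Matrix.det h
    rw [Matrix.det_transpose, Matrix.det_neg, Fintype.card_fin, hao.neg_one_pow] at h1
    refine ((Matrix.isUnit_iff_isUnit_det _).1 hMu).ne_zero ?_
    exact (mul_eq_zero.1 (show (2 : F) * M₁.det = 0 by linear_combination h1)).resolve_left h2
  refine .power a k e P _ ha3 hk2 hex (isSymmetricForm_gram M₁ hMu hsym) ⟨c, hc0, fun x y => ?_⟩
    fun g hg => ?_
  · rw [gramMatrix_formOfGram]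
    exact hform x y
  · obtain ⟨s, x, hgx⟩ := hmem g (hHG hg)
    refine H46.mem_tensorWreathSubgroup e P g ?_
    rw [hgx, MulEquiv.symm_apply_apply]
    exact mul_mem (Subgroup.subset_closure (Or.inr ⟨s, fun u v => rfl⟩))
      (Subgroup.subset_closure (Or.inl ⟨x, fun u v => rfl⟩))

/-- **Structure theorem for groups of isometries in odd dimension.** -/
theorem oddOutcome (hq : (H43.polB q).Nondegenerate) (hF : Odd (Fintype.card F)) (hn : 3 ≤ Fintype.card ι)
    (hodd : Odd (Fintype.card ι))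
    (hstd : ∀ (K : Subfield F) i j, gramMatrix (QuadraticMap.polar ⇑q) i j ∈ K)
    (hiso : ∀ g ∈ H, ∀ x, q ((g : Matrix ι ι F) *ᵥ x) = q x) : OddOutcome q H := by
  classical
  haveI : Nonempty ι := Fintype.card_pos_iff.1 (by omega)
  haveI : Nontrivial ι := Fintype.one_lt_card_iff_nontrivial.1 (by omega)
  have h2 : (2 : F) ≠ 0 := H43.two_ne_zero_of_odd_card hF
  have hs := sform_polar hq
  have hH : H ≤ similarityGroup (QuadraticMap.polar ⇑q) := fun g hg => ⟨1, fun u v => by
    simp only [QuadraticMap.polar, ← Matrix.mulVec_add, hiso g hg, Units.val_one, one_mul]⟩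
  by_cases hirr : ActsIrreducibly (matrixSet H)
  swap
  · obtain ⟨W, hb, ht, h⟩ := H46.exists_invariant_of_not_irreducible hirr
    rcases hs.of_reducible hH hb ht h with ⟨U, h1, h2', h3⟩ | ⟨U, h1, h2', h3, h4⟩ | ⟨k, D, h1, -⟩
    · refine .singular U h1 (fun w hw => ?_) h3
      have h5 := h2' w hw w hw
      rw [← H43.polB_apply, H43.polB_self] at h5
      exact (mul_eq_zero.1 h5).resolve_left h2
    · refine .nondeg U h1 (fun e => ?_) h2' h4
      rw [e, finrank_top, Module.finrank_fintype_fun_eq_card] at h3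
      omega
    · exact absurd (⟨k, h1⟩ : 2 ∣ Fintype.card ι) fun h => Nat.not_even_iff_odd.2 hodd (even_iff_two_dvd.2 h)
  set G := H ⊔ scalars ι F with hGdef
  have hHG : H ≤ G := le_sup_left
  have hG : G ≤ similarityGroup (QuadraticMap.polar ⇑q) := by
    refine sup_le hH ?_
    rintro z hz
    obtain ⟨c, rfl⟩ := exists_scl hz
    refine ⟨c * c, fun u v => ?_⟩
    rw [scl_val, Matrix.smul_mulVec, Matrix.one_mulVec, Matrix.smul_mulVec, Matrix.one_mulVec, hs.smul_left,
      hs.smul_right, Units.val_mul, mul_assoc]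
    rfl
  have hsub : matrixSet H ⊆ matrixSet G := by
    rintro _ ⟨g, hg, rfl⟩
    exact ⟨g, hHG hg, rfl⟩
  have hirrG : ActsIrreducibly (matrixSet G) := fun W hW => hirr W fun s hs' => hW s (hsub hs')
  have hGZ : ¬ G ≤ scalars ι F := by
    intro hGZ
    obtain ⟨i, j, hij⟩ := exists_pair_ne ι
    have := hirrG (Submodule.span F {Pi.single i 1}) (by
      rintro _ ⟨g, hg, rfl⟩
      obtain ⟨c, rfl⟩ := exists_scl (hGZ hg)
      rintro _ ⟨v, hv, rfl⟩
      show Matrix.toLin' ((scl ι c : GL ι F) : Matrix ι ι F) v ∈ _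
      rw [Matrix.toLin'_apply, scl_val, Matrix.smul_mulVec, Matrix.one_mulVec]
      exact Submodule.smul_mem _ _ hv)
    rcases this with h | h
    · rw [Submodule.span_singleton_eq_bot] at h
      exact one_ne_zero (Pi.single_eq_zero_iff.1 h)
    · have hmem : (Pi.single j 1 : ι → F) ∈ Submodule.span F {Pi.single i (1 : F)} := h ▸ Submodule.mem_top
      obtain ⟨c, hc⟩ := Submodule.mem_span_singleton.1 hmem
      have := congrFun hc j
      simp [Pi.single_eq_of_ne (Ne.symm hij)] at this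
  by_cases hspan : ∀ N : Subgroup (GL ι F), N ≤ G → (∀ g ∈ G, ∀ x ∈ N, g * x * g⁻¹ ∈ N) →
      ¬ N ≤ scalars ι F → Algebra.adjoin F (matrixSet N) = ⊤
  swap
  · simp only [not_forall] at hspan
    obtain ⟨N, hNG, hnorm, hns, htop⟩ := hspan
    exact algebra_outcome hq hF hodd hstd hiso hirr hHG hG hirrG hGZ (adjoin_normalized (glConj_matrixSet hnorm))
      (fun X hX => hs.adj_mem_adjoin (hNG.trans hG) hX) (adjoin_ne_bot_of_not_scalar hns) htop
  haveI : Finite (Subgroup (GL ι F)) := inferInstance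
  have hGne : G ∈ {N : Subgroup (GL ι F) | scalars ι F ≤ N ∧ N ≤ G ∧
      (∀ g ∈ G, ∀ x ∈ N, g * x * g⁻¹ ∈ N) ∧ N ≠ scalars ι F} :=
    ⟨le_sup_right, le_rfl, fun g hg x hx => mul_mem (mul_mem hg hx) (inv_mem hg), fun h => hGZ h.le⟩
  obtain ⟨N, hN⟩ := (Set.toFinite {N : Subgroup (GL ι F) | scalars ι F ≤ N ∧ N ≤ G ∧
      (∀ g ∈ G, ∀ x ∈ N, g * x * g⁻¹ ∈ N) ∧ N ≠ scalars ι F}).exists_minimal ⟨G, hGne⟩
  obtain ⟨⟨hZN, hNG, hnorm, hNne⟩, hNmin⟩ := hN
  have hns : ¬ N ≤ scalars ι F := fun h => hNne (le_antisymm h hZN)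
  have hmin : ∀ M : Subgroup (GL ι F), scalars ι F ≤ M → M ≤ N →
      (∀ g ∈ G, ∀ x ∈ M, g * x * g⁻¹ ∈ M) → M = scalars ι F ∨ M = N := by
    intro M hZM hMN hM
    by_cases h : M = scalars ι F
    · exact Or.inl h
    · exact Or.inr (le_antisymm hMN (hNmin ⟨hZM, hMN.trans hNG, hM, h⟩ hMN))
  by_cases hab : ⁅N, N⁆ ≤ scalars ι F
  · exact absurd (hspan N hNG hnorm hns) (not_adjoin_top_of_comm fun x hx y hy =>
      H51.FormAsch.commute_of_scalar_commutator hs hodd hG (hNG hx) (hNG hy)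
        (hab (Subgroup.commutator_mem_commutator hx hy)))
  have hPN : ⁅N, N⁆ ⊔ scalars ι F = N := by
    refine (hmin _ le_sup_right (sup_le (Subgroup.commutator_le_self N) hZN) ?_).resolve_left
      fun h => hab (le_sup_left.trans h.le)
    exact fun g hg => conj_mem_sup_scalars (conj_mem_commutator (hnorm g hg))
  by_cases hsimple : ∀ M : Subgroup (GL ι F), scalars ι F ≤ M → M ≤ N →
      (∀ x ∈ N, ∀ y ∈ M, x * y * x⁻¹ ∈ M) → M = scalars ι F ∨ M = N
  · exact simple_outcome hq h2 hodd hstd hiso hirr (H51.FormAsch.orth_of_simple hs hG hNG hnorm hZN hPN hab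
      (hspan _ ((Subgroup.commutator_le_self N).trans hNG) (fun g hg => conj_mem_commutator (hnorm g hg)) hab)
      hsimple)
  · simp only [not_forall, not_or] at hsimple
    obtain ⟨M, h1, h2', h3, h4, h5⟩ := hsimple
    obtain ⟨a, k, hd, hc⟩ := H51.FormAsch.power_data_of_not_simple hn hnorm hNG hZN hmin hab
      (hspan N hNG hnorm hns) ⟨M, h1, h2', h3, h4, h5⟩
    exact power_outcome hq h2 hodd hHG hG hd hc

end OrthStruct

end H45
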