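import Mathlib
import Cfsg.Agent.H45.SingMax
import Cfsg.Agent.H45.WreathGeom
import Cfsg.Agent.H45.OrthTransfer
import Cfsg.Agent.H45.GL

/-!
# The stabiliser of a pair of complementary totally singular halves is maximal
-/

set_option autoImplicit false
set_option linter.unusedSectionVars false

namespace H45

open H43

variable {F : Type*} [Field F] [Finite F] {V : Type*} [AddCommGroup V] [Module F V]
  [FiniteDimensional F V] {Q : QuadraticForm F V}

/-- Two complementary totally singular subspaces of dimension `k`. -/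
structure SingPair (Q : QuadraticForm F V) (U W : Submodule F V) (k : ℕ) : Prop where
  left : ∀ x ∈ U, Q x = 0
  right : ∀ x ∈ W, Q x = 0
  sup : ∀ v : V, ∃ a ∈ U, ∃ b ∈ W, v = a + b
  inf : U ⊓ W = ⊥
  dimL : Module.finrank F U = k
  dimR : Module.finrank F W = k

variable {U W : Submodule F V} {k : ℕ}

lemma SingPair.symm (h : SingPair Q U W k) : SingPair Q W U k :=
  ⟨h.right, h.left, fun v => by
    obtain ⟨a, ha, b, hb, rfl⟩ := h.sup v
    exact ⟨b, hb, a, ha, add_comm _ _⟩, by rw [inf_comm, h.inf], h.dimR, h.dimL⟩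

lemma SingPair.polB_left (h : SingPair Q U W k) {x y : V} (hx : x ∈ U) (hy : y ∈ U) :
    polB Q x y = 0 := by
  have e := qmap_add (Q := Q) x y
  rw [h.left _ (add_mem hx hy), h.left x hx, h.left y hy] at e
  linear_combination -e

lemma SingPair.ne_zero (h : SingPair Q U W k) {x : V} (hx : x ∈ U) (hy : x ∈ W) : x = 0 :=
  (Submodule.mem_bot F).mp (h.inf ▸ ⟨hx, hy⟩)

variable (hQ : (polB Q).Nondegenerate)

include hQ

lemma SingPair.mem_of_perp (h : SingPair Q U W k) {x : V} (hx : ∀ u ∈ U, polB Q x u = 0) :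
    x ∈ U := by
  obtain ⟨a, ha, b, hb, rfl⟩ := h.sup x
  suffices hb0 : b = 0 by rw [hb0, add_zero]; exact ha
  refine eq_zero_of_polB_eq_zero hQ fun v => ?_
  obtain ⟨a', ha', b', hb', rfl⟩ := h.sup v
  have h1 := hx a' ha'
  rw [map_add, LinearMap.add_apply, h.polB_left ha ha', zero_add] at h1
  rw [map_add, h1, h.symm.polB_left hb hb', zero_add]

/-- Functionals on `U` come from `W`. -/
lemma SingPair.exists_dual (h : SingPair Q U W k) (φ : U →ₗ[F] F) :
    ∃ b ∈ W, ∀ u : U, polB Q (u : V) b = φ u := by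
  obtain ⟨z, hz⟩ := exists_functional hQ φ
  obtain ⟨a, ha, b, hb, rfl⟩ := h.sup z
  refine ⟨b, hb, fun u => ?_⟩
  rw [← hz u, map_add, h.polB_left u.2 ha, zero_add]

lemma SingPair.exists_dual_notMem (h : SingPair Q U W k) {c : V} (hc : c ∈ U) {S : Submodule F V}
    (hS : c ∉ S) : ∃ b ∈ W, polB Q c b = 1 ∧ ∀ u ∈ U, u ∈ S → polB Q u b = 0 := by
  obtain ⟨ψ, hψc, hψ⟩ := Submodule.exists_dual_map_eq_bot_of_notMem hS inferInstance
  obtain ⟨b, hb, hbv⟩ := h.exists_dual hQ ((ψ c)⁻¹ • ψ.comp U.subtype)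
  refine ⟨b, hb, ?_, fun u hu huS => ?_⟩
  · have := hbv ⟨c, hc⟩
    simp only [LinearMap.smul_apply, LinearMap.comp_apply, Submodule.coe_subtype, smul_eq_mul,
      inv_mul_cancel₀ hψc] at this
    exact this
  · have h0 : ψ u = 0 := by
      have : ψ u ∈ S.map ψ := ⟨u, huS, rfl⟩
      rwa [hψ, Submodule.mem_bot] at this
    have := hbv ⟨u, hu⟩
    simp only [LinearMap.smul_apply, LinearMap.comp_apply, Submodule.coe_subtype, smul_eq_mul, h0,
      mul_zero] at this
    exact this

omit hQ in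
/-- The isometries mapping the pair into itself. -/
def PStab (Q : QuadraticForm F V) (U W : Submodule F V) (g : orthGroup Q) : Prop :=
  ((∀ x ∈ U, g.1 x ∈ U) ∧ ∀ x ∈ W, g.1 x ∈ W) ∨ ((∀ x ∈ U, g.1 x ∈ W) ∧ ∀ x ∈ W, g.1 x ∈ U)

omit hQ in
lemma map_eq_of_maps {A B : Submodule F V} (hd : Module.finrank F A = Module.finrank F B)
    {g : orthGroup Q} (h : ∀ x ∈ A, g.1 x ∈ B) : A.map (g.1 : V →ₗ[F] V) = B :=
  Submodule.eq_of_le_of_finrank_le (by rintro _ ⟨x, hx, rfl⟩; exact h x hx)
    (by rw [LinearEquiv.finrank_map_eq, hd])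

omit hQ in
lemma inv_maps {A B : Submodule F V} (hd : Module.finrank F A = Module.finrank F B)
    {g : orthGroup Q} (h : ∀ x ∈ A, g.1 x ∈ B) : ∀ x ∈ B, (g⁻¹).1 x ∈ A := by
  intro x hx
  rw [← map_eq_of_maps hd h] at hx
  obtain ⟨y, hy, rfl⟩ := hx
  change (g⁻¹).1 (g.1 y) ∈ A
  rw [orth_inv_apply_self]
  exact hy

variable (h5 : 5 ≤ Module.finrank F V)

include h5

lemma eichler_mem_comm {u w : V} (hu : Q u = 0) (huw : polB Q u w = 0) :
    eichler Q u w ∈ commutator (orthGroup Q) := by
  rw [commutator_eq_eichlerSub hQ h5]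
  exact eichler_mem hu huw

omit hQ h5 in
lemma eichler_root_stab (h : SingPair Q U W k) {u w : V} (hu : u ∈ U) (hw : w ∈ W)
    (huw : polB Q u w = 0) : PStab Q U W (eichler Q u w) := by
  refine Or.inl ⟨fun x hx => ?_, fun x hx => ?_⟩ <;>
    rw [eichler_apply (h.left u hu) huw, h.right w hw, zero_mul, zero_smul, sub_zero]
  · rw [h.polB_left hx hu, zero_smul, add_zero]
    exact sub_mem hx (U.smul_mem _ hu)
  · rw [h.symm.polB_left hx hw, zero_smul, sub_zero]
    exact add_mem hx (W.smul_mem _ hw)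

variable (hgen : ReflGenerates F V)

include hgen

/-- An element interchanging the halves, in the commutator subgroup. -/
lemma exists_swap (h : SingPair Q U W k) (hk : Even k) :
    ∃ s ∈ commutator (orthGroup Q), (∀ x ∈ U, s.1 x ∈ W) ∧ ∀ x ∈ W, s.1 x ∈ U := by
  classical
  let e := Module.finBasisOfFinrankEq F U h.dimL
  choose f hf hfv using fun i : Fin k => h.exists_dual hQ (e.coord i)
  have hef : ∀ i j, polB Q (e i : V) (f j) = if i = j then 1 else 0 := fun i j => by
    rw [hfv j (e i), Module.Basis.coord_apply, e.repr_self, Finsupp.single_apply]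
  set v : Fin k → V := fun i => (e i : V) - f i with hv
  have hQv : ∀ i, Q (v i) = -1 := fun i => by
    rw [hv]
    simp only [qmap_sub, h.left _ (e i).2, h.right _ (hf i), hef, if_true]
    ring
  have hQv0 : ∀ i, Q (v i) ≠ 0 := fun i => by rw [hQv]; exact neg_ne_zero.mpr one_ne_zero
  have h1 : ∀ i j, polB Q (e j : V) (v i) = if j = i then -1 else 0 := fun i j => by
    rw [hv]
    simp only [map_sub, h.polB_left (e j).2 (e i).2, hef, zero_sub]
    split_ifs <;> simp
  have h2 : ∀ i j, polB Q (f j) (v i) = if j = i then 1 else 0 := fun i j => by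
    rw [hv]
    simp only [map_sub, h.symm.polB_left (hf j) (hf i), sub_zero]
    rw [polB_comm, hef]
    simp [eq_comm]
  -- products of the first reflections
  have key : ∀ n, n ≤ k → ∃ s : orthGroup Q,
      invHom hQ hgen s = (Multiplicative.ofAdd 1, sqc (-1)) ^ n ∧
      ∀ j : Fin k, (j.1 < n → s.1 (e j : V) = f j ∧ s.1 (f j) = e j) ∧
        (n ≤ j.1 → s.1 (e j : V) = e j ∧ s.1 (f j) = f j) := by
    intro n
    induction n with
    | zero =>
      intro _
      exact ⟨1, by rw [map_one, pow_zero], fun j => ⟨fun hj => absurd hj (Nat.not_lt_zero _),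
        fun _ => ⟨orth_one_apply _, orth_one_apply _⟩⟩⟩
    | succ n ih =>
      intro hn
      obtain ⟨s, hs, hsj⟩ := ih (by omega)
      set i : Fin k := ⟨n, by omega⟩ with hi
      refine ⟨refl Q (v i) * s, ?_, fun j => ?_⟩
      · rw [map_mul, hs, invHom_refl hQ hgen (hQv0 i), hQv, pow_succ', ]
      have hfix : ∀ l, l ≠ i → (refl Q (v i)).1 (e l : V) = e l ∧ (refl Q (v i)).1 (f l) = f l :=
        fun l hl => ⟨refl_fix (by rw [h1, if_neg hl]), refl_fix (by rw [h2, if_neg hl])⟩
      refine ⟨fun hj => ?_, fun hj => ?_⟩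
      · by_cases hji : j = i
        · subst hji
          obtain ⟨e1, e2⟩ := (hsj i).2 le_rfl
          rw [orth_mul_apply, orth_mul_apply, e1, e2, refl_apply, refl_apply, h1, h2, if_pos rfl,
            if_pos rfl, hQv, mul_neg, mul_one, inv_neg, inv_one, neg_neg, one_smul, neg_one_smul,
            hv]
          constructor <;> module
        · have hjn : j.1 < n := by
            have : j.1 ≠ n := fun e => hji (Fin.ext e)
            omega
          obtain ⟨e1, e2⟩ := (hsj j).1 hjn
          obtain ⟨f1, f2⟩ := hfix j hji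
          rw [orth_mul_apply, orth_mul_apply, e1, e2]
          exact ⟨f2, f1⟩
      · have hji : j ≠ i := fun e => by rw [e, hi] at hj; simp at hj
        obtain ⟨e1, e2⟩ := (hsj j).2 (by omega)
        obtain ⟨f1, f2⟩ := hfix j hji
        rw [orth_mul_apply, orth_mul_apply, e1, e2]
        exact ⟨f1, f2⟩
  obtain ⟨s, hs, hsj⟩ := key k le_rfl
  have hUW : ∀ x ∈ U, s.1 x ∈ W := by
    intro x hx
    have hx' : (⟨x, hx⟩ : U) = ∑ j, e.repr ⟨x, hx⟩ j • e j := (e.sum_repr _).symm
    have := congrArg Subtype.val hx'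
    simp only [Submodule.coe_sum, Submodule.coe_smul] at this
    rw [this, map_sum]
    refine Submodule.sum_mem _ fun j _ => ?_
    rw [map_smul, ((hsj j).1 j.2).1]
    exact W.smul_mem _ (hf j)
  refine ⟨s, ?_, hUW, ?_⟩
  · rw [commutator_eq_invKer hQ hgen (by omega), MonoidHom.mem_ker, hs]
    obtain ⟨l, rfl⟩ := hk
    rw [← two_mul, pow_mul, pow_two, Prod.mk_mul_mk, sqClass_mul_self,
      show (Multiplicative.ofAdd (1 : ZMod 2)) * Multiplicative.ofAdd 1 = 1 from rfl]
    exact one_pow l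
  intro x hx
  refine h.mem_of_perp hQ fun u hu => ?_
  obtain ⟨y, hy, rfl⟩ : ∃ y ∈ W, (s⁻¹).1 y = u :=
    ⟨s.1 u, hUW u hu, orth_inv_apply_self s u⟩
  -- the swap is involutive on the basis, so it also maps `W` into `U`
  have hspan : ∀ b ∈ W, ∃ c : Fin k → F, b = ∑ j, c j • f j := by
    intro b hb
    refine ⟨fun j => polB Q (e j : V) b, ?_⟩
    refine sub_eq_zero.mp (h.ne_zero (h.mem_of_perp hQ fun u hu => ?_) ?_)
    · have hu' : (⟨u, hu⟩ : U) = ∑ j, e.repr ⟨u, hu⟩ j • e j := (e.sum_repr _).symm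
      have := congrArg Subtype.val hu'
      simp only [Submodule.coe_sum, Submodule.coe_smul] at this
      rw [this, map_sum]
      refine Finset.sum_eq_zero fun j _ => ?_
      rw [map_smul, polB_comm, map_sub, map_sum]
      simp [hef]
    · exact sub_mem hb (Submodule.sum_mem _ fun j _ => W.smul_mem _ (hf j))
  obtain ⟨c, rfl⟩ := hspan x hx
  have hsx : s.1 (∑ j, c j • f j) ∈ U := by
    rw [map_sum]
    refine Submodule.sum_mem _ fun j _ => ?_
    rw [map_smul, ((hsj j).1 j.2).2]
    exact U.smul_mem _ (e j).2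
  exact h.polB_left hsx hu

variable {M : Subgroup (orthGroup Q)}
  (hHM : ∀ g ∈ commutator (orthGroup Q), PStab Q U W g → g ∈ M)

omit hgen in
/-- A root element of the line of two orthogonal vectors of the translated halves. -/
lemma conj_root_mem (h : SingPair Q U W k)
    (hHM : ∀ g ∈ commutator (orthGroup Q), PStab Q U W g → g ∈ M) {g : orthGroup Q} (hg : g ∈ M)
    {u w : V} (hu : u ∈ U) (hw : w ∈ W) (huw : polB Q u w = 0) :
    eichler Q (g.1 u) (g.1 w) ∈ M := by
  rw [← eichler_conj g (h.left u hu) huw]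
  exact mul_mem (mul_mem hg (hHM _ (eichler_mem_comm hQ h5 (h.left u hu) huw)
    (eichler_root_stab h hu hw huw))) (inv_mem hg)

omit hQ h5 hgen in
/-- Root elements meeting a half fix it. -/
lemma eichler_fix_half {x y : V} (hx : Q x = 0) (hy : Q y = 0) (hxy : polB Q x y = 0)
    (h : SingPair Q U W k) {r : F} (hc : y + r • x ∈ U) :
    ∀ u ∈ U, (eichler Q x y).1 u ∈ U := by
  intro u hu
  have h0 := h.polB_left hu hc
  rw [map_add, map_smul, smul_eq_mul] at h0
  rw [eichler_apply hx hxy, hy, zero_mul, zero_smul, sub_zero,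
    show polB Q u y = -(r * polB Q u x) by linear_combination h0, neg_smul, sub_neg_eq_add,
    add_assoc, mul_comm, ← smul_smul, ← smul_add]
  exact add_mem hu (U.smul_mem _ hc)

omit h5 hgen in
/-- Root elements of lines missing a half move it. -/
lemma eichler_move_half {x y : V} (hx : Q x = 0) (hy : Q y = 0) (hxy : polB Q x y = 0)
    (h : SingPair Q U W k) (hxU : x ∉ U) (hmiss : ∀ r : F, y + r • x ∉ U) :
    ¬ ∀ u ∈ U, (eichler Q x y).1 u ∈ U := by
  intro hall
  refine hxU (h.mem_of_perp hQ fun u hu => ?_)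
  have h1 := sub_mem (hall u hu) hu
  rw [eichler_apply hx hxy, hy, zero_mul, zero_smul, sub_zero, add_sub_assoc, add_sub_cancel_left]
    at h1
  by_contra hne
  rw [polB_comm] at hne
  refine hmiss (-((polB Q u x)⁻¹ * polB Q u y)) ?_
  have h2 := U.smul_mem (polB Q u x)⁻¹ h1
  rw [smul_sub, smul_smul, inv_mul_cancel₀ hne, one_smul, smul_smul] at h2
  rwa [neg_smul, ← sub_eq_add_neg]

include hHM

/-- An element of `M` outside the stabiliser yields one fixing exactly one half. -/
lemma exists_one_sided (h : SingPair Q U W k) (hk : Even k) (hk7 : 6 ≤ k) {g : orthGroup Q}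
    (hg : g ∈ M) (hgD : ¬ PStab Q U W g) :
    ∃ x ∈ M, (∀ u ∈ U, x.1 u ∈ U) ∧ ¬ ∀ w ∈ W, x.1 w ∈ W := by
  classical
  by_contra hfail
  push Not at hfail
  obtain ⟨s, hs, hsU, hsW⟩ := exists_swap hQ h5 hgen h hk
  have hsM : s ∈ M := hHM s hs (Or.inr ⟨hsU, hsW⟩)
  -- the mirror image
  have hfail' : ∀ x ∈ M, (∀ w ∈ W, x.1 w ∈ W) → ∀ u ∈ U, x.1 u ∈ U := by
    intro x hx hxW u hu
    have h1 := hfail (s * x * s⁻¹) (mul_mem (mul_mem hsM hx) (inv_mem hsM)) (fun u' hu' => by
      rw [orth_mul_apply, orth_mul_apply]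
      exact hsW _ (hxW _ (inv_maps (h.dimR.trans h.dimL.symm) hsW u' hu')))
    have h2 := h1 (s.1 u) (hsU u hu)
    rw [orth_mul_apply, orth_mul_apply, orth_inv_apply_self] at h2
    have h3 := inv_maps (h.dimL.trans h.dimR.symm) hsU _ h2
    rwa [orth_inv_apply_self] at h3
  have hbig : ∀ (A : Submodule F V) (x : V), k ≤ Module.finrank F A + 0 →
      k ≤ Module.finrank F (perpIn Q A x) + 1 := fun A x hA => by
    have := finrank_perpIn (Q := Q) A x
    omega
  -- an element with a large fixed part in `U` moving it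
  obtain ⟨g', hg', hg'U, a, haU, hag, ha_ind⟩ : ∃ g' ∈ M, ¬ (∀ u ∈ U, g'.1 u ∈ U) ∧
      ∃ a : Fin 3 → V, (∀ l, a l ∈ U) ∧ (∀ l, a l ∈ U.map (g'.1 : V →ₗ[F] V)) ∧
        LinearIndependent F a := by
    have hgU : ¬ ∀ u ∈ U, g.1 u ∈ U := fun hall => hgD (Or.inl ⟨hall, hfail g hg hall⟩)
    have hgW : ¬ ∀ u ∈ U, g.1 u ∈ W := fun hall => by
      have hsg := hfail (s * g) (mul_mem hsM hg) fun u hu => by
        rw [orth_mul_apply]; exact hsW _ (hall u hu)
      refine hgD (Or.inr ⟨hall, fun w hw => ?_⟩)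
      have := inv_maps (h.dimL.trans h.dimR.symm) hsU _ (hsg w hw)
      rwa [orth_mul_apply, orth_inv_apply_self] at this
    push Not at hgU hgW
    obtain ⟨u₁, hu₁, hu₁'⟩ := hgU
    obtain ⟨u₂, hu₂, hu₂'⟩ := hgW
    obtain ⟨u, hu, huU, huW⟩ : ∃ u ∈ U, g.1 u ∉ U ∧ g.1 u ∉ W := by
      by_cases e1 : g.1 u₁ ∈ W
      swap; · exact ⟨u₁, hu₁, hu₁', e1⟩
      by_cases e2 : g.1 u₂ ∈ U
      swap; · exact ⟨u₂, hu₂, e2, hu₂'⟩
      refine ⟨u₁ + u₂, add_mem hu₁ hu₂, fun e => hu₁' ?_, fun e => hu₂' ?_⟩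
      · rw [map_add] at e; simpa using sub_mem e e2
      · rw [map_add] at e; simpa using sub_mem e e1
    set x := g.1 u with hx
    obtain ⟨w, hw, hwmiss⟩ : ∃ w ∈ perpIn Q W u,
        (∀ r : F, g.1 w + r • x ∉ U) ∨ ∀ r : F, g.1 w + r • x ∉ W := by
      by_contra hcon
      push Not at hcon
      obtain ⟨a, ha, b, hb, hab⟩ := h.sup x
      have hle : (perpIn Q W u).map (g.1 : V →ₗ[F] V) ≤
          Submodule.span F (Set.range ![a, x]) := by
        rintro _ ⟨w, hw, rfl⟩
        obtain ⟨⟨r, hr⟩, r', hr'⟩ := hcon w hw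
        have e1 : (r - r') • a - (g.1 w + r • x) ∈ W := by
          rw [show (r - r') • a - (g.1 w + r • x) = -((r - r') • b) - (g.1 w + r' • x) by
            rw [hab]; module]
          exact sub_mem (neg_mem (W.smul_mem _ hb)) hr'
        have e2 := h.ne_zero (sub_mem (U.smul_mem _ ha) hr) e1
        refine (Submodule.mem_span_range_iff_exists_fun F).mpr ⟨![r - r', -r], ?_⟩
        simp only [Fin.sum_univ_two, Matrix.cons_val_zero, Matrix.cons_val_one]
        rw [sub_eq_zero.mp e2]
        change g.1 w + r • x + -r • x = g.1 w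
        module
      have h1 := Submodule.finrank_mono hle
      rw [LinearEquiv.finrank_map_eq] at h1
      have h2 : Module.finrank F (Submodule.span F (Set.range ![a, x])) ≤ 2 :=
        (finrank_range_le_card ![a, x]).trans (by simp)
      have h3 := hbig W u (by rw [h.dimR]; omega)
      omega
    obtain ⟨hwW, hwu⟩ := mem_perpIn.mp hw
    rw [polB_comm] at hwu
    set y := g.1 w
    have hQx : Q x = 0 := by rw [hx, orth_qmap, h.left u hu]
    have hQy : Q y = 0 := by rw [orth_qmap, h.right w hwW]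
    have hxy : polB Q x y = 0 := by rw [hx, orth_polB_map, hwu]
    have hρ : eichler Q x y ∈ M := conj_root_mem hQ h5 h hHM hg hu hwW hwu
    by_cases hU0 : ∀ r : F, y + r • x ∉ U
    · refine ⟨eichler Q x y, hρ, eichler_move_half hQ hQx hQy hxy h huU hU0, ?_⟩
      set K := perpIn Q (perpIn Q U x) y
      have hK : 3 ≤ Module.finrank F K := by
        have e1 := finrank_perpIn (Q := Q) U x
        have e2 := finrank_perpIn (Q := Q) (perpIn Q U x) y
        change _ ≤ Module.finrank F K + 1 at e2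
        rw [h.dimL] at e1
        omega
      let bK := Module.finBasis F K
      refine ⟨fun l => (bK (Fin.castLE hK l) : V), fun l => (bK (Fin.castLE hK l)).2.1.1,
        fun l => ⟨_, (bK (Fin.castLE hK l)).2.1.1, eichler_fix hQx hxy
          (mem_perpIn.mp (bK (Fin.castLE hK l)).2.1).2 (mem_perpIn.mp (bK (Fin.castLE hK l)).2).2⟩,
        (bK.linearIndependent.comp _ (Fin.castLE_injective hK)).map' K.subtype
          (Submodule.ker_subtype K)⟩
    · push Not at hU0
      obtain ⟨r, hr⟩ := hU0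
      have hW0 : ∀ r' : F, y + r' • x ∉ W :=
        hwmiss.resolve_left fun hall => hall r hr
      exact absurd (hfail _ hρ (eichler_fix_half hQx hQy hxy h hr))
        (eichler_move_half hQ hQx hQy hxy h.symm huW hW0)
  -- lines through the fixed part
  have hgW' : ¬ ∀ w ∈ W, g'.1 w ∈ W := fun hall => hg'U (hfail' g' hg' hall)
  apply hgW'
  have hkey : ∀ w ∈ W, ∀ l, polB Q (a l) (g'.1 w) = 0 → ∃ r : F, g'.1 w + r • a l ∈ W := by
    intro w hw l hlw
    obtain ⟨u, hu, hua⟩ := hag l
    have hua' : g'.1 u = a l := hua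
    by_contra hmiss
    push Not at hmiss
    have huw : polB Q u w = 0 := by rw [← orth_polB_map g', hua']; exact hlw
    have hρ := conj_root_mem hQ h5 h hHM hg' hu hw huw
    rw [hua'] at hρ
    have hQy : Q (g'.1 w) = 0 := by rw [orth_qmap, h.right w hw]
    have haW : a l ∉ W := fun e => ha_ind.ne_zero l (h.ne_zero (haU l) e)
    refine eichler_move_half hQ (h.left _ (haU l)) hQy hlw h.symm haW hmiss (hfail _ hρ fun v hv => ?_)
    rw [eichler_apply (h.left _ (haU l)) hlw, hQy, zero_mul, zero_smul, sub_zero,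
      h.polB_left hv (haU l), zero_smul, add_zero]
    exact sub_mem hv (U.smul_mem _ (haU l))
  have hpair : ∀ w ∈ W, ∀ l m, l ≠ m → polB Q (a l) (g'.1 w) = 0 → polB Q (a m) (g'.1 w) = 0 →
      g'.1 w ∈ W := by
    intro w hw l m hlm hl hm
    obtain ⟨r, hr⟩ := hkey w hw l hl
    obtain ⟨r', hr'⟩ := hkey w hw m hm
    have h0 : r • a l - r' • a m = 0 := by
      refine h.ne_zero (sub_mem (U.smul_mem _ (haU l)) (U.smul_mem _ (haU m))) ?_
      rw [show r • a l - r' • a m = (g'.1 w + r • a l) - (g'.1 w + r' • a m) by abel]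
      exact sub_mem hr hr'
    have hli := (LinearIndepOn.pair_iff a hlm).mp (ha_ind.linearIndepOn _) r (-r')
      (by rw [neg_smul, ← sub_eq_add_neg]; exact h0)
    rw [hli.1, zero_smul, add_zero] at hr
    exact hr
  -- vectors dual to the three
  choose ua huaU hua using hag
  have hua' : ∀ l, g'.1 (ua l) = a l := hua
  have hdual : ∀ i : Fin 3, ∃ d ∈ W, ∀ l, polB Q (a l) (g'.1 d) = if l = i then 1 else 0 := by
    intro i
    have hnot : ua i ∉ Submodule.span F (ua '' {l | l ≠ i}) := by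
      have hli : LinearIndependent F ua := by
        refine LinearIndependent.of_comp (g'.1 : V →ₗ[F] V) ?_
        have : ⇑(g'.1 : V →ₗ[F] V) ∘ ua = a := funext hua'
        rw [this]; exact ha_ind
      exact hli.notMem_span_image (by simp)
    obtain ⟨d, hd, hd1, hd0⟩ := h.exists_dual_notMem hQ (huaU i) hnot
    refine ⟨d, hd, fun l => ?_⟩
    rw [← hua', orth_polB_map]
    split_ifs with hli
    · rw [hli]; exact hd1
    · exact hd0 _ (huaU l) (Submodule.subset_span ⟨l, hli, rfl⟩)
  choose d hdW hd using hdual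
  intro w hw
  set c := fun i => polB Q (a i) (g'.1 w) with hc
  set w₀ := w - ∑ i, c i • d i with hw₀
  have hw₀W : w₀ ∈ W := sub_mem hw (Submodule.sum_mem _ fun i _ => W.smul_mem _ (hdW i))
  have h0 : ∀ l, polB Q (a l) (g'.1 w₀) = 0 := fun l => by
    simp [hw₀, hd, hc, Finset.sum_ite_eq]
  have hd' : ∀ i, g'.1 (d i) ∈ W := by
    intro i
    obtain ⟨l, m, hlm, hli, hmi⟩ : ∃ l m : Fin 3, l ≠ m ∧ l ≠ i ∧ m ≠ i := by
      fin_cases i
      · exact ⟨1, 2, by decide, by decide, by decide⟩
      · exact ⟨0, 2, by decide, by decide, by decide⟩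
      · exact ⟨0, 1, by decide, by decide, by decide⟩
    exact hpair _ (hdW i) l m hlm (by rw [hd, if_neg hli]) (by rw [hd, if_neg hmi])
  have hwe : w = w₀ + ∑ i, c i • d i := by rw [hw₀, sub_add_cancel]
  rw [hwe, map_add, map_sum]
  refine add_mem (hpair _ hw₀W 0 1 (by decide) (h0 0) (h0 1)) (Submodule.sum_mem _ fun i _ => ?_)
  rw [map_smul]
  exact W.smul_mem _ (hd' i)

/-- The pair stabiliser has nothing between it and the commutator subgroup. -/
theorem commutator_le_of_pair (h : SingPair Q U W k) (hk : Even k) (hk7 : 6 ≤ k) {g : orthGroup Q}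
    (hg : g ∈ M) (hgD : ¬ PStab Q U W g) : commutator (orthGroup Q) ≤ M := by
  classical
  obtain ⟨x, hx, hxU, hxW⟩ := exists_one_sided hQ h5 hgen hHM h hk hk7 hg hgD
  push Not at hxW
  obtain ⟨b, hb, hxb⟩ := hxW
  obtain ⟨c, hc, b₁, hb₁, hcb⟩ := h.sup (x.1 b)
  have hc0 : c ≠ 0 := fun e => hxb (by rw [hcb, e, zero_add]; exact hb₁)
  have hroot : ∀ {u w : V}, u ∈ U → w ∈ W → polB Q u w = 0 → eichler Q u w ∈ M :=
    fun hu hw huw => hHM _ (eichler_mem_comm hQ h5 (h.left _ hu) huw) (eichler_root_stab h hu hw huw)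
  -- one root element of the radical
  obtain ⟨a, ha, hac, hE⟩ : ∃ a ∈ U, a ∉ Submodule.span F {c} ∧ eichler Q a c ∈ M := by
    obtain ⟨a, ha, hac⟩ := Set.not_subset.mp (show ¬ ((perpIn Q U b₁ : Submodule F V) : Set V) ⊆
        Submodule.span F {c} from fun hle => by
      have h1 := Submodule.finrank_mono (show perpIn Q U b₁ ≤ Submodule.span F {c} from hle)
      rw [finrank_span_singleton hc0] at h1
      have h2 := finrank_perpIn (Q := Q) U b₁
      rw [h.dimL] at h2
      omega)
    obtain ⟨haU, hab⟩ := mem_perpIn.mp (SetLike.mem_coe.mp ha)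
    refine ⟨a, haU, hac, ?_⟩
    set u := (x⁻¹).1 a with hu
    have huU : u ∈ U := inv_maps rfl hxU a haU
    have hxu : x.1 u = a := orth_apply_inv_self x a
    have hpc : polB Q a c = 0 := h.polB_left haU hc
    have hub : polB Q u b = 0 := by
      rw [← orth_polB_map x, hxu, hcb, map_add, hpc, hab, add_zero]
    have h1 := conj_root_mem hQ h5 h hHM hx huU hb hub
    rw [hxu, hcb, ← eichler_mul (h.left a haU) hpc hab] at h1
    exact (Subgroup.mul_mem_cancel_right M (hroot haU hb₁ hab)).mp h1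
  -- the whole radical
  have hrow : ∀ {a c : V}, a ∈ U → c ∈ U → c ∉ Submodule.span F {a} → eichler Q a c ∈ M →
      ∀ u₀ ∈ U, c ∉ Submodule.span F ({a, u₀} : Set V) → eichler Q a u₀ ∈ M := by
    intro a c ha hc hca hE u₀ hu₀ hnot
    obtain ⟨w₀, hw₀, hcw, hperp⟩ := h.exists_dual_notMem hQ hc hnot
    have haw : polB Q a w₀ = 0 := hperp a ha (Submodule.subset_span (by simp))
    have huw : polB Q u₀ w₀ = 0 := hperp u₀ hu₀ (Submodule.subset_span (by simp))
    have hρ := hroot hu₀ hw₀ huw
    have e1 : (eichler Q u₀ w₀).1 a = a := eichler_fix (h.left _ hu₀) huw (h.polB_left ha hu₀) haw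
    have e2 : (eichler Q u₀ w₀).1 c = c + -u₀ := by
      rw [eichler_apply (h.left _ hu₀) huw, h.polB_left hc hu₀, hcw, h.right _ hw₀]
      simp [sub_eq_add_neg]
    have h1 := mul_mem (mul_mem hρ hE) (inv_mem hρ)
    rw [eichler_conj _ (h.left a ha) (h.polB_left ha hc), e1, e2,
      ← eichler_mul (h.left a ha) (h.polB_left ha hc) (h.polB_left ha (neg_mem hu₀))] at h1
    have h2 := inv_mem ((Subgroup.mul_mem_cancel_left M hE).mp h1)
    rwa [eichler_inv (h.left a ha) (h.polB_left ha (neg_mem hu₀)), neg_neg] at h2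
  have hfull : ∀ {a c : V}, a ∈ U → c ∈ U → c ∉ Submodule.span F {a} → eichler Q a c ∈ M →
      ∀ u₀ ∈ U, eichler Q a u₀ ∈ M := by
    intro a c ha hc hca hE u₀ hu₀
    by_cases hnot : c ∈ Submodule.span F ({a, u₀} : Set V)
    swap; · exact hrow ha hc hca hE u₀ hu₀ hnot
    obtain ⟨d, hd, hdnot⟩ := Set.not_subset.mp (show ¬ (U : Set V) ⊆
        Submodule.span F (Set.range ![a, c, u₀]) from fun hle => by
      have h1 := Submodule.finrank_mono (show U ≤ Submodule.span F (Set.range ![a, c, u₀]) from hle)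
      have h2 : Module.finrank F (Submodule.span F (Set.range ![a, c, u₀])) ≤ 3 :=
        (finrank_range_le_card ![a, c, u₀]).trans (by simp)
      rw [h.dimL] at h1
      omega)
    have hd1 : c ∉ Submodule.span F ({a, d} : Set V) := by
      rw [Submodule.mem_span_pair]
      rintro ⟨r, r', hr⟩
      by_cases hr' : r' = 0
      · subst hr'
        exact hca (Submodule.mem_span_singleton.mpr ⟨r, by rw [← hr, zero_smul, add_zero]⟩)
      · apply hdnot
        refine (Submodule.mem_span_range_iff_exists_fun F).mpr ⟨![-r / r', 1 / r', 0], ?_⟩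
        simp only [Fin.sum_univ_three, Matrix.cons_val]
        rw [← hr]
        match_scalars <;> field_simp <;> ring
    have hd2 : d ∉ Submodule.span F ({a, u₀} : Set V) := fun e => hdnot
      (Submodule.span_mono (by
        intro v hv
        rcases hv with rfl | hv
        · exact ⟨0, rfl⟩
        · exact ⟨2, by rw [Set.mem_singleton_iff.mp hv]; rfl⟩) e)
    have hd3 : d ∉ Submodule.span F {a} := fun e => hd2 (Submodule.span_mono (by simp) e)
    exact hrow ha hd hd3 (hrow ha hc hca hE d hd hd1) u₀ hu₀ hd2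
  have hswapE : ∀ {a c : V}, a ∈ U → c ∈ U → eichler Q a c ∈ M → eichler Q c a ∈ M := by
    intro a c ha hc hE
    have : eichler Q c a = (eichler Q a c)⁻¹ := by
      rw [eichler_inv (h.left a ha) (h.polB_left ha hc)]
      apply orth_ext; intro v
      rw [eichler_apply (h.left c hc) (h.polB_left hc ha),
        eichler_apply (h.left a ha) (h.polB_left ha (neg_mem hc)), qmap_neg, h.left a ha,
        h.left c hc]
      simp only [map_neg, zero_mul, zero_smul, sub_zero]
      module
    rw [this]; exact inv_mem hE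
  have hca : c ∉ Submodule.span F {a} := by
    intro hca
    obtain ⟨r, rfl⟩ := Submodule.mem_span_singleton.mp hca
    have hr : r ≠ 0 := fun e => hc0 (by rw [e, zero_smul])
    exact hac (Submodule.mem_span_singleton.mpr ⟨r⁻¹, by rw [smul_smul, inv_mul_cancel₀ hr, one_smul]⟩)
  have hUU : ∀ u ∈ U, ∀ u' ∈ U, eichler Q u u' ∈ M := by
    have step : ∀ u ∈ U, ∀ v ∈ U, v ∉ Submodule.span F {u} → eichler Q u v ∈ M →
        ∀ u' ∈ U, eichler Q u u' ∈ M := fun u hu v hv hnot hE => hfull hu hv hnot hE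
    have hA := step a ha c hc hca hE
    have hall : ∀ u ∈ U, u ∉ Submodule.span F {a} → a ∉ Submodule.span F {u} →
        ∀ u' ∈ U, eichler Q u u' ∈ M := fun u hu _ hnot =>
      step u hu a ha hnot (hswapE ha hu (hA u hu))
    have hC := hall c hc hca hac
    intro u hu u' hu'
    by_cases hu0 : u = 0
    · subst hu0
      have : eichler Q (0 : V) u' = 1 := by
        apply orth_ext; intro v
        rw [eichler_apply (by simp) (by simp)]
        simp [orth_one_apply]
      rw [this]; exact one_mem M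
    by_cases hua : u ∈ Submodule.span F {a}
    · obtain ⟨r, rfl⟩ := Submodule.mem_span_singleton.mp hua
      have hr : r ≠ 0 := fun e => hu0 (by rw [e, zero_smul])
      refine step _ hu c hc (fun e => hca ?_) (hswapE hc hu (hC _ hu)) u' hu'
      obtain ⟨r', hr'⟩ := Submodule.mem_span_singleton.mp e
      exact Submodule.mem_span_singleton.mpr ⟨r' * r, by rw [← hr', smul_smul]⟩
    · refine hall u hu hua (fun e => hua ?_) u' hu'
      obtain ⟨r, hr⟩ := Submodule.mem_span_singleton.mp e
      have hr0 : r ≠ 0 := fun e0 => hc0 (by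
        rw [e0, zero_smul] at hr
        subst hr
        exact absurd (Submodule.zero_mem _) hac)
      exact Submodule.mem_span_singleton.mpr ⟨r⁻¹, by
        rw [← hr, smul_smul, inv_mul_cancel₀ hr0, one_smul]⟩
  -- every centre in the halves
  have hEU : ∀ u ∈ U, EIn Q M u := fun u hu => ⟨h.left u hu, fun v huv => by
    obtain ⟨u', hu', w', hw', rfl⟩ := h.sup v
    have h0 : polB Q u w' = 0 := by
      rwa [map_add, h.polB_left hu hu', zero_add] at huv
    rw [← eichler_mul (h.left u hu) (h.polB_left hu hu') h0]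
    exact mul_mem (hUU u hu u' hu') (hroot hu hw' h0)⟩
  obtain ⟨s, hs, hsU, hsW⟩ := exists_swap hQ h5 hgen h hk
  have hsM : s ∈ M := hHM s hs (Or.inr ⟨hsU, hsW⟩)
  have hEW : ∀ w ∈ W, EIn Q M w := fun w hw => by
    have := eIn_map hsM (hEU _ (inv_maps (h.dimL.trans h.dimR.symm) hsU w hw))
    rwa [orth_apply_inv_self] at this
  have hall : ∀ c : V, Q c = 0 → EIn Q M c := by
    intro c hc
    obtain ⟨a, ha, b, hb, rfl⟩ := h.sup c
    by_cases hb0 : b = 0
    · rw [hb0, add_zero]; exact hEU a ha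
    have hab : polB Q a b = 0 := by
      rwa [qmap_add, h.left a ha, h.right b hb, add_zero, zero_add] at hc
    have hbU : b ∉ U := fun e => hb0 (h.ne_zero e hb)
    obtain ⟨u₁, hu₁, hbu⟩ : ∃ u₁ ∈ U, polB Q b u₁ = 1 := by
      obtain ⟨v, hv⟩ := exists_polB_eq hQ hb0 1
      obtain ⟨u', hu', w', hw', rfl⟩ := h.sup v
      exact ⟨u', hu', by rwa [map_add, h.symm.polB_left hb hw', add_zero] at hv⟩
    have h1 := eIn_map (hUU u₁ hu₁ a ha) (hEW b hb)
    rw [eichler_apply (h.left _ hu₁) (h.polB_left hu₁ ha), hbu,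
      show polB Q b a = 0 by rw [polB_comm]; exact hab, h.left a ha] at h1
    simp only [zero_mul, zero_smul, sub_zero, one_smul] at h1
    rwa [add_comm] at h1
  rw [commutator_eq_eichlerSub hQ h5, eichlerSub, Subgroup.closure_le]
  rintro _ ⟨u, w, hu, huw, rfl⟩
  exact (hall u hu).2 w huw

omit hHM in
/-- The stabiliser of the pair is maximal. -/
theorem pair_stab_maximal {D : Fin 2 → Submodule F V} (h : SingPair Q (D 0) (D 1) k) (hk : Even k)
    (hk7 : 6 ≤ k) :
    DStab Q D ⊓ commutator (orthGroup Q) < commutator (orthGroup Q) ∧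
    ∀ M : Subgroup (orthGroup Q), DStab Q D ⊓ commutator (orthGroup Q) ≤ M →
      M ≤ commutator (orthGroup Q) →
      M = DStab Q D ⊓ commutator (orthGroup Q) ∨ M = commutator (orthGroup Q) := by
  have hdim : ∀ i, Module.finrank F (D i) = k := fun i => by
    fin_cases i
    · exact h.dimL
    · exact h.dimR
  have hne : ∀ {g : orthGroup Q} {i j : Fin 2}, (∀ x ∈ D i, g.1 x ∈ D j) →
      ∀ l, (∀ x ∈ D l, g.1 x ∈ D j) → D l = D i := fun {g i j} hi l hl =>
    Submodule.map_injective_of_injective g.1.injective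
      ((map_eq_of_maps (by rw [hdim, hdim]) hl).trans (map_eq_of_maps (by rw [hdim, hdim]) hi).symm)
  have hD01 : D 0 ≠ D 1 := fun e => by
    have := h.inf
    rw [e, inf_idem] at this
    have hd := h.dimR
    rw [this, finrank_bot] at hd
    omega
  have hiff : ∀ g : orthGroup Q, g ∈ DStab Q D ↔ PStab Q (D 0) (D 1) g := by
    intro g
    constructor
    · intro hg
      obtain ⟨i, hi⟩ := DStab_maps hg 0
      obtain ⟨j, hj⟩ := DStab_maps hg 1
      rcases (by omega : i = 0 ∨ i = 1) with e | e <;> subst e <;>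
        rcases (by omega : j = 0 ∨ j = 1) with e | e <;> subst e
      · exact absurd (hne hi 1 hj) hD01.symm
      · exact Or.inl ⟨hi, hj⟩
      · exact Or.inr ⟨hi, hj⟩
      · exact absurd (hne hi 1 hj) hD01.symm
    · rintro (⟨h0, h1⟩ | ⟨h0, h1⟩) <;> refine mem_DStab hdim fun i => ?_ <;> fin_cases i
      · exact ⟨0, h0⟩
      · exact ⟨1, h1⟩
      · exact ⟨1, h0⟩
      · exact ⟨0, h1⟩
  refine ⟨lt_of_le_of_ne inf_le_right fun heq => ?_, fun M hHM hMC => ?_⟩
  · -- a radical element moves the pair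
    obtain ⟨a, ha, ha0⟩ := Submodule.exists_mem_ne_zero_of_ne_bot (p := D 0) (fun e => by
      have := h.dimL; rw [e, finrank_bot] at this; omega)
    obtain ⟨c, hc, hca⟩ := Set.not_subset.mp (show ¬ (D 0 : Set V) ⊆ Submodule.span F {a} from
      fun hle => by
        have h1 := Submodule.finrank_mono (show D 0 ≤ Submodule.span F {a} from hle)
        rw [finrank_span_singleton ha0, h.dimL] at h1
        omega)
    have hmem := eichler_mem_comm hQ h5 (h.left a ha) (h.polB_left ha hc)
    rw [← heq] at hmem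
    obtain ⟨b, hb, hab, hperp⟩ := h.exists_dual_notMem hQ ha (S := Submodule.span F {c}) (fun e => by
      obtain ⟨r, hr⟩ := Submodule.mem_span_singleton.mp e
      have hr0 : r ≠ 0 := fun e0 => ha0 (by rw [← hr, e0, zero_smul])
      exact hca (Submodule.mem_span_singleton.mpr ⟨r⁻¹, by
        rw [← hr, smul_smul, inv_mul_cancel₀ hr0, one_smul]⟩))
    have hcb : polB Q b c = 0 := by
      rw [polB_comm]; exact hperp c hc (Submodule.mem_span_singleton_self c)
    have he : (eichler Q a c).1 b = b + c := by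
      rw [eichler_apply (h.left a ha) (h.polB_left ha hc), hcb, h.left c hc, polB_comm b a, hab]
      simp
    rcases (hiff _).mp hmem.1 with ⟨-, h1⟩ | ⟨-, h1⟩
    · have := h1 b hb
      rw [he] at this
      have hc0 := h.ne_zero hc (by simpa using sub_mem this hb)
      exact hca (hc0 ▸ Submodule.zero_mem _)
    · have := h1 b hb
      rw [he] at this
      have hb0 := h.ne_zero (by simpa using sub_mem this hc) hb
      rw [hb0, map_zero] at hab
      exact zero_ne_one hab
  · by_cases hsub : M ≤ DStab Q D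
    · exact Or.inl (le_antisymm (le_inf hsub hMC) hHM)
    obtain ⟨g, hg, hgD⟩ := Set.not_subset.mp hsub
    exact Or.inr (le_antisymm hMC (commutator_le_of_pair hQ h5 hgen
      (fun x hx hp => hHM ⟨(hiff x).mpr hp, hx⟩) h hk hk7 hg (fun hp => hgD ((hiff g).mpr hp))))

end H45

namespace H45

open H43
open scoped Matrix

variable {F : Type*} [Field F] [Fintype F] {ι : Type} [Fintype ι] [DecidableEq ι]

/-- The criterion in the language of matrices. -/
theorem pair_maximal (hn : 12 ≤ Fintype.card ι) (q : QuadraticForm F (ι → F))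
    (hq : (polB q).Nondegenerate) (k : ℕ) (hk : 2 * k = Fintype.card ι) (hke : Even k)
    (D : Fin 2 → Submodule F (ι → F)) (hD : Cfsg.Geo.IsMDecomposition k D)
    (hts : ∀ i, Cfsg.Geo.IsTotallySingularQuad (⇑q) (D i)) :
    Cfsg.Geo.IsMaximalIn (Cfsg.Geo.omegaGL ⇑q)
      (Cfsg.Geo.decompositionStabilizer D ⊓ Cfsg.Geo.omegaGL ⇑q) := by
  have hinf : D 0 ⊓ D 1 = ⊥ :=
    disjoint_iff.mp (hD.indep.pairwiseDisjoint (show (0 : Fin 2) ≠ 1 by decide))
  have h : SingPair q (D 0) (D 1) k := by
    refine ⟨hts 0, hts 1, fun v => ?_, hinf, hD.finrank_eq 0, hD.finrank_eq 1⟩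
    have hv : v ∈ D 0 ⊔ D 1 := by
      have hv' : v ∈ iSup D := hD.iSup_eq_top ▸ Submodule.mem_top
      refine (show iSup D ≤ D 0 ⊔ D 1 from iSup_le fun i => ?_) hv'
      fin_cases i
      · exact le_sup_left
      · exact le_sup_right
    obtain ⟨a, ha, b, hb, e⟩ := Submodule.mem_sup.mp hv
    exact ⟨a, ha, b, hb, e.symm⟩
  have hn' : 12 ≤ Module.finrank F (ι → F) := by rw [Module.finrank_pi]; exact hn
  refine isMaximalIn_of_orth q _ (DStab q D) (fun g _ => ?_)
    (pair_stab_maximal hq (by omega) (reflGenerates_of_card (Or.inr (by omega))) h hke (by omega))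
  constructor
  · intro hg
    obtain ⟨σ, hσ⟩ := apply_mem_of_mem_decompositionStabilizer hg
    exact mem_DStab hD.finrank_eq fun i => ⟨σ i, fun x hx => toGL_apply q g x ▸ hσ i x hx⟩
  · intro hg
    choose σ hσ using hg
    have hinj : Function.Injective D := by
      intro a b hab
      by_contra hne
      have h1 := disjoint_iff.mp (hD.indep.pairwiseDisjoint hne)
      change D a ⊓ D b = ⊥ at h1
      rw [hab, inf_idem] at h1
      have h2 := hD.finrank_eq b
      rw [h1, finrank_bot] at h2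
      omega
    have hσi : Function.Injective σ := fun a b e => hinj
      (Submodule.map_injective_of_injective g.1.injective (by rw [hσ, hσ, e]))
    refine mem_decompositionStabilizer_of_maps_into hD.finrank_eq
      (Equiv.ofBijective σ (Finite.injective_iff_bijective.mp hσi)) fun i x hx => ?_
    have hgx : g.1 x ∈ D (σ i) := (hσ i).le ⟨x, hx, rfl⟩
    rw [← toGL_apply q g x] at hgx
    exact hgx

end H45
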