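import Mathlib
import Cfsg.Agent.H46.MatUnits

/-!
# Two by two matrices in the slots of a tensor power, in characteristic two

`slot i M` is `M` at the slot `i` and the identity at the others; `slotSpan` is the span of the
trace-zero matrices at all the slots (the generators of the spin representation).
-/

set_option autoImplicit false
set_option linter.unusedSectionVars false

namespace H45.Slots

open scoped Matrix

variable {F : Type*} [Field F] {τ : Type} [Fintype τ] [DecidableEq τ]

/-- The tensor product of a family of matrices. -/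
def pt (A : τ → Matrix (Fin 2) (Fin 2) F) : Matrix (τ → Fin 2) (τ → Fin 2) F :=
  Matrix.of fun x y => ∏ i, A i (x i) (y i)

theorem pt_apply (A : τ → Matrix (Fin 2) (Fin 2) F) (x y : τ → Fin 2) :
    pt A x y = ∏ i, A i (x i) (y i) := rfl

theorem pt_mul (A B : τ → Matrix (Fin 2) (Fin 2) F) : pt (A * B) = pt A * pt B := by
  ext x y
  simp only [pt, Matrix.mul_apply, Matrix.of_apply, Pi.mul_apply, ← Finset.prod_mul_distrib]
  exact Fintype.prod_sum fun i j => A i (x i) j * B i j (y i)

theorem pt_one : pt (1 : τ → Matrix (Fin 2) (Fin 2) F) = 1 := by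
  ext x y
  by_cases h : x = y
  · subst h; simp [pt]
  · obtain ⟨i, hi⟩ := Function.ne_iff.1 h
    rw [pt_apply, Matrix.one_apply_ne h]
    exact Finset.prod_eq_zero (Finset.mem_univ i) (by simp [Matrix.one_apply_ne hi])

theorem pt_transpose (A : τ → Matrix (Fin 2) (Fin 2) F) : (pt A)ᵀ = pt fun i => (A i)ᵀ := by
  ext x y
  simp [pt_apply]

theorem pt_eq_zero {A : τ → Matrix (Fin 2) (Fin 2) F} (i : τ) (h : A i = 0) : pt A = 0 := by
  ext x y
  rw [pt_apply, Finset.prod_eq_zero (Finset.mem_univ i) (by rw [h]; rfl), Matrix.zero_apply]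

/-- The matrix `M` at the slot `i`. -/
def slot (i : τ) : Matrix (Fin 2) (Fin 2) F →ₗ[F] Matrix (τ → Fin 2) (τ → Fin 2) F where
  toFun M := Matrix.of fun x y => if ∀ j, j ≠ i → x j = y j then M (x i) (y i) else 0
  map_add' M N := by
    ext x y
    simp only [Matrix.of_apply, Matrix.add_apply]
    split_ifs <;> simp
  map_smul' c M := by
    ext x y
    simp only [Matrix.of_apply, Matrix.smul_apply, RingHom.id_apply, smul_eq_mul]
    split_ifs <;> simp

theorem slot_apply (i : τ) (M : Matrix (Fin 2) (Fin 2) F) (x y : τ → Fin 2) :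
    slot i M x y = if ∀ j, j ≠ i → x j = y j then M (x i) (y i) else 0 := rfl

theorem slot_eq_pt (i : τ) (M : Matrix (Fin 2) (Fin 2) F) :
    slot i M = pt (Function.update 1 i M) := by
  ext x y
  rw [slot_apply, pt_apply, ← Finset.mul_prod_erase _ _ (Finset.mem_univ i), Function.update_self]
  by_cases h : ∀ j, j ≠ i → x j = y j
  · rw [if_pos h, Finset.prod_eq_one fun j hj => by
      rw [Function.update_of_ne (Finset.ne_of_mem_erase hj), h j (Finset.ne_of_mem_erase hj)]
      exact Matrix.one_apply_eq _, mul_one]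
  · rw [if_neg h]
    push Not at h
    obtain ⟨j, hji, hj⟩ := h
    rw [Finset.prod_eq_zero (Finset.mem_erase.2 ⟨hji, Finset.mem_univ j⟩) (by
      rw [Function.update_of_ne hji]; exact Matrix.one_apply_ne hj), mul_zero]

theorem slot_one (i : τ) : slot i (1 : Matrix (Fin 2) (Fin 2) F) = 1 := by
  rw [slot_eq_pt, show Function.update (1 : τ → Matrix (Fin 2) (Fin 2) F) i 1 = 1 from
    Function.update_eq_self i 1, pt_one]

theorem slot_mul_pt (i : τ) (M : Matrix (Fin 2) (Fin 2) F) (A : τ → Matrix (Fin 2) (Fin 2) F) :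
    slot i M * pt A = pt (Function.update A i (M * A i)) := by
  rw [slot_eq_pt, ← pt_mul]
  congr 1
  funext j
  rcases eq_or_ne j i with rfl | hj
  · simp
  · simp [hj]

theorem slot_mul (i : τ) (M N : Matrix (Fin 2) (Fin 2) F) :
    slot i M * slot i N = slot i (M * N) := by
  rw [slot_eq_pt i N, slot_mul_pt, slot_eq_pt]
  simp

theorem slot_comm {i j : τ} (h : i ≠ j) (M N : Matrix (Fin 2) (Fin 2) F) :
    slot i M * slot j N = slot j N * slot i M := by
  rw [slot_eq_pt j N, slot_mul_pt, ← slot_eq_pt j N, slot_eq_pt i M, slot_mul_pt]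
  congr 1
  funext l
  rcases eq_or_ne l i with rfl | hi
  · simp [h, h.symm]
  · rcases eq_or_ne l j with rfl | hj
    · simp [h, h.symm]
    · simp [hi, hj]

theorem slot_entry_eq_zero {i j : τ} (hij : j ≠ i) (M : Matrix (Fin 2) (Fin 2) F)
    {x y : τ → Fin 2} (h : x j ≠ y j) : slot i M x y = 0 := by
  rw [slot_apply, if_neg fun hh => h (hh j hij)]

/-- The trace-zero matrices (characteristic two). -/
def diagEq (F : Type*) [Field F] : Submodule F (Matrix (Fin 2) (Fin 2) F) where
  carrier := {M | M 0 0 = M 1 1}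
  add_mem' {M N} hM hN := by
    simp only [Set.mem_setOf_eq, Matrix.add_apply] at *
    rw [hM, hN]
  zero_mem' := rfl
  smul_mem' c M hM := by
    simp only [Set.mem_setOf_eq, Matrix.smul_apply] at *
    rw [hM]

theorem mem_diagEq {M : Matrix (Fin 2) (Fin 2) F} : M ∈ diagEq F ↔ M 0 0 = M 1 1 := Iff.rfl

theorem conj_mem_diagEq (h2 : (2 : F) = 0) (a : GL (Fin 2) F) {M : Matrix (Fin 2) (Fin 2) F}
    (hM : M ∈ diagEq F) : H46.glConj a M ∈ diagEq F := by
  have key : ∀ N : Matrix (Fin 2) (Fin 2) F, N ∈ diagEq F ↔ Matrix.trace N = 0 := fun N => by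
    rw [mem_diagEq, Matrix.trace_fin_two]
    constructor <;> intro h
    · linear_combination h + N 1 1 * h2
    · linear_combination h - N 1 1 * h2
  rw [key, H46.glConj_apply, Matrix.trace_mul_cycle, ← Units.val_mul, inv_mul_cancel, Units.val_one,
    one_mul]
  exact (key M).1 hM

/-- The span of the trace-zero matrices at the single slots. -/
def slotSpan (F : Type*) [Field F] (τ : Type) [Fintype τ] [DecidableEq τ] :
    Submodule F (Matrix (τ → Fin 2) (τ → Fin 2) F) :=
  ⨆ i, (diagEq F).map (slot i)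

theorem slot_mem_slotSpan (i : τ) {M : Matrix (Fin 2) (Fin 2) F} (hM : M ∈ diagEq F) :
    slot i M ∈ slotSpan F τ :=
  Submodule.mem_iSup_of_mem i ⟨M, hM, rfl⟩

theorem slotSpan_le {p : Submodule F (Matrix (τ → Fin 2) (τ → Fin 2) F)}
    (h : ∀ i, ∀ M ∈ diagEq F, slot i M ∈ p) : slotSpan F τ ≤ p :=
  iSup_le fun i => Submodule.map_le_iff_le_comap.2 (h i)

theorem slotSpan_entry_eq_zero {x y : τ → Fin 2} {i j : τ} (hij : i ≠ j) (hi : x i ≠ y i)
    (hj : x j ≠ y j) {N : Matrix (τ → Fin 2) (τ → Fin 2) F} (hN : N ∈ slotSpan F τ) :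
    N x y = 0 := by
  let ev : Matrix (τ → Fin 2) (τ → Fin 2) F →ₗ[F] F :=
    { toFun := fun N => N x y, map_add' := fun _ _ => rfl, map_smul' := fun _ _ => rfl }
  have h : slotSpan F τ ≤ LinearMap.ker ev := slotSpan_le fun l M _ => by
    rw [LinearMap.mem_ker]
    show slot l M x y = 0
    rcases eq_or_ne l i with rfl | hl
    · exact slot_entry_eq_zero hij.symm M hj
    · exact slot_entry_eq_zero (Ne.symm hl) M hi
  exact h hN

/-- The raising matrix. -/
def up (F : Type*) [Field F] : Matrix (Fin 2) (Fin 2) F := !![0, 1; 0, 0]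

/-- The lowering matrix. -/
def down (F : Type*) [Field F] : Matrix (Fin 2) (Fin 2) F := !![0, 0; 1, 0]

/-- The alternating form in two variables, in characteristic two. -/
def hyp (F : Type*) [Field F] : Matrix (Fin 2) (Fin 2) F := !![0, 1; 1, 0]

theorem up_mul_up : up F * up F = 0 := by
  ext i j; fin_cases i <;> fin_cases j <;> simp [up, Matrix.mul_apply, Fin.sum_univ_two]

theorem down_mul_down : down F * down F = 0 := by
  ext i j; fin_cases i <;> fin_cases j <;> simp [down, Matrix.mul_apply, Fin.sum_univ_two]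

theorem up_anti_down : up F * down F + down F * up F = 1 := by
  ext i j; fin_cases i <;> fin_cases j <;> simp [up, down, Matrix.mul_apply, Fin.sum_univ_two]

theorem up_anti (h2 : (2 : F) = 0) {M : Matrix (Fin 2) (Fin 2) F} (hM : M ∈ diagEq F) :
    up F * M + M * up F = M 1 0 • 1 := by
  rw [mem_diagEq] at hM
  have u00 : up F 0 0 = 0 := rfl
  have u01 : up F 0 1 = 1 := rfl
  have u10 : up F 1 0 = 0 := rfl
  have u11 : up F 1 1 = 0 := rfl
  ext i j
  rw [Matrix.add_apply, Matrix.mul_apply, Matrix.mul_apply, Fin.sum_univ_two, Fin.sum_univ_two,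
    Matrix.smul_apply, smul_eq_mul]
  fin_cases i <;> fin_cases j <;> simp [u00, u01, u10, u11, hM] <;>
    linear_combination M 1 1 * h2

/-- Conjugation by the involution `1 + A`. -/
theorem one_add_conj {R : Type*} [Ring R] (A N : R) :
    (1 + A) * N * (1 + A) = N + (A * N + N * A) + A * N * A := by
  noncomm_ring

/-- The commutator of the involutions `1 + B` and `1 + A`. -/
theorem one_add_comm {R : Type*} [Ring R] (A B : R) (h2 : (2 : R) = 0) (hA : A * A = 0)
    (hB : B * B = 0) (hABA : A * B * A = 0) (hBAB : B * A * B = 0) :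
    (1 + B) * (1 + A) * (1 + B) * (1 + A) = 1 + (A * B + B * A) := by
  have e : (1 + B) * (1 + A) * (1 + B) * (1 + A) = 1 + (A * B + B * A) + 2 * (A + B + B * A) +
      A * A + B * B + A * B * A + B * A * B + B * A * A + B * B * A + B * A * B * A := by
    noncomm_ring
  rw [e, h2, hA, hB, hABA, hBAB, mul_assoc B A A, hA]
  simp

end H45.Slots
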