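import Mathlib
import Cfsg.Agent.H45.MemberGeom

/-!
# Non-degenerate planes: perpendicular lines, values on affine lines and on circles
-/

set_option autoImplicit false
set_option linter.unusedSectionVars false

namespace H45

open H43

variable {F : Type*} [Field F] [Fintype F] {V : Type*} [AddCommGroup V] [Module F V]
  [FiniteDimensional F V] {Q : QuadraticForm F V}

/-- A set meeting every fibre of a non-constant quadratic at most twice. -/
lemma quad_fiber_le {a b : F} (h : a ≠ 0 ∨ b ≠ 0) (c : F) (S : Finset F) [DecidableEq F] :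
    S.card ≤ 2 * (S.image fun s => c + s * b + s * s * a).card := by
  classical
  refine Finset.card_le_mul_card_image S 2 fun y _ => ?_
  by_contra hcon
  push Not at hcon
  obtain ⟨r, s, u, hr, hs, hu, hrs, hru, hsu⟩ := Finset.two_lt_card_iff.mp hcon
  simp only [Finset.mem_filter] at hr hs hu
  have e1 : b + (r + s) * a = 0 := by
    have : (r - s) * (b + (r + s) * a) = 0 := by linear_combination hr.2 - hs.2
    exact (mul_eq_zero.mp this).resolve_left (sub_ne_zero.mpr hrs)
  have e2 : b + (r + u) * a = 0 := by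
    have : (r - u) * (b + (r + u) * a) = 0 := by linear_combination hr.2 - hu.2
    exact (mul_eq_zero.mp this).resolve_left (sub_ne_zero.mpr hru)
  have ha : a = 0 := by
    have : (s - u) * a = 0 := by linear_combination e1 - e2
    exact (mul_eq_zero.mp this).resolve_left (sub_ne_zero.mpr hsu)
  rcases h with h | h
  · exact h ha
  · exact h (by rw [ha, mul_zero, add_zero] at e1; exact e1)

variable {U : Submodule F V} (hU : NdOn Q U) (h2d : Module.finrank F U = 2)

include hU h2d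

lemma exists_perp_vec {p : V} (hp : p ∈ U) (hp0 : p ≠ 0) :
    ∃ k ∈ U, k ≠ 0 ∧ polB Q k p = 0 ∧ ∀ x ∈ U, polB Q x p = 0 → ∃ r : F, x = r • k := by
  have h1 := finrank_perpIn (Q := Q) U p
  have hlt : perpIn Q U p < U := lt_of_le_of_ne inf_le_left fun h => hp0 (hU p hp fun y hy => by
    rw [polB_comm]; exact (mem_perpIn.mp (h.symm ▸ hy : y ∈ perpIn Q U p)).2)
  have h2 := Submodule.finrank_lt_finrank_of_lt hlt
  obtain ⟨k, hk, hk0⟩ := Submodule.exists_mem_ne_zero_of_ne_bot (p := perpIn Q U p) (fun e => by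
    rw [e, finrank_bot] at h1; omega)
  refine ⟨k, hk.1, hk0, (mem_perpIn.mp hk).2, fun x hx hxp => ?_⟩
  have heq : Submodule.span F {k} = perpIn Q U p :=
    Submodule.eq_of_le_of_finrank_le ((Submodule.span_singleton_le_iff_mem _ _).mpr hk)
      (by rw [finrank_span_singleton hk0]; omega)
  have hxm : x ∈ perpIn Q U p := mem_perpIn.mpr ⟨hx, hxp⟩
  rw [← heq] at hxm
  obtain ⟨r, rfl⟩ := Submodule.mem_span_singleton.mp hxm
  exact ⟨r, rfl⟩

/-- The perpendicular of a vector is spanned by any of its non-zero vectors. -/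
lemma perp_par {p k x : V} (hp : p ∈ U) (hp0 : p ≠ 0) (hk : k ∈ U) (hk0 : k ≠ 0)
    (hkp : polB Q k p = 0) (hx : x ∈ U) (hxp : polB Q x p = 0) : ∃ r : F, x = r • k := by
  obtain ⟨l, -, -, -, hl⟩ := exists_perp_vec hU h2d hp hp0
  obtain ⟨a, rfl⟩ := hl k hk hkp
  obtain ⟨b, rfl⟩ := hl x hx hxp
  have ha : a ≠ 0 := fun h => hk0 (by rw [h, zero_smul])
  exact ⟨b / a, by rw [smul_smul, div_mul_cancel₀ _ ha]⟩

lemma perp_nonsing {p k : V} (hp : p ∈ U) (hQp : Q p ≠ 0) (hk : k ∈ U) (hk0 : k ≠ 0)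
    (hkp : polB Q k p = 0) : Q k ≠ 0 := by
  intro hQk
  have hp0 : p ≠ 0 := fun h => hQp (by rw [h, QuadraticMap.map_zero])
  have hkk : polB Q k k = 0 := by rw [polB_self, hQk, mul_zero]
  obtain ⟨r, hr⟩ := perp_par hU h2d hk hk0 hk hk0 hkk hp (by rw [polB_comm]; exact hkp)
  exact hQp (by rw [hr, qmap_smul, hQk, mul_zero])

lemma sing_par {u w : V} (hu : u ∈ U) (hu0 : u ≠ 0) (hQu : Q u = 0) (hw : w ∈ U)
    (huw : polB Q w u = 0) : ∃ r : F, w = r • u :=
  perp_par hU h2d hu hu0 hu hu0 (by rw [polB_self, hQu, mul_zero]) hw huw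

/-- A plane has at most two singular lines. -/
lemma sing_three {u w s : V} (hu : u ∈ U) (hw : w ∈ U) (hs : s ∈ U) (hQu : Q u = 0) (hQw : Q w = 0)
    (hQs : Q s = 0) (huw : polB Q u w ≠ 0) (hws : polB Q w s ≠ 0) : polB Q u s = 0 := by
  have hw0 : w ≠ 0 := fun h => huw (by rw [h, map_zero])
  set α := polB Q s w / polB Q u w with hα
  obtain ⟨β, hβ⟩ := sing_par hU h2d hw hw0 hQw (w := s - α • u) (sub_mem hs (U.smul_mem _ hu))
    (by rw [map_sub, map_smul, LinearMap.sub_apply, LinearMap.smul_apply, smul_eq_mul, hα,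
      div_mul_cancel₀ _ huw, sub_self])
  have hse : s = α • u + β • w := by rw [← hβ]; abel
  have hα0 : α ≠ 0 := div_ne_zero (by rw [polB_comm]; exact hws) huw
  rw [hse, qmap_add, qmap_smul, qmap_smul, hQu, hQw, map_smul, map_smul, LinearMap.smul_apply,
    smul_eq_mul, smul_eq_mul] at hQs
  have hβ0 : β = 0 := by
    have : (α * polB Q u w) * β = 0 := by linear_combination hQs
    exact (mul_eq_zero.mp this).resolve_left (mul_ne_zero hα0 huw)
  rw [hse, hβ0, zero_smul, add_zero, map_smul, polB_self, hQu, mul_zero, smul_zero]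

omit hU h2d in
/-- The values on the affine line `f(w, p) = 1`. -/
noncomputable def pVal (Q : QuadraticForm F V) (U : Submodule F V) (p : V) : Finset F := by
  classical
  exact Finset.univ.filter fun a => ∃ w ∈ U, polB Q w p = 1 ∧ Q w = a

omit hU h2d in
lemma mem_pVal {p : V} {a : F} : a ∈ pVal Q U p ↔ ∃ w ∈ U, polB Q w p = 1 ∧ Q w = a := by
  simp [pVal]

omit hU h2d in
lemma exists_of_mem_pVal {p : V} {a : F} (h : a ∈ pVal Q U p) (φ : F) :
    ∃ w ∈ U, polB Q w p = φ ∧ Q w = φ * φ * a := by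
  obtain ⟨w, hw, hwp, hwQ⟩ := mem_pVal.mp h
  exact ⟨φ • w, U.smul_mem _ hw, by simp [hwp], by rw [qmap_smul, hwQ]⟩

lemma card_pVal {p : V} (hp : p ∈ U) (hp0 : p ≠ 0) :
    Fintype.card F ≤ 2 * (pVal Q U p).card := by
  classical
  obtain ⟨w, hw, hwp⟩ := ndOn_exists_polB hU hp hp0 1
  obtain ⟨k, hk, hk0, hkp, -⟩ := exists_perp_vec hU h2d hp hp0
  have hne : Q k ≠ 0 ∨ polB Q w k ≠ 0 := by
    by_cases hQk : Q k = 0
    · right
      obtain ⟨r, hr⟩ := sing_par hU h2d hk hk0 hQk hp (by rw [polB_comm]; exact hkp)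
      intro h
      rw [hr, map_smul, h, smul_zero] at hwp
      exact zero_ne_one hwp
    · exact Or.inl hQk
  refine (quad_fiber_le hne (Q w) Finset.univ).trans ?_
  refine Nat.mul_le_mul_left 2 (Finset.card_le_card fun a ha => ?_)
  obtain ⟨s, -, rfl⟩ := Finset.mem_image.mp ha
  refine mem_pVal.mpr ⟨w + s • k, add_mem hw (U.smul_mem _ hk), by simp [hwp, hkp], ?_⟩
  rw [qmap_add_smul]; ring

/-- The non-zero values. -/
lemma card_pVal_erase [DecidableEq F] {p : V} (hp : p ∈ U) (hp0 : p ≠ 0) :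
    Fintype.card F ≤ 2 * ((pVal Q U p).erase 0).card + 2 := by
  have h := card_pVal hU h2d hp hp0
  have := Finset.pred_card_le_card_erase (s := pVal Q U p) (a := (0 : F))
  omega

omit hU h2d in
lemma zero_notMem_pVal {p : V} (hns : ∀ x ∈ U, Q x = 0 → x = 0) : (0 : F) ∉ pVal Q U p := by
  intro h
  obtain ⟨w, hw, hwp, hwQ⟩ := mem_pVal.mp h
  rw [hns w hw hwQ, map_zero, LinearMap.zero_apply] at hwp
  exact zero_ne_one hwp

lemma card_pVal_erase_aniso [DecidableEq F] {p : V} (hp : p ∈ U) (hp0 : p ≠ 0)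
    (hns : ∀ x ∈ U, Q x = 0 → x = 0) :
    Fintype.card F ≤ 2 * ((pVal Q U p).erase 0).card := by
  rw [Finset.erase_eq_of_notMem (zero_notMem_pVal hns)]
  exact card_pVal hU h2d hp hp0

omit hU h2d in
/-- An inverse value gives a difference of two vectors of one value. -/
lemma exists_jump {p : V} {a : F} (ha : a ∈ pVal Q U p) (ha0 : a ≠ 0) :
    ∃ e ∈ U, Q e = a⁻¹ ∧ polB Q e p = -a⁻¹ := by
  obtain ⟨w, hw, hwp, hwQ⟩ := mem_pVal.mp ha
  refine ⟨(-a⁻¹) • w, U.smul_mem _ hw, ?_, by simp [hwp]⟩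
  rw [qmap_smul, hwQ]; field_simp

/-- A vector of a given value not orthogonal to `p`. -/
lemma exists_val_nonperp (h2 : (2 : F) ≠ 0) (hq : 4 ≤ Fintype.card F) {p : V} (hp : p ∈ U)
    (hp0 : p ≠ 0) {c : F} (hc : c ≠ 0) : ∃ w ∈ U, Q w = c ∧ polB Q w p ≠ 0 := by
  obtain ⟨w, hw, hwQ⟩ := exists_value_in hU (by omega) hc
  by_cases hwp : polB Q w p = 0
  swap; · exact ⟨w, hw, hwQ, hwp⟩
  have hw0 : w ≠ 0 := fun h => hc (by rw [← hwQ, h, QuadraticMap.map_zero])
  have hQp : Q p ≠ 0 := fun h => by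
    obtain ⟨r, hr⟩ := sing_par hU h2d hp hp0 h hw hwp
    exact hc (by rw [← hwQ, hr, qmap_smul, h, mul_zero])
  obtain ⟨s, hs0, hsv⟩ : ∃ s : F, s ≠ 0 ∧ c + s * s * Q p ≠ 0 := by
    by_cases h1 : c + 1 * 1 * Q p = 0
    · obtain ⟨b, hb0, hb1, hb2⟩ : ∃ b : F, b ≠ 0 ∧ b ≠ 1 ∧ b ≠ -1 := by
        classical
        by_contra hcon
        push Not at hcon
        have hsub : (Finset.univ : Finset F) ⊆ {0, 1, -1} := fun b _ => by
          by_cases a0 : b = 0
          · simp [a0]
          by_cases a1 : b = 1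
          · simp [a1]
          simp [hcon b a0 a1]
        have := (Finset.card_le_card hsub).trans Finset.card_le_three
        rw [Finset.card_univ] at this
        omega
      refine ⟨b, hb0, fun h => ?_⟩
      have : (b - 1) * (b + 1) * Q p = 0 := by linear_combination h - h1
      rcases mul_eq_zero.mp ((mul_eq_zero.mp this).resolve_right hQp) with e | e
      · exact hb1 (sub_eq_zero.mp e)
      · exact hb2 (eq_neg_of_add_eq_zero_left e)
    · exact ⟨1, one_ne_zero, h1⟩
  set v := w + s • p with hv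
  have hQv : Q v = c + s * s * Q p := by rw [hv, qmap_add_smul, hwQ, hwp]; ring
  have hwv : polB Q w v = 2 * c := by
    rw [hv, map_add, map_smul, polB_self, hwQ, hwp, smul_zero, add_zero]
  refine ⟨(refl Q v).1 w, ?_, by rw [orth_qmap, hwQ], ?_⟩
  · rw [refl_apply]
    exact sub_mem hw (U.smul_mem _ (add_mem hw (U.smul_mem _ hp)))
  · rw [refl_apply, hwv, hv]
    simp only [map_sub, map_add, map_smul, LinearMap.sub_apply, LinearMap.add_apply,
      LinearMap.smul_apply, smul_eq_mul, hwp, polB_self, zero_add, zero_sub, neg_ne_zero]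
    rw [← hv, hQv]
    exact mul_ne_zero (mul_ne_zero (inv_ne_zero hsv) (mul_ne_zero h2 hc))
      (mul_ne_zero hs0 (mul_ne_zero h2 hQp))

/-- Two independent non-orthogonal vectors of one value. -/
lemma exists_rot_pair (hq : 7 ≤ Fintype.card F ∨
    ((∀ x ∈ U, Q x = 0 → x = 0) ∧ Fintype.card F ≠ 3)) {c : F} (hc : c ≠ 0) :
    ∃ a ∈ U, ∃ b ∈ U, Q a = c ∧ Q b = c ∧ polB Q a b ≠ 0 ∧ ∀ r : F, b ≠ r • a := by
  classical
  obtain ⟨a, ha, haQ⟩ := exists_value_in hU (by omega) hc
  have ha0 : a ≠ 0 := fun h => hc (by rw [← haQ, h, QuadraticMap.map_zero])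
  set S := (pVal Q U a).erase 0 with hS
  have hcard : Fintype.card F ≤ 2 * S.card + 2 ∧
      (7 ≤ Fintype.card F ∨ (Fintype.card F ≤ 2 * S.card ∧ Fintype.card F ≠ 3)) := by
    have h1 := card_pVal_erase (Q := Q) hU h2d ha ha0
    rw [← hS] at h1
    refine ⟨h1, hq.imp_right fun hq => ⟨?_, hq.2⟩⟩
    have h2 := card_pVal_erase_aniso (Q := Q) hU h2d ha ha0 hq.1
    rwa [← hS] at h2
  have h1 := Fintype.one_lt_card (α := F)
  -- a good value
  obtain ⟨v, hv, hv4, hv2⟩ : ∃ v ∈ S, (∀ r : F, 2 * c * r = 1 → r * r * c ≠ v) ∧ 2 * c * v ≠ 1 := by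
    by_cases h2 : (2 : F) = 0
    · obtain ⟨v, hv⟩ : S.Nonempty := by rw [← Finset.card_pos]; omega
      exact ⟨v, hv, fun r hr => by simp [h2] at hr, by simp [h2]⟩
    have h3 : 5 ≤ Fintype.card F := by
      by_contra h3
      have h0 := FiniteField.cast_card_eq_zero F
      have h4 : Fintype.card F = 2 ∨ Fintype.card F = 4 := by omega
      rcases h4 with h4 | h4 <;> rw [h4] at h0
      · exact h2 (by exact_mod_cast h0)
      · have h0 : (2 : F) * 2 = 0 := by push_cast at h0; linear_combination h0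
        exact h2 (mul_self_eq_zero.mp h0)
    by_contra hcon
    push Not at hcon
    have hsub : S ⊆ {(2 * c)⁻¹ * (2 * c)⁻¹ * c, (2 * c)⁻¹} := fun v hv => by
      rw [Finset.mem_insert, Finset.mem_singleton]
      by_cases hv4 : ∀ r : F, 2 * c * r = 1 → r * r * c ≠ v
      · exact Or.inr (eq_inv_of_mul_eq_one_right (hcon v hv hv4))
      · push Not at hv4
        obtain ⟨r, hr, hrv⟩ := hv4
        rw [eq_inv_of_mul_eq_one_right hr] at hrv
        exact Or.inl hrv.symm
    have := (Finset.card_le_card hsub).trans Finset.card_le_two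
    omega
  obtain ⟨hv0, hv1⟩ := Finset.mem_erase.mp hv
  obtain ⟨w, hw, hwa, hwQ⟩ := mem_pVal.mp hv1
  have hnp : ∀ r : F, w ≠ r • a := fun r hr => by
    refine hv4 r ?_ ?_
    · rw [hr, map_smul, LinearMap.smul_apply, polB_self, haQ, smul_eq_mul] at hwa
      linear_combination hwa
    · rw [← hwQ, hr, qmap_smul, haQ]
  refine ⟨a, ha, (refl Q w).1 a, ?_, haQ, by rw [orth_qmap, haQ], ?_, fun r hr => ?_⟩
  · rw [refl_apply]; exact sub_mem ha (U.smul_mem _ hw)
  · rw [refl_apply, map_sub, map_smul, polB_self, haQ, polB_comm a w, hwa, smul_eq_mul, mul_one,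
      mul_one, hwQ]
    intro h
    refine hv2 ?_
    rw [sub_eq_zero] at h
    rw [h, inv_mul_cancel₀ hv0]
  · rw [refl_apply, polB_comm, hwa, mul_one] at hr
    have hwQ' : Q w ≠ 0 := by rw [hwQ]; exact hv0
    refine hnp ((1 - r) * Q w) ?_
    have : (Q w)⁻¹ • w = (1 - r) • a := by rw [sub_smul, one_smul, ← hr]; abel
    rw [mul_comm, ← smul_smul, ← this, smul_smul, mul_inv_cancel₀ hwQ', one_smul]

omit h2d in
/-- The product of two such reflections fixes no vector. -/
lemma rot_fix (h2d : Module.finrank F U = 2) {a b x : V} (ha : a ∈ U) (hb : b ∈ U) (hQa : Q a ≠ 0)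
    (hQb : Q b ≠ 0) (hab : ∀ r : F, b ≠ r • a) (hx : x ∈ U)
    (hfix : (refl Q a * refl Q b).1 x = x) : x = 0 := by
  have ha0 : a ≠ 0 := fun h => hQa (by rw [h, QuadraticMap.map_zero])
  have h1 : (refl Q b).1 x = (refl Q a).1 x := by
    conv_rhs => rw [← hfix, ← orth_mul_apply, ← mul_assoc, refl_sq, one_mul]
  rw [refl_apply, refl_apply, sub_right_inj] at h1
  have hxb : polB Q x b = 0 := by
    by_contra h
    refine hab ((((Q b)⁻¹ * polB Q x b))⁻¹ * ((Q a)⁻¹ * polB Q x a)) ?_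
    rw [← smul_smul, ← h1, smul_smul, inv_mul_cancel₀ (mul_ne_zero (inv_ne_zero hQb) h), one_smul]
  have hxa : polB Q x a = 0 := by
    rw [hxb, mul_zero, zero_smul, eq_comm, smul_eq_zero, mul_eq_zero] at h1
    simpa [hQa, ha0] using h1
  by_contra hx0
  obtain ⟨r, hr⟩ := perp_par hU h2d hx hx0 ha ha0 (by rw [polB_comm]; exact hxa) hb
    (by rw [polB_comm]; exact hxb)
  exact hab r hr

/-- The values of a functional on a circle of an anisotropic plane. -/
lemma card_circle_val [DecidableEq F] (hns : ∀ x ∈ U, Q x = 0 → x = 0) {w : V} (hw : w ∈ U)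
    (hw0 : w ≠ 0) {e : F} (he : e ≠ 0) :
    ∃ T : Finset F, Fintype.card F + 1 ≤ 2 * T.card ∧
      ∀ φ ∈ T, ∃ c ∈ U, Q c = e ∧ polB Q w c = φ := by
  classical
  obtain ⟨c₀, hc₀, hc₀Q⟩ := exists_value_in hU (by omega) he
  have hc0 : c₀ ≠ 0 := fun h => he (by rw [← hc₀Q, h, QuadraticMap.map_zero])
  obtain ⟨u, hu, huc⟩ := ndOn_exists_polB hU hc₀ hc0 1
  obtain ⟨k, hk, hk0, hkc, -⟩ := exists_perp_vec hU h2d hc₀ hc0
  let v : F → V := fun s => u + s • k
  have hv : ∀ s, v s ∈ U := fun s => add_mem hu (U.smul_mem _ hk)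
  have hvc : ∀ s, polB Q c₀ (v s) = 1 := fun s => by
    rw [polB_comm]; simp [v, huc, hkc]
  have hvQ : ∀ s, Q (v s) ≠ 0 := fun s h => by
    have := hvc s
    rw [hns _ (hv s) h, map_zero] at this
    exact zero_ne_one this
  let pt : Option F → V := fun o => o.elim c₀ fun s => c₀ - (Q (v s))⁻¹ • v s
  have hpt : ∀ o, pt o ∈ U ∧ Q (pt o) = e := by
    rintro (_ | s)
    · exact ⟨hc₀, hc₀Q⟩
    · refine ⟨sub_mem hc₀ (U.smul_mem _ (hv s)), ?_⟩
      change Q (c₀ - (Q (v s))⁻¹ • v s) = e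
      rw [qmap_sub, qmap_smul, map_smul, hvc, hc₀Q, smul_eq_mul, mul_one, mul_assoc,
        inv_mul_cancel₀ (hvQ s)]
      ring
  have hinj : Function.Injective pt := by
    have hne : ∀ s, pt (some s) ≠ c₀ := fun s h => by
      have h' : (Q (v s))⁻¹ • v s = 0 := by
        simpa [pt] using h
      have := congrArg (fun x => polB Q c₀ x) h'
      simp [hvc] at this
      exact hvQ s this
    rintro (_ | s) (_ | r) h
    · rfl
    · exact absurd h.symm (hne r)
    · exact absurd h (hne s)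
    · have h' : (Q (v s))⁻¹ • v s = (Q (v r))⁻¹ • v r := sub_right_inj.mp h
      have := congrArg (fun x => polB Q c₀ x) h'
      simp [hvc] at this
      rw [this] at h'
      have hh := (smul_right_injective V (inv_ne_zero (hvQ r))) h'
      have : s • k = r • k := add_left_cancel hh
      rw [smul_left_injective F hk0 this]
  refine ⟨Finset.univ.image fun o => polB Q w (pt o), ?_, fun φ hφ => ?_⟩
  · have hfib : ∀ φ ∈ (Finset.univ.image fun o => polB Q w (pt o)),
        (Finset.univ.filter fun o => polB Q w (pt o) = φ).card ≤ 2 := by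
      intro φ _
      by_contra hcon
      push Not at hcon
      obtain ⟨a, b, c, ha, hb, hc, hab, hac, hbc⟩ := Finset.two_lt_card_iff.mp hcon
      simp only [Finset.mem_filter, Finset.mem_univ, true_and] at ha hb hc
      obtain ⟨l, hl, hl0, hlw, hline⟩ := exists_perp_vec hU h2d hw hw0
      obtain ⟨r, hr⟩ := hline (pt b - pt a) (sub_mem (hpt b).1 (hpt a).1)
        (by rw [polB_comm, map_sub, ha, hb, sub_self])
      obtain ⟨s, hs⟩ := hline (pt c - pt a) (sub_mem (hpt c).1 (hpt a).1)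
        (by rw [polB_comm, map_sub, ha, hc, sub_self])
      rw [sub_eq_iff_eq_add'] at hr hs
      have q1 : r * (r * Q l + polB Q (pt a) l) = 0 := by
        have h := (hpt b).2
        rw [hr, qmap_add_smul, (hpt a).2] at h
        linear_combination h
      have q2 : s * (s * Q l + polB Q (pt a) l) = 0 := by
        have h := (hpt c).2
        rw [hs, qmap_add_smul, (hpt a).2] at h
        linear_combination h
      have hr0 : r ≠ 0 := fun h => hab (hinj (by rw [hr, h, zero_smul, add_zero]))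
      have hs0 : s ≠ 0 := fun h => hac (hinj (by rw [hs, h, zero_smul, add_zero]))
      have hrs : r ≠ s := fun h => hbc (hinj (by rw [hr, hs, h]))
      have : (r - s) * Q l = 0 := by
        linear_combination (mul_eq_zero.mp q1).resolve_left hr0 -
          (mul_eq_zero.mp q2).resolve_left hs0
      exact hl0 (hns l hl ((mul_eq_zero.mp this).resolve_left (sub_ne_zero.mpr hrs)))
    have := Finset.card_le_mul_card_image (f := fun o => polB Q w (pt o)) Finset.univ 2 hfib
    rwa [Finset.card_univ, Fintype.card_option] at this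
  · obtain ⟨o, -, rfl⟩ := Finset.mem_image.mp hφ
    exact ⟨pt o, (hpt o).1, (hpt o).2, rfl⟩

end H45
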