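import Mathlib
import Cfsg.Agent.H45.PlaneGeom
import Cfsg.Agent.H45.WreathMax

/-!
# The block of a decomposition into planes
-/

set_option autoImplicit false
set_option linter.unusedSectionVars false

namespace H45

open H43

variable {F : Type*} [Field F] [Fintype F] {V : Type*} [AddCommGroup V] [Module F V]
  [FiniteDimensional F V] {Q : QuadraticForm F V} {t : ℕ} {D : Fin t → Submodule F V}

/-- Every value occurs in a member orthogonally to `z`. -/
def SideGood (Q : QuadraticForm F V) (D : Fin t → Submodule F V) (z : V) : Prop :=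
  ∀ c : F, c ≠ 0 → ∃ i, ∃ v ∈ D i, Q v = c ∧ polB Q v z = 0

variable (hQ : (polB Q).Nondegenerate) (hD : OD Q D 2) (ht : 5 ≤ t) (hgen : ReflGenerates F V)
  {M : Subgroup (orthGroup Q)} (hHM : DStab Q D ⊓ commutator (orthGroup Q) ≤ M)

include hQ hD

lemma sideGood_of_zero {l : Fin t} {z : V} (hz : dpart hQ hD l z = 0) : SideGood Q D z := by
  intro c hc
  obtain ⟨v, hv, hvQ⟩ := exists_value_in (hD.nd l) (by rw [hD.dim]) hc
  refine ⟨l, v, hv, hvQ, ?_⟩
  rw [polB_comm, ← polB_dpart hQ hD l z hv, hz, map_zero, LinearMap.zero_apply]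

lemma sideGood_of_two_eq_zero (h2 : (2 : F) = 0) {z : V} (hz : Q z ≠ 0) : SideGood Q D z := by
  intro c _
  obtain ⟨i, hi⟩ := exists_nonsing_part hQ hD hz
  obtain ⟨r, hr⟩ := isSquare_of_two_eq_zero h2 (c / Q (dpart hQ hD i z))
  refine ⟨i, r • dpart hQ hD i z, (D i).smul_mem _ (dpart_mem hQ hD i z), ?_, ?_⟩
  · rw [qmap_smul, ← hr, div_mul_cancel₀ _ hi]
  · rw [map_smul, LinearMap.smul_apply, polB_comm, ← polB_dpart hQ hD i z (dpart_mem hQ hD i z),
      polB_self, h2, zero_mul, smul_zero]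

include ht hgen

lemma two_le_finrank_planes : 2 ≤ Module.finrank F V := by
  have := Submodule.finrank_le (D ⟨0, by omega⟩)
  rw [hD.dim] at this
  exact this

lemma refl_pair_mem {i j : Fin t} {a b : V} (ha : a ∈ D i) (hb : b ∈ D j) (hab : SameCls Q a b) :
    refl Q a * refl Q b ∈ DStab Q D ⊓ commutator (orthGroup Q) :=
  ⟨mul_mem (refl_mem_DStab hD ha) (refl_mem_DStab hD hb),
    refl_mul_refl_mem_commutator hQ hgen (two_le_finrank_planes hQ hD ht hgen) hab.1 hab.2.1
      hab.2.2⟩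

include hHM

lemma pSide_pair {i j : Fin t} {a b : V} (ha : a ∈ D i) (hb : b ∈ D j) (hab : SameCls Q a b) :
    refl Q a * refl Q b ∈ M :=
  hHM (refl_pair_mem hQ hD ht hgen ha hb hab)

lemma pInW_side {i : Fin t} {z : V} (hz : z ∈ D i) (hz0 : Q z ≠ 0) : InW Q D M z :=
  ⟨i, z, hz, sameCls_of_eq hz0 rfl, by rw [refl_sq]; exact one_mem M⟩

lemma pInW_pair {z : V} (hz : InW Q D M z) {j : Fin t} {w : V} (hw : w ∈ D j)
    (hzw : SameCls Q z w) : refl Q z * refl Q w ∈ M := by
  obtain ⟨i, w₀, hw₀, hc, hmem⟩ := hz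
  have := mul_mem hmem (pSide_pair hQ hD ht hgen hHM hw₀ hw (hc.symm.trans hzw))
  rwa [mul_assoc, ← mul_assoc (refl Q w₀), refl_sq, one_mul] at this

lemma pInW_act {h : orthGroup Q} (hh : h ∈ M) {z v : V} (hz : InW Q D M z) {i j : Fin t}
    (hv : v ∈ D i) (hc : SameCls Q z v) (hside : h.1 v ∈ D j) : InW Q D M (h.1 z) := by
  refine ⟨j, h.1 v, hside, ?_, ?_⟩
  · unfold SameCls
    rw [orth_qmap, orth_qmap]
    exact hc
  · rw [← refl_conj, ← refl_conj, conj_mul]
    exact mul_mem (mul_mem hh (pInW_pair hQ hD ht hgen hHM hz hv hc)) (inv_mem hh)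

lemma pInW_stab {h : orthGroup Q} (hh : h ∈ DStab Q D ⊓ commutator (orthGroup Q)) {z : V}
    (hz : InW Q D M z) : InW Q D M (h.1 z) := by
  obtain ⟨i, w₀, hw₀, hc, -⟩ := id hz
  obtain ⟨j, hj⟩ := DStab_maps hh.1 i
  exact pInW_act hQ hD ht hgen hHM (hHM hh) hz hw₀ hc (hj w₀ hw₀)

/-- A side reflection of the class of `z` keeps it in the block. -/
lemma pInW_refl_side {z : V} (hz : InW Q D M z) {i : Fin t} {w : V} (hw : w ∈ D i)
    (hzw : SameCls Q z w) : InW Q D M ((refl Q w).1 z) := by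
  refine ⟨i, w, hw, ?_, ?_⟩
  · unfold SameCls
    rw [orth_qmap]
    exact hzw
  · rw [← refl_conj, refl_inv, mul_assoc, refl_sq, mul_one]
    have := inv_mem (pInW_pair hQ hD ht hgen hHM hz hw hzw)
    rwa [mul_inv_rev, refl_inv, refl_inv] at this

/-- Reflecting a member of the block in one of the same class. -/
lemma pInW_refl_same {z u : V} (hz : InW Q D M z) (hu : InW Q D M u) (hzu : SameCls Q z u) :
    InW Q D M ((refl Q z).1 u) := by
  obtain ⟨i, w, hw, hzw, h1⟩ := id hz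
  have h2 := pInW_pair hQ hD ht hgen hHM hu hw (hzu.symm.trans hzw)
  refine ⟨i, w, hw, ?_, ?_⟩
  · unfold SameCls
    rw [orth_qmap]
    exact hzu.symm.trans hzw
  · rw [← refl_conj, refl_inv]
    have := mul_mem (mul_mem h1 (inv_mem h2)) h1
    rwa [mul_inv_rev, refl_inv, refl_inv, mul_assoc (refl Q z), ← mul_assoc (refl Q w) (refl Q w),
      refl_sq, one_mul, ← mul_assoc] at this

/-- Reflecting a member of the block in another, given orthogonal side vectors. -/
lemma pInW_refl {z u : V} (hz : InW Q D M z) (hu : InW Q D M u) (gz : SideGood Q D z)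
    (gu : SideGood Q D u) : InW Q D M ((refl Q z).1 u) := by
  obtain ⟨_, _, _, hcz, -⟩ := id hz
  obtain ⟨_, _, _, hcu, -⟩ := id hu
  obtain ⟨i, v, hv, hvQ, hvz⟩ := gz _ hcu.1
  haveI : Nontrivial (Fin t) := Fin.nontrivial_iff_two_le.mpr (by omega)
  obtain ⟨j, hji⟩ := exists_ne i
  obtain ⟨w, hw, hwQ⟩ := exists_value_in (hD.nd j) (by rw [hD.dim]) hcz.1
  obtain ⟨l, w', hw', hw'Q, hw'u⟩ := gu _ hcz.1
  have hzw : SameCls Q z w := sameCls_of_eq hcz.1 hwQ
  have hww : SameCls Q w w' := sameCls_of_eq (by rw [hwQ]; exact hcz.1) (by rw [hw'Q, hwQ])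
  have h1 : InW Q D M ((refl Q w).1 u) := by
    have h := pInW_stab hQ hD ht hgen hHM (refl_pair_mem hQ hD ht hgen hw hw' hww) hu
    rwa [orth_mul_apply, refl_fix (v := w') (x := u) (by rw [polB_comm]; exact hw'u)] at h
  have h2 : (refl Q z * refl Q w).1 v = v := by
    rw [orth_mul_apply, refl_fix (hD.perp i j (Ne.symm hji) v hv w hw), refl_fix hvz]
  have h3 := pInW_act hQ hD ht hgen hHM (pInW_pair hQ hD ht hgen hHM hz hw hzw) h1 hv
    (sameCls_of_eq (by rw [orth_qmap]; exact hcu.1) (by rw [hvQ, orth_qmap]))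
    (by rw [h2]; exact hv)
  rwa [← orth_mul_apply, mul_assoc, refl_sq, mul_one] at h3

/-- Any element of the stabiliser keeps a good member of the block in it. -/
lemma pInW_dstab {z : V} (hz : InW Q D M z) (gz : SideGood Q D z) {g : orthGroup Q}
    (hg : g ∈ DStab Q D) : InW Q D M (g.1 z) := by
  let S : Subgroup (orthGroup Q) := DStab Q D ⊓
    { carrier := {h | h.1 z = z}
      mul_mem' := fun {a b} ha hb => by
        change (a * b).1 z = z
        rw [orth_mul_apply, hb, ha]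
      one_mem' := rfl
      inv_mem' := fun {a} ha => by
        change (a⁻¹).1 z = z
        conv_lhs => rw [← ha]
        rw [orth_inv_apply_self] }
  have hval : ∀ l : F, l ≠ 0 → ∃ v, Q v = l ∧ refl Q v ∈ S := fun l hl => by
    obtain ⟨i, v, hv, hvl, hvz⟩ := gz l hl
    exact ⟨v, hvl, refl_mem_DStab hD hv, refl_fix (by rw [polB_comm]; exact hvz)⟩
  obtain ⟨h, hh, hgh⟩ := exists_mem_commutator hQ hgen (two_le_finrank_planes hQ hD ht hgen) S
    (fun x => invHom_cases hQ hgen S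
      (fun l hl => by
        obtain ⟨v, hvl, hv⟩ := hval l hl
        obtain ⟨u, hu1, hu⟩ := hval 1 one_ne_zero
        refine ⟨refl Q v * refl Q u, mul_mem hv hu, ?_⟩
        rw [map_mul, invHom_refl hQ hgen (by rw [hvl]; exact hl),
          invHom_refl hQ hgen (by rw [hu1]; exact one_ne_zero), hvl, hu1, sqc_one]
        exact Prod.ext
          (by show Multiplicative.ofAdd (1 : ZMod 2) * Multiplicative.ofAdd 1 = 1; rfl) (mul_one _))
      (by
        obtain ⟨u, hu1, hu⟩ := hval 1 one_ne_zero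
        exact ⟨u, by rw [hu1]; exact one_ne_zero, hu⟩) x) g
  have h' := pInW_stab hQ hD ht hgen hHM (h := g * h) ⟨mul_mem hg hh.1, hgh⟩ hz
  have hz' : h.1 z = z := hh.2
  rwa [orth_mul_apply, hz'] at h'

omit ht hgen hHM in
/-- An element of the stabiliser with prescribed action on components. -/
lemma exists_dstab_map {z z' : V} (σ : Equiv.Perm (Fin t))
    (h0 : ∀ i, dpart hQ hD i z = 0 ↔ dpart hQ hD (σ i) z' = 0)
    (hq : ∀ i, Q (dpart hQ hD i z) = Q (dpart hQ hD (σ i) z')) :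
    ∃ g ∈ DStab Q D, g.1 z = z' ∧ ∀ i, ∀ x ∈ D i, g.1 x ∈ D (σ i) := by
  choose e he using fun i => hD.iso i (σ i)
  have hcomp : ∀ i, ∃ φ : V →ₗ[F] V, (∀ x ∈ D i, φ x ∈ D (σ i)) ∧ (∀ x ∈ D i, Q (φ x) = Q x) ∧
      φ (dpart hQ hD i z) = dpart hQ hD (σ i) z' := by
    intro i
    obtain ⟨g, hg⟩ : ∃ g : orthGroup (Q.comp (D (σ i)).subtype),
        g.1 (e i ⟨_, dpart_mem hQ hD i z⟩) = ⟨_, dpart_mem hQ hD (σ i) z'⟩ := by
      by_cases hzero : dpart hQ hD i z = 0
      · refine ⟨1, ?_⟩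
        rw [orth_one_apply, show (⟨_, dpart_mem hQ hD i z⟩ : D i) = 0 from Subtype.ext hzero,
          map_zero]
        exact Subtype.ext ((h0 i).mp hzero).symm
      · refine exists_orth_map (restrict_nondeg (ndOn_inf (hD.nd (σ i))))
          ((map_ne_zero_iff _ (e i).injective).mpr fun h => hzero (congrArg Subtype.val h))
          (fun h => hzero ((h0 i).mpr (congrArg Subtype.val h))) ?_
        change Q (e i _ : V) = _
        rw [he]
        exact hq i
    refine ⟨(D (σ i)).subtype ∘ₗ (g.1 : D (σ i) →ₗ[F] D (σ i)) ∘ₗ (e i : D i →ₗ[F] D (σ i)) ∘ₗ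
      (D i).projectionOnto ((polB Q).orthogonal (D i)) (isCompl_orth hQ (ndOn_inf (hD.nd i))),
      fun x _ => Submodule.coe_mem _, fun x hx => ?_, ?_⟩
    · simp only [LinearMap.comp_apply, LinearEquiv.coe_coe, Submodule.coe_subtype,
        Submodule.projectionOnto_apply_left _ (⟨x, hx⟩ : D i)]
      have h1 := orth_qmap g (e i ⟨x, hx⟩)
      simp only [QuadraticMap.comp_apply, Submodule.coe_subtype] at h1
      rw [h1, he]
    · simp only [LinearMap.comp_apply, LinearEquiv.coe_coe, Submodule.coe_subtype,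
        Submodule.projectionOnto_apply_left _ (⟨_, dpart_mem hQ hD i z⟩ : D i), hg]
  choose φ hφ1 hφ2 hφ3 using hcomp
  obtain ⟨g, hgD, hg⟩ := exists_glue hQ hD σ φ hφ1 hφ2
  refine ⟨g, hgD, ?_, fun i x hx => hg i x hx ▸ hφ1 i x hx⟩
  conv_lhs => rw [← sum_dpart hQ hD z]
  rw [map_sum]
  simp_rw [fun i => hg i _ (dpart_mem hQ hD i z), hφ3]
  rw [Equiv.sum_comp σ (fun j => dpart hQ hD j z'), sum_dpart hQ hD]

omit hgen hHM in
lemma sideGood_two {a b : Fin t} {za zb : V} (hza : za ∈ D a) (hzb : zb ∈ D b) :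
    SideGood Q D (za + zb) := by
  classical
  obtain ⟨l, -, hl⟩ := Finset.exists_mem_notMem_of_card_lt_card
    (s := ({a, b} : Finset (Fin t))) (t := Finset.univ)
    (by rw [Finset.card_univ, Fintype.card_fin]; exact lt_of_le_of_lt Finset.card_le_two (by omega))
  simp only [Finset.mem_insert, Finset.mem_singleton, not_or] at hl
  exact sideGood_of_zero hQ hD (l := l)
    (by rw [map_add, dpart_other hQ hD hl.1 hza, dpart_other hQ hD hl.2 hzb, add_zero])

lemma pWPair_spread {α β : F} (h : WPair Q D M α β) {c d : Fin t} (hcd : c ≠ d) {zc zd : V}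
    (hzc : zc ∈ D c) (hzd : zd ∈ D d) (hzc0 : zc ≠ 0) (hzd0 : zd ≠ 0) (hqc : Q zc = α)
    (hqd : Q zd = β) : InW Q D M (zc + zd) := by
  obtain ⟨a, b, hab, za, hza, zb, hzb, hza0, hzb0, hqa, hqb, hz⟩ := h
  set σ : Equiv.Perm (Fin t) := (Equiv.swap a c).trans (Equiv.swap (Equiv.swap a c b) d) with hσ
  have hb' : Equiv.swap a c b ≠ c := fun h =>
    hab ((Equiv.swap a c).injective (h.trans (Equiv.swap_apply_left a c).symm)).symm
  have hσa : σ a = c := by
    rw [hσ, Equiv.trans_apply, Equiv.swap_apply_left, Equiv.swap_apply_of_ne_of_ne hb'.symm hcd]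
  have hσb : σ b = d := by rw [hσ, Equiv.trans_apply, Equiv.swap_apply_left]
  have hpa : ∀ (x y : V) (p q i : Fin t), p ≠ q → x ∈ D p → y ∈ D q →
      dpart hQ hD i (x + y) = if i = p then x else if i = q then y else 0 := by
    intro x y p q i hpq hx hy
    rw [map_add]
    split_ifs with h1 h2
    · subst h1; rw [dpart_of_mem hQ hD hx, dpart_other hQ hD hpq hy, add_zero]
    · subst h2; rw [dpart_of_mem hQ hD hy, dpart_other hQ hD h1 hx, zero_add]
    · rw [dpart_other hQ hD h1 hx, dpart_other hQ hD h2 hy, add_zero]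
  obtain ⟨g, hg, hgz, -⟩ := exists_dstab_map hQ hD (z := za + zb) (z' := zc + zd) σ
    (fun i => by
      rw [hpa za zb a b i hab hza hzb, hpa zc zd c d (σ i) hcd hzc hzd]
      by_cases h1 : i = a
      · subst h1; simp [hσa, hza0, hzc0]
      by_cases h2 : i = b
      · subst h2; simp [hσb, h1, hcd.symm, hzb0, hzd0]
      · have e1 : σ i ≠ c := fun e => h1 (σ.injective (e.trans hσa.symm))
        have e2 : σ i ≠ d := fun e => h2 (σ.injective (e.trans hσb.symm))
        simp [h1, h2, e1, e2])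
    (fun i => by
      rw [hpa za zb a b i hab hza hzb, hpa zc zd c d (σ i) hcd hzc hzd]
      by_cases h1 : i = a
      · subst h1; simp [hσa, hqa, hqc]
      by_cases h2 : i = b
      · subst h2; simp [hσb, h1, hcd.symm, hqb, hqd]
      · have e1 : σ i ≠ c := fun e => h1 (σ.injective (e.trans hσa.symm))
        have e2 : σ i ≠ d := fun e => h2 (σ.injective (e.trans hσb.symm))
        simp [h1, h2, e1, e2])
  have := pInW_dstab hQ hD ht hgen hHM hz (sideGood_two hQ hD ht hza hzb) hg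
  rwa [hgz] at this

lemma pWPair_symm {α β : F} (h : WPair Q D M α β) : WPair Q D M β α := by
  obtain ⟨a, b, hab, za, hza, zb, hzb, hza0, hzb0, hqa, hqb, hz⟩ := h
  exact ⟨b, a, hab.symm, zb, hzb, za, hza, hzb0, hza0, hqb, hqa, by rwa [add_comm]⟩

lemma pWPair_sum {α β : F} (h : WPair Q D M α β) : α + β ≠ 0 := by
  obtain ⟨a, b, hab, za, hza, zb, hzb, -, -, rfl, rfl, _, _, _, hc, -⟩ := h
  have := hc.1
  rwa [qmap_add, hD.perp a b hab za hza zb hzb, add_zero] at this

/-- The basic step: reflect a vector of a member in a mixed vector of the block. -/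
lemma pWPair_step {α β δ : F} (h : WPair Q D M α β) (hδ : δ + β ≠ 0)
    (hw : ∀ a, ∀ za ∈ D a, za ≠ 0 → Q za = α →
      ∃ w ∈ D a, w ≠ 0 ∧ Q w = δ ∧ polB Q w za = β - α) :
    WPair Q D M δ β := by
  have hne : α + β ≠ 0 := pWPair_sum hQ hD ht hgen hHM h
  obtain ⟨a, b, hab, za, hza, zb, hzb, hza0, hzb0, hqa, hqb, hz⟩ := h
  obtain ⟨w, hw, hw0, hwQ, hwf⟩ := hw a za hza hza0 hqa
  set c := w + za with hc
  have hcD : c ∈ D a := add_mem hw hza
  have hQc : Q c = δ + β := by rw [hc, qmap_add, hwQ, hwf, hqa]; ring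
  have hzz : Q (za + zb) = α + β := by
    rw [qmap_add, hqa, hqb, hD.perp a b hab za hza zb hzb, add_zero]
  have gc : SideGood Q D c := by
    have := sideGood_two hQ hD ht hcD (zero_mem (D b))
    rwa [add_zero] at this
  have h1 := pInW_refl hQ hD ht hgen hHM hz
    (pInW_side hQ hD ht hgen hHM hcD (by rw [hQc]; exact hδ)) (sideGood_two hQ hD ht hza hzb) gc
  have e : (refl Q (za + zb)).1 c = w + -zb := by
    have hf : polB Q c (za + zb) = α + β := by
      rw [map_add, hD.perp a b hab c hcD zb hzb, add_zero, hc, map_add,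
        LinearMap.add_apply, hwf, polB_self, hqa]
      ring
    rw [refl_apply, hzz, hf, inv_mul_cancel₀ hne, one_smul, hc]
    abel
  rw [e] at h1
  exact ⟨a, b, hab, w, hw, -zb, neg_mem hzb, hw0,
    neg_ne_zero.mpr hzb0, hwQ, by rw [qmap_neg, hqb], h1⟩

end H45
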