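import Mathlib
import Cfsg.Agent.H45.PlaneBlock

/-!
# Decompositions into planes: a mixed vector of the block from an element outside the stabiliser
-/

set_option autoImplicit false
set_option linter.unusedSectionVars false

namespace H45

open H43

variable {F : Type*} [Field F] [Fintype F] {V : Type*} [AddCommGroup V] [Module F V]
  [FiniteDimensional F V] {Q : QuadraticForm F V} {t : ℕ} {D : Fin t → Submodule F V}

/-- The hypothesis on the planes. -/
def PlaneHyp (Q : QuadraticForm F V) (D : Fin t → Submodule F V) : Prop :=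
  7 ≤ Fintype.card F ∨ ((∀ i, ∀ x ∈ D i, Q x = 0 → x = 0) ∧ Fintype.card F ≠ 3)

variable (hQ : (polB Q).Nondegenerate) (hD : OD Q D 2) (hq : PlaneHyp Q D)

lemma planeHyp_at (hq : PlaneHyp Q D) (i : Fin t) :
    7 ≤ Fintype.card F ∨ ((∀ x ∈ D i, Q x = 0 → x = 0) ∧ Fintype.card F ≠ 3) :=
  hq.imp_right fun h => ⟨h.1 i, h.2⟩

include hQ hD hq

lemma plane_mem_DStab {c : F} (hc : c ≠ 0) {h : orthGroup Q}
    (hh : ∀ i, ∀ x ∈ D i, Q x = c → ∃ j, h.1 x ∈ D j) : h ∈ DStab Q D := by
  refine mem_DStab hD.dim fun i => ?_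
  obtain ⟨a, ha, b, hb, hQa, hQb, hab, hpar⟩ := exists_rot_pair (Q := Q) (hD.nd i) (hD.dim i) (planeHyp_at hq i) hc
  obtain ⟨j, hj⟩ := hh i a ha hQa
  obtain ⟨l, hl⟩ := hh i b hb hQb
  have hlj : j = l := by
    by_contra hne
    exact hab (by rw [← orth_polB_map h]; exact hD.perp j l hne _ hj _ hl)
  subst hlj
  refine ⟨j, fun x hx => ?_⟩
  have hind : LinearIndependent F ![a, b] := by
    rw [LinearIndependent.pair_iff' (fun e : a = 0 => hc (by rw [← hQa, e, QuadraticMap.map_zero]))]
    exact fun r => Ne.symm (hpar r)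
  have hsp : Submodule.span F (Set.range ![a, b]) = D i := Submodule.eq_of_le_of_finrank_le
    (Submodule.span_le.mpr (by rintro _ ⟨m, rfl⟩; fin_cases m <;> simp [ha, hb]))
    (by rw [finrank_span_eq_card hind, hD.dim, Fintype.card_fin])
  rw [← hsp] at hx
  obtain ⟨g, rfl⟩ := (Submodule.mem_span_range_iff_exists_fun F).mp hx
  simp only [Fin.sum_univ_two, Matrix.cons_val_zero, Matrix.cons_val_one, map_add, map_smul]
  exact add_mem ((D j).smul_mem _ hj) ((D j).smul_mem _ hl)

omit hq in
/-- A moved member carries all the displacement. -/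
lemma moved_member {h : orthGroup Q} {x w : V}
    (hU : ∀ v, h.1 v - v ∈ Submodule.span F (Set.range ![x, w])) {i j : Fin t} (hij : j ≠ i)
    (hj : ∀ d ∈ D i, h.1 d ∈ D j) {u : V} (hu : h.1 u - u = x) :
    ∃ d ∈ D i, x = h.1 d - d := by
  let L : D i →ₗ[F] V := ((h.1 : V →ₗ[F] V) - LinearMap.id).comp (D i).subtype
  have hL : Function.Injective L := by
    rw [← LinearMap.ker_eq_bot, eq_bot_iff]
    rintro ⟨d, hd⟩ he
    rw [LinearMap.mem_ker] at he
    have he' : h.1 d = d := sub_eq_zero.mp he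
    have : d = 0 := hD.nd i d hd fun y hy => hD.perp j i hij d (he' ▸ hj d hd) y hy
    exact (Submodule.mem_bot F).mpr (Subtype.ext this)
  have hle : LinearMap.range L ≤ Submodule.span F (Set.range ![x, w]) := by
    rintro _ ⟨d, rfl⟩; exact hU d
  have h2 : Module.finrank F (Submodule.span F (Set.range ![x, w])) ≤ 2 :=
    (finrank_range_le_card ![x, w]).trans (by simp)
  have heq := Submodule.eq_of_le_of_finrank_le hle
    (by rw [LinearMap.finrank_range_of_inj hL, hD.dim]; exact h2)
  have hx : x ∈ Submodule.span F (Set.range ![x, w]) := Submodule.subset_span ⟨0, rfl⟩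
  rw [← heq] at hx
  obtain ⟨d, hd⟩ := hx
  exact ⟨d, d.2, hd.symm⟩

omit hq in
/-- Three non-zero components in the displacement keep an element out of the stabiliser. -/
lemma not_DStab_of_three {h : orthGroup Q} {x w : V}
    (hU : ∀ v, h.1 v - v ∈ Submodule.span F (Set.range ![x, w])) {u : V} (hu : h.1 u - u = x)
    {m : Fin 3 → Fin t} (hm : Function.Injective m) (hne : ∀ l, dpart hQ hD (m l) x ≠ 0) :
    h ∉ DStab Q D := by
  intro hh
  choose σ hσ using fun i => DStab_maps hh i
  by_cases hmove : ∃ i, σ i ≠ i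
  · obtain ⟨i, hi⟩ := hmove
    obtain ⟨d, hd, hx⟩ := moved_member hQ hD hU hi (hσ i) hu
    obtain ⟨l, hl1, hl2⟩ : ∃ l, m l ≠ i ∧ m l ≠ σ i := by
      have hcase : ∀ a b : Fin t, ∃ l, m l ≠ a ∧ m l ≠ b := fun a b => by
        by_contra hcon
        push Not at hcon
        have h0 := hcon 0
        have h1 := hcon 1
        have h2 := hcon 2
        by_cases e0 : m 0 = a
        · have e1 : m 1 = b := h1 fun e => absurd (hm (e.trans e0.symm)) (by decide)
          have e2 : m 2 = b := h2 fun e => absurd (hm (e.trans e0.symm)) (by decide)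
          exact absurd (hm (e1.trans e2.symm)) (by decide)
        · have e0' := h0 e0
          have e1 : m 1 = a := by
            by_contra e; exact absurd (hm ((h1 e).trans e0'.symm)) (by decide)
          have e2 : m 2 = a := by
            by_contra e; exact absurd (hm ((h2 e).trans e0'.symm)) (by decide)
          exact absurd (hm (e1.trans e2.symm)) (by decide)
      exact hcase i (σ i)
    refine hne l ?_
    rw [hx, map_sub, dpart_other hQ hD hl2 (hσ i d hd), dpart_other hQ hD hl1 hd, sub_zero]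
  push Not at hmove
  set c := fun i => h.1 (dpart hQ hD i u) - dpart hQ hD i u with hc
  have hcD : ∀ i, c i ∈ D i := fun i => by
    refine sub_mem ?_ (dpart_mem hQ hD i u)
    have := hσ i _ (dpart_mem hQ hD i u)
    rwa [hmove i] at this
  have hsum : ∑ i, c i = x := by
    simp only [hc, Finset.sum_sub_distrib, ← map_sum, sum_dpart hQ hD u, hu]
  have hxc : ∀ i, dpart hQ hD i x = c i := fun i => by rw [← hsum, dpart_sum hQ hD c hcD]
  have hind : LinearIndependent F fun l => c (m l) := by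
    rw [Fintype.linearIndependent_iff]
    intro g hg l
    have h0 := congrArg (dpart hQ hD (m l)) hg
    rw [map_sum, map_zero, Finset.sum_eq_single l, map_smul, dpart_of_mem hQ hD (hcD _),
      smul_eq_zero] at h0
    · exact h0.resolve_right (hxc (m l) ▸ hne l)
    · intro b _ hb
      rw [map_smul, dpart_other hQ hD (fun e => hb (hm e).symm) (hcD _), smul_zero]
    · simp
  have hle : Submodule.span F (Set.range fun l => c (m l)) ≤ Submodule.span F (Set.range ![x, w]) :=
    Submodule.span_le.mpr (by rintro _ ⟨l, rfl⟩; exact hU _)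
  have h2 : Module.finrank F (Submodule.span F (Set.range ![x, w])) ≤ 2 :=
    (finrank_range_le_card ![x, w]).trans (by simp)
  have h3 := Submodule.finrank_mono hle
  rw [finrank_span_eq_card hind, Fintype.card_fin] at h3
  omega

omit hq in
/-- A singular side vector in the displacement keeps an element out of the stabiliser. -/
lemma not_DStab_of_sing {h : orthGroup Q} {e w : V} {l : Fin t} (he : e ∈ D l) (he0 : e ≠ 0)
    (hQe : Q e = 0) (hw : w ∉ D l)
    (hU : ∀ v, h.1 v - v ∈ Submodule.span F (Set.range ![e, w])) {u : V} (hu : h.1 u - u = e) :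
    h ∉ DStab Q D := by
  intro hh
  choose σ hσ using fun i => DStab_maps hh i
  by_cases hmove : ∃ i, σ i ≠ i
  · obtain ⟨i, hi⟩ := hmove
    obtain ⟨d, hd, hx⟩ := moved_member hQ hD hU hi (hσ i) hu
    by_cases hli : l = i
    · subst hli
      have hd' : h.1 d ∈ D l := by rw [show h.1 d = e + d by rw [hx]; abel]; exact add_mem he hd
      have : h.1 d = 0 := hD.nd l _ hd' fun y hy => hD.perp (σ l) l hi _ (hσ l d hd) y hy
      rw [show d = 0 from (LinearEquiv.map_eq_zero_iff _).mp this, map_zero, sub_zero] at hx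
      exact he0 hx
    · have h0 := congrArg (dpart hQ hD i) hx
      rw [dpart_other hQ hD (Ne.symm hli) he, map_sub, dpart_other hQ hD (Ne.symm hi) (hσ i d hd),
        dpart_of_mem hQ hD hd, zero_sub, eq_comm, neg_eq_zero] at h0
      rw [h0, map_zero, sub_zero] at hx
      exact he0 hx
  push Not at hmove
  have hfix : ∀ x ∈ D l, ∃ c : F, h.1 x - x = c • e := fun x hx => by
    have hm : h.1 x ∈ D l := by
      have := hσ l x hx
      rwa [hmove l] at this
    obtain ⟨g, hg⟩ := (Submodule.mem_span_range_iff_exists_fun F).mp (hU x)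
    simp only [Fin.sum_univ_two, Matrix.cons_val_zero, Matrix.cons_val_one] at hg
    refine ⟨g 0, ?_⟩
    have hwm : g 1 • w ∈ D l := by
      rw [show g 1 • w = h.1 x - x - g 0 • e by rw [← hg]; abel]
      exact sub_mem (sub_mem hm hx) ((D l).smul_mem _ he)
    by_cases hg1 : g 1 = 0
    · rw [← hg, hg1, zero_smul, add_zero]
    · exact absurd (by simpa [smul_smul, hg1] using (D l).smul_mem (g 1)⁻¹ hwm) hw
  have hval : ∀ x ∈ D l, polB Q x e ≠ 0 → h.1 x = x := fun x hx hxe => by
    obtain ⟨c, hc⟩ := hfix x hx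
    rw [sub_eq_iff_eq_add'] at hc
    have h' := orth_qmap h x
    rw [hc, qmap_add_smul, hQe] at h'
    have : c * polB Q x e = 0 := by linear_combination h'
    rw [hc, (mul_eq_zero.mp this).resolve_right hxe, zero_smul, add_zero]
  set ul := dpart hQ hD l u with hul
  have hule : h.1 ul - ul = e := by
    set c := fun i => h.1 (dpart hQ hD i u) - dpart hQ hD i u with hc
    have hcD : ∀ i, c i ∈ D i := fun i => by
      refine sub_mem ?_ (dpart_mem hQ hD i u)
      have := hσ i _ (dpart_mem hQ hD i u)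
      rwa [hmove i] at this
    have hsum : ∑ i, c i = e := by
      simp only [hc, Finset.sum_sub_distrib, ← map_sum, sum_dpart hQ hD u, hu]
    rw [← dpart_of_mem hQ hD he, ← hsum, dpart_sum hQ hD c hcD]
  have hulD : ul ∈ D l := dpart_mem hQ hD l u
  have h1 : polB Q ul e = 0 := by
    by_contra hne
    rw [hval ul hulD hne, sub_self] at hule
    exact he0 hule.symm
  obtain ⟨y, hy, hye⟩ := ndOn_exists_polB (hD.nd l) he he0 1
  have h2 : h.1 (y + ul) = y + ul := hval _ (add_mem hy hulD) (by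
    rw [map_add, LinearMap.add_apply, hye, h1, add_zero]; exact one_ne_zero)
  rw [map_add, hval y hy (by rw [hye]; exact one_ne_zero), add_right_inj] at h2
  rw [h2, sub_self] at hule
  exact he0 hule.symm

variable (ht : 5 ≤ t) (hgen : ReflGenerates F V) {M : Subgroup (orthGroup Q)}
  (hHM : DStab Q D ⊓ commutator (orthGroup Q) ≤ M)

include ht hgen

/-- A rotation of one plane in the stabiliser. -/
lemma exists_rho (l : Fin t) :
    ∃ ρ ∈ DStab Q D ⊓ commutator (orthGroup Q), (∀ i, i ≠ l → ∀ x ∈ D i, ρ.1 x = x) ∧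
      (∀ x ∈ D l, ρ.1 x ∈ D l) ∧ (∀ x ∈ D l, x ≠ 0 → ρ.1 x ≠ x ∧ ρ.1 x ≠ -x) ∧
      ∀ x ∈ D l, Q x = 0 → polB Q x (ρ.1 x) = 0 := by
  obtain ⟨a, ha, b, hb, hQa, hQb, hab, hpar⟩ :=
    exists_rot_pair (Q := Q) (hD.nd l) (hD.dim l) (planeHyp_at hq l) one_ne_zero
  have hQa0 : Q a ≠ 0 := by rw [hQa]; exact one_ne_zero
  have hQb0 : Q b ≠ 0 := by rw [hQb]; exact one_ne_zero
  have hmap : ∀ c ∈ D l, ∀ x ∈ D l, (refl Q c).1 x ∈ D l := fun c hc x hx => by
    rw [refl_apply]; exact sub_mem hx ((D l).smul_mem _ hc)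
  refine ⟨refl Q a * refl Q b,
    refl_pair_mem hQ hD ht hgen ha hb (sameCls_of_eq hQa0 (by rw [hQb, hQa])), fun i hi x hx => ?_,
    fun x hx => by rw [orth_mul_apply]; exact hmap a ha _ (hmap b hb x hx), fun x hx hx0 => ?_,
    fun x hx hQx => ?_⟩
  · rw [orth_mul_apply, refl_fix (hD.perp i l hi x hx b hb), refl_fix (hD.perp i l hi x hx a ha)]
  · have h1 : (refl Q a * refl Q b).1 x ≠ x := fun h =>
      hx0 (rot_fix (hD.nd l) (hD.dim l) ha hb hQa0 hQb0 hpar hx h)
    refine ⟨h1, fun h => hx0 ?_⟩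
    refine rot_fix (hD.nd l) (hD.dim l) (hmap a ha b hb) hb (by rw [orth_qmap]; exact hQb0) hQb0
      (fun r hr => ?_) hx ?_
    · rw [refl_apply, smul_sub, smul_smul] at hr
      have hla : (Q a)⁻¹ * polB Q b a ≠ 0 :=
        mul_ne_zero (inv_ne_zero hQa0) (by rw [polB_comm]; exact hab)
      set lam := (Q a)⁻¹ * polB Q b a
      by_cases hr1 : r = 1
      · subst hr1
        rw [one_smul, one_mul, eq_comm, sub_eq_self, smul_eq_zero] at hr
        exact hQa0 (by rw [hr.resolve_left hla, QuadraticMap.map_zero])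
      · refine hpar ((r - 1)⁻¹ * (r * lam)) ?_
        have : (r - 1) • b = (r * lam) • a := by
          rw [sub_smul, one_smul]
          nth_rewrite 2 [hr]
          abel
        rw [← smul_smul, ← this, smul_smul, inv_mul_cancel₀ (sub_ne_zero.mpr hr1), one_smul]
    · rw [← refl_conj, refl_inv]
      simp only [orth_mul_apply] at h ⊢
      rw [h, map_neg, map_neg, h, neg_neg]
  · by_cases hx0 : x = 0
    · subst hx0; simp
    have key : ∀ c ∈ D l, Q c = 1 → ∀ z ∈ D l, z ≠ 0 → Q z = 0 →
        polB Q z ((refl Q c).1 z) ≠ 0 := by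
      intro c hc hQc z hz hz0 hQz h
      rw [refl_apply, map_sub, map_smul, polB_self, hQz, hQc, inv_one, one_mul, mul_zero, zero_sub,
        neg_eq_zero, smul_eq_mul, mul_self_eq_zero] at h
      have hc0 : c ≠ 0 := fun e => one_ne_zero (α := F) (by rw [← hQc, e, QuadraticMap.map_zero])
      exact perp_nonsing (hD.nd l) (hD.dim l) hc (by rw [hQc]; exact one_ne_zero) hz hz0 h hQz
    have hw := hmap b hb x hx
    have hw0 : (refl Q b).1 x ≠ 0 := (LinearEquiv.map_ne_zero_iff _).mpr hx0
    have hQw : Q ((refl Q b).1 x) = 0 := by rw [orth_qmap, hQx]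
    rw [orth_mul_apply]
    exact sing_three (hD.nd l) (hD.dim l) hx hw (hmap a ha _ hw) hQx hQw (by rw [orth_qmap, hQw])
      (key b hb hQb x hx hx0 hQx) (key a ha hQa _ hw hw0 hQw)

include hHM

/-- An element of `M` outside the stabiliser sending some side vector to a side vector gives a
mixed vector of the block. -/
lemma seed_of_side {h : orthGroup Q} (hh : h ∈ M) (hhD : h ∉ DStab Q D) {i j : Fin t} {v : V}
    (hv : v ∈ D i) (hQv : Q v ≠ 0) (hhv : h.1 v ∈ D j) :
    ∃ z, InW Q D M z ∧ ∀ m, z ∉ D m := by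
  by_contra hcon
  push Not at hcon
  refine hhD (plane_mem_DStab hQ hD hq hQv fun m x hx hQx => hcon _ ?_)
  exact pInW_act hQ hD ht hgen hHM hh (pInW_side hQ hD ht hgen hHM hx (by rw [hQx]; exact hQv)) hv
    (sameCls_of_eq (by rw [hQx]; exact hQv) hQx.symm) hhv

/-- A pair product with a component zero on one side only gives a seed. -/
lemma seed_of_product {z y : V} (hzy : refl Q z * refl Q y ∈ M) (hz0 : Q z ≠ 0) {l : Fin t}
    (hyl : dpart hQ hD l y = 0) (hzl : dpart hQ hD l z ≠ 0) (hmix : ∀ m, z ∉ D m) :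
    ∃ w, InW Q D M w ∧ ∀ m, w ∉ D m := by
  obtain ⟨ρ, hρ, hfix, hρl, hρne, -⟩ := exists_rho hQ hD hq ht hgen l
  set zl := dpart hQ hD l z with hzldef
  have hzlD : zl ∈ D l := dpart_mem hQ hD l z
  have hρrest : ∀ x, ρ.1 x = x - dpart hQ hD l x + ρ.1 (dpart hQ hD l x) := fun x => by
    have hx : x = dpart hQ hD l x + ∑ i ∈ Finset.univ.erase l, dpart hQ hD i x := by
      rw [Finset.add_sum_erase _ (fun i => dpart hQ hD i x) (Finset.mem_univ l), sum_dpart hQ hD]
    have hrest : ρ.1 (∑ i ∈ Finset.univ.erase l, dpart hQ hD i x) =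
        ∑ i ∈ Finset.univ.erase l, dpart hQ hD i x := by
      rw [map_sum]
      exact Finset.sum_congr rfl fun i hi =>
        hfix i (Finset.ne_of_mem_erase hi) _ (dpart_mem hQ hD i x)
    conv_lhs => rw [hx]
    rw [map_add, hrest]
    nth_rewrite 3 [hx]
    abel
  have hρy : ρ.1 y = y := by rw [hρrest, hyl, map_zero, sub_zero, add_zero]
  set e := ρ.1 zl - zl with he
  have heD : e ∈ D l := sub_mem (hρl _ hzlD) hzlD
  have hρz : ρ.1 z = z + e := by rw [hρrest, he, ← hzldef]; abel
  have he0 : e ≠ 0 := sub_ne_zero.mpr (hρne _ hzlD hzl).1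
  -- the new element
  have hmem : refl Q z * refl Q (z + e) ∈ M := by
    have h2 : refl Q (z + e) * refl Q y ∈ M := by
      have := mul_mem (mul_mem (hHM hρ) hzy) (inv_mem (hHM hρ))
      rwa [← conj_mul, refl_conj, refl_conj, hρz, hρy] at this
    have := mul_mem hzy (inv_mem h2)
    rwa [mul_inv_rev, refl_inv, refl_inv, mul_assoc, ← mul_assoc (refl Q y), refl_sq, one_mul] at this
  have hfe : polB Q z e = -Q e := by
    have h := orth_qmap ρ z
    rw [hρz, qmap_add] at h
    linear_combination h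
  have hzle : polB Q zl e = -Q e := by rw [polB_dpart hQ hD l z heD, hfe]
  by_cases hQe : Q e = 0
  · -- the moved component is singular
    have hQzl : Q zl = 0 := by
      by_contra hne
      exact perp_nonsing (hD.nd l) (hD.dim l) hzlD hne heD he0
        (by rw [polB_comm, hzle, hQe, neg_zero]) hQe
    obtain ⟨n, hn⟩ := exists_nonsing_part hQ hD hz0
    have hnl : n ≠ l := fun e => hn (by rw [e, ← hzldef, hQzl])
    set zn := dpart hQ hD n z with hzndef
    have hznD : zn ∈ D n := dpart_mem hQ hD n z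
    have hzn0 : zn ≠ 0 := fun e => hn (by rw [e, QuadraticMap.map_zero])
    obtain ⟨v, hv, hv0, hvz, -⟩ := exists_perp_vec (hD.nd n) (hD.dim n) hznD hzn0
    have hQv := perp_nonsing (hD.nd n) (hD.dim n) hznD hn hv hv0 hvz
    set h := refl Q z * refl Q (z + e) with hh
    have hQze : Q (z + e) = Q z := by rw [← hρz, orth_qmap]
    have hzv : polB Q v z = 0 := by
      rw [polB_comm, ← polB_dpart hQ hD n z hv, ← hzndef, polB_comm, hvz]
    have hev : polB Q v e = 0 := hD.perp n l hnl v hv e heD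
    have hhv : h.1 v = v := by
      have hzev : polB Q v (z + e) = 0 := by rw [map_add, hzv, hev, add_zero]
      rw [hh, orth_mul_apply, refl_fix hzev, refl_fix hzv]
    have hform : ∀ x, h.1 x - x =
        ((Q z)⁻¹ * polB Q x e) • z - ((Q z)⁻¹ * (polB Q x z + polB Q x e)) • e := by
      intro x
      rw [hh, orth_mul_apply, refl_apply (z + e), refl_apply z, hQze]
      simp only [map_sub, map_add, map_smul, LinearMap.sub_apply, LinearMap.add_apply,
        LinearMap.smul_apply, smul_eq_mul, polB_self, polB_comm e z, hfe, hQe]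
      match_scalars <;> field_simp <;> ring
    refine seed_of_side hQ hD hq ht hgen hHM hmem ?_ hv hQv (by rw [hhv]; exact hv)
    obtain ⟨u, hu, huz⟩ := ndOn_exists_polB (hD.nd n) hznD hzn0 (-Q z)
    refine not_DStab_of_sing hQ hD heD he0 hQe (hmix l) (fun x => ?_) (u := u) ?_
    · rw [hform]
      exact sub_mem (Submodule.smul_mem _ _ (Submodule.subset_span ⟨1, rfl⟩))
        (Submodule.smul_mem _ _ (Submodule.subset_span ⟨0, rfl⟩))
    · rw [hform, hD.perp n l hnl u hu e heD,
        show polB Q u z = -Q z by rw [polB_comm, ← polB_dpart hQ hD n z hu, ← hzndef, polB_comm, huz]]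
      rw [mul_zero, zero_smul, add_zero, mul_neg, inv_mul_cancel₀ hz0, neg_smul, one_smul, zero_sub,
        neg_neg]
  · set w := (refl Q z).1 e with hw
    have hwe : w = e + ((Q z)⁻¹ * Q e) • z := by
      rw [hw, refl_apply, polB_comm, hfe, mul_neg, neg_smul, sub_neg_eq_add]
    refine ⟨w, ⟨l, e, heD, sameCls_of_eq (by rw [hw, orth_qmap]; exact hQe)
      (by rw [hw, orth_qmap]), ?_⟩, ?_⟩
    · have key : refl Q z * refl Q (z + e) = refl Q w * refl Q e := by
        have hze : (refl Q e).1 z = z + e := by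
          rw [refl_apply, hfe, mul_neg, inv_mul_cancel₀ hQe, neg_smul, one_smul, sub_neg_eq_add]
        rw [hw, ← refl_conj, ← hze, ← refl_conj, refl_inv, refl_inv]
        group
      rwa [← key]
    · intro m hm
      set lam := (Q z)⁻¹ * Q e with hlam
      have hlam0 : lam ≠ 0 := mul_ne_zero (inv_ne_zero hz0) hQe
      by_cases hml : m = l
      · subst hml
        refine hmix m ?_
        have h1 : lam • z ∈ D m := by
          rw [show lam • z = w - e by rw [hwe]; abel]; exact sub_mem hm heD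
        simpa [smul_smul, hlam0] using (D m).smul_mem lam⁻¹ h1
      · have h0 := congrArg (dpart hQ hD l) hwe
        rw [dpart_other hQ hD (Ne.symm hml) hm, map_add, map_smul, dpart_of_mem hQ hD heD,
          ← hzldef] at h0
        have hρzl : ρ.1 zl = (1 - lam) • zl := by
          have : ρ.1 zl - zl = -(lam • zl) := eq_neg_of_add_eq_zero_left h0.symm
          rw [sub_eq_iff_eq_add'] at this
          rw [this, sub_smul, one_smul, sub_eq_add_neg]
        have hQq := orth_qmap ρ zl
        rw [hρzl, qmap_smul] at hQq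
        have hQzl : Q zl ≠ 0 := fun h => hQe (by
          rw [he, hρzl, sub_smul, one_smul, sub_sub_cancel_left, qmap_neg, qmap_smul, h, mul_zero])
        have h4 : (1 - lam - 1) * (1 - lam + 1) * Q zl = 0 := by linear_combination hQq
        rcases mul_eq_zero.mp ((mul_eq_zero.mp h4).resolve_right hQzl) with e1 | e1
        · exact hlam0 (by linear_combination -e1)
        · exact (hρne zl hzlD hzl).2
            (by rw [hρzl, eq_neg_of_add_eq_zero_left e1, neg_one_smul])

omit hHM in
/-- Elements of the stabiliser fixing a vector with all components non-zero. -/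
lemma exists_tau {y : V} (hy : ∀ i, dpart hQ hD i y ≠ 0) :
    ∃ τ ∈ DStab Q D ⊓ commutator (orthGroup Q), τ.1 y = y ∧ τ ≠ 1 ∧
      ∃ S : Finset (Fin t), S.card ≤ 3 ∧ ∀ i ∉ S, ∀ x ∈ D i, τ.1 x = x := by
  classical
  set p := fun i => dpart hQ hD i y with hp
  have hpD : ∀ i, p i ∈ D i := fun i => dpart_mem hQ hD i y
  by_cases hs : 3 ≤ (Finset.univ.filter fun i => Q (p i) = 0).card
  · obtain ⟨m, n, o, hm, hn, ho, hmn, hmo, hno⟩ :=
      Finset.two_lt_card_iff.mp (Nat.lt_of_succ_le hs)
    simp only [Finset.mem_filter, Finset.mem_univ, true_and] at hm hn ho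
    have mk : ∀ a b, a ≠ b → Q (p a) = 0 → Q (p b) = 0 → ∃ s ∈ DStab Q D, s.1 y = y ∧
        (∀ i, i ≠ a → i ≠ b → ∀ x ∈ D i, s.1 x = x) ∧
        (∀ x ∈ D a, s.1 x ∈ D b) ∧ (∀ x ∈ D b, s.1 x ∈ D a) := by
      intro a b hab ha hb
      obtain ⟨g, -, hgy, hgD⟩ := exists_dstab_map hQ hD (z := y) (z' := y) (Equiv.swap a b)
        (fun i => by simp [hy i, hy (Equiv.swap a b i)])
        (fun i => by
          by_cases e1 : i = a
          · subst e1; rw [Equiv.swap_apply_left]; exact ha.trans hb.symm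
          by_cases e2 : i = b
          · subst e2; rw [Equiv.swap_apply_right]; exact hb.trans ha.symm
          rw [Equiv.swap_apply_of_ne_of_ne e1 e2])
      obtain ⟨s, hs, hsv⟩ := exists_glue hQ hD (Equiv.swap a b)
        (fun i => if i = a ∨ i = b then (g.1 : V →ₗ[F] V) else LinearMap.id)
        (fun i x hx => by
          split_ifs with h
          · exact hgD i x hx
          · push Not at h
            rw [Equiv.swap_apply_of_ne_of_ne h.1 h.2]
            exact hx)
        (fun i x _ => by split_ifs <;> simp [orth_qmap])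
      refine ⟨s, hs, ?_, fun i hia hib x hx => ?_, fun x hx => ?_, fun x hx => ?_⟩
      · have hgp : ∀ c, (c = a ∨ c = b) → g.1 (p c) = p (Equiv.swap a b c) := fun c _ => by
          have h := congrArg (dpart hQ hD (Equiv.swap a b c)) hgy
          rw [← sum_dpart hQ hD y, map_sum, map_sum, map_sum, Finset.sum_eq_single c,
            dpart_of_mem hQ hD (hgD c _ (hpD c)), Finset.sum_eq_single (Equiv.swap a b c),
            dpart_of_mem hQ hD (hpD _)] at h
          · exact h
          · intro i _ hi; exact dpart_other hQ hD (Ne.symm hi) (hpD i)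
          · simp
          · intro i _ hi
            exact dpart_other hQ hD (fun e => hi ((Equiv.swap a b).injective e).symm) (hgD i _ (hpD i))
          · simp
        conv_lhs => rw [← sum_dpart hQ hD y]
        conv_rhs => rw [← sum_dpart hQ hD y]
        rw [map_sum, ← Equiv.sum_comp (Equiv.swap a b) (fun i => dpart hQ hD i y)]
        refine Finset.sum_congr rfl fun i _ => ?_
        rw [hsv i _ (dpart_mem hQ hD i y)]
        split_ifs with h
        · exact hgp i h
        · push Not at h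
          rw [Equiv.swap_apply_of_ne_of_ne h.1 h.2]; simp
      · rw [hsv i x hx, if_neg (by tauto)]; simp
      · rw [hsv a x hx, if_pos (Or.inl rfl)]
        simpa using hgD a x hx
      · rw [hsv b x hx, if_pos (Or.inr rfl)]
        simpa using hgD b x hx
    obtain ⟨s, hs1, hsy, hsf, hsm, hsn⟩ := mk m n hmn hm hn
    obtain ⟨g, hg1, hgy, hgf, hgm, hgo⟩ := mk m o hmo hm ho
    have invfix : ∀ {k : orthGroup Q} {x : V}, k.1 x = x → (k⁻¹).1 x = x := fun {k x} h => by
      conv_lhs => rw [← h]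
      rw [orth_inv_apply_self]
    have hcD : s * g * s⁻¹ * g⁻¹ ∈ DStab Q D :=
      Subgroup.mul_mem _ (Subgroup.mul_mem _ (Subgroup.mul_mem _ hs1 hg1) (Subgroup.inv_mem _ hs1))
        (Subgroup.inv_mem _ hg1)
    refine ⟨s * g * s⁻¹ * g⁻¹, ⟨hcD,
      Subgroup.commutator_mem_commutator (Subgroup.mem_top s) (Subgroup.mem_top g)⟩, ?_, ?_,
      {m, n, o}, Finset.card_le_three, fun i hi x hx => ?_⟩
    · simp only [orth_mul_apply, invfix hgy, invfix hsy, hgy, hsy]
    · intro h1
      obtain ⟨x, hx, hx0⟩ := Submodule.exists_mem_ne_zero_of_ne_bot (p := D m) (fun e => by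
        have := hD.dim m; rw [e, finrank_bot] at this; omega)
      -- `g⁻¹` sends `D m` into `D o`
      have hgi : (g⁻¹).1 x ∈ D o := by
        obtain ⟨j, hj⟩ := hg1 o
        obtain ⟨x', hx', hxe⟩ : ∃ x' ∈ D o, g.1 x' = x := by
          have hmap : (D o).map (g.1 : V →ₗ[F] V) = D m := Submodule.eq_of_le_of_finrank_le
            (by rintro _ ⟨x', hx', rfl⟩; exact hgo x' hx')
            (by rw [LinearEquiv.finrank_map_eq, hD.dim, hD.dim])
          rw [← hmap] at hx
          obtain ⟨x', hx', hxe⟩ := hx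
          exact ⟨x', hx', hxe⟩
        rw [← hxe, orth_inv_apply_self]; exact hx'
      have h2 : (s * g * s⁻¹ * g⁻¹).1 x = s.1 x := by
        simp only [orth_mul_apply]
        rw [invfix (hsf o hmo.symm hno.symm _ hgi), orth_apply_inv_self]
      rw [h1, orth_one_apply] at h2
      exact hx0 (hD.nd m x hx fun v hv => hD.perp n m hmn.symm x (h2 ▸ hsm x hx) v hv)
    · simp only [Finset.mem_insert, Finset.mem_singleton, not_or] at hi
      simp only [orth_mul_apply, invfix (hgf i hi.1 hi.2.2 x hx), invfix (hsf i hi.1 hi.2.1 x hx),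
        hgf i hi.1 hi.2.2 x hx, hsf i hi.1 hi.2.1 x hx]
  · -- two non-singular components with perpendiculars of one class
    set N := Finset.univ.filter fun i => Q (p i) ≠ 0 with hN
    have hcard : 2 < N.card := by
      have := Finset.card_filter_add_card_filter_not (s := (Finset.univ : Finset (Fin t)))
        (fun i => Q (p i) = 0)
      rw [Finset.card_univ, Fintype.card_fin] at this
      have hN' : N.card = (Finset.univ.filter fun i => ¬ Q (p i) = 0).card := by rw [hN]
      omega
    choose k hk hk0 hkp using fun i => (exists_perp_vec (hD.nd i) (hD.dim i) (hpD i) (hy i)).imp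
      fun k h => And.intro h.1 (And.intro h.2.1 h.2.2.1)
    have hQk : ∀ i ∈ N, Q (k i) ≠ 0 := fun i hi => perp_nonsing (hD.nd i) (hD.dim i) (hpD i)
      (Finset.mem_filter.mp hi).2 (hk i) (hk0 i) (hkp i)
    obtain ⟨α, -, -, hall⟩ := exists_sqc_cases F
    obtain ⟨m, hm, n, hn, hmn, hc⟩ : ∃ m ∈ N, ∃ n ∈ N, m ≠ n ∧ sqc (Q (k m)) = sqc (Q (k n)) := by
      obtain ⟨a, b, c, ha, hb, hc, hab, hac, hbc⟩ := Finset.two_lt_card_iff.mp hcard
      rcases hall (sqc (Q (k a))) with e1 | e1 <;> rcases hall (sqc (Q (k b))) with e2 | e2 <;>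
        rcases hall (sqc (Q (k c))) with e3 | e3
      all_goals first
        | exact ⟨a, ha, b, hb, hab, e1.trans e2.symm⟩
        | exact ⟨a, ha, c, hc, hac, e1.trans e3.symm⟩
        | exact ⟨b, hb, c, hc, hbc, e2.trans e3.symm⟩
    have hky : ∀ i, polB Q y (k i) = 0 := fun i => by
      rw [← polB_dpart hQ hD i y (hk i), polB_comm]; exact hkp i
    refine ⟨refl Q (k m) * refl Q (k n), refl_pair_mem hQ hD ht hgen (hk m) (hk n)
      ⟨hQk m hm, hQk n hn, hc⟩, ?_, ?_, {m, n}, Finset.card_le_two.trans (by omega),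
      fun i hi x hx => ?_⟩
    · rw [orth_mul_apply, refl_fix (hky n), refl_fix (hky m)]
    · intro h1
      obtain ⟨z, hz, hzk⟩ := ndOn_exists_polB (hD.nd m) (hk m) (hk0 m) 1
      have h2 := congrArg (fun f : orthGroup Q => f.1 z) h1
      simp only [orth_mul_apply, orth_one_apply] at h2
      rw [refl_fix (hD.perp m n hmn z hz _ (hk n)), refl_apply, hzk, mul_one, sub_eq_self,
        smul_eq_zero] at h2
      rcases h2 with e | e
      · exact hQk m hm (inv_eq_zero.mp e)
      · exact hk0 m e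
    · simp only [Finset.mem_insert, Finset.mem_singleton, not_or] at hi
      rw [orth_mul_apply, refl_fix (hD.perp i n hi.2 x hx _ (hk n)),
        refl_fix (hD.perp i m hi.1 x hx _ (hk m))]

omit hgen hHM ht in
/-- The vectors of one value in the members span. -/
lemma span_value {c : F} (hc : c ≠ 0) :
    Submodule.span F {x : V | ∃ i, x ∈ D i ∧ Q x = c} = ⊤ := by
  refine top_le_iff.mp (hD.top ▸ iSup_le fun i x hx => ?_)
  obtain ⟨a, ha, b, hb, hQa, hQb, -, hpar⟩ :=
    exists_rot_pair (Q := Q) (hD.nd i) (hD.dim i) (planeHyp_at hq i) hc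
  have hind : LinearIndependent F ![a, b] := by
    rw [LinearIndependent.pair_iff' (fun e : a = 0 => hc (by rw [← hQa, e, QuadraticMap.map_zero]))]
    exact fun r => Ne.symm (hpar r)
  have hsp : Submodule.span F (Set.range ![a, b]) = D i := Submodule.eq_of_le_of_finrank_le
    (Submodule.span_le.mpr (by rintro _ ⟨m, rfl⟩; fin_cases m <;> simp [ha, hb]))
    (by rw [finrank_span_eq_card hind, hD.dim, Fintype.card_fin])
  rw [← hsp] at hx
  refine Submodule.span_mono ?_ hx
  rintro _ ⟨m, rfl⟩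
  fin_cases m
  · exact ⟨i, ha, hQa⟩
  · exact ⟨i, hb, hQb⟩

/-- The seed. -/
theorem exists_pSeed {g : orthGroup Q} (hg : g ∈ M) (hgD : g ∉ DStab Q D) :
    ∃ z, InW Q D M z ∧ ∀ m, z ∉ D m := by
  classical
  by_cases hside : ∃ i, ∃ v ∈ D i, Q v ≠ 0 ∧ ∃ j, g.1 v ∈ D j
  · obtain ⟨i, v, hv, hQv, j, hj⟩ := hside
    exact seed_of_side hQ hD hq ht hgen hHM hg hgD hv hQv hj
  push Not at hside
  have hconj : ∀ {i j : Fin t} {a b : V}, a ∈ D i → b ∈ D j → Q a ≠ 0 → Q b = Q a →
      refl Q (g.1 a) * refl Q (g.1 b) ∈ M := fun ha hb hQa hQb => by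
    rw [← refl_conj, ← refl_conj, conj_mul]
    exact mul_mem (mul_mem hg (pSide_pair hQ hD ht hgen hHM ha hb (sameCls_of_eq hQa hQb)))
      (inv_mem hg)
  by_cases hzero : ∃ i, ∃ b ∈ D i, Q b ≠ 0 ∧ ∃ l, dpart hQ hD l (g.1 b) = 0
  · obtain ⟨i, b, hb, hQb, l, hl⟩ := hzero
    obtain ⟨j, a, ha, hQa, hal⟩ : ∃ j, ∃ a ∈ D j, Q a = Q b ∧ dpart hQ hD l (g.1 a) ≠ 0 := by
      by_contra hcon
      push Not at hcon
      obtain ⟨w, hw, hw0⟩ := Submodule.exists_mem_ne_zero_of_ne_bot (p := D l) (fun e => by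
        have := hD.dim l; rw [e, finrank_bot] at this; omega)
      refine hw0 ?_
      have hall : ∀ x : V, dpart hQ hD l (g.1 x) = 0 := fun x => by
        have hx : x ∈ Submodule.span F {x : V | ∃ i, x ∈ D i ∧ Q x = Q b} := by
          rw [span_value hQ hD hq hQb]; trivial
        induction hx using Submodule.span_induction with
        | mem y hy => obtain ⟨m, hm, hmQ⟩ := hy; exact hcon m y hm hmQ
        | zero => simp
        | add y z _ _ hy hz => rw [map_add, map_add, hy, hz, add_zero]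
        | smul c y _ hy => rw [map_smul, map_smul, hy, smul_zero]
      have := hall ((g⁻¹).1 w)
      rwa [orth_apply_inv_self, dpart_of_mem hQ hD hw] at this
    exact seed_of_product hQ hD hq ht hgen hHM (hconj ha hb (by rw [hQa]; exact hQb) hQa.symm)
      (by rw [orth_qmap, hQa]; exact hQb) hl hal (hside j a ha (by rw [hQa]; exact hQb))
  push Not at hzero
  let i₀ : Fin t := ⟨0, by omega⟩
  obtain ⟨b, hb, hQb⟩ := exists_value_in (hD.nd i₀) (by rw [hD.dim]) (one_ne_zero (α := F))
  set y := g.1 b with hy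
  obtain ⟨τ, hτ, hτy, hτ1, S, hS, hτS⟩ :=
    exists_tau hQ hD hq ht hgen (fun i => hzero i₀ b hb (by rw [hQb]; exact one_ne_zero) i)
  obtain ⟨j, a, ha, hQa, hmove⟩ : ∃ j, ∃ a ∈ D j, Q a = 1 ∧ τ.1 (g.1 a) ≠ g.1 a := by
    by_contra hcon
    push Not at hcon
    refine hτ1 (orth_ext fun x => ?_)
    rw [orth_one_apply, ← orth_apply_inv_self g x]
    generalize (g⁻¹).1 x = x'
    have hx : x' ∈ Submodule.span F {x : V | ∃ i, x ∈ D i ∧ Q x = (1 : F)} := by
      rw [span_value hQ hD hq one_ne_zero]; trivial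
    induction hx using Submodule.span_induction with
    | mem y hy => obtain ⟨m, hm, hmQ⟩ := hy; exact hcon m y hm hmQ
    | zero => simp
    | add y z _ _ hy hz => rw [map_add, map_add, hy, hz]
    | smul c y _ hy => rw [map_smul, map_smul, hy]
  have hQa0 : Q a ≠ 0 := by rw [hQa]; exact one_ne_zero
  set x := g.1 a with hx
  have hxD : ∀ i, dpart hQ hD i x ≠ 0 := fun i => hzero j a ha hQa0 i
  have hQx : Q x = 1 := by rw [hx, orth_qmap, hQa]
  set x' := τ.1 x with hx'
  have hmem : refl Q x * refl Q x' ∈ M := by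
    have h1 : refl Q x * refl Q y ∈ M := hconj ha hb hQa0 (by rw [hQb, hQa])
    have h2 : refl Q x' * refl Q y ∈ M := by
      have := mul_mem (mul_mem (hHM hτ) h1) (inv_mem (hHM hτ))
      rwa [← conj_mul, refl_conj, refl_conj, hτy, ← hx'] at this
    have := mul_mem h1 (inv_mem h2)
    rwa [mul_inv_rev, refl_inv, refl_inv, mul_assoc, ← mul_assoc (refl Q y), refl_sq, one_mul] at this
  set e := x' - x with he
  have he0 : e ≠ 0 := sub_ne_zero.mpr hmove
  have hout : ∀ i ∉ S, dpart hQ hD i e = 0 := fun i hi => by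
    refine hD.nd i _ (dpart_mem hQ hD i e) fun v hv => ?_
    rw [polB_dpart hQ hD i e hv, he, map_sub, LinearMap.sub_apply, sub_eq_zero, hx',
      ← orth_polB_map τ x v, hτS i hi v hv]
  have hfe : polB Q x e = -Q e := by
    have h : Q (x + e) = Q x := by rw [he, add_sub_cancel, hx', orth_qmap]
    rw [qmap_add] at h
    linear_combination h
  -- three members outside
  obtain ⟨m₁, hm₁, m₂, hm₂, h12⟩ := Finset.one_lt_card.mp
    (show 1 < (Sᶜ).card by rw [Finset.card_compl, Fintype.card_fin]; omega)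
  rw [Finset.mem_compl] at hm₁ hm₂
  obtain ⟨m₃, -, hm₃⟩ := Finset.exists_mem_notMem_of_card_lt_card (s := {m₁, m₂})
    (t := (Finset.univ : Finset (Fin t)))
    (lt_of_le_of_lt Finset.card_le_two (by rw [Finset.card_univ, Fintype.card_fin]; omega))
  simp only [Finset.mem_insert, Finset.mem_singleton, not_or] at hm₃
  have h13 : m₁ ≠ m₃ := fun h => hm₃.1 h.symm
  have h23 : m₂ ≠ m₃ := fun h => hm₃.2 h.symm
  have hinj : Function.Injective ![m₁, m₂, m₃] := by
    intro u v; fin_cases u <;> fin_cases v <;> simp [h12, h13, h23, h12.symm, h13.symm, h23.symm]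
  by_cases hQe : Q e ≠ 0
  · -- pass to a pair with a zero component
    set z := (refl Q x).1 e with hz
    have hze : z = e + Q e • x := by
      rw [hz, refl_apply, polB_comm, hfe, hQx, inv_one, one_mul, neg_smul, sub_neg_eq_add]
    have key : refl Q x * refl Q x' = refl Q z * refl Q e := by
      have hxe : (refl Q e).1 x = x' := by
        rw [refl_apply, hfe, mul_neg, inv_mul_cancel₀ hQe, neg_smul, one_smul, sub_neg_eq_add, he,
          add_sub_cancel]
      rw [hz, ← refl_conj (refl Q x) e, ← hxe, ← refl_conj (refl Q e) x, refl_inv, refl_inv]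
      group
    have hzc : ∀ i ∉ S, dpart hQ hD i z ≠ 0 := fun i hi => by
      rw [hze, map_add, hout i hi, zero_add, map_smul]
      exact smul_ne_zero hQe (hxD i)
    refine seed_of_product hQ hD hq ht hgen hHM (key ▸ hmem) (by rw [hz, orth_qmap]; exact hQe)
      (hout m₁ hm₁) (hzc m₁ hm₁) fun m hm => ?_
    by_cases e1 : m = m₁
    · exact hzc m₂ hm₂ (dpart_other hQ hD (by rw [e1]; exact h12.symm) hm)
    · exact hzc m₁ hm₁ (dpart_other hQ hD (Ne.symm e1) hm)
  push Not at hQe
  have hQx' : Q x' = 1 := by rw [hx', orth_qmap, hQx]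
  have hform : ∀ v, (refl Q x * refl Q x').1 v - v =
      polB Q v e • x - (polB Q v x + polB Q v e) • e := by
    intro v
    rw [show x' = x + e by rw [he, add_sub_cancel], orth_mul_apply, refl_apply (x + e),
      refl_apply x, hQx, show Q (x + e) = 1 by rw [he, add_sub_cancel]; exact hQx']
    simp only [map_sub, map_add, map_smul, LinearMap.sub_apply, LinearMap.add_apply,
      LinearMap.smul_apply, smul_eq_mul, polB_self, polB_comm e x, hfe, hQe, hQx]
    match_scalars <;> ring
  by_cases hn : ∃ n ∉ S, Q (dpart hQ hD n x) ≠ 0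
  · obtain ⟨n, hn, hQn⟩ := hn
    obtain ⟨v, hv, hv0, hvx, -⟩ :=
      exists_perp_vec (hD.nd n) (hD.dim n) (dpart_mem hQ hD n x) (hxD n)
    have hQv := perp_nonsing (hD.nd n) (hD.dim n) (dpart_mem hQ hD n x) hQn hv hv0 hvx
    have hxv : polB Q v x = 0 := by
      rw [polB_comm, ← polB_dpart hQ hD n x hv, polB_comm, hvx]
    have hev : polB Q v e = 0 := by
      rw [polB_comm, ← polB_dpart hQ hD n e hv, hout n hn, map_zero, LinearMap.zero_apply]
    refine seed_of_side hQ hD hq ht hgen hHM hmem ?_ hv hQv (j := n) (by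
      have := hform v
      rw [hxv, hev, zero_smul, add_zero, zero_smul, sub_zero, sub_eq_zero] at this
      rw [this]; exact hv)
    obtain ⟨u₀, hu₀, hu₀x⟩ := exists_value_in (hD.nd m₁) (by rw [hD.dim]) (one_ne_zero (α := F))
    -- an element displaced by `x`
    obtain ⟨u, hue, hux⟩ : ∃ u, polB Q u e = 1 ∧ polB Q u x = -1 := by
      obtain ⟨u₁, hu₁⟩ := exists_polB_eq hQ he0 1
      obtain ⟨u₂, hu₂, hu₂x⟩ := ndOn_exists_polB (hD.nd m₁) (dpart_mem hQ hD m₁ x) (hxD m₁)
        (-1 - polB Q u₁ x)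
      refine ⟨u₁ + u₂, ?_, ?_⟩
      · rw [map_add, LinearMap.add_apply, polB_comm u₁ e, hu₁, polB_comm u₂ e,
          ← polB_dpart hQ hD m₁ e hu₂, hout m₁ hm₁, map_zero, LinearMap.zero_apply, add_zero]
      · rw [map_add, LinearMap.add_apply, polB_comm u₂ x, ← polB_dpart hQ hD m₁ x hu₂,
          polB_comm _ u₂, hu₂x]
        ring
    refine not_DStab_of_three hQ hD (x := x) (w := e) (fun w => ?_) (u := u) ?_ hinj fun l => hxD _
    · rw [hform]
      exact sub_mem (Submodule.smul_mem _ _ (Submodule.subset_span ⟨0, rfl⟩))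
        (Submodule.smul_mem _ _ (Submodule.subset_span ⟨1, rfl⟩))
    · rw [hform, hue, hux, one_smul, neg_add_cancel, zero_smul, sub_zero]
  -- all outside components singular
  push Not at hn
  obtain ⟨ρ, hρ, hρfix, hρl, hρne, hρsing⟩ := exists_rho hQ hD hq ht hgen m₁
  set xl := dpart hQ hD m₁ x with hxl
  have hxlD : xl ∈ D m₁ := dpart_mem hQ hD m₁ x
  have hρrest : ∀ v, ρ.1 v = v - dpart hQ hD m₁ v + ρ.1 (dpart hQ hD m₁ v) := fun v => by
    have hv : v = dpart hQ hD m₁ v + ∑ i ∈ Finset.univ.erase m₁, dpart hQ hD i v := by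
      rw [Finset.add_sum_erase _ (fun i => dpart hQ hD i v) (Finset.mem_univ m₁), sum_dpart hQ hD]
    have hrest : ρ.1 (∑ i ∈ Finset.univ.erase m₁, dpart hQ hD i v) =
        ∑ i ∈ Finset.univ.erase m₁, dpart hQ hD i v := by
      rw [map_sum]
      exact Finset.sum_congr rfl fun i hi =>
        hρfix i (Finset.ne_of_mem_erase hi) _ (dpart_mem hQ hD i v)
    conv_lhs => rw [hv]
    rw [map_add, hrest]
    nth_rewrite 3 [hv]
    abel
  have hρe : ρ.1 e = e := by rw [hρrest, hout m₁ hm₁, map_zero, sub_zero, add_zero]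
  set d := ρ.1 xl - xl with hd
  have hdD : d ∈ D m₁ := sub_mem (hρl _ hxlD) hxlD
  have hρx : ρ.1 x = x + d := by rw [hρrest, hd, ← hxl]; abel
  have hd0 : d ≠ 0 := sub_ne_zero.mpr (hρne _ hxlD (hxD m₁)).1
  have hQxl : Q xl = 0 := hn m₁ hm₁
  have hQd : Q d = 0 := by
    rw [hd, qmap_sub, orth_qmap, hQxl, polB_comm, hρsing xl hxlD hQxl]; ring
  have hde : polB Q d e = 0 := by
    rw [polB_comm, ← polB_dpart hQ hD m₁ e hdD, hout m₁ hm₁, map_zero, LinearMap.zero_apply]
  have hdx : polB Q d x = 0 := by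
    have h := orth_qmap ρ x
    rw [hρx, qmap_add, hQd] at h
    rw [polB_comm]
    linear_combination h
  set h1 := refl Q x * refl Q x' with hh1
  set h2 := ρ * h1 * ρ⁻¹ * h1⁻¹ with hh2
  have hh2M : h2 ∈ M := mul_mem (mul_mem (mul_mem (hHM hρ) hmem) (inv_mem (hHM hρ))) (inv_mem hmem)
  have hfix1 : h1.1 e = e ∧ h1.1 d = d := by
    constructor
    · have := hform e
      rwa [polB_self, hQe, mul_zero, polB_comm e x, hfe, hQe, neg_zero, add_zero, zero_smul,
        zero_smul, sub_zero, sub_eq_zero] at this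
    · have := hform d
      rwa [hde, hdx, add_zero, zero_smul, zero_smul, sub_zero, sub_eq_zero] at this
  have h2form : ∀ v, h2.1 v - v = polB Q v e • d - polB Q v d • e := by
    intro v
    set w := (h1⁻¹).1 v with hw
    have hv : v = h1.1 w := by rw [hw, orth_apply_inv_self]
    have he' : polB Q w e = polB Q v e := by rw [hv, ← hfix1.1, orth_polB_map, hfix1.1]
    have hd' : polB Q w d = polB Q v d := by rw [hv, ← hfix1.2, orth_polB_map, hfix1.2]
    have hk : (ρ * h1 * ρ⁻¹).1 w - w = polB Q w e • (x + d) - (polB Q w (x + d) + polB Q w e) • e := by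
      have h := congrArg ρ.1 (hform ((ρ⁻¹).1 w))
      rw [map_sub, orth_apply_inv_self, map_sub, map_smul, map_smul, hρx, hρe] at h
      have e1 : polB Q ((ρ⁻¹).1 w) e = polB Q w e := by
        rw [← orth_polB_map ρ, orth_apply_inv_self, hρe]
      have e2 : polB Q ((ρ⁻¹).1 w) x = polB Q w (x + d) := by
        rw [← orth_polB_map ρ, orth_apply_inv_self, hρx]
      rw [e1, e2] at h
      simpa [orth_mul_apply] using h
    have hk' := hform w
    rw [← hv] at hk'
    have : h2.1 v = (ρ * h1 * ρ⁻¹).1 w := by rw [hh2, orth_mul_apply, hw]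
    rw [this, show (ρ * h1 * ρ⁻¹).1 w - v = ((ρ * h1 * ρ⁻¹).1 w - w) - (v - w) by abel, hk, hk',
      map_add, hd', he']
    module
  obtain ⟨v, hv, hQv⟩ := exists_value_in (hD.nd m₂) (by rw [hD.dim]) (one_ne_zero (α := F))
  have hve : polB Q v e = 0 := by
    rw [polB_comm, ← polB_dpart hQ hD m₂ e hv, hout m₂ hm₂, map_zero, LinearMap.zero_apply]
  have hvd : polB Q v d = 0 := hD.perp m₂ m₁ h12.symm v hv d hdD
  refine seed_of_side hQ hD hq ht hgen hHM hh2M ?_ hv (by rw [hQv]; exact one_ne_zero) (j := m₂) (by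
    have := h2form v
    rw [hve, hvd, zero_smul, zero_smul, sub_zero, sub_eq_zero] at this
    rw [this]; exact hv)
  obtain ⟨m, hem⟩ : ∃ m, dpart hQ hD m e ≠ 0 := by
    by_contra hcon
    push Not at hcon
    exact he0 (by rw [← sum_dpart hQ hD e]; exact Finset.sum_eq_zero fun i _ => hcon i)
  have hmm : m ≠ m₁ := fun h => hem (h ▸ hout m₁ hm₁)
  obtain ⟨u, hu, hue⟩ := ndOn_exists_polB (hD.nd m) (dpart_mem hQ hD m e) hem 1
  refine not_DStab_of_sing hQ hD (w := e) hdD hd0 hQd (fun he' => he0 ?_) (fun w => ?_) (u := u) ?_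
  · rw [← dpart_of_mem hQ hD he']; exact hout m₁ hm₁
  · rw [h2form]
    exact sub_mem (Submodule.smul_mem _ _ (Submodule.subset_span ⟨0, rfl⟩))
      (Submodule.smul_mem _ _ (Submodule.subset_span ⟨1, rfl⟩))
  · rw [h2form, hD.perp m m₁ hmm u hu d hdD, zero_smul, sub_zero,
      show polB Q u e = 1 by rw [polB_comm, ← polB_dpart hQ hD m e hu, polB_comm, hue], one_smul]

end H45
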