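import Mathlib

/-!
# Sumsets of large subsets of a finite field
-/

set_option autoImplicit false

open scoped Pointwise

namespace H45

variable {F : Type*} [Field F] [Fintype F] [DecidableEq F]

lemma exists_add_of_card {A B : Finset F} (h : Fintype.card F < A.card + B.card) (x : F) :
    ∃ a ∈ A, ∃ b ∈ B, a + b = x := by
  have h1 : (A.image fun a => x - a).card = A.card :=
    Finset.card_image_of_injective _ fun a b => by simp
  have h2 := Finset.card_union_add_card_inter (A.image fun a => x - a) B
  have h3 : ((A.image fun a => x - a) ∪ B).card ≤ Fintype.card F := Finset.card_le_univ _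
  obtain ⟨b, hb⟩ : ((A.image fun a => x - a) ∩ B).Nonempty := by
    rw [← Finset.card_pos]; omega
  obtain ⟨hb1, hb2⟩ := Finset.mem_inter.mp hb
  obtain ⟨a, ha, rfl⟩ := Finset.mem_image.mp hb1
  exact ⟨a, ha, _, hb2, by ring⟩

/-- Half-size sets in a field of odd order grow by at least two. -/
lemma near_double {a : ℕ} (ha : 3 ≤ a) (hq : Fintype.card F = 2 * a + 1) {B C : Finset F}
    (hB : B.card = a) (hC : C.card = a) : a + 2 ≤ (B + C).card := by
  by_contra hcon
  push Not at hcon
  -- differences of one summand are almost periods of the other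
  have per : ∀ {X Y : Finset F}, X.card = a → (X + Y).card ≤ a + 1 → ∀ y ∈ Y, ∀ y' ∈ Y,
      a - 1 ≤ (X ∩ X.image (· + (y' - y))).card := by
    intro X Y hX hXY y hy y' hy'
    have e1 : (X.image (· + y)) ∩ (X.image (· + y')) = (X ∩ X.image (· + (y' - y))).image (· + y) := by
      rw [Finset.image_inter _ _ (add_left_injective y), Finset.image_image]
      congr 1
      refine Finset.image_congr fun x _ => ?_
      simp [add_assoc]
    have h1 := Finset.card_union_add_card_inter (X.image (· + y)) (X.image (· + y'))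
    have h2 : (X.image (· + y) ∪ X.image (· + y')).card ≤ (X + Y).card := by
      refine Finset.card_le_card (Finset.union_subset ?_ ?_) <;>
      · intro z hz
        obtain ⟨x, hx, rfl⟩ := Finset.mem_image.mp hz
        exact Finset.add_mem_add hx (by assumption)
    rw [e1, Finset.card_image_of_injective _ (add_left_injective y),
      Finset.card_image_of_injective _ (add_left_injective y),
      Finset.card_image_of_injective _ (add_left_injective y'), hX] at h1
    omega
  have hBC := per hB (Nat.le_of_lt_succ hcon)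
  have hCB := per (X := C) (Y := B) hC (by rw [add_comm]; omega)
  -- the set of almost periods is closed under addition
  set D := C - C with hD
  have hdiff : ∀ d ∈ D, a - 1 ≤ (B ∩ B.image (· + d)).card := by
    intro d hd
    obtain ⟨y', hy', y, hy, rfl⟩ := Finset.mem_sub.mp hd
    exact hBC y hy y' hy'
  have hBD : ∀ {d : F}, (B ∩ B.image (· + d)).Nonempty → d ∈ D := by
    rintro d ⟨x, hx⟩
    obtain ⟨hx1, hx2⟩ := Finset.mem_inter.mp hx
    obtain ⟨x', hx', rfl⟩ := Finset.mem_image.mp hx2
    have h := hCB x' hx' _ hx1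
    rw [add_sub_cancel_left] at h
    obtain ⟨z, hz⟩ : (C ∩ C.image (· + d)).Nonempty := by
      rw [← Finset.card_pos]; omega
    obtain ⟨hz1, hz2⟩ := Finset.mem_inter.mp hz
    obtain ⟨z', hz', rfl⟩ := Finset.mem_image.mp hz2
    exact Finset.mem_sub.mpr ⟨_, hz1, z', hz', add_sub_cancel_left z' d⟩
  have hadd : ∀ d ∈ D, ∀ d' ∈ D, d + d' ∈ D := by
    intro d hd d' hd'
    refine hBD ?_
    have h1 := hdiff d' hd'
    have h2 := hdiff d hd
    have e : (B.image (· + d')) ∩ ((B.image (· + d)).image (· + d')) =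
        (B ∩ B.image (· + d)).image (· + d') := by
      rw [Finset.image_inter _ _ (add_left_injective d')]
    have h3 := Finset.card_union_add_card_inter (B ∩ B.image (· + d'))
      ((B ∩ B.image (· + d)).image (· + d'))
    rw [Finset.card_image_of_injective _ (add_left_injective d')] at h3
    have h4 : ((B ∩ B.image (· + d')) ∪ (B ∩ B.image (· + d)).image (· + d')).card ≤ a := by
      rw [← hB, ← Finset.card_image_of_injective B (add_left_injective d')]
      refine Finset.card_le_card (Finset.union_subset Finset.inter_subset_right ?_)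
      exact Finset.image_subset_image Finset.inter_subset_left
    obtain ⟨x, hx⟩ : ((B ∩ B.image (· + d')) ∩
        (B ∩ B.image (· + d)).image (· + d')).Nonempty := by
      rw [← Finset.card_pos]; omega
    obtain ⟨hx1, hx2⟩ := Finset.mem_inter.mp hx
    rw [← e] at hx2
    refine ⟨x, Finset.mem_inter.mpr ⟨(Finset.mem_inter.mp hx1).1, ?_⟩⟩
    obtain ⟨y, hy, rfl⟩ := Finset.mem_image.mp (Finset.mem_inter.mp hx2).2
    obtain ⟨y', hy', rfl⟩ := Finset.mem_image.mp hy
    exact Finset.mem_image.mpr ⟨y', hy', by ring⟩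
  obtain ⟨c₀, hc₀⟩ : C.Nonempty := by rw [← Finset.card_pos]; omega
  have hzero : (0 : F) ∈ D := Finset.mem_sub.mpr ⟨c₀, hc₀, c₀, hc₀, sub_self c₀⟩
  let S : AddSubgroup F :=
    { carrier := D
      add_mem' := fun {x y} hx hy => hadd x hx y hy
      zero_mem' := hzero
      neg_mem' := fun {x} hx => by
        obtain ⟨u, hu, v, hv, rfl⟩ := Finset.mem_sub.mp hx
        exact Finset.mem_sub.mpr ⟨v, hv, u, hu, (neg_sub u v).symm⟩ }
  have hS : Nat.card S = D.card := by
    change Nat.card (D : Set F) = D.card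
    simp
  have hDa : a ≤ D.card := by
    rw [← hC, ← Finset.card_image_of_injective C (sub_left_injective (b := c₀))]
    refine Finset.card_le_card fun x hx => ?_
    obtain ⟨y, hy, rfl⟩ := Finset.mem_image.mp hx
    exact Finset.mem_sub.mpr ⟨y, hy, c₀, hc₀, rfl⟩
  obtain ⟨r, hr⟩ := AddSubgroup.card_addSubgroup_dvd_card S
  rw [Nat.card_eq_fintype_card, hS, hq] at hr
  have hr1 : r = 1 := by
    rcases Nat.lt_or_ge r 2 with h | h
    · rcases Nat.eq_zero_or_pos r with e | e
      · rw [e, mul_zero] at hr; omega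
      · omega
    · exfalso
      by_cases h2 : r = 2
      · subst h2; omega
      · have : D.card * 3 ≤ D.card * r := Nat.mul_le_mul_left _ (by omega)
        omega
  rw [hr1, mul_one] at hr
  have hDuniv : D = Finset.univ := Finset.eq_univ_of_card D (by omega)
  have hsum : ∑ d : F, (B ∩ B.image (· + d)).card ≤ a * a := by
    rw [← hB, ← Finset.card_product, Finset.card_eq_sum_card_fiberwise
      (s := B ×ˢ B) (f := fun p : F × F => p.1 - p.2) (t := Finset.univ) (fun _ _ => Finset.mem_univ _)]
    refine Finset.sum_le_sum fun d _ => ?_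
    refine Finset.card_le_card_of_injOn (fun x => (x, x - d)) (fun x hx => ?_)
      (fun x _ y _ h => congrArg Prod.fst h)
    obtain ⟨hx1, hx2⟩ := Finset.mem_inter.mp hx
    obtain ⟨y, hy, rfl⟩ := Finset.mem_image.mp hx2
    simp [hx1, hy]
  have hlow : Fintype.card F * (a - 1) ≤ ∑ d : F, (B ∩ B.image (· + d)).card := by
    rw [← Finset.card_univ, ← smul_eq_mul, ← Finset.sum_const]
    exact Finset.sum_le_sum fun d _ => hdiff d (by rw [hDuniv]; exact Finset.mem_univ d)
  obtain ⟨b, rfl⟩ : ∃ b, a = b + 1 := ⟨a - 1, by omega⟩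
  have := hlow.trans hsum
  rw [hq, Nat.add_sub_cancel] at this
  nlinarith

lemma sum_card_bound {a : ℕ} (hq : Fintype.card F < 2 * a ∨ (Fintype.card F = 2 * a + 1 ∧ 3 ≤ a))
    {B C : Finset F} (hB : a ≤ B.card) (hC : a ≤ C.card) :
    Fintype.card F < 2 * (B + C).card ∧ Fintype.card F < (B + C).card + a := by
  rcases hq with hq | ⟨hq, ha⟩
  · have hCne : C.Nonempty := by rw [← Finset.card_pos]; omega
    have := Finset.card_le_card_add_right (s := B) hCne
    omega
  · obtain ⟨B', hB', hBc⟩ := Finset.exists_subset_card_eq hB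
    obtain ⟨C', hC', hCc⟩ := Finset.exists_subset_card_eq hC
    have h1 := near_double ha hq hBc hCc
    have h2 := Finset.card_le_card (Finset.add_subset_add hB' hC')
    omega

/-- Among seven large sets, six represent a value with an even number of marked terms. -/
lemma seven_even {a : ℕ} (hq : Fintype.card F < 2 * a ∨ (Fintype.card F = 2 * a + 1 ∧ 3 ≤ a))
    (h2 : (2 : F) ≠ 0) (χ : F → Bool) (A : Fin 7 → Finset F) (hA : ∀ i, a ≤ (A i).card) (γ : F) :
    ∃ e : Fin 6 → Fin 7, Function.Injective e ∧ ∃ x : Fin 6 → F, (∀ l, x l ∈ A (e l)) ∧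
      x 0 + x 1 + x 2 + x 3 + x 4 + x 5 = γ ∧
      (χ (x 0) ^^ χ (x 1) ^^ χ (x 2) ^^ χ (x 3) ^^ χ (x 4) ^^ χ (x 5)) = false := by
  -- half of the value in every triple
  have hcover : ∀ T : Fin 3 → Fin 7, ∃ x : Fin 3 → F, (∀ l, x l ∈ A (T l)) ∧
      x 0 + x 1 + x 2 = γ / 2 := by
    intro T
    obtain ⟨-, hS⟩ := sum_card_bound hq (hA (T 1)) (hA (T 2))
    obtain ⟨u, hu, s, hs, hus⟩ := exists_add_of_card (A := A (T 0)) (B := A (T 1) + A (T 2))
      (by have := hA (T 0); omega) (γ / 2)
    obtain ⟨v, hv, w, hw, rfl⟩ := Finset.mem_add.mp hs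
    refine ⟨![u, v, w], fun l => ?_, by simpa [add_assoc] using hus⟩
    fin_cases l <;> simpa
  choose x hx hsum using hcover
  let par : (Fin 3 → Fin 7) → Bool := fun T => χ (x T 0) ^^ χ (x T 1) ^^ χ (x T 2)
  suffices h : ∃ T T' : Fin 3 → Fin 7, Function.Injective (Fin.append T T') ∧ par T = par T' by
    obtain ⟨T, T', hinj, hpar⟩ := h
    refine ⟨Fin.append T T', hinj, ![x T 0, x T 1, x T 2, x T' 0, x T' 1, x T' 2], fun l => ?_,
      ?_, ?_⟩
    · fin_cases l
      exacts [hx T 0, hx T 1, hx T 2, hx T' 0, hx T' 1, hx T' 2]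
    · have e1 := hsum T
      have e2 := hsum T'
      simp
      rw [eq_div_iff h2] at e1 e2
      refine mul_right_cancel₀ h2 ?_
      linear_combination e1 + e2
    · simp only [par] at hpar
      simp
      revert hpar
      cases χ (x T 0) <;> cases χ (x T 1) <;> cases χ (x T 2) <;> cases χ (x T' 0) <;>
        cases χ (x T' 1) <;> cases χ (x T' 2) <;> decide
  -- an odd cycle of disjoint triples
  let C : Fin 7 → (Fin 3 → Fin 7) := fun i l => 3 * i + ⟨l.1, by omega⟩
  have hdisj : ∀ i, Function.Injective (Fin.append (C i) (C (i + 1))) := by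
    intro i; fin_cases i <;> decide
  by_contra hcon
  push Not at hcon
  have hflip : ∀ i, par (C (i + 1)) = !(par (C i)) := fun i => by
    have := hcon _ _ (hdisj i)
    revert this
    cases par (C i) <;> cases par (C (i + 1)) <;> decide
  have h0 := hflip 0
  have h1 := hflip 1
  have h2' := hflip 2
  have h3 := hflip 3
  have h4 := hflip 4
  have h5 := hflip 5
  have h6 := hflip 6
  simp only [show (0 : Fin 7) + 1 = 1 from rfl, show (1 : Fin 7) + 1 = 2 from rfl,
    show (2 : Fin 7) + 1 = 3 from rfl, show (3 : Fin 7) + 1 = 4 from rfl,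
    show (4 : Fin 7) + 1 = 5 from rfl, show (5 : Fin 7) + 1 = 6 from rfl,
    show (6 : Fin 7) + 1 = 0 from rfl] at h0 h1 h2' h3 h4 h5 h6
  rw [h5, h4, h3, h2', h1, h0] at h6
  revert h6
  cases par (C 0) <;> decide

omit [DecidableEq F] in
/-- Outside the image of `t ↦ t + t²`, two elements sum to an element of the image. -/
lemma artin_add (h2 : (2 : F) = 0) {u v : F} (hu : ∀ s : F, s + s * s ≠ u)
    (hv : ∀ s : F, s + s * s ≠ v) : ∃ s : F, s + s * s = u + v := by
  classical
  let φ : F →+ F :=
    { toFun := fun t => t + t * t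
      map_zero' := by simp
      map_add' := fun x y => by linear_combination (x * y) * h2 }
  have hker : ∀ t, φ t = 0 ↔ t = 0 ∨ t = 1 := fun t => by
    have : φ t = t * (t - 1) := by
      change t + t * t = t * (t - 1)
      linear_combination t * h2
    rw [this, mul_eq_zero, sub_eq_zero]
  suffices hindex : ∃ s, φ s = u + v from hindex
  have hu : ∀ s, φ s ≠ u := hu
  have hv : ∀ s, φ s ≠ v := hv
  by_contra hcon
  push Not at hcon
  let f : Fin 3 × F → F := fun p => φ p.2 + ![0, u, v] p.1
  have hcard : Fintype.card (Fin 3 × F) ≤ 2 * (Finset.univ.image f).card := by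
    rw [← Finset.card_univ]
    refine Finset.card_le_mul_card_image _ 2 fun w hw => ?_
    by_contra hf
    push Not at hf
    obtain ⟨a, b, d, ha, hb, hd, hab, had, hbd⟩ := Finset.two_lt_card_iff.mp hf
    simp only [Finset.mem_filter, Finset.mem_univ, true_and, f] at ha hb hd
    have hfst : ∀ p r : Fin 3 × F, φ p.2 + ![0, u, v] p.1 = φ r.2 + ![0, u, v] r.1 → p.1 = r.1 := by
      rintro ⟨i, t⟩ ⟨j, r⟩ he
      have e : φ (t - r) = ![0, u, v] j - ![0, u, v] i := by
        rw [map_sub]; linear_combination he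
      have hn : ∀ z : F, -z = z := fun z => by linear_combination -z * h2
      fin_cases i <;> fin_cases j <;> simp [hn, sub_eq_add_neg, -map_add, -map_neg] at e ⊢
      all_goals first
        | exact hu _ e | exact hv _ e | exact hcon _ e | exact hcon _ (e.trans (add_comm _ _))
    have hsnd : ∀ p r : Fin 3 × F, φ p.2 + ![0, u, v] p.1 = φ r.2 + ![0, u, v] r.1 → p ≠ r →
        r.2 = p.2 + 1 := by
      intro p r he hne
      have h1 := hfst p r he
      rw [h1] at he
      have h2' : φ (r.2 - p.2) = 0 := by rw [map_sub, sub_eq_zero]; exact (add_right_cancel he).symm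
      rcases (hker _).mp h2' with e | e
      · exact absurd (Prod.ext h1 (sub_eq_zero.mp e).symm) hne
      · linear_combination e
    exact hbd (Prod.ext ((hfst a b (ha.trans hb.symm)).symm.trans (hfst a d (ha.trans hd.symm)))
      ((hsnd a b (ha.trans hb.symm) hab).trans (hsnd a d (ha.trans hd.symm) had).symm))
  have := hcard.trans (Nat.mul_le_mul_left 2 (Finset.card_le_univ _))
  rw [Fintype.card_prod, Fintype.card_fin] at this
  have := Fintype.card_pos (α := F)
  omega

omit [DecidableEq F] in
/-- A scalar preserving the image of `t ↦ t + t²` is one. -/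
lemma artin_scale {c : F} (hc : c ≠ 0) (h2 : (2 : F) = 0)
    (h : ∀ t : F, ∃ s : F, c * (t + t * t) = s + s * s) : c = 1 := by
  classical
  let φ : F →+ F :=
    { toFun := fun t => t + t * t
      map_zero' := by simp
      map_add' := fun x y => by linear_combination (x * y) * h2 }
  have hker : ∀ t, φ t = 0 ↔ t = 0 ∨ t = 1 := fun t => by
    have : φ t = t * (t - 1) := by
      change t + t * t = t * (t - 1)
      linear_combination t * h2
    rw [this, mul_eq_zero, sub_eq_zero]
  obtain ⟨y, hy⟩ : ∃ y, ∀ s, φ s ≠ y := by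
    by_contra hcon
    push Not at hcon
    have := (Finite.injective_iff_surjective (f := φ)).mpr (fun y => hcon y)
      ((hker 0).mpr (Or.inl rfl) |>.trans ((hker 1).mpr (Or.inr rfl)).symm)
    exact zero_ne_one this
  have hindex : ∀ u v : F, (∀ s, φ s ≠ u) → (∀ s, φ s ≠ v) → ∃ s, φ s = u + v :=
    fun u v hu hv => artin_add h2 hu hv
  by_contra hc1
  have hd : c + 1 ≠ 0 := fun e => hc1 (by linear_combination e - h2)
  -- a scalar preserving the image preserves the complement
  have hout : ∀ d : F, d ≠ 0 → (∀ t, ∃ s, d * φ t = φ s) → ∀ u, (∀ s, φ s ≠ u) →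
      ∀ s, φ s ≠ d * u := by
    intro d hd0 hd u hu s hs
    have hinj : Set.InjOn (fun x => d * x) (Finset.univ.image φ : Set F) :=
      (mul_right_injective₀ hd0).injOn
    have himg : (Finset.univ.image φ).image (fun x => d * x) = Finset.univ.image φ := by
      refine Finset.eq_of_subset_of_card_le (fun x hx => ?_) (le_of_eq ?_)
      · obtain ⟨_, ht, rfl⟩ := Finset.mem_image.mp hx
        obtain ⟨t, -, rfl⟩ := Finset.mem_image.mp ht
        obtain ⟨r, hr⟩ := hd t
        exact Finset.mem_image.mpr ⟨r, Finset.mem_univ _, hr.symm⟩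
      · rw [Finset.card_image_of_injOn hinj]
    have : d * u ∈ Finset.univ.image φ := Finset.mem_image.mpr ⟨s, Finset.mem_univ _, hs⟩
    rw [← himg] at this
    obtain ⟨_, ht, e⟩ := Finset.mem_image.mp this
    obtain ⟨t, -, rfl⟩ := Finset.mem_image.mp ht
    exact hu t (mul_left_cancel₀ hd0 e)
  have hcy := hout c hc h y hy
  obtain ⟨s, hs⟩ := hindex (c * y) y hcy hy
  refine hout (c + 1) hd (fun t => ?_) y hy s (hs.trans (by ring))
  obtain ⟨r, hr⟩ := h t
  exact ⟨r + t, by rw [add_mul, one_mul, map_add]; exact congrArg (· + φ t) hr⟩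

omit [DecidableEq F] in
/-- Two different scalings of the image meet in at most a quarter of the field. -/
lemma artin_inter (h2 : (2 : F) = 0) {c : F} (hc0 : c ≠ 0) (hc1 : c ≠ 1) (S : Finset F)
    (hS : ∀ x ∈ S, (∃ s : F, s + s * s = x) ∧ ∃ s : F, s + s * s = c * x) :
    4 * S.card ≤ Fintype.card F := by
  classical
  let K : Finset F := Finset.univ.filter fun x => ∃ s : F, s + s * s = x
  have hadd : ∀ {x y : F}, (∃ s : F, s + s * s = x) → (∃ s : F, s + s * s = y) →
      ∃ s : F, s + s * s = x + y := by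
    rintro x y ⟨s, rfl⟩ ⟨r, rfl⟩
    exact ⟨s + r, by linear_combination (s * r) * h2⟩
  obtain ⟨x₀, hx₀, hcx₀⟩ : ∃ x₀, (∃ s : F, s + s * s = x₀) ∧ ∀ s : F, s + s * s ≠ c * x₀ := by
    by_contra hcon
    push Not at hcon
    exact hc1 (artin_scale hc0 h2 fun t => by
      obtain ⟨s, hs⟩ := hcon _ ⟨t, rfl⟩
      exact ⟨s, hs.symm⟩)
  have h1 : 2 * S.card ≤ K.card := by
    have hd : Disjoint S (S.image (· + x₀)) := by
      rw [Finset.disjoint_left]
      intro x hx hx'
      obtain ⟨y, hy, rfl⟩ := Finset.mem_image.mp hx'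
      obtain ⟨s, hs⟩ := hadd (hS _ hx).2 (hS _ hy).2
      exact hcx₀ s (hs.trans (by linear_combination (c * y) * h2))
    have := Finset.card_le_card (s := S ∪ S.image (· + x₀)) (t := K) (Finset.union_subset
      (fun x hx => Finset.mem_filter.mpr ⟨Finset.mem_univ _, (hS x hx).1⟩) (fun x hx => by
        obtain ⟨y, hy, rfl⟩ := Finset.mem_image.mp hx
        exact Finset.mem_filter.mpr ⟨Finset.mem_univ _, hadd (hS y hy).1 hx₀⟩))
    rw [Finset.card_union_of_disjoint hd,
      Finset.card_image_of_injective _ (add_left_injective x₀)] at this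
    omega
  have h3 : 2 * K.card ≤ Fintype.card F := by
    have hd : Disjoint K (K.image (· + c * x₀)) := by
      rw [Finset.disjoint_left]
      intro x hx hx'
      obtain ⟨y, hy, rfl⟩ := Finset.mem_image.mp hx'
      obtain ⟨s, hs⟩ := hadd (Finset.mem_filter.mp hx).2 (Finset.mem_filter.mp hy).2
      exact hcx₀ s (hs.trans (by linear_combination y * h2))
    have := Finset.card_le_univ (K ∪ K.image (· + c * x₀))
    rw [Finset.card_union_of_disjoint hd,
      Finset.card_image_of_injective _ (add_left_injective (c * x₀))] at this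
    omega
  omega

end H45
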