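import Mathlib
import Cfsg.Agent.H45.PlaneSeed
import Cfsg.Agent.H45.SumsetField
import Cfsg.Agent.H45.SmallForms

/-!
# Decompositions into planes: from a mixed vector of the block to one with two components
-/

set_option autoImplicit false
set_option linter.unusedSectionVars false

namespace H45

open H43

variable {F : Type*} [Field F] [Fintype F] {V : Type*} [AddCommGroup V] [Module F V]
  [FiniteDimensional F V] {Q : QuadraticForm F V}

section plane

variable {U : Submodule F V} (hU : NdOn Q U) (h2d : Module.finrank F U = 2)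

include hU h2d

lemma pVal_sing {p : V} (hp : p ∈ U) (hp0 : p ≠ 0) (hQp : Q p = 0) (a : F) : a ∈ pVal Q U p := by
  obtain ⟨w, hw, hwp⟩ := ndOn_exists_polB hU hp hp0 1
  refine mem_pVal.mpr ⟨w + (a - Q w) • p, add_mem hw (U.smul_mem _ hp), ?_, ?_⟩
  · rw [map_add, map_smul, LinearMap.add_apply, LinearMap.smul_apply, polB_self, hQp, hwp]; simp
  · rw [qmap_add_smul, hQp, hwp]; ring

lemma exists_sing_pair_plane (hplus : ∃ c ∈ U, c ≠ 0 ∧ Q c = 0) {p : V} (hp : p ∈ U) (hp0 : p ≠ 0)
    (φ : F) : ∃ s ∈ U, Q s = 0 ∧ polB Q s p = φ := by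
  obtain ⟨c, hc, hc0, hQc⟩ := hplus
  obtain ⟨e, he, e', he', hpair, hspan⟩ := exists_plane_basis (Q := Q) hU h2d hc hc0 hQc
  obtain ⟨α, β, rfl⟩ := hspan p hp
  by_cases hβ : β = 0
  · have hα : α ≠ 0 := fun h => hp0 (by simp [h, hβ])
    refine ⟨(φ / α) • e', U.smul_mem _ he', by rw [qmap_smul, hpair.right, mul_zero], ?_⟩
    simp [hβ, hpair.symm.pair]
    exact mul_div_cancel₀ _ hα
  · refine ⟨(φ / β) • e, U.smul_mem _ he, by rw [qmap_smul, hpair.left, mul_zero], ?_⟩
    simp [hpair.pair, polB_self, hpair.left, hβ]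

end plane

variable {t : ℕ} {D : Fin t → Submodule F V}

/-- All members have non-zero singular vectors. -/
def PlanePlus (Q : QuadraticForm F V) (D : Fin t → Submodule F V) : Prop :=
  ∀ i, ∃ c ∈ D i, c ≠ 0 ∧ Q c = 0

/-- No member has a non-zero singular vector. -/
def PlaneMinus (Q : QuadraticForm F V) (D : Fin t → Submodule F V) : Prop :=
  ∀ i, ∀ x ∈ D i, Q x = 0 → x = 0

variable (hQ : (polB Q).Nondegenerate) (hD : OD Q D 2) (hq : PlaneHyp Q D)

include hD hq

lemma plane_type : (PlanePlus Q D ∧ 7 ≤ Fintype.card F) ∨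
    (PlaneMinus Q D ∧ Fintype.card F ≠ 3) := by
  by_cases hm : PlaneMinus Q D
  · rcases hq with h | h
    · exact Or.inr ⟨hm, by omega⟩
    · exact Or.inr ⟨hm, h.2⟩
  · refine Or.inl ⟨?_, hq.resolve_right fun h => hm h.1⟩
    simp only [PlaneMinus, not_forall] at hm
    obtain ⟨i, x, hx, hQx, hx0⟩ := hm
    intro j
    obtain ⟨φ, hφ⟩ := hD.iso i j
    refine ⟨φ ⟨x, hx⟩, (φ ⟨x, hx⟩).2, fun h => hx0 ?_, by rw [hφ]; exact hQx⟩
    have : φ ⟨x, hx⟩ = 0 := Subtype.ext h
    rw [LinearEquiv.map_eq_zero_iff] at this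
    exact congrArg Subtype.val this

variable (ht : 5 ≤ t) (hgen : ReflGenerates F V) {M : Subgroup (orthGroup Q)}
  (hHM : DStab Q D ⊓ commutator (orthGroup Q) ≤ M)

/-- A vector kept in the block up to a twisting reflection of the other class. -/
def InWOdd (Q : QuadraticForm F V) (D : Fin t → Submodule F V) (M : Subgroup (orthGroup Q))
    (γ : F) (p : Bool) (u : V) : Prop :=
  Q u = γ ∧ if p then ∀ i, ∀ n ∈ D i, Q n ≠ 0 → sqc (Q n) ≠ sqc γ → InW Q D M ((refl Q n).1 u)
    else InW Q D M u

include hQ ht hgen hHM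

lemma inWOdd_step {γ : F} (hγ : γ ≠ 0) {p : Bool} {u : V} (hu : InWOdd Q D M γ p u) {j : Fin t}
    {a : V} (ha : a ∈ D j) (hQa : Q a ≠ 0) {c : Bool} (hc : c = true ↔ sqc (Q a) ≠ sqc γ) :
    InWOdd Q D M γ (p ^^ c) ((refl Q a).1 u) := by
  obtain ⟨α, -, -, hall⟩ := exists_sqc_cases F
  have hsame : ∀ {x y : F}, sqc x ≠ sqc γ → sqc y ≠ sqc γ → sqc x = sqc y := by
    intro x y hx hy
    rcases hall (sqc x) with e1 | e1 <;> rcases hall (sqc y) with e2 | e2 <;>
      rcases hall (sqc γ) with e3 | e3 <;> simp_all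
  have hmap : ∀ {i l : Fin t} {n b : V}, n ∈ D i → b ∈ D l → (refl Q n).1 b ∈ D l := by
    intro i l n b hn hb
    by_cases hil : l = i
    · subst hil; rw [refl_apply]; exact sub_mem hb ((D l).smul_mem _ hn)
    · rw [refl_fix (hD.perp l i hil b hb n hn)]; exact hb
  refine ⟨by rw [orth_qmap]; exact hu.1, ?_⟩
  have hu2 := hu.2
  cases p <;> cases c <;> simp only [Bool.false_bne, Bool.true_bne, Bool.not_false, Bool.not_true,
    Bool.bne_false, Bool.false_eq_true, if_false, if_true, false_iff, ne_eq, not_not] at hu2 hc ⊢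
  · exact pInW_refl_side hQ hD ht hgen hHM hu2 ha ⟨by rw [hu.1]; exact hγ, hQa, by rw [hu.1, hc]⟩
  · intro i n hn hQn hcn
    have := pInW_stab hQ hD ht hgen hHM (refl_pair_mem hQ hD ht hgen hn ha
      ⟨hQn, hQa, hsame hcn (hc.mp trivial)⟩) hu2
    rwa [orth_mul_apply] at this
  · intro i n hn hQn hcn
    have h := pInW_refl_side hQ hD ht hgen hHM (hu2 i n hn hQn hcn) (hmap hn ha)
      (w := (refl Q n).1 a) ⟨by rw [orth_qmap, hu.1]; exact hγ, by rw [orth_qmap]; exact hQa,
        by rw [orth_qmap, hu.1, orth_qmap, hc]⟩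
    rwa [← refl_conj, refl_inv, ← orth_mul_apply, mul_assoc, refl_sq, mul_one,
      orth_mul_apply] at h
  · exact hu2 j a ha hQa (hc.mp trivial)

lemma sideGood_of (z : V) (hz : Q z ≠ 0) (h : (2 : F) = 0 ∨ ∃ l, dpart hQ hD l z = 0) :
    SideGood Q D z := by
  rcases h with h | ⟨l, hl⟩
  · exact sideGood_of_two_eq_zero hQ hD h hz
  · exact sideGood_of_zero hQ hD hl

/-- Moving one component by a value. -/
lemma shift_mem {z : V} (hz : InW Q D M z) (hg : (2 : F) = 0 ∨ ∃ l, dpart hQ hD l z = 0) {b : Fin t}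
    (hb : dpart hQ hD b z ≠ 0) {x : V} (hx : x ∈ D b) (hQx : Q x ≠ 0)
    (hfx : polB Q x (dpart hQ hD b z) = Q z) :
    InW Q D M (x - z) ∧ Q (x - z) = Q x ∧ (∀ i, i ≠ b → dpart hQ hD i (x - z) = -dpart hQ hD i z) ∧
      dpart hQ hD b (x - z) = x - dpart hQ hD b z ∧
      ((2 : F) = 0 ∨ ∃ l, dpart hQ hD l (x - z) = 0) := by
  obtain ⟨_, _, _, hcz, -⟩ := id hz
  have hxz : polB Q x z = Q z := by
    rw [polB_comm, ← polB_dpart hQ hD b z hx, polB_comm]; exact hfx
  have e : (refl Q z).1 x = x - z := by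
    rw [refl_apply, hxz, inv_mul_cancel₀ hcz.1, one_smul]
  have hQ' : Q (x - z) = Q x := by rw [← e, orth_qmap]
  have hoth : ∀ i, i ≠ b → dpart hQ hD i (x - z) = -dpart hQ hD i z := fun i hi => by
    rw [map_sub, dpart_other hQ hD hi hx, zero_sub]
  refine ⟨e ▸ pInW_refl hQ hD ht hgen hHM hz (pInW_side hQ hD ht hgen hHM hx hQx)
    (sideGood_of hQ hD hq ht hgen hHM z hcz.1 hg) ?_, hQ', hoth,
    by rw [map_sub, dpart_of_mem hQ hD hx], ?_⟩
  · have := sideGood_two hQ hD ht hx (zero_mem (D b))
    rwa [add_zero] at this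
  · refine hg.imp_right fun ⟨l, hl⟩ => ⟨l, ?_⟩
    rw [hoth l (fun h => hb (h ▸ hl)), hl, neg_zero]

/-- A value on the line of one component and a jump of another give two components. -/
lemma pair_of_jump {z : V} (hz : InW Q D M z) (hg : (2 : F) = 0 ∨ ∃ l, dpart hQ hD l z = 0)
    {b c : Fin t} (hbc : b ≠ c) (hb : dpart hQ hD b z ≠ 0) {x : V} (hx : x ∈ D b) (hQx : Q x ≠ 0)
    (hfx : polB Q x (dpart hQ hD b z) = Q z) {e : V} (he : e ∈ D c)
    (hfe : polB Q e (dpart hQ hD c z) = -Q e) (hQe : Q e ≠ 0) (hval : Q x + Q e = Q z) :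
    ∃ α β, WPair Q D M α β := by
  obtain ⟨_, _, _, hcz, -⟩ := id hz
  obtain ⟨hz', hQz', -, -, hg'⟩ := shift_mem hQ hD hq ht hgen hHM hz hg hb hx hQx hfx
  have hze : polB Q z e = -Q e := by
    rw [← polB_dpart hQ hD c z he, polB_comm]; exact hfe
  have hxz : polB Q x z = Q z := by
    rw [polB_comm, ← polB_dpart hQ hD b z hx, polB_comm]; exact hfx
  have hu : (refl Q e).1 z = z + e := by
    rw [refl_apply, hze, mul_neg, inv_mul_cancel₀ hQe, neg_smul, one_smul, sub_neg_eq_add]
  have huW : InW Q D M (z + e) := hu ▸ pInW_dstab hQ hD ht hgen hHM hz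
    (sideGood_of hQ hD hq ht hgen hHM z hcz.1 hg) (refl_mem_DStab hD he)
  have hgu : (2 : F) = 0 ∨ ∃ l, dpart hQ hD l (z + e) = 0 := by
    refine hg.imp_right fun ⟨l, hl⟩ => ⟨l, ?_⟩
    have hlc : l ≠ c := fun h => by
      subst h
      rw [hl, map_zero] at hfe
      exact hQe (neg_eq_zero.mp hfe.symm)
    rw [map_add, hl, dpart_other hQ hD hlc he, add_zero]
  have h := pInW_refl hQ hD ht hgen hHM hz' huW
    (sideGood_of hQ hD hq ht hgen hHM _ (by rw [hQz']; exact hQx) hg')
    (sideGood_of hQ hD hq ht hgen hHM _ (by rw [← hu, orth_qmap]; exact hcz.1) hgu)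
  have e' : (refl Q (x - z)).1 (z + e) = x + e := by
    have hf : polB Q (z + e) (x - z) = -Q x := by
      rw [map_add, LinearMap.add_apply, map_sub, map_sub, polB_self, polB_comm z x, hxz,
        polB_comm e z, hze, polB_comm e x, hD.perp b c hbc x hx e he]
      linear_combination hval
    rw [refl_apply, hQz', hf, mul_neg, inv_mul_cancel₀ hQx, neg_smul, one_smul]
    abel
  rw [e'] at h
  refine ⟨_, _, b, c, hbc, x, hx, e, he, ?_, ?_, rfl, rfl, h⟩
  · exact fun h => hQx (by rw [h, QuadraticMap.map_zero])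
  · exact fun h => hQe (by rw [h, QuadraticMap.map_zero])

/-- A good mixed vector gives two components. -/
theorem exists_pPair (h4 : 4 ≤ Fintype.card F) {z : V} (hz : InW Q D M z) (hmix : ∀ m, z ∉ D m)
    (hg : (2 : F) = 0 ∨ ∃ l, dpart hQ hD l z = 0) : ∃ α β, WPair Q D M α β := by
  classical
  suffices key : ∀ n, ∀ z : V, InW Q D M z → (∀ m, z ∉ D m) →
      ((2 : F) = 0 ∨ ∃ l, dpart hQ hD l z = 0) →
      (Finset.univ.filter fun i => dpart hQ hD i z ≠ 0).card ≤ n → ∃ α β, WPair Q D M α β from
    key _ z hz hmix hg le_rfl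
  intro n
  induction n with
  | zero =>
    intro z hz _ _ hn
    obtain ⟨_, _, _, hc, -⟩ := id hz
    obtain ⟨i, hi⟩ := exists_nonsing_part hQ hD hc.1
    rw [Nat.le_zero, Finset.card_eq_zero, Finset.filter_eq_empty_iff] at hn
    exact absurd (fun e => hi (by rw [e, QuadraticMap.map_zero])) (hn (Finset.mem_univ i))
  | succ n ih =>
    intro z hz hmix hg hn
    obtain ⟨_, _, _, hcz, -⟩ := id hz
    set γ := Q z with hγ
    set p := fun i => dpart hQ hD i z with hp
    have hpD : ∀ i, p i ∈ D i := fun i => dpart_mem hQ hD i z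
    set S := Finset.univ.filter fun i => dpart hQ hD i z ≠ 0 with hS
    have hmemS : ∀ i, i ∈ S ↔ p i ≠ 0 := fun i => by simp [hS, hp]
    have hsum : ∑ i ∈ S, p i = z := by
      conv_rhs => rw [← sum_dpart hQ hD z]
      refine Finset.sum_subset (Finset.subset_univ _) fun i _ hi => ?_
      exact not_not.mp fun h => hi ((hmemS i).mpr h)
    have hsumQ : ∑ i ∈ S, Q (p i) = γ := by
      rw [hγ, qmap_dpart hQ hD z]
      refine Finset.sum_subset (Finset.subset_univ _) fun i _ hi => ?_
      rw [show p i = 0 from not_not.mp fun h => hi ((hmemS i).mpr h), QuadraticMap.map_zero]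
    by_cases h2S : S.card ≤ 2
    · have hS2 : S.card = 2 := by
        by_contra hne
        rcases Nat.lt_or_ge S.card 1 with h | h
        · rw [Finset.card_eq_zero.mp (by omega : S.card = 0), Finset.sum_empty] at hsumQ
          exact hcz.1 hsumQ.symm
        · obtain ⟨i, hi⟩ := Finset.card_eq_one.mp (by omega : S.card = 1)
          rw [hi, Finset.sum_singleton] at hsum
          exact hmix i (hsum ▸ hpD i)
      obtain ⟨a, b, hab, hab'⟩ := Finset.card_eq_two.mp hS2
      refine ⟨_, _, a, b, hab, p a, hpD a, p b, hpD b, (hmemS a).mp (by simp [hab']),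
        (hmemS b).mp (by simp [hab']), rfl, rfl, ?_⟩
      rw [hab', Finset.sum_pair hab] at hsum
      rw [hsum]; exact hz
    -- a smaller vector from a vanishing component
    have hsmaller : ∀ (b : Fin t) (x : V), p b ≠ 0 → x ∈ D b → Q x ≠ 0 → polB Q x (p b) = γ →
        x - p b = 0 → ∃ α β, WPair Q D M α β := by
      intro b x hb hx hQx hfx h0
      obtain ⟨hz', -, hoth, hb', hg'⟩ := shift_mem hQ hD hq ht hgen hHM hz hg hb hx hQx hfx
      rw [show dpart hQ hD b z = p b from rfl, h0] at hb'
      have hsub : (Finset.univ.filter fun i => dpart hQ hD i (x - z) ≠ 0) ⊆ S.erase b := by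
        intro i hi
        simp only [Finset.mem_filter, Finset.mem_univ, true_and] at hi
        have hib : i ≠ b := fun h => hi (h ▸ hb')
        rw [hoth i hib, neg_ne_zero] at hi
        exact Finset.mem_erase.mpr ⟨hib, (hmemS i).mpr hi⟩
      refine ih _ hz' (fun m hm => ?_) hg' ?_
      · obtain ⟨i, hi, him⟩ := Finset.exists_mem_notMem_of_card_lt_card (s := ({b, m} : Finset (Fin t)))
          (t := S) (lt_of_le_of_lt Finset.card_le_two (by omega))
        simp only [Finset.mem_insert, Finset.mem_singleton, not_or] at him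
        have h := dpart_other hQ hD him.2 hm
        rw [hoth i him.1, neg_eq_zero] at h
        exact (hmemS i).mp hi h
      · have := Finset.card_le_card hsub
        rw [Finset.card_erase_of_mem ((hmemS b).mpr hb)] at this
        omega
    -- a different pair of components
    have hthird : ∀ b : Fin t, ∃ c ∈ S, c ≠ b := fun b =>
      Finset.exists_mem_ne (by omega) b
    rcases plane_type hD hq with ⟨hplus, h7⟩ | ⟨haniso, -⟩
    · -- planes with singular vectors
      have hsing : ∀ z : V, InW Q D M z → ((2 : F) = 0 ∨ ∃ l, dpart hQ hD l z = 0) →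
          ∀ b c, b ≠ c → dpart hQ hD b z ≠ 0 → Q (dpart hQ hD b z) = 0 → dpart hQ hD c z ≠ 0 →
            ∃ α β, WPair Q D M α β := by
        intro z hz hg b c hbc hb hQb hc
        have hA := card_pVal_erase (Q := Q) (hD.nd c) (hD.dim c) (dpart_mem hQ hD c z) hc
        obtain ⟨v, hv, hvne⟩ := Finset.exists_mem_ne
          (s := (pVal Q (D c) (dpart hQ hD c z)).erase 0) (by omega) (Q z)⁻¹
        obtain ⟨hv0, hv1⟩ := Finset.mem_erase.mp hv
        obtain ⟨e, he, hQe, hfe⟩ := exists_jump hv1 hv0
        have hne : Q z - v⁻¹ ≠ 0 := fun h => hvne (by rw [sub_eq_zero.mp h, inv_inv])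
        obtain ⟨_, _, _, hcz, -⟩ := id hz
        obtain ⟨x, hx, hfx, hQx⟩ := exists_of_mem_pVal
          (pVal_sing (Q := Q) (hD.nd b) (hD.dim b) (dpart_mem hQ hD b z) hb hQb
            ((Q z - v⁻¹) / (Q z * Q z))) (Q z)
        rw [mul_div_cancel₀ _ (mul_ne_zero hcz.1 hcz.1)] at hQx
        exact pair_of_jump hQ hD hq ht hgen hHM hz hg hbc hb hx (by rw [hQx]; exact hne) hfx he
          (by rw [hfe, hQe]) (by rw [hQe]; exact inv_ne_zero hv0) (by rw [hQx, hQe]; ring)
      by_cases hs : ∃ b ∈ S, Q (p b) = 0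
      · obtain ⟨b, hb, hQb⟩ := hs
        obtain ⟨c, hc, hcb⟩ := hthird b
        exact hsing z hz hg b c hcb.symm ((hmemS b).mp hb) hQb ((hmemS c).mp hc)
      push Not at hs
      -- make a component singular
      have hmake : ∀ z : V, InW Q D M z → ((2 : F) = 0 ∨ ∃ l, dpart hQ hD l z = 0) →
          ∀ b, dpart hQ hD b z ≠ 0 → Q (dpart hQ hD b z) ≠ Q z → ∃ x ∈ D b, Q x ≠ 0 ∧
            polB Q x (dpart hQ hD b z) = Q z ∧ Q (x - dpart hQ hD b z) = 0 := by
        intro z hz hg b hb hne
        obtain ⟨s, hs, hQs, hfs⟩ := exists_sing_pair_plane (Q := Q) (hD.nd b) (hD.dim b) (hplus b)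
          (dpart_mem hQ hD b z) hb (Q z - 2 * Q (dpart hQ hD b z))
        refine ⟨dpart hQ hD b z + s, add_mem (dpart_mem hQ hD b z) hs, ?_, ?_, by
          rw [add_sub_cancel_left]; exact hQs⟩
        · rw [qmap_add, hQs, polB_comm, hfs]
          intro h
          exact hne (by linear_combination -h)
        · rw [map_add, LinearMap.add_apply, polB_self, hfs]; ring
      by_cases hne : ∃ b ∈ S, Q (p b) ≠ γ
      · obtain ⟨b, hb, hQb⟩ := hne
        obtain ⟨x, hx, hQx, hfx, hsx⟩ := hmake z hz hg b ((hmemS b).mp hb) hQb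
        by_cases h0 : x - p b = 0
        · exact hsmaller b x ((hmemS b).mp hb) hx hQx hfx h0
        obtain ⟨hz', -, hoth, hb', hg'⟩ :=
          shift_mem hQ hD hq ht hgen hHM hz hg ((hmemS b).mp hb) hx hQx hfx
        obtain ⟨c, hc, hcb⟩ := hthird b
        exact hsing _ hz' hg' b c hcb.symm (by rw [hb']; exact h0) (by rw [hb']; exact hsx)
          (by rw [hoth c hcb, neg_ne_zero]; exact (hmemS c).mp hc)
      push Not at hne
      obtain ⟨b, hb⟩ : S.Nonempty := by rw [← Finset.card_pos]; omega
      obtain ⟨c, hc, hcb⟩ := hthird b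
      obtain ⟨d, hd, hdbc⟩ := Finset.exists_mem_notMem_of_card_lt_card (s := ({b, c} : Finset (Fin t)))
        (t := S) (lt_of_le_of_lt Finset.card_le_two (by omega))
      simp only [Finset.mem_insert, Finset.mem_singleton, not_or] at hdbc
      have hB := card_pVal_erase (Q := Q) (hD.nd b) (hD.dim b) (hpD b) ((hmemS b).mp hb)
      obtain ⟨v, hv, hvne⟩ := Finset.exists_mem_ne (s := (pVal Q (D b) (p b)).erase 0) (by omega) γ⁻¹
      obtain ⟨hv0, hv1⟩ := Finset.mem_erase.mp hv
      obtain ⟨x, hx, hfx, hQx⟩ := exists_of_mem_pVal hv1 γ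
      have hQx0 : Q x ≠ 0 := by rw [hQx]; exact mul_ne_zero (mul_ne_zero hcz.1 hcz.1) hv0
      obtain ⟨hz', hQz', hoth, -, hg'⟩ :=
        shift_mem hQ hD hq ht hgen hHM hz hg ((hmemS b).mp hb) hx hQx0 hfx
      have hc' : dpart hQ hD c (x - z) ≠ 0 := by
        rw [hoth c hcb, neg_ne_zero]; exact (hmemS c).mp hc
      have hQc : Q (dpart hQ hD c (x - z)) ≠ Q (x - z) := by
        rw [hoth c hcb, qmap_neg, hQz', show Q (dpart hQ hD c z) = γ from hne c hc, hQx]
        intro h
        refine hvne (eq_inv_of_mul_eq_one_right (mul_left_cancel₀ hcz.1 ?_))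
        rw [mul_one, ← mul_assoc]; exact h.symm
      obtain ⟨y, hy, hQy, hfy, hsy⟩ := hmake _ hz' hg' c hc' hQc
      have hd' : dpart hQ hD d (x - z) ≠ 0 := by
        rw [hoth d hdbc.1, neg_ne_zero]; exact (hmemS d).mp hd
      obtain ⟨hz'', -, hoth', hc'', hg''⟩ := shift_mem hQ hD hq ht hgen hHM hz' hg' hc' hy hQy hfy
      by_cases h0 : y - dpart hQ hD c (x - z) = 0
      · -- one component fewer
        refine ih _ hz'' (fun m hm => ?_) hg'' ?_
        · by_cases hmd : m = d
          · have h := dpart_other hQ hD (i := b) (j := m) (by rw [hmd]; exact Ne.symm hdbc.1) hm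
            rw [hoth' b hcb.symm, map_sub, dpart_of_mem hQ hD hx, neg_eq_zero, sub_eq_zero] at h
            refine hvne (eq_inv_of_mul_eq_one_right (mul_left_cancel₀ hcz.1 ?_))
            rw [mul_one, ← mul_assoc, ← hQx, h]
            exact hne b hb
          · have h := dpart_other hQ hD (Ne.symm hmd) hm
            rw [hoth' d hdbc.2, neg_eq_zero] at h
            exact hd' h
        · refine le_trans (Finset.card_le_card (t := S.erase c) fun i hi => ?_) ?_
          · simp only [Finset.mem_filter, Finset.mem_univ, true_and] at hi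
            have hic : i ≠ c := fun e => hi (by rw [e, hc'', h0])
            refine Finset.mem_erase.mpr ⟨hic, (hmemS i).mpr ?_⟩
            by_cases hib : i = b
            · rw [hib]; exact (hmemS b).mp hb
            · rw [hoth' i hic, hoth i hib, neg_neg] at hi
              exact hi
          · rw [Finset.card_erase_of_mem hc]; omega
      · exact hsing _ hz'' hg'' c d (Ne.symm hdbc.2) (by rw [hc'']; exact h0)
          (by rw [hc'']; exact hsy) (by rw [hoth' d hdbc.2, neg_ne_zero]; exact hd')
    · -- planes without singular vectors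
      have hpQ : ∀ i ∈ S, Q (p i) ≠ 0 := fun i hi h =>
        (hmemS i).mp hi (haniso i _ (hpD i) h)
      by_cases h2 : (2 : F) = 0
      · -- characteristic two
        have hneg : ∀ y : F, -y = y := fun y => by linear_combination -y * h2
        -- two members of different values
        have hdiff : ∀ z : V, InW Q D M z → ∀ b b' c, b ≠ c → b' ≠ c →
            dpart hQ hD b z ≠ 0 → dpart hQ hD b' z ≠ 0 → dpart hQ hD c z ≠ 0 →
            Q (dpart hQ hD b z) ≠ Q (dpart hQ hD b' z) → ∃ α β, WPair Q D M α β := by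
          intro z hz b b' c hbc hb'c hb hb' hc hne
          obtain ⟨_, _, _, hcz, -⟩ := id hz
          by_contra hfail
          set A := (pVal Q (D c) (dpart hQ hD c z)).image fun v => v⁻¹ with hA
          have hAcard : Fintype.card F ≤ 2 * A.card := by
            rw [hA, Finset.card_image_of_injective _ inv_injective]
            exact card_pVal (Q := Q) (hD.nd c) (hD.dim c) (dpart_mem hQ hD c z) hc
          -- for each such member the differences lie in a scaled image
          have hout : ∀ b, b ≠ c → dpart hQ hD b z ≠ 0 → ∀ a ∈ A, ∀ a' ∈ A, ∃ s : F,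
              s + s * s = (a + a') * Q (dpart hQ hD b z) / (Q z * Q z) := by
            intro b hbc hb
            set qb := Q (dpart hQ hD b z)
            have hqb : qb ≠ 0 := fun h => hb (haniso b _ (dpart_mem hQ hD b z) h)
            obtain ⟨w, hw, hwp⟩ := ndOn_exists_polB (hD.nd b) (dpart_mem hQ hD b z) hb (1 : F)
            have key : ∀ a ∈ A, ∀ s : F,
                s + s * s ≠ ((Q z - a) / (Q z * Q z) - Q w) * qb := by
              intro a ha s hs
              obtain ⟨v, hv, rfl⟩ := Finset.mem_image.mp ha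
              have hv0 : v ≠ 0 := fun h => zero_notMem_pVal (haniso c) (h ▸ hv)
              obtain ⟨e, he, hQe, hfe⟩ := exists_jump hv hv0
              have hmem : (Q z - v⁻¹) / (Q z * Q z) ∈ pVal Q (D b) (dpart hQ hD b z) := by
                refine mem_pVal.mpr ⟨w + (s / qb) • dpart hQ hD b z,
                  add_mem hw ((D b).smul_mem _ (dpart_mem hQ hD b z)), ?_, ?_⟩
                · rw [map_add, map_smul, LinearMap.add_apply, LinearMap.smul_apply, hwp, polB_self,
                    h2, zero_mul, smul_zero, add_zero]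
                · rw [qmap_add_smul, hwp]
                  have e1 : s / qb * (s / qb) * qb + s / qb * 1 = (s + s * s) / qb := by
                    field_simp; ring
                  rw [add_assoc, e1, hs, mul_div_cancel_right₀ _ hqb]
                  ring
              obtain ⟨x, hx, hfx, hQx⟩ := exists_of_mem_pVal hmem (Q z)
              rw [mul_div_cancel₀ _ (mul_ne_zero hcz.1 hcz.1)] at hQx
              have hx0 : Q x ≠ 0 := fun h => by
                rw [haniso b x hx h, map_zero, LinearMap.zero_apply] at hfx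
                exact hcz.1 hfx.symm
              exact hfail (pair_of_jump hQ hD hq ht hgen hHM hz (Or.inl h2) hbc hb hx hx0 hfx he
                (by rw [hfe, hQe]) (by rw [hQe]; exact inv_ne_zero hv0) (by rw [hQx, hQe]; ring))
            intro a ha a' ha'
            obtain ⟨s, hs⟩ := artin_add h2 (key a ha) (key a' ha')
            refine ⟨s, hs.trans ?_⟩
            linear_combination ((Q z - a - a') / (Q z * Q z) - Q w) * qb * h2
          obtain ⟨a₀, ha₀⟩ : A.Nonempty := by rw [← Finset.card_pos]; omega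
          have hqb : Q (dpart hQ hD b z) ≠ 0 := fun h => hb (haniso b _ (dpart_mem hQ hD b z) h)
          have hqb' : Q (dpart hQ hD b' z) ≠ 0 := fun h => hb' (haniso b' _ (dpart_mem hQ hD b' z) h)
          have h4' := artin_inter h2 (c := Q (dpart hQ hD b' z) / Q (dpart hQ hD b z))
            (div_ne_zero hqb' hqb) (fun h => hne (by rw [div_eq_one_iff_eq hqb] at h; exact h.symm))
            (A.image fun a => (a + a₀) * Q (dpart hQ hD b z) / (Q z * Q z)) (fun y hy => by
              obtain ⟨a, ha, rfl⟩ := Finset.mem_image.mp hy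
              obtain ⟨s', hs'⟩ := hout b' hb'c hb' a ha a₀ ha₀
              refine ⟨hout b hbc hb a ha a₀ ha₀, s', hs'.trans ?_⟩
              field_simp)
          rw [Finset.card_image_of_injective] at h4'
          · omega
          · intro a a' h
            simp only [div_left_inj' (mul_ne_zero hcz.1 hcz.1)] at h
            exact add_right_cancel (mul_right_cancel₀ hqb h)
        by_cases hne : ∃ b ∈ S, ∃ b' ∈ S, Q (p b) ≠ Q (p b')
        · obtain ⟨b, hb, b', hb', hne⟩ := hne
          obtain ⟨c, hc, hcbb⟩ := Finset.exists_mem_notMem_of_card_lt_card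
            (s := ({b, b'} : Finset (Fin t))) (t := S) (lt_of_le_of_lt Finset.card_le_two (by omega))
          simp only [Finset.mem_insert, Finset.mem_singleton, not_or] at hcbb
          exact hdiff z hz b b' c (Ne.symm hcbb.1) (Ne.symm hcbb.2) ((hmemS b).mp hb)
            ((hmemS b').mp hb') ((hmemS c).mp hc) hne
        push Not at hne
        obtain ⟨b, hb⟩ : S.Nonempty := by rw [← Finset.card_pos]; omega
        obtain ⟨b', hb', hbb'⟩ := hthird b
        obtain ⟨c, hc, hcbb⟩ := Finset.exists_mem_notMem_of_card_lt_card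
          (s := ({b, b'} : Finset (Fin t))) (t := S) (lt_of_le_of_lt Finset.card_le_two (by omega))
        simp only [Finset.mem_insert, Finset.mem_singleton, not_or] at hcbb
        have hq0 : Q (p b) = γ := by
          rw [← hsumQ, Finset.sum_congr rfl fun i hi => hne i hi b hb, Finset.sum_const,
            nsmul_eq_mul]
          rcases Nat.even_or_odd S.card with ⟨k, hk⟩ | ⟨k, hk⟩
          · exfalso
            apply hcz.1
            rw [← hγ, ← hsumQ, Finset.sum_congr rfl fun i hi => hne i hi b hb, Finset.sum_const,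
              nsmul_eq_mul, hk]
            push_cast
            linear_combination (k : F) * Q (p b) * h2
          · rw [hk]; push_cast; linear_combination -(k : F) * Q (p b) * h2
        have hB := card_pVal (Q := Q) (hD.nd b) (hD.dim b) (hpD b) ((hmemS b).mp hb)
        obtain ⟨v, hv, hvne⟩ := Finset.exists_mem_ne (s := pVal Q (D b) (p b)) (by omega) γ⁻¹
        have hv0 : v ≠ 0 := fun h => zero_notMem_pVal (haniso b) (h ▸ hv)
        obtain ⟨x, hx, hfx, hQx⟩ := exists_of_mem_pVal hv γ
        have hQx0 : Q x ≠ 0 := by rw [hQx]; exact mul_ne_zero (mul_ne_zero hcz.1 hcz.1) hv0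
        obtain ⟨hz', hQz', hoth, hbx, -⟩ :=
          shift_mem hQ hD hq ht hgen hHM hz (Or.inl h2) ((hmemS b).mp hb) hx hQx0 hfx
        have hnew : Q (dpart hQ hD b (x - z)) = Q x := by
          rw [hbx, qmap_sub, hfx, show Q (dpart hQ hD b z) = γ from hq0]; ring
        have hold : Q (dpart hQ hD b' (x - z)) = γ := by
          rw [hoth b' hbb', qmap_neg, show Q (dpart hQ hD b' z) = Q (p b) from hne b' hb' b hb, hq0]
        refine hdiff _ hz' b b' c (Ne.symm hcbb.1) (Ne.symm hcbb.2) ?_ ?_ ?_ ?_
        · exact fun h => hQx0 (by rw [← hnew, h, QuadraticMap.map_zero])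
        · rw [hoth b' hbb', neg_ne_zero]; exact (hmemS b').mp hb'
        · rw [hoth c hcbb.1, neg_ne_zero]; exact (hmemS c).mp hc
        · rw [hnew, hold, hQx]
          intro h
          refine hvne (eq_inv_of_mul_eq_one_right (mul_left_cancel₀ hcz.1 ?_))
          rw [mul_one, ← mul_assoc]; exact h
      · -- odd characteristic
        obtain ⟨b, hb⟩ : S.Nonempty := by rw [← Finset.card_pos]; omega
        obtain ⟨c, hc, hcb⟩ := hthird b
        have hB := card_pVal (Q := Q) (hD.nd b) (hD.dim b) (hpD b) ((hmemS b).mp hb)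
        have hC := card_pVal (Q := Q) (hD.nd c) (hD.dim c) (hpD c) ((hmemS c).mp hc)
        have hqodd : Fintype.card F % 2 = 1 := FiniteField.odd_card_of_char_ne_two (fun h => by
          haveI : CharP F 2 := h ▸ ringChar.charP F
          exact h2 CharTwo.two_eq_zero)
        obtain ⟨_, hu, _, hw, hsum'⟩ := exists_add_of_card
          (A := (pVal Q (D b) (p b)).image fun v => γ * γ * v)
          (B := (pVal Q (D c) (p c)).image fun v => v⁻¹) (by
            rw [Finset.card_image_of_injective _ (mul_right_injective₀ (mul_ne_zero hcz.1 hcz.1)),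
              Finset.card_image_of_injective _ inv_injective]
            omega) γ
        obtain ⟨u, hu', rfl⟩ := Finset.mem_image.mp hu
        obtain ⟨w, hw', rfl⟩ := Finset.mem_image.mp hw
        have hw0 : w ≠ 0 := fun h => zero_notMem_pVal (p := p c) (haniso c) (h ▸ hw')
        have hu0 : u ≠ 0 := fun h => zero_notMem_pVal (p := p b) (haniso b) (h ▸ hu')
        obtain ⟨e, he, hQe, hfe⟩ := exists_jump hw' hw0
        obtain ⟨x, hx, hfx, hQx⟩ := exists_of_mem_pVal hu' γ
        exact pair_of_jump hQ hD hq ht hgen hHM hz hg hcb.symm ((hmemS b).mp hb) hx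
          (by rw [hQx]; exact mul_ne_zero (mul_ne_zero hcz.1 hcz.1) hu0) hfx he
          (by rw [hfe, hQe]) (by rw [hQe]; exact inv_ne_zero hw0) (by rw [hQx, hQe]; exact hsum')

end H45
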