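import Mathlib
import Cfsg.Agent.H45.PlaneReduce

/-!
# Decompositions into five or more planes: a mixed vector of the block with a vanishing component

Each component of a mixed vector offers at least `(q - 1) / 2` jumps besides the trivial one, so
any two of them reach any value.  Five such pairs with consecutive ones disjoint form a cycle of
odd length, so two disjoint consecutive pairs reaching half the value have the same parity and
leave a member untouched.
-/

set_option autoImplicit false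
set_option linter.unusedSectionVars false

namespace H45

open H43
open scoped Pointwise

variable {F : Type*} [Field F] [Fintype F] {V : Type*} [AddCommGroup V] [Module F V]
  [FiniteDimensional F V] {Q : QuadraticForm F V}

variable {t : ℕ} {D : Fin t → Submodule F V}
variable (hQ : (polB Q).Nondegenerate) (hD : OD Q D 2) (hq : PlaneHyp Q D)

/-- The goal of this file: a mixed vector of the block with orthogonal side vectors. -/
def PlaneGood (M : Subgroup (orthGroup Q)) : Prop :=
  ∃ w, InW Q D M w ∧ (∀ m, w ∉ D m) ∧ ((2 : F) = 0 ∨ ∃ l, dpart hQ hD l w = 0)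

variable (ht : 5 ≤ t) (hgen : ReflGenerates F V) {M : Subgroup (orthGroup Q)}
  (hHM : DStab Q D ⊓ commutator (orthGroup Q) ≤ M)

include hq ht hgen hHM

/-- Jumps in a proper set of members summing to the value, an even number of the other class. -/
lemma good_of_jumps [DecidableEq (SqClass F)] {z : V} (hz : InW Q D M z) (S : Finset (Fin t)) (v : Fin t → V)
    (hv : ∀ l ∈ S, v l ∈ D l) (hQv : ∀ l ∈ S, Q (v l) ≠ 0)
    (hf : ∀ l ∈ S, polB Q (v l) z = -Q (v l)) (hsum : ∑ l ∈ S, Q (v l) = Q z) (hcard : 2 ≤ S.card)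
    {i : Fin t} (hi : i ∉ S)
    (hpar : Even (S.filter fun l => sqc (Q (v l)) ≠ sqc (Q z)).card ∨
      ∃ n ∈ D i, Q n ≠ 0 ∧ sqc (Q n) ≠ sqc (Q z) ∧ polB Q n z = 0) :
    PlaneGood hQ hD M := by
  classical
  set γ := Q z with hγdef
  have hγ : γ ≠ 0 := by
    obtain ⟨_, _, _, hc, -⟩ := id hz
    exact hc.1
  have key : ∀ T : Finset (Fin t), T ⊆ S → InWOdd Q D M γ
      (decide (Odd (T.filter fun l => sqc (Q (v l)) ≠ sqc γ).card)) (z + ∑ l ∈ T, v l) := by
    intro T
    induction T using Finset.induction_on with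
    | empty =>
      intro _
      simpa [InWOdd] using And.intro hγdef.symm hz
    | insert j T hj ih =>
      intro hsub
      have hjS : j ∈ S := hsub (Finset.mem_insert_self _ _)
      have hTS : T ⊆ S := (Finset.subset_insert _ _).trans hsub
      have hstep := inWOdd_step hQ hD hq ht hgen hHM hγ (ih hTS) (hv j hjS) (hQv j hjS)
        (c := decide (sqc (Q (v j)) ≠ sqc γ)) (by simp)
      have hrefl : (refl Q (v j)).1 (z + ∑ l ∈ T, v l) = z + ∑ l ∈ insert j T, v l := by
        have hperp : polB Q (∑ l ∈ T, v l) (v j) = 0 := by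
          rw [map_sum, LinearMap.sum_apply]
          exact Finset.sum_eq_zero fun l hl =>
            hD.perp l j (fun e => hj (e ▸ hl)) _ (hv l (hTS hl)) _ (hv j hjS)
        rw [refl_apply, map_add, LinearMap.add_apply, hperp, add_zero, polB_comm, hf j hjS,
          mul_neg, inv_mul_cancel₀ (hQv j hjS), neg_smul, one_smul, Finset.sum_insert hj]
        abel
      rw [hrefl] at hstep
      convert hstep using 1
      rw [Finset.filter_insert]
      by_cases hc : sqc (Q (v j)) ≠ sqc γ
      · rw [if_pos hc, Finset.card_insert_of_notMem (fun h => hj (Finset.mem_filter.mp h).1)]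
        simp [hc, Nat.odd_add_one, ← Nat.not_even_iff_odd]
      · rw [if_neg hc]
        simp [hc]
  obtain ⟨hQu, hu⟩ := key S subset_rfl
  set w := ∑ l ∈ S, v l with hw
  have hu' : InW Q D M (z + w) := by
    rcases hpar with he | ⟨n, hn, hn0, hnc, hnz⟩
    · simpa [Nat.not_odd_iff_even.mpr he] using hu
    · by_cases ho : Odd (S.filter fun l => sqc (Q (v l)) ≠ sqc γ).card
      · simp only [ho, decide_true, if_true] at hu
        have h := hu i n hn hn0 hnc
        rwa [refl_fix] at h
        rw [map_add, LinearMap.add_apply, polB_comm z, hnz, zero_add, hw, map_sum,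
          LinearMap.sum_apply]
        exact Finset.sum_eq_zero fun l hl =>
          hD.perp l i (fun e => hi (e ▸ hl)) _ (hv l hl) _ hn
      · simpa [ho] using hu
  have hfw : polB Q w z = -γ := by
    rw [hw, map_sum, LinearMap.sum_apply, Finset.sum_congr rfl hf, Finset.sum_neg_distrib, hsum]
  have hres : (refl Q z).1 (z + w) = w := by
    rw [refl_apply, map_add, LinearMap.add_apply, hfw, polB_self, ← hγdef,
      show 2 * γ + -γ = γ by ring, inv_mul_cancel₀ hγ, one_smul]
    abel
  have hW : InW Q D M w := by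
    rw [← hres]
    exact pInW_refl_same hQ hD ht hgen hHM hz hu' (sameCls_of_eq hγ hQu)
  have hcomp : ∀ l, dpart hQ hD l w = if l ∈ S then v l else 0 := fun l => by
    rw [hw, map_sum]
    split_ifs with hl
    · rw [Finset.sum_eq_single_of_mem l hl fun r hr hne => dpart_other hQ hD (Ne.symm hne) (hv r hr),
        dpart_of_mem hQ hD (hv l hl)]
    · exact Finset.sum_eq_zero fun r hr =>
        dpart_other hQ hD (fun e : l = r => hl (e ▸ hr)) (hv r hr)
  refine ⟨w, hW, fun m hm => ?_, Or.inr ⟨i, by rw [hcomp, if_neg hi]⟩⟩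
  obtain ⟨l, hl, hlm⟩ := Finset.exists_mem_ne hcard m
  have h := dpart_other hQ hD hlm hm
  rw [hcomp, if_pos hl] at h
  exact hQv l hl (by rw [h, QuadraticMap.map_zero])

/-- Two components reach every non-zero value by jumps. -/
lemma exists_pair_jumps (h2 : (2 : F) ≠ 0) {z : V} (hnz : ∀ l, dpart hQ hD l z ≠ 0) {l m : Fin t}
    (hlm : l ≠ m) {φ : F} (hφ : φ ≠ 0) :
    ∃ S : Finset (Fin t), S ⊆ {l, m} ∧ S.Nonempty ∧ ∃ v : Fin t → V,
      (∀ i ∈ S, v i ∈ D i ∧ Q (v i) ≠ 0 ∧ polB Q (v i) z = -Q (v i)) ∧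
      ∑ i ∈ S, Q (v i) = φ := by
  classical
  let A : Fin t → Finset F := fun i =>
    insert 0 (((pVal Q (D i) (dpart hQ hD i z)).erase 0).image fun a => a⁻¹)
  have hA : ∀ i, Fintype.card F ≤ 2 * (A i).card := fun i => by
    have h0 : (0 : F) ∉ ((pVal Q (D i) (dpart hQ hD i z)).erase 0).image fun a => a⁻¹ := by
      simp [Finset.mem_image, inv_eq_zero]
    rw [Finset.card_insert_of_notMem h0, Finset.card_image_of_injective _ inv_injective]
    have := card_pVal_erase (Q := Q) (hD.nd i) (hD.dim i) (dpart_mem hQ hD i z) (hnz i)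
    omega
  have hodd : Odd (Fintype.card F) := Nat.odd_iff.mpr
    (FiniteField.odd_card_of_char_ne_two fun h => by
      haveI : CharP F 2 := h ▸ ringChar.charP F
      exact h2 CharTwo.two_eq_zero)
  obtain ⟨a, ha⟩ := hodd
  obtain ⟨x, hx, y, hy, hxy⟩ := exists_add_of_card (A := A l) (B := A m)
    (by have := hA l; have := hA m; omega) φ
  have hjump : ∀ {i : Fin t} {c : F}, c ∈ A i → c ≠ 0 →
      ∃ v ∈ D i, Q v = c ∧ polB Q v z = -c := by
    intro i c hc hc0
    rcases Finset.mem_insert.mp hc with h | h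
    · exact absurd h hc0
    obtain ⟨b, hb, rfl⟩ := Finset.mem_image.mp h
    obtain ⟨hb0, hb1⟩ := Finset.mem_erase.mp hb
    obtain ⟨v, hv, hQv, hfv⟩ := exists_jump hb1 hb0
    refine ⟨v, hv, hQv, ?_⟩
    rw [polB_comm, ← polB_dpart hQ hD i z hv, polB_comm]; exact hfv
  by_cases hx0 : x = 0
  · have hy' : y = φ := by rw [← hxy, hx0, zero_add]
    obtain ⟨v, hv, hQv, hfv⟩ := hjump hy (hy' ▸ hφ)
    exact ⟨{m}, by simp, by simp, fun _ => v, by
      simp [hv, hQv, hfv, hy', hφ], by simp [hQv, hy']⟩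
  obtain ⟨u, hu, hQu, hfu⟩ := hjump hx hx0
  by_cases hy0 : y = 0
  · exact ⟨{l}, by simp, by simp, fun _ => u, by simp [hu, hQu, hfu, hx0],
      by simp [hQu, ← hxy, hy0]⟩
  obtain ⟨v, hv, hQv, hfv⟩ := hjump hy hy0
  refine ⟨{l, m}, subset_rfl, by simp, fun i => if i = l then u else v, ?_, ?_⟩
  · simp [hlm.symm, hu, hQu, hfu, hx0, hv, hQv, hfv, hy0]
  · simp [hlm, hlm.symm, hQu, hQv, hxy]

/-- A mixed vector of the block gives one with a vanishing component. -/
theorem exists_good_five {z : V} (hz : InW Q D M z) (hmix : ∀ m, z ∉ D m) :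
    PlaneGood hQ hD M := by
  classical
  by_cases h2 : (2 : F) = 0
  · exact ⟨z, hz, hmix, Or.inl h2⟩
  by_cases hzero : ∃ l, dpart hQ hD l z = 0
  · exact ⟨z, hz, hmix, Or.inr hzero⟩
  push Not at hzero
  have hγ : Q z ≠ 0 := by
    obtain ⟨_, _, _, hc, -⟩ := id hz
    exact hc.1
  let m : Fin 5 → Fin t := fun l => ⟨l.1, by omega⟩
  have hm : Function.Injective m := fun a b h => Fin.ext (by simpa [m] using congrArg Fin.val h)
  have hne : ∀ i : Fin 5, 2 * i ≠ 2 * i + 1 := by decide
  choose S hS hSne v hv hsum using fun i : Fin 5 => exists_pair_jumps hQ hD hq ht hgen hHM h2 hzero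
    (hm.ne (hne i)) (div_ne_zero hγ h2)
  obtain ⟨i, hi⟩ : ∃ i : Fin 5,
      decide (Odd ((S i).filter fun l => sqc (Q (v i l)) ≠ sqc (Q z)).card) =
        decide (Odd ((S (i + 1)).filter fun l => sqc (Q (v (i + 1) l)) ≠ sqc (Q z)).card) := by
    have : ∀ p : Fin 5 → Bool, ∃ i, p i = p (i + 1) := by decide
    exact this fun i => decide (Odd ((S i).filter fun l => sqc (Q (v i l)) ≠ sqc (Q z)).card)
  have hmem : ∀ {j : Fin 5} {l : Fin t}, l ∈ S j → l = m (2 * j) ∨ l = m (2 * j + 1) := by
    intro j l hl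
    simpa using hS j hl
  have hfree : ∀ {j : Fin 5} {l : Fin t}, l ∈ S j →
      ∀ c : Fin 5, c ≠ 2 * j → c ≠ 2 * j + 1 → l ≠ m c := fun hl c h1 h2' => by
    rcases hmem hl with rfl | rfl <;> exact fun e => by
      first | exact h1 (hm e).symm | exact h2' (hm e).symm
  have hdisj : Disjoint (S i) (S (i + 1)) := by
    refine Finset.disjoint_left.mpr fun l hl hl' => ?_
    have h : ∀ j : Fin 5, 2 * (j + 1) ≠ 2 * j ∧ 2 * (j + 1) ≠ 2 * j + 1 ∧
        2 * (j + 1) + 1 ≠ 2 * j ∧ 2 * (j + 1) + 1 ≠ 2 * j + 1 := by decide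
    obtain ⟨h1, h2', h3, h4⟩ := h i
    rcases hmem hl' with e | e
    · exact hfree hl _ h1 h2' e
    · exact hfree hl _ h3 h4 e
  let w : Fin t → V := fun l => if l ∈ S i then v i l else v (i + 1) l
  have hw1 : ∀ l ∈ S i, w l = v i l := fun l hl => if_pos hl
  have hw2 : ∀ l ∈ S (i + 1), w l = v (i + 1) l := fun l hl =>
    if_neg (Finset.disjoint_right.mp hdisj hl)
  have hall : ∀ l ∈ S i ∪ S (i + 1),
      w l ∈ D l ∧ Q (w l) ≠ 0 ∧ polB Q (w l) z = -Q (w l) := fun l hl => by
    rcases Finset.mem_union.mp hl with hl | hl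
    · rw [hw1 l hl]; exact hv i l hl
    · rw [hw2 l hl]; exact hv (i + 1) l hl
  refine good_of_jumps hQ hD hq ht hgen hHM hz (S i ∪ S (i + 1)) w (fun l hl => (hall l hl).1)
    (fun l hl => (hall l hl).2.1) (fun l hl => (hall l hl).2.2) ?_ ?_ (i := m (2 * i + 4)) ?_
    (Or.inl ?_)
  · rw [Finset.sum_union hdisj, Finset.sum_congr rfl fun l hl => by rw [hw1 l hl],
      Finset.sum_congr (s₁ := S (i + 1)) rfl fun l hl => by rw [hw2 l hl], hsum, hsum]
    field_simp
    ring
  · rw [Finset.card_union_of_disjoint hdisj]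
    have := (hSne i).card_pos
    have := (hSne (i + 1)).card_pos
    omega
  · have h : ∀ j : Fin 5, 2 * j + 4 ≠ 2 * j ∧ 2 * j + 4 ≠ 2 * j + 1 ∧
        2 * j + 4 ≠ 2 * (j + 1) ∧ 2 * j + 4 ≠ 2 * (j + 1) + 1 := by decide
    obtain ⟨h1, h2', h3, h4⟩ := h i
    rw [Finset.mem_union, not_or]
    exact ⟨fun hl => hfree hl _ h1 h2' rfl, fun hl => hfree hl _ h3 h4 rfl⟩
  · rw [Finset.filter_union,
      Finset.card_union_of_disjoint (hdisj.mono (Finset.filter_subset _ _) (Finset.filter_subset _ _)),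
      Nat.even_add]
    rw [Finset.filter_congr (s := S i) fun l hl => by rw [hw1 l hl],
      Finset.filter_congr (s := S (i + 1)) fun l hl => by rw [hw2 l hl]]
    rw [← Nat.not_odd_iff_even, ← Nat.not_odd_iff_even, not_iff_not]
    exact decide_eq_decide.mp hi

end H45
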