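import Mathlib
import Cfsg.Agent.H45.PlaneReduce
import Cfsg.Agent.H45.PlaneSix

/-!
# Decompositions into planes: the maximality theorem
-/

set_option autoImplicit false
set_option linter.unusedSectionVars false

namespace H45

open H43

variable {F : Type*} [Field F] [Fintype F] {V : Type*} [AddCommGroup V] [Module F V]
  [FiniteDimensional F V] {Q : QuadraticForm F V} {t : ℕ} {D : Fin t → Submodule F V}

variable (hQ : (polB Q).Nondegenerate) (hD : OD Q D 2) (hq : PlaneHyp Q D) (ht : 5 ≤ t)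
  (hgen : ReflGenerates F V) {M : Subgroup (orthGroup Q)}
  (hHM : DStab Q D ⊓ commutator (orthGroup Q) ≤ M)

include hQ hD hq ht hgen hHM

/-- The basic step at chosen vectors. -/
lemma pWPair_step' {α β δ : F} (h : WPair Q D M α β) {a : Fin t} {za w : V} (hza : za ∈ D a)
    (hza0 : za ≠ 0) (hqa : Q za = α) (hw : w ∈ D a) (hw0 : w ≠ 0) (hwQ : Q w = δ)
    (hwf : polB Q w za = β - α) (hδ : δ + β ≠ 0) : WPair Q D M δ β := by
  haveI : Nontrivial (Fin t) := Fin.nontrivial_iff_two_le.mpr (by omega)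
  obtain ⟨b, hba⟩ := exists_ne a
  obtain ⟨_, b', -, _, -, zb', hzb', -, hzb'0, -, hqb', -⟩ := id h
  obtain ⟨φ, hφ⟩ := hD.iso b' b
  set zb : V := (φ ⟨zb', hzb'⟩ : D b).1
  have hzb : zb ∈ D b := (φ ⟨zb', hzb'⟩).2
  have hqb : Q zb = β := (hφ _).trans hqb'
  have hzb0 : zb ≠ 0 := fun e => hzb'0 (by
    have : φ ⟨zb', hzb'⟩ = 0 := Subtype.ext e
    rw [LinearEquiv.map_eq_zero_iff] at this
    exact congrArg Subtype.val this)
  have hz := pWPair_spread hQ hD ht hgen hHM h hba.symm hza hzb hza0 hzb0 hqa hqb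
  have hne : α + β ≠ 0 := pWPair_sum hQ hD ht hgen hHM h
  set c := w + za with hc
  have hcD : c ∈ D a := add_mem hw hza
  have hQc : Q c = δ + β := by rw [hc, qmap_add, hwQ, hwf, hqa]; ring
  have hzz : Q (za + zb) = α + β := by
    rw [qmap_add, hqa, hqb, hD.perp a b hba.symm za hza zb hzb, add_zero]
  have gc : SideGood Q D c := by
    have := sideGood_two hQ hD ht hcD (zero_mem (D b))
    rwa [add_zero] at this
  have h1 := pInW_refl hQ hD ht hgen hHM hz
    (pInW_side hQ hD ht hgen hHM hcD (by rw [hQc]; exact hδ)) (sideGood_two hQ hD ht hza hzb) gc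
  have e : (refl Q (za + zb)).1 c = w + -zb := by
    have hf : polB Q c (za + zb) = α + β := by
      rw [map_add, hD.perp a b hba.symm c hcD zb hzb, add_zero, hc, map_add,
        LinearMap.add_apply, hwf, polB_self, hqa]
      ring
    rw [refl_apply, hzz, hf, inv_mul_cancel₀ hne, one_smul, hc]
    abel
  rw [e] at h1
  exact ⟨a, b, hba.symm, w, hw, -zb, neg_mem hzb, hw0,
    neg_ne_zero.mpr hzb0, hwQ, by rw [qmap_neg, hqb], h1⟩

/-- All pairs, for planes with singular vectors. -/
lemma pWPair_all_plus (hplus : PlanePlus Q D) (h7 : 7 ≤ Fintype.card F) {α₀ β₀ : F}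
    (h : WPair Q D M α₀ β₀) {X Y : F} (hXY : X + Y ≠ 0) : WPair Q D M X Y := by
  classical
  let a : Fin t := ⟨0, by omega⟩
  have hvec : ∀ c : F, ∃ za ∈ D a, za ≠ 0 ∧ Q za = c := fun c => by
    by_cases hc : c = 0
    · obtain ⟨v, hv, hv0, hQv⟩ := hplus a
      exact ⟨v, hv, hv0, by rw [hQv, hc]⟩
    · obtain ⟨v, hv, hQv⟩ := exists_value_in (hD.nd a) (by rw [hD.dim]) hc
      exact ⟨v, hv, fun e => hc (by rw [← hQv, e, QuadraticMap.map_zero]), hQv⟩
  -- to a singular first component
  have toZero : ∀ {α β : F}, WPair Q D M α β → α ≠ β → β ≠ 0 → WPair Q D M 0 β := by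
    intro α β h hab hb
    obtain ⟨za, hza, hza0, hqa⟩ := hvec α
    obtain ⟨s, hs, hQs, hfs⟩ := exists_sing_pair_plane (Q := Q) (hD.nd a) (hD.dim a) (hplus a)
      hza hza0 (β - α)
    refine pWPair_step' hQ hD hq ht hgen hHM h hza hza0 hqa hs (fun e => ?_) hQs hfs (by simpa using hb)
    rw [e, map_zero, LinearMap.zero_apply] at hfs
    exact sub_ne_zero.mpr hab.symm hfs.symm
  -- from a singular first component to any
  have fromZero : ∀ {β δ : F}, WPair Q D M 0 β → δ + β ≠ 0 → WPair Q D M δ β := by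
    intro β δ h hδ
    have hb : β ≠ 0 := by simpa using pWPair_sum hQ hD ht hgen hHM h
    obtain ⟨za, hza, hza0, hqa⟩ := hvec 0
    obtain ⟨w, hw, hwf, hwQ⟩ := exists_of_mem_pVal
      (pVal_sing (Q := Q) (hD.nd a) (hD.dim a) hza hza0 hqa (δ / (β * β))) β
    rw [mul_div_cancel₀ _ (mul_ne_zero hb hb)] at hwQ
    refine pWPair_step' hQ hD hq ht hgen hHM h hza hza0 hqa hw (fun e => hb ?_) hwQ
      (by rw [hwf, sub_zero]) hδ
    rw [← hwf, e, map_zero, LinearMap.zero_apply]
  have symm : ∀ {α β : F}, WPair Q D M α β → WPair Q D M β α := fun h =>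
    pWPair_symm hQ hD ht hgen hHM h
  -- some singular pair
  obtain ⟨β, hβ⟩ : ∃ β, WPair Q D M 0 β := by
    by_cases ha : α₀ = 0
    · exact ⟨β₀, ha ▸ h⟩
    by_cases hb : β₀ = 0
    · exact ⟨α₀, symm (hb ▸ h)⟩
    by_cases hab : α₀ ≠ β₀
    · exact ⟨β₀, toZero h hab hb⟩
    push Not at hab
    subst hab
    obtain ⟨za, hza, hza0, hqa⟩ := hvec α₀
    obtain ⟨k, hk, hk0, hkz, -⟩ := exists_perp_vec (Q := Q) (hD.nd a) (hD.dim a) hza hza0
    have hQk := perp_nonsing (hD.nd a) (hD.dim a) hza (by rw [hqa]; exact ha) hk hk0 hkz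
    have hcard := quad_fiber_le (F := F) (a := Q k) (b := 0) (Or.inl hQk) 0 Finset.univ
    rw [Finset.card_univ] at hcard
    obtain ⟨δ, hδ, hδne⟩ := Finset.exists_mem_notMem_of_card_lt_card
      (s := ({0, α₀, -α₀} : Finset F))
      (t := Finset.univ.image fun s : F => 0 + s * 0 + s * s * Q k)
      (lt_of_le_of_lt Finset.card_le_three (by omega))
    simp only [Finset.mem_insert, Finset.mem_singleton, not_or] at hδne
    obtain ⟨s, -, rfl⟩ := Finset.mem_image.mp hδ
    have hs : s ≠ 0 := fun e => hδne.1 (by rw [e]; ring)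
    refine ⟨α₀, toZero (α := 0 + s * 0 + s * s * Q k) (pWPair_step' hQ hD hq ht hgen hHM h hza hza0
      hqa ((D a).smul_mem s hk) (smul_ne_zero hs hk0) (by rw [qmap_smul]; ring) (by simp [hkz]) ?_)
      hδne.2.1 hb⟩
    intro e
    exact hδne.2.2 (eq_neg_of_add_eq_zero_left e)
  have hβ0 : β ≠ 0 := by simpa using pWPair_sum hQ hD ht hgen hHM hβ
  -- every singular pair
  have hzero : ∀ δ : F, δ ≠ 0 → WPair Q D M 0 δ := by
    have h1 : ∀ {β δ : F}, WPair Q D M 0 β → δ ≠ 0 → δ + β ≠ 0 → WPair Q D M 0 δ := by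
      intro β δ h hδ0 hδ
      by_cases hδβ : δ = β
      · exact hδβ ▸ h
      · exact toZero (symm (fromZero h hδ)) (Ne.symm hδβ) hδ0
    intro δ hδ
    by_cases hsum : δ + β = 0
    · obtain ⟨m, -, hm⟩ := Finset.exists_mem_notMem_of_card_lt_card
        (s := ({0, -β, β} : Finset F)) (t := Finset.univ)
        (lt_of_le_of_lt Finset.card_le_three (by rw [Finset.card_univ]; omega))
      simp only [Finset.mem_insert, Finset.mem_singleton, not_or] at hm
      refine h1 (h1 hβ hm.1 fun e => hm.2.1 (eq_neg_of_add_eq_zero_left e)) hδ fun e => hm.2.2 ?_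
      linear_combination e - hsum
    · exact h1 hβ hδ hsum
  by_cases hY : Y = 0
  · subst hY
    exact symm (hzero X (by simpa using hXY))
  · exact fromZero (hzero Y hY) hXY

/-- All pairs, for planes without singular vectors. -/
lemma pWPair_all_minus (hm : PlaneMinus Q D) (h4 : 4 ≤ Fintype.card F)
    (h3 : Fintype.card F ≠ 3) {α₀ β₀ : F} (h : WPair Q D M α₀ β₀) {X Y : F} (hX : X ≠ 0)
    (hY : Y ≠ 0) (hXY : X + Y ≠ 0) : WPair Q D M X Y := by
  classical
  let a : Fin t := ⟨0, by omega⟩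
  have symm : ∀ {α β : F}, WPair Q D M α β → WPair Q D M β α := fun h =>
    pWPair_symm hQ hD ht hgen hHM h
  have hne : ∀ {α β : F}, WPair Q D M α β → α ≠ 0 ∧ β ≠ 0 := by
    rintro α β ⟨i, j, -, za, hza, zb, hzb, hza0, hzb0, rfl, rfl, -⟩
    exact ⟨fun e => hza0 (hm i za hza e), fun e => hzb0 (hm j zb hzb e)⟩
  have hvec : ∀ c : F, c ≠ 0 → ∃ za ∈ D a, za ≠ 0 ∧ Q za = c := fun c hc => by
    obtain ⟨v, hv, hQv⟩ := exists_value_in (hD.nd a) (by rw [hD.dim]) hc
    exact ⟨v, hv, fun e => hc (by rw [← hQv, e, QuadraticMap.map_zero]), hQv⟩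
  -- the first component is arbitrary
  have key : ∀ {α β δ : F}, WPair Q D M α β → δ ≠ 0 → δ + β ≠ 0 → WPair Q D M δ β := by
    intro α₁ β δ h₁ hδ hδβ
    have hβ : β ≠ 0 := (hne h₁).2
    -- first separate equal values
    obtain ⟨α, h, hαβ⟩ : ∃ α, WPair Q D M α β ∧ α ≠ β := by
      by_cases hab : α₁ ≠ β
      · exact ⟨α₁, h₁, hab⟩
      push Not at hab
      subst hab
      have h2 : (2 : F) ≠ 0 := fun h2 => pWPair_sum hQ hD ht hgen hHM h₁ (by
        linear_combination α₁ * h2)
      obtain ⟨za, hza, hza0, hqa⟩ := hvec α₁ hβ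
      obtain ⟨k, hk, hk0, hkz, -⟩ := exists_perp_vec (Q := Q) (hD.nd a) (hD.dim a) hza hza0
      obtain ⟨r, hr0, hr1, hr2⟩ : ∃ r : F, r ≠ 0 ∧ r * r * Q k ≠ α₁ ∧ r * r * Q k ≠ -α₁ := by
        have hminus : ∀ r : F, r * r * Q k ≠ -α₁ := fun r e => by
          have h0 : za + r • k = 0 := hm a _ (add_mem hza ((D a).smul_mem _ hk)) (by
            rw [qmap_add_smul, hqa, polB_comm za k, hkz, e]; ring)
          have := congrArg (fun v => polB Q v za) h0
          simp [hkz, polB_self, hqa, h2, hβ] at this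
        by_cases h1 : (1 : F) * 1 * Q k = α₁
        · obtain ⟨b, hb0, hb1, hb2⟩ : ∃ b : F, b ≠ 0 ∧ b ≠ 1 ∧ b ≠ -1 := by
            obtain ⟨b, -, hb⟩ := Finset.exists_mem_notMem_of_card_lt_card
              (s := ({0, 1, -1} : Finset F)) (t := Finset.univ)
              (lt_of_le_of_lt Finset.card_le_three (by rw [Finset.card_univ]; omega))
            simp only [Finset.mem_insert, Finset.mem_singleton, not_or] at hb
            exact ⟨b, hb.1, hb.2.1, hb.2.2⟩
          refine ⟨b, hb0, fun e => ?_, hminus b⟩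
          have : (b - 1) * (b + 1) * Q k = 0 := by linear_combination e - h1
          rcases mul_eq_zero.mp ((mul_eq_zero.mp this).resolve_right
            (fun e0 => hk0 (hm a k hk e0))) with e' | e'
          · exact hb1 (sub_eq_zero.mp e')
          · exact hb2 (eq_neg_of_add_eq_zero_left e')
        · exact ⟨1, one_ne_zero, h1, hminus 1⟩
      refine ⟨r * r * Q k, pWPair_step' hQ hD hq ht hgen hHM h₁ hza hza0 hqa ((D a).smul_mem r hk)
        (smul_ne_zero hr0 hk0) (qmap_smul r k) (by simp [hkz]) (fun e => hr2 ?_), hr1⟩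
      exact eq_neg_of_add_eq_zero_left e
    have hα : α ≠ 0 := (hne h).1
    obtain ⟨za, hza, hza0, hqa⟩ := hvec α hα
    obtain ⟨w, hw, hw0, hwQ⟩ := hvec δ hδ
    have hd : β - α ≠ 0 := sub_ne_zero.mpr hαβ.symm
    -- the values reached from `α` and those reaching `δ`
    set A := ((pVal Q (D a) za).image fun v => (β - α) * (β - α) * v).erase (-β) with hA
    have hAcard : Fintype.card F ≤ 2 * A.card + 2 := by
      have h1 := card_pVal (Q := Q) (hD.nd a) (hD.dim a) hza hza0
      rw [← Finset.card_image_of_injective (pVal Q (D a) za)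
        (mul_right_injective₀ (mul_ne_zero hd hd))] at h1
      have h2 := Finset.pred_card_le_card_erase
        (s := (pVal Q (D a) za).image fun v => (β - α) * (β - α) * v) (a := -β)
      rw [← hA] at h2
      omega
    obtain ⟨T, hT, hTval⟩ := card_circle_val (Q := Q) (hD.nd a) (hD.dim a) (hm a) hw hw0 hδβ
    set B := (T.image fun φ => 2 * δ + β - φ).erase (-β) with hB
    have hBcard : Fintype.card F + 1 ≤ 2 * B.card + 2 := by
      rw [← Finset.card_image_of_injective T (sub_right_injective (b := 2 * δ + β))] at hT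
      have h2 := Finset.pred_card_le_card_erase
        (s := T.image fun φ => 2 * δ + β - φ) (a := -β)
      rw [← hB] at h2
      omega
    have hnegβ : -β ≠ 0 := neg_ne_zero.mpr hβ
    have hB0 : ∀ m ∈ B, m ≠ 0 ∧ m ≠ -β ∧ ∃ c ∈ D a, c ≠ 0 ∧ Q c = m ∧ polB Q w c = β - m := by
      intro m hm'
      obtain ⟨hm1, hm2⟩ := Finset.mem_erase.mp hm'
      obtain ⟨φ, hφ, rfl⟩ := Finset.mem_image.mp hm2
      obtain ⟨c, hc, hQc, hfc⟩ := hTval φ hφ
      have hQcw : Q (c - w) = 2 * δ + β - φ := by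
        rw [qmap_sub, hQc, hwQ, polB_comm c w, hfc]; ring
      have hcw : c - w ≠ 0 := fun e => hβ (by
        rw [sub_eq_zero.mp e, hwQ] at hQc
        linear_combination -hQc)
      refine ⟨fun e => hcw (hm a _ (sub_mem hc hw) (hQcw.trans e)), hm1, c - w, sub_mem hc hw, hcw,
        hQcw, ?_⟩
      rw [map_sub, hfc, polB_self, hwQ]; ring
    have hA0 : ∀ m ∈ A, m ≠ 0 ∧ m ≠ -β ∧ ∃ c ∈ D a, Q c = m ∧ polB Q c za = β - α := by
      intro m hm'
      obtain ⟨hm1, hm2⟩ := Finset.mem_erase.mp hm'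
      obtain ⟨v, hv, rfl⟩ := Finset.mem_image.mp hm2
      obtain ⟨c, hc, hfc, hQc⟩ := exists_of_mem_pVal hv (β - α)
      exact ⟨mul_ne_zero (mul_ne_zero hd hd) fun e => zero_notMem_pVal (hm a) (e ▸ hv), hm1, c, hc,
        hQc, hfc⟩
    obtain ⟨m, hm'⟩ : (A ∩ B).Nonempty := by
      rw [← Finset.card_pos]
      have h1 := Finset.card_union_add_card_inter A B
      have h2 : (A ∪ B).card ≤ ((Finset.univ.erase (0 : F)).erase (-β)).card := by
        refine Finset.card_le_card fun x hx => ?_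
        rcases Finset.mem_union.mp hx with hx | hx
        · exact Finset.mem_erase.mpr ⟨(hA0 x hx).2.1, Finset.mem_erase.mpr ⟨(hA0 x hx).1, Finset.mem_univ _⟩⟩
        · exact Finset.mem_erase.mpr ⟨(hB0 x hx).2.1, Finset.mem_erase.mpr ⟨(hB0 x hx).1, Finset.mem_univ _⟩⟩
      rw [Finset.card_erase_of_mem (Finset.mem_erase.mpr ⟨hnegβ, Finset.mem_univ _⟩),
        Finset.card_erase_of_mem (Finset.mem_univ _), Finset.card_univ] at h2
      omega
    obtain ⟨hmA, hmB⟩ := Finset.mem_inter.mp hm'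
    obtain ⟨hm0, hmb, c, hc, hQc, hfc⟩ := hA0 m hmA
    obtain ⟨-, -, c', hc', hc'0, hQc', hfc'⟩ := hB0 m hmB
    have h1 := pWPair_step' hQ hD hq ht hgen hHM h hza hza0 hqa hc
      (fun e => hd (by rw [← hfc, e, map_zero, LinearMap.zero_apply])) hQc hfc
      (fun e => hmb (eq_neg_of_add_eq_zero_left e))
    exact pWPair_step' hQ hD hq ht hgen hHM h1 hc' hc'0 hQc' hw hw0 hwQ hfc' hδβ
  obtain ⟨W, -, hW⟩ := Finset.exists_mem_notMem_of_card_lt_card
    (s := ({0, -β₀, -X} : Finset F)) (t := Finset.univ)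
    (lt_of_le_of_lt Finset.card_le_three (by rw [Finset.card_univ]; omega))
  simp only [Finset.mem_insert, Finset.mem_singleton, not_or] at hW
  have h1 := key h hW.1 fun e => hW.2.1 (eq_neg_of_add_eq_zero_left e)
  have h2 := key (δ := X) (symm (key (δ := W) h hW.1 fun e => hW.2.1 (eq_neg_of_add_eq_zero_left e)))
  by_cases hXb : X + W = 0
  · exact absurd (eq_neg_of_add_eq_zero_right hXb) hW.2.2
  by_cases hβW : β₀ + W = 0
  · exact absurd (eq_neg_of_add_eq_zero_right hβW) hW.2.1
  exact symm (key (symm (h2 hX hXb)) hY (by rwa [add_comm]))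

open scoped Classical in
/-- Dropping a component. -/
lemma pInW_drop (hpair : ∀ (b c : Fin t) (u v : V), b ≠ c → u ∈ D b → v ∈ D c → Q (u + v) ≠ 0 →
      InW Q D M (u + v)) {z : V} (hz : Q z ≠ 0) {b c : Fin t} (hbc : b ≠ c)
    (hb : dpart hQ hD b z ≠ 0) (hc : dpart hQ hD c z ≠ 0)
    (ih : ∀ u : V, Q u ≠ 0 →
      (Finset.univ.filter fun i => dpart hQ hD i u ≠ 0).card <
        (Finset.univ.filter fun i => dpart hQ hD i z ≠ 0).card → InW Q D M u)
    (he : ∃ e ∈ D b, Q e = Q (dpart hQ hD b z) + Q (dpart hQ hD c z) ∧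
      polB Q e (dpart hQ hD b z) ≠ 2 * (Q (dpart hQ hD b z) + Q (dpart hQ hD c z))) :
    InW Q D M z := by
  classical
  set pb := dpart hQ hD b z with hpbdef
  set pc := dpart hQ hD c z with hpcdef
  have hpb : pb ∈ D b := dpart_mem hQ hD b z
  have hpc : pc ∈ D c := dpart_mem hQ hD c z
  obtain ⟨e, he, hQe, hef⟩ := he
  set p := (pb - e) + pc with hp
  have hQp : Q p = 2 * (Q pb + Q pc) - polB Q e pb := by
    rw [hp, qmap_add, qmap_sub, hD.perp b c hbc _ (sub_mem hpb he) _ hpc, hQe, polB_comm pb e]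
    ring
  have hp0 : Q p ≠ 0 := by
    rw [hQp]
    exact fun h => hef (by linear_combination -h)
  have hpW : InW Q D M p := hpair b c _ _ hbc (sub_mem hpb he) hpc hp0
  have hfz : polB Q z p = Q p := by
    rw [hQp, hp, map_add, ← polB_dpart hQ hD b z (sub_mem hpb he), ← polB_dpart hQ hD c z hpc,
      ← hpbdef, ← hpcdef, map_sub, polB_self, polB_self, polB_comm pb e]
    ring
  have hu : (refl Q p).1 z = z - p := by
    rw [refl_apply, hfz, inv_mul_cancel₀ hp0, one_smul]
  have hu0 : Q (z - p) ≠ 0 := by rw [← hu, orth_qmap]; exact hz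
  have huc : dpart hQ hD c (z - p) = 0 := by
    rw [map_sub, hp, map_add, dpart_other hQ hD hbc.symm (sub_mem hpb he), dpart_of_mem hQ hD hpc,
      zero_add, ← hpcdef, sub_self]
  have hlt : (Finset.univ.filter fun i => dpart hQ hD i (z - p) ≠ 0).card <
      (Finset.univ.filter fun i => dpart hQ hD i z ≠ 0).card := by
    refine Finset.card_lt_card ((Finset.ssubset_iff_of_subset fun i hi => ?_).mpr ⟨c, ?_, ?_⟩)
    · simp only [Finset.mem_filter, Finset.mem_univ, true_and] at hi ⊢
      by_cases hib : i = b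
      · rw [hib]; exact hb
      by_cases hic : i = c
      · rw [hic] at hi; exact absurd huc hi
      intro h
      apply hi
      rw [map_sub, hp, map_add, h, dpart_other hQ hD hib (sub_mem hpb he),
        dpart_other hQ hD hic hpc, add_zero, sub_zero]
    · simp only [Finset.mem_filter, Finset.mem_univ, true_and]; exact hc
    · simp only [Finset.mem_filter, Finset.mem_univ, true_and, not_not]; exact huc
  have h := pInW_refl hQ hD ht hgen hHM hpW (ih _ hu0 hlt)
    (sideGood_two hQ hD ht (sub_mem hpb he) hpc) (sideGood_of_zero hQ hD huc)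
  rwa [← hu, ← orth_mul_apply, refl_sq, orth_one_apply] at h

/-- One pair puts every vector in the block. -/
theorem pInW_all (h4 : 4 ≤ Fintype.card F) {α β : F} (h : WPair Q D M α β) (z : V) (hz : Q z ≠ 0) :
    InW Q D M z := by
  classical
  have hpair : ∀ (b c : Fin t) (u v : V), b ≠ c → u ∈ D b → v ∈ D c → Q (u + v) ≠ 0 →
      InW Q D M (u + v) := by
    intro b c u v hbc hu hv h0
    by_cases hu0 : u = 0
    · subst hu0; rw [zero_add] at h0 ⊢; exact pInW_side hQ hD ht hgen hHM hv h0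
    by_cases hv0 : v = 0
    · subst hv0; rw [add_zero] at h0 ⊢; exact pInW_side hQ hD ht hgen hHM hu h0
    refine pWPair_spread hQ hD ht hgen hHM ?_ hbc hu hv hu0 hv0 rfl rfl
    have hsum : Q u + Q v ≠ 0 := by rwa [qmap_add, hD.perp b c hbc u hu v hv, add_zero] at h0
    rcases plane_type hD hq with ⟨hp, h7⟩ | ⟨hm, h3⟩
    · exact pWPair_all_plus hQ hD hq ht hgen hHM hp h7 h hsum
    · exact pWPair_all_minus hQ hD hq ht hgen hHM hm h4 h3 h (fun e => hu0 (hm b u hu e))
        (fun e => hv0 (hm c v hv e)) hsum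
  suffices key : ∀ n, ∀ z : V, Q z ≠ 0 →
      (Finset.univ.filter fun i => dpart hQ hD i z ≠ 0).card ≤ n → InW Q D M z from
    key _ z hz le_rfl
  haveI : Nonempty (Fin t) := ⟨⟨0, by omega⟩⟩
  intro n
  induction n with
  | zero =>
    intro z hz hn
    obtain ⟨i, hi⟩ := exists_nonsing_part hQ hD hz
    rw [Nat.le_zero, Finset.card_eq_zero, Finset.filter_eq_empty_iff] at hn
    exact absurd (fun e => hi (by rw [e, QuadraticMap.map_zero])) (hn (Finset.mem_univ i))
  | succ n ih =>
    intro z hz hn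
    set S := Finset.univ.filter fun i => dpart hQ hD i z ≠ 0 with hS
    have hmemS : ∀ i, i ∈ S ↔ dpart hQ hD i z ≠ 0 := fun i => by simp [hS]
    have hsum : ∑ i ∈ S, dpart hQ hD i z = z := by
      conv_rhs => rw [← sum_dpart hQ hD z]
      refine Finset.sum_subset (Finset.subset_univ _) fun i _ hi => ?_
      exact not_not.mp fun h => hi ((hmemS i).mpr h)
    by_cases h2S : S.card ≤ 1
    · rcases Finset.card_le_one_iff_subset_singleton.mp h2S with ⟨i, hi⟩
      rw [← hsum]
      rcases Finset.subset_singleton_iff.mp hi with e | e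
      · rw [e, Finset.sum_empty] at hsum
        exact absurd (by rw [← hsum, QuadraticMap.map_zero]) hz
      · rw [e, Finset.sum_singleton]
        exact pInW_side hQ hD ht hgen hHM (dpart_mem hQ hD i z) (by
          rw [e, Finset.sum_singleton] at hsum; rw [hsum]; exact hz)
    have ih' : ∀ u : V, Q u ≠ 0 →
        (Finset.univ.filter fun i => dpart hQ hD i u ≠ 0).card < S.card → InW Q D M u :=
      fun u hu hlt => ih u hu (by omega)
    -- a value with a good second vector
    have choose_e : ∀ (b : Fin t) (pb : V) (T : F), pb ∈ D b → pb ≠ 0 → T ≠ 0 →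
        ∃ e ∈ D b, Q e = T ∧ polB Q e pb ≠ 2 * T := by
      intro b pb T hpb hpb0 hT
      obtain ⟨a, ha, a', ha', hQa, hQa', -, hpar⟩ :=
        exists_rot_pair (Q := Q) (hD.nd b) (hD.dim b) (planeHyp_at hq b) hT
      by_contra hcon
      push Not at hcon
      have e1 := hcon a ha hQa
      have e2 := hcon (-a) (neg_mem ha) (by rw [qmap_neg, hQa])
      rw [map_neg, LinearMap.neg_apply, e1] at e2
      have h4 : (2 : F) * 2 * T = 0 := by linear_combination -e2
      have h2 : (2 : F) = 0 := by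
        rcases mul_eq_zero.mp h4 with e | e
        · exact mul_self_eq_zero.mp e
        · exact absurd e hT
      rw [h2, zero_mul] at hcon
      have ha0 : a ≠ 0 := fun e => hT (by rw [← hQa, e, QuadraticMap.map_zero])
      obtain ⟨r, hr⟩ := perp_par (hD.nd b) (hD.dim b) hpb hpb0 ha ha0 (hcon a ha hQa) ha'
        (hcon a' ha' hQa')
      exact hpar r hr
    -- either some pair has non-zero total or every one vanishes
    by_cases hgood : ∃ b ∈ S, ∃ c ∈ S, b ≠ c ∧ Q (dpart hQ hD b z) + Q (dpart hQ hD c z) ≠ 0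
    · obtain ⟨b, hb, c, hc, hbc, hT⟩ := hgood
      exact pInW_drop hQ hD hq ht hgen hHM hpair hz hbc ((hmemS b).mp hb) ((hmemS c).mp hc) ih'
        (choose_e b _ _ (dpart_mem hQ hD b z) ((hmemS b).mp hb) hT)
    push Not at hgood
    obtain ⟨b, hb⟩ : S.Nonempty := by rw [← Finset.card_pos]; omega
    obtain ⟨c, hc, hcb⟩ := Finset.exists_mem_ne (s := S) (by omega) b
    rcases plane_type hD hq with ⟨hp, h7⟩ | ⟨hm, h3⟩
    · obtain ⟨e, he, hQe, hfe⟩ := exists_sing_pair_plane (Q := Q) (hD.nd b) (hD.dim b) (hp b)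
        (dpart_mem hQ hD b z) ((hmemS b).mp hb) 1
      refine pInW_drop hQ hD hq ht hgen hHM hpair hz hcb.symm ((hmemS b).mp hb) ((hmemS c).mp hc)
        ih' ⟨e, he, ?_, ?_⟩
      · rw [hQe, hgood b hb c hc hcb.symm]
      · rw [hfe, hgood b hb c hc hcb.symm, mul_zero]; exact one_ne_zero
    have hzQ : Q z = ∑ i ∈ S, Q (dpart hQ hD i z) := by
      rw [qmap_dpart hQ hD z]
      refine (Finset.sum_subset (Finset.subset_univ _) fun i _ hi => ?_).symm
      rw [not_not.mp fun h => hi ((hmemS i).mpr h), QuadraticMap.map_zero]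
    have h3S : 3 ≤ S.card := by
      by_contra hlt
      obtain ⟨u, v, huv, e⟩ := Finset.card_eq_two.mp (by omega : S.card = 2)
      apply hz
      rw [hzQ, e, Finset.sum_pair huv]
      exact hgood u (by simp [e]) v (by simp [e]) huv
    obtain ⟨d, hd, hdbc⟩ := Finset.exists_mem_notMem_of_card_lt_card (s := ({b, c} : Finset (Fin t)))
      (t := S) (lt_of_le_of_lt Finset.card_le_two (by omega))
    simp only [Finset.mem_insert, Finset.mem_singleton, not_or] at hdbc
    set pb := dpart hQ hD b z with hpbdef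
    set pc := dpart hQ hD c z with hpcdef
    set q₀ := Q pb with hq₀
    have hqb : q₀ ≠ 0 := fun e => (hmemS b).mp hb (hm b _ (dpart_mem hQ hD b z) e)
    have hqc : Q pc = -q₀ := eq_neg_of_add_eq_zero_right (hgood b hb c hc hcb.symm)
    have hqd : Q (dpart hQ hD d z) = -q₀ :=
      eq_neg_of_add_eq_zero_right (hgood b hb d hd (Ne.symm hdbc.1))
    have h2 : (2 : F) = 0 := by
      have h := hgood c hc d hd (Ne.symm hdbc.2)
      rw [hqc, hqd] at h
      exact (mul_eq_zero.mp (show (2 : F) * q₀ = 0 by linear_combination -h)).resolve_right hqb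
    have hneg : -q₀ = q₀ := by linear_combination -q₀ * h2
    rw [hneg] at hqc hqd
    have hcard := card_pVal (Q := Q) (hD.nd b) (hD.dim b) (dpart_mem hQ hD b z) ((hmemS b).mp hb)
    obtain ⟨v, hv, hvne⟩ := Finset.exists_mem_ne (s := pVal Q (D b) pb) (by rw [← hpbdef] at hcard; omega) q₀⁻¹
    have hv0 : v ≠ 0 := fun e => zero_notMem_pVal (hm b) (e ▸ hv)
    obtain ⟨w, hw, hwf, hQw⟩ := exists_of_mem_pVal hv q₀
    have hQw0 : Q w ≠ 0 := by rw [hQw]; exact mul_ne_zero (mul_ne_zero hqb hqb) hv0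
    have hQwne : Q w ≠ q₀ := by
      rw [hQw]
      intro e
      refine hvne (eq_inv_of_mul_eq_one_right (mul_left_cancel₀ hqb ?_))
      rw [mul_one, ← mul_assoc]; exact e
    set p := w + pc with hp
    have hpcD : pc ∈ D c := dpart_mem hQ hD c z
    have hQp : Q p = Q w + q₀ := by
      rw [hp, qmap_add, hD.perp b c hcb.symm w hw pc hpcD, hqc, add_zero]
    have hp0 : Q p ≠ 0 := by
      rw [hQp]; intro e; exact hQwne (by linear_combination e - q₀ * h2)
    have hfz : polB Q z p = q₀ := by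
      rw [hp, map_add, ← polB_dpart hQ hD b z hw, ← polB_dpart hQ hD c z hpcD, ← hpbdef, ← hpcdef,
        polB_comm pb w, hwf, polB_self, h2, zero_mul, add_zero]
    set lam := (Q p)⁻¹ * q₀ with hlam
    have hlam0 : lam ≠ 0 := mul_ne_zero (inv_ne_zero hp0) hqb
    have hlam1 : lam ≠ 1 := by
      rw [hlam]
      intro e
      rw [inv_mul_eq_iff_eq_mul₀ hp0, mul_one, hQp] at e
      exact hQw0 (by linear_combination -e)
    set z' := (refl Q p).1 z with hz'
    have hz'e : z' = z - lam • p := by rw [hz', refl_apply, hfz]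
    have hz'0 : Q z' ≠ 0 := by rw [hz', orth_qmap]; exact hz
    have hsub : (Finset.univ.filter fun i => dpart hQ hD i z' ≠ 0) ⊆ S := fun i hi => by
      simp only [Finset.mem_filter, Finset.mem_univ, true_and] at hi
      refine (hmemS i).mpr fun h0 => hi ?_
      have hib : i ≠ b := fun e => (hmemS b).mp hb (e ▸ h0)
      have hic : i ≠ c := fun e => (hmemS c).mp hc (e ▸ h0)
      rw [hz'e, map_sub, map_smul, hp, map_add, dpart_other hQ hD hib hw,
        dpart_other hQ hD hic hpcD, h0, add_zero, smul_zero, sub_zero]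
    have hc' : dpart hQ hD c z' = (1 - lam) • pc := by
      rw [hz'e, map_sub, map_smul, hp, map_add, dpart_other hQ hD hcb hw, dpart_of_mem hQ hD hpcD,
        zero_add, ← hpcdef, sub_smul, one_smul]
    have hd' : dpart hQ hD d z' = dpart hQ hD d z := by
      rw [hz'e, map_sub, map_smul, hp, map_add, dpart_other hQ hD hdbc.1 hw,
        dpart_other hQ hD hdbc.2 hpcD, add_zero, smul_zero, sub_zero]
    have hc'0 : dpart hQ hD c z' ≠ 0 := by
      rw [hc']; exact smul_ne_zero (sub_ne_zero.mpr hlam1.symm) ((hmemS c).mp hc)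
    have hd'0 : dpart hQ hD d z' ≠ 0 := by rw [hd']; exact (hmemS d).mp hd
    have hT : Q (dpart hQ hD c z') + Q (dpart hQ hD d z') ≠ 0 := by
      rw [hc', hd', qmap_smul, hqc, hqd]
      intro e
      have : lam * lam * q₀ = 0 := by linear_combination e + (lam * q₀ - q₀) * h2
      exact mul_ne_zero (mul_ne_zero hlam0 hlam0) hqb this
    have hle := Finset.card_le_card hsub
    have hW : InW Q D M z' := pInW_drop hQ hD hq ht hgen hHM hpair hz'0 (Ne.symm hdbc.2) hc'0 hd'0
      (fun u hu hlt => ih u hu (by omega))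
      (choose_e c _ _ (dpart_mem hQ hD c z') hc'0 hT)
    have h := pInW_refl hQ hD ht hgen hHM (hpair b c w pc hcb.symm hw hpcD hp0) hW
      (sideGood_two hQ hD ht hw hpcD) (sideGood_of_two_eq_zero hQ hD h2 hz'0)
    rwa [hz', ← orth_mul_apply, refl_sq, orth_one_apply] at h

/-- Over two elements, one mixed vector puts every vector in the block. -/
theorem pInW_all_two (h2q : Fintype.card F = 2) {z₀ : V} (hz₀ : InW Q D M z₀)
    (hmix : ∀ m, z₀ ∉ D m) (z : V) (hz : Q z ≠ 0) : InW Q D M z := by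
  classical
  obtain ⟨hm, -⟩ : PlaneMinus Q D ∧ Fintype.card F ≠ 3 := hq.resolve_left (by omega)
  have hone : ∀ x : F, x ≠ 0 → x = 1 := by
    intro x hx
    by_contra h1
    have : ({0, 1, x} : Finset F).card = 3 :=
      Finset.card_eq_three.mpr ⟨0, 1, x, zero_ne_one, Ne.symm hx, Ne.symm h1, rfl⟩
    have h := Finset.card_le_univ ({0, 1, x} : Finset F)
    omega
  have h2 : (2 : F) = 0 := by
    have h := FiniteField.cast_card_eq_zero F
    rw [h2q] at h
    exact_mod_cast h
  have hval : ∀ i v, v ∈ D i → v ≠ 0 → Q v = 1 := fun i v hv hv0 =>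
    hone _ fun e => hv0 (hm i v hv e)
  -- vectors with as many components form one orbit
  have horbit : ∀ z z' : V, InW Q D M z →
      (Finset.univ.filter fun i => dpart hQ hD i z ≠ 0).card =
        (Finset.univ.filter fun i => dpart hQ hD i z' ≠ 0).card → InW Q D M z' := by
    intro z z' hW hcard
    obtain ⟨_, _, _, hc, -⟩ := id hW
    let e : {i // dpart hQ hD i z ≠ 0} ≃ {i // dpart hQ hD i z' ≠ 0} :=
      Fintype.equivOfCardEq (by rw [Fintype.card_subtype, Fintype.card_subtype]; exact hcard)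
    have hiff : ∀ i, dpart hQ hD i z = 0 ↔ dpart hQ hD (e.extendSubtype i) z' = 0 := fun i => by
      by_cases h : dpart hQ hD i z = 0
      · simp only [h, true_iff]
        exact not_not.mp (e.extendSubtype_not_mem i (not_not.mpr h))
      · simp only [h, false_iff]
        exact e.extendSubtype_mem i h
    obtain ⟨g, hg, hgz, -⟩ := exists_dstab_map hQ hD (z := z) (z' := z') e.extendSubtype hiff
      (fun i => by
        by_cases h : dpart hQ hD i z = 0
        · rw [h, (hiff i).mp h]
        · rw [hval i _ (dpart_mem hQ hD i z) h,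
            hval _ _ (dpart_mem hQ hD _ z') (fun e' => h ((hiff i).mpr e'))])
    exact hgz ▸ pInW_dstab hQ hD ht hgen hHM hW (sideGood_of_two_eq_zero hQ hD h2 hc.1) hg
  have hcount : ∀ z : V, Q z =
      ((Finset.univ.filter fun i => dpart hQ hD i z ≠ 0).card : F) := fun z => by
    rw [qmap_dpart hQ hD z, ← Finset.sum_subset
      (s₁ := Finset.univ.filter fun i => dpart hQ hD i z ≠ 0) (Finset.subset_univ _)
      (fun i _ hi => by
        have h0 : dpart hQ hD i z = 0 := by simpa using hi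
        rw [h0, QuadraticMap.map_zero]),
      Finset.sum_congr rfl fun i hi => hval i _ (dpart_mem hQ hD i z) (Finset.mem_filter.mp hi).2]
    simp
  -- two vectors of value one and their difference
  have hother : ∀ i, ∀ p ∈ D i, p ≠ 0 → ∃ e ∈ D i, e ≠ 0 ∧ e ≠ p ∧ polB Q e p = 1 ∧ Q e = 1 := by
    intro i p hp hp0
    obtain ⟨w, hw, hwp⟩ := ndOn_exists_polB (hD.nd i) hp hp0 (1 : F)
    have hw0 : w ≠ 0 := fun e => by rw [e, map_zero, LinearMap.zero_apply] at hwp; exact zero_ne_one hwp
    refine ⟨w, hw, hw0, fun e => ?_, hwp, hval i w hw hw0⟩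
    rw [e, polB_self, h2, zero_mul] at hwp
    exact zero_ne_one hwp
  obtain ⟨_, _, _, hc₀, -⟩ := id hz₀
  set S₀ := Finset.univ.filter fun i => dpart hQ hD i z₀ ≠ 0 with hS₀
  have hS₀3 : 3 ≤ S₀.card := by
    have h := hcount z₀
    rw [← hS₀] at h
    by_contra hlt
    have hcases : S₀.card = 0 ∨ S₀.card = 1 ∨ S₀.card = 2 := by omega
    rcases hcases with e | e | e
    · rw [e, Nat.cast_zero] at h; exact hc₀.1 h
    · obtain ⟨i, hi⟩ := Finset.card_eq_one.mp e
      refine hmix i ?_
      rw [← sum_dpart hQ hD z₀, Finset.sum_eq_single i (fun j _ hj => ?_) (by simp)]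
      · exact dpart_mem hQ hD i z₀
      · refine not_not.mp fun h' => hj ?_
        have : j ∈ S₀ := by simp [hS₀, h']
        rw [hi, Finset.mem_singleton] at this
        exact this
    · rw [e] at h; push_cast at h; exact hc₀.1 (h.trans h2)
  obtain ⟨a, b, c, ha, hb, hc, hab, hac, hbc⟩ := Finset.two_lt_card_iff.mp (show 2 < S₀.card by omega)
  simp only [hS₀, Finset.mem_filter, Finset.mem_univ, true_and] at ha hb hc
  -- a vector of the block with exactly three components
  have htriple : ∀ (a b c : Fin t) (u v w : V), a ≠ b → a ≠ c → b ≠ c → u ∈ D a → v ∈ D b → w ∈ D c →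
      u ≠ 0 → v ≠ 0 → w ≠ 0 →
      (Finset.univ.filter fun i => dpart hQ hD i (u + v + w) ≠ 0).card = 3 := by
    intro a b c u v w hab hac hbc hu hv hw hu0 hv0 hw0
    rw [Finset.card_eq_three]
    refine ⟨a, b, c, hab, hac, hbc, ?_⟩
    ext i
    simp only [Finset.mem_filter, Finset.mem_univ, true_and, Finset.mem_insert, Finset.mem_singleton]
    rw [map_add, map_add]
    by_cases hia : i = a
    · subst hia
      simp [dpart_of_mem hQ hD hu, dpart_other hQ hD hab hv, dpart_other hQ hD hac hw, hu0]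
    by_cases hib : i = b
    · subst hib
      simp [dpart_of_mem hQ hD hv, dpart_other hQ hD hia hu, dpart_other hQ hD hbc hw, hv0]
    by_cases hic : i = c
    · subst hic
      simp [dpart_of_mem hQ hD hw, dpart_other hQ hD hia hu, dpart_other hQ hD hib hv, hw0]
    simp [dpart_other hQ hD hia hu, dpart_other hQ hD hib hv, dpart_other hQ hD hic hw, hia, hib, hic]
  obtain ⟨ea, hea, hea0, -, hfa, hQa⟩ := hother a _ (dpart_mem hQ hD a z₀) ha
  obtain ⟨eb, heb, heb0, -, hfb, hQb⟩ := hother b _ (dpart_mem hQ hD b z₀) hb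
  obtain ⟨ec, hec, hec0, -, hfc, hQc⟩ := hother c _ (dpart_mem hQ hD c z₀) hc
  have hQz₀ : Q z₀ = 1 := hone _ hc₀.1
  have hstep : ∀ {i : Fin t} {e u : V}, InW Q D M u → Q u ≠ 0 → e ∈ D i → Q e = 1 →
      polB Q u e = 1 → InW Q D M (u - e) ∧ Q (u - e) ≠ 0 := by
    intro i e u hu hu0 he hQe hf
    have h : (refl Q e).1 u = u - e := by rw [refl_apply, hQe, hf, inv_one, one_mul, one_smul]
    exact ⟨h ▸ pInW_dstab hQ hD ht hgen hHM hu (sideGood_of_two_eq_zero hQ hD h2 hu0)
      (refl_mem_DStab hD he), by rw [← h, orth_qmap]; exact hu0⟩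
  have hfz : ∀ {i : Fin t} {e : V}, e ∈ D i → polB Q e (dpart hQ hD i z₀) = 1 → polB Q z₀ e = 1 :=
    fun {i e} he hf => by rw [← polB_dpart hQ hD i z₀ he, polB_comm]; exact hf
  obtain ⟨h1, h1'⟩ := hstep hz₀ hc₀.1 hea hQa (hfz hea hfa)
  obtain ⟨h2', h2''⟩ := hstep h1 h1' heb hQb (by
    rw [map_sub, LinearMap.sub_apply, hfz heb hfb, hD.perp a b hab ea hea eb heb, sub_zero])
  obtain ⟨h3', h3''⟩ := hstep h2' h2'' hec hQc (by
    rw [map_sub, map_sub, LinearMap.sub_apply, LinearMap.sub_apply, hfz hec hfc,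
      hD.perp a c hac ea hea ec hec, hD.perp b c hbc eb heb ec hec, sub_zero, sub_zero])
  have hT : InW Q D M (ea + eb + ec) := by
    have h := pInW_refl hQ hD ht hgen hHM hz₀ h3' (sideGood_of_two_eq_zero hQ hD h2 hc₀.1)
      (sideGood_of_two_eq_zero hQ hD h2 h3'')
    have hn : ∀ x : V, -x = x := fun x => by
      rw [neg_eq_iff_add_eq_zero, ← two_smul F x, h2, zero_smul]
    have hf : polB Q (z₀ - ea - eb - ec) z₀ = 1 := by
      simp only [map_sub, LinearMap.sub_apply, polB_self, h2, zero_mul, polB_comm _ z₀,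
        hfz hea hfa, hfz heb hfb, hfz hec hfc]
      linear_combination -2 * h2
    rw [refl_apply, hQz₀, hf, inv_one, one_mul, one_smul,
      show z₀ - ea - eb - ec - z₀ = -(ea + eb + ec) by abel, hn] at h
    exact h
  suffices key : ∀ n, ∀ z : V, Q z ≠ 0 →
      (Finset.univ.filter fun i => dpart hQ hD i z ≠ 0).card ≤ n → InW Q D M z from
    key _ z hz le_rfl
  intro n
  induction n using Nat.strong_induction_on with
  | _ n ih =>
    intro z hz hn
    set S := Finset.univ.filter fun i => dpart hQ hD i z ≠ 0 with hS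
    have hmemS : ∀ i, i ∈ S ↔ dpart hQ hD i z ≠ 0 := fun i => by simp [hS]
    have h := hcount z
    rw [← hS] at h
    by_cases h3 : S.card ≤ 3
    · have hcases : S.card = 0 ∨ S.card = 1 ∨ S.card = 2 ∨ S.card = 3 := by omega
      rcases hcases with e | e | e | e
      · rw [e, Nat.cast_zero] at h; exact absurd h hz
      · obtain ⟨i, hi⟩ := Finset.card_eq_one.mp e
        have hzi : z = dpart hQ hD i z := by
          conv_lhs => rw [← sum_dpart hQ hD z]
          refine Finset.sum_eq_single i (fun j _ hj => not_not.mp fun h' => hj ?_) (by simp)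
          have := (hmemS j).mpr h'
          rw [hi, Finset.mem_singleton] at this
          exact this
        rw [hzi]
        exact pInW_side hQ hD ht hgen hHM (dpart_mem hQ hD i z) (by rw [← hzi]; exact hz)
      · rw [e] at h; push_cast at h; exact absurd (h.trans h2) hz
      · exact horbit _ z hT ((htriple a b c ea eb ec hab hac hbc hea heb hec hea0 heb0 hec0).trans e.symm)
    obtain ⟨i, j, l, hi, hj, hl, hij, hil, hjl⟩ := Finset.two_lt_card_iff.mp (show 2 < S.card by omega)
    rw [hmemS] at hi hj hl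
    obtain ⟨e, he, he0, hene, hfe, hQe⟩ := hother l _ (dpart_mem hQ hD l z) hl
    set p := dpart hQ hD i z + dpart hQ hD j z + e with hp
    have hpW : InW Q D M p := horbit _ p hT
      ((htriple a b c ea eb ec hab hac hbc hea heb hec hea0 heb0 hec0).trans
        (htriple i j l _ _ e hij hil hjl (dpart_mem hQ hD i z) (dpart_mem hQ hD j z) he hi hj he0).symm)
    obtain ⟨_, _, _, hcp, -⟩ := id hpW
    have hfp : polB Q z p = 1 := by
      rw [hp, map_add, map_add, ← polB_dpart hQ hD i z (dpart_mem hQ hD i z),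
        ← polB_dpart hQ hD j z (dpart_mem hQ hD j z), ← polB_dpart hQ hD l z he, polB_self,
        polB_self, h2, zero_mul, zero_mul, zero_add, zero_add, polB_comm, hfe]
    have hu : (refl Q p).1 z = z - p := by
      rw [refl_apply, hfp, hone _ hcp.1, inv_one, one_mul, one_smul]
    have hu0 : Q (z - p) ≠ 0 := by rw [← hu, orth_qmap]; exact hz
    have hlt : (Finset.univ.filter fun m => dpart hQ hD m (z - p) ≠ 0).card < S.card := by
      refine Finset.card_lt_card ((Finset.ssubset_iff_of_subset fun m hm' => ?_).mpr ⟨i, ?_, ?_⟩)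
      · simp only [Finset.mem_filter, Finset.mem_univ, true_and] at hm'
        by_contra hmS
        have hm0 : dpart hQ hD m z = 0 := not_not.mp fun h' => hmS ((hmemS m).mpr h')
        have h1 : m ≠ i := fun e' => hi (e' ▸ hm0)
        have h2 : m ≠ j := fun e' => hj (e' ▸ hm0)
        have h3 : m ≠ l := fun e' => hl (e' ▸ hm0)
        refine hm' ?_
        rw [map_sub, hp, map_add, map_add, dpart_other hQ hD h1 (dpart_mem hQ hD i z),
          dpart_other hQ hD h2 (dpart_mem hQ hD j z), dpart_other hQ hD h3 he, hm0]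
        simp
      · exact (hmemS i).mpr hi
      · simp [hp, dpart_of_mem hQ hD (dpart_mem hQ hD i z),
          dpart_other hQ hD hij (dpart_mem hQ hD j z), dpart_other hQ hD hil he]
    have h' := pInW_refl hQ hD ht hgen hHM hpW (ih _ (lt_of_lt_of_le hlt hn) _ hu0 le_rfl)
      (sideGood_of_two_eq_zero hQ hD h2 hcp.1) (sideGood_of_two_eq_zero hQ hD h2 hu0)
    rwa [← hu, ← orth_mul_apply, refl_sq, orth_one_apply] at h'

omit hHM in
/-- The stabiliser of a decomposition into planes is maximal. -/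
theorem plane_wreath_maximal :
    DStab Q D ⊓ commutator (orthGroup Q) < commutator (orthGroup Q) ∧
    ∀ M : Subgroup (orthGroup Q), DStab Q D ⊓ commutator (orthGroup Q) ≤ M →
      M ≤ commutator (orthGroup Q) →
      M = DStab Q D ⊓ commutator (orthGroup Q) ∨ M = commutator (orthGroup Q) := by
  classical
  have hn : 9 ≤ Module.finrank F V := by
    let L : ((i : Fin t) → D i) →ₗ[F] V := ∑ i, (D i).subtype ∘ₗ LinearMap.proj i
    have hinj : Function.Injective L := by
      rw [← LinearMap.ker_eq_bot, eq_bot_iff]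
      intro c hc
      rw [LinearMap.mem_ker] at hc
      have hs : ∑ i, (c i : V) = 0 := by simpa [L] using hc
      rw [Submodule.mem_bot]
      funext i
      refine Subtype.ext ?_
      have := dpart_sum hQ hD (fun i => (c i : V)) (fun i => (c i).2) i
      rw [hs, map_zero] at this
      exact this.symm
    have := LinearMap.finrank_le_finrank_of_injective hinj
    rw [Module.finrank_pi_fintype, Finset.sum_congr rfl fun i _ => hD.dim i, Finset.sum_const,
      Finset.card_univ, Fintype.card_fin, smul_eq_mul] at this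
    omega
  let i₀ : Fin t := ⟨0, by omega⟩
  let i₁ : Fin t := ⟨1, by omega⟩
  let i₂ : Fin t := ⟨2, by omega⟩
  have h01 : i₀ ≠ i₁ := by simp [i₀, i₁]
  have h02 : i₀ ≠ i₂ := by simp [i₀, i₂]
  have h12 : i₁ ≠ i₂ := by simp [i₁, i₂]
  refine ⟨lt_of_le_of_ne inf_le_right fun heq => ?_, fun M hHM hMC => ?_⟩
  · obtain ⟨a, ha, haQ⟩ := exists_value_in (hD.nd i₀) (by rw [hD.dim]) (one_ne_zero (α := F))
    obtain ⟨b, hb, hbQ⟩ := exists_value_in (hD.nd i₁) (by rw [hD.dim]) (one_ne_zero (α := F))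
    obtain ⟨c, hc, hcQ⟩ := exists_value_in (hD.nd i₂) (by rw [hD.dim])
      (neg_ne_zero.mpr (one_ne_zero (α := F)))
    have hy : Q (a + b + c) = 1 := by
      rw [qmap_add, qmap_add, map_add, LinearMap.add_apply, haQ, hbQ, hcQ,
        hD.perp i₀ i₁ h01 a ha b hb, hD.perp i₀ i₂ h02 a ha c hc, hD.perp i₁ i₂ h12 b hb c hc]
      ring
    obtain ⟨g, hg, hga⟩ := eichler_transitive hQ (by omega) (u := a) (v := a + b + c)
      (by rw [haQ]; exact one_ne_zero) (by rw [hy, haQ])
    rw [← commutator_eq_eichlerSub hQ (by omega), ← heq] at hg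
    obtain ⟨j, hj⟩ := DStab_maps hg.1 i₀
    have h1 := hj a ha
    rw [hga] at h1
    by_cases hj0 : j = i₀
    · have h := dpart_other hQ hD (i := i₁) (by rw [hj0]; exact h01.symm) h1
      rw [map_add, map_add, dpart_other hQ hD h01.symm ha, dpart_of_mem hQ hD hb,
        dpart_other hQ hD h12 hc, zero_add, add_zero] at h
      exact one_ne_zero (by rw [← hbQ, h, QuadraticMap.map_zero])
    · have h := dpart_other hQ hD (Ne.symm hj0) h1
      rw [map_add, map_add, dpart_of_mem hQ hD ha, dpart_other hQ hD h01 hb,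
        dpart_other hQ hD h02 hc, add_zero, add_zero] at h
      exact one_ne_zero (by rw [← haQ, h, QuadraticMap.map_zero])
  · by_cases hsub : M ≤ DStab Q D
    · exact Or.inl (le_antisymm (le_inf hsub hMC) hHM)
    obtain ⟨g, hg, hgD⟩ := Set.not_subset.mp hsub
    refine Or.inr (le_antisymm hMC ?_)
    obtain ⟨z, hz, hmix⟩ := exists_pSeed hQ hD hq ht hgen hHM hg hgD
    have hall : ∀ x : V, Q x ≠ 0 → InW Q D M x := by
      by_cases h2q : Fintype.card F = 2
      · exact pInW_all_two hQ hD hq ht hgen hHM h2q hz hmix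
      · have h4 : 4 ≤ Fintype.card F := by
          have := Fintype.one_lt_card (α := F)
          rcases hq with h | h
          · omega
          · omega
        obtain ⟨w, hw, hwmix, hwg⟩ : PlaneGood hQ hD M := by
          exact exists_good_five hQ hD hq ht hgen hHM hz hmix
        obtain ⟨α, β, hαβ⟩ := exists_pPair hQ hD hq ht hgen hHM h4 hw hwmix hwg
        exact pInW_all hQ hD hq ht hgen hHM h4 hαβ
    refine commutator_le_of_sameCls hQ hgen M fun x y hxy => ?_
    obtain ⟨w, hw, hwQ⟩ := exists_value_in (hD.nd i₀) (by rw [hD.dim]) hxy.1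
    have hxw : SameCls Q x w := sameCls_of_eq hxy.1 hwQ
    have h1 := pInW_pair hQ hD ht hgen hHM (hall x hxy.1) hw hxw
    have h2 := pInW_pair hQ hD ht hgen hHM (hall y hxy.2.1) hw (hxy.symm.trans hxw)
    have h3 := mul_mem h1 (inv_mem h2)
    rwa [mul_inv_rev, refl_inv, refl_inv, mul_assoc, ← mul_assoc (refl Q w), refl_sq,
      one_mul] at h3

end H45
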