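import Mathlib
import Cfsg.Agent.H45.PlaneTop
import Cfsg.Agent.H45.WreathFinal

/-!
# Maximality of decomposition stabilisers, members of dimension two
-/

set_option autoImplicit false
set_option linter.unusedSectionVars false

namespace H45

open H43
open scoped Matrix

variable {F : Type*} [Field F] [Fintype F] {ι : Type} [Fintype ι] [DecidableEq ι]
  {q : QuadraticForm F (ι → F)} {t k : ℕ} {D : Fin t → Submodule F (ι → F)}

lemma plusTypeOn_of_singular {U : Submodule F (ι → F)} (h2 : Module.finrank F U = 2) {x : ι → F}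
    (hx : x ∈ U) (hx0 : x ≠ 0) (hQx : q x = 0) : Cfsg.Geo.IsPlusTypeOn (⇑q) U := by
  refine ⟨Submodule.span F {x}, (Submodule.span_singleton_le_iff_mem _ _).mpr hx, ?_,
    by rw [finrank_span_singleton hx0, h2]⟩
  intro w hw
  obtain ⟨c, rfl⟩ := Submodule.mem_span_singleton.mp hw
  rw [qmap_smul, hQx, mul_zero]

/-- The criterion in the language of matrices, for members of dimension two. -/
theorem decomposition_maximal_two (hn : 10 ≤ Fintype.card ι) (hq : (polB q).Nondegenerate)
    (hD : Cfsg.Geo.IsOrthogonalMDecomposition (⇑q) 2 D) (h3 : Fintype.card F ≠ 3)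
    (hplus : 7 ≤ Fintype.card F ∨ ¬ ∀ i, Cfsg.Geo.IsPlusTypeOn (⇑q) (D i)) :
    Cfsg.Geo.IsMaximalIn (Cfsg.Geo.omegaGL ⇑q)
      (Cfsg.Geo.decompositionStabilizer D ⊓ Cfsg.Geo.omegaGL ⇑q) := by
  have hOD := od_of_decomposition hD
  have hsum := finrank_eq_mul hD
  have hPH : PlaneHyp q D := by
    refine hplus.imp_right fun hnp => ⟨fun i x hx hQx => ?_, h3⟩
    by_contra hx0
    refine hnp fun j => ?_
    obtain ⟨φ, hφ⟩ := hOD.iso i j
    refine plusTypeOn_of_singular (hOD.dim j) (φ ⟨x, hx⟩).2 (fun h => hx0 ?_)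
      ((hφ _).trans hQx)
    have : φ ⟨x, hx⟩ = 0 := Subtype.ext h
    rw [LinearEquiv.map_eq_zero_iff] at this
    exact congrArg Subtype.val this
  exact isMaximalIn_of_orth q _ (DStab q D)
    (fun g _ => toGL_mem_decompositionStabilizer_iff two_pos hOD g)
    (plane_wreath_maximal hq hOD hPH (by omega)
      (H43.reflGenerates_of_card (Or.inr (by rw [Module.finrank_pi]; omega))))

end H45
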