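import Mathlib
import Cfsg.Agent.H45.NondegGeom
import Cfsg.Agent.H45.OrthTransfer

/-!
# The stabiliser of a non-singular point in characteristic two is maximal
-/

set_option autoImplicit false
set_option linter.unusedSectionVars false

namespace H45

open H43

variable {F : Type*} [Field F] [Finite F] {V : Type*} [AddCommGroup V] [Module F V]
  [FiniteDimensional F V] {Q : QuadraticForm F V}

/-- Vectors of every value inside the orthogonal of three vectors. -/
lemma exists_orth_three (hQ : (polB Q).Nondegenerate) (hn : 8 ≤ Module.finrank F V) {a : V}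
    (ha : Q a ≠ 0) (b c : V) (l : F) : ∃ y, polB Q a y = 0 ∧ polB Q b y = 0 ∧ polB Q c y = 0 ∧ Q y = l := by
  classical
  set P := Submodule.span F ({a, b, c} : Set V) with hP
  have hdim : Module.finrank F P ≤ 3 := by
    refine (finrank_span_le_card ({a, b, c} : Set V)).trans ?_
    rw [Set.toFinset_card]
    exact (Fintype.card_ofFinset _ _).le.trans (by simpa using Finset.card_le_three)
  have h1 := finrank_orth_add hQ P
  set S := (polB Q).orthogonal P with hS
  have h2 : Module.finrank F ↥(S ⊓ (polB Q).orthogonal S) ≤ 3 := by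
    refine le_trans (Submodule.finrank_mono ?_) hdim
    rw [hS, LinearMap.BilinForm.orthogonal_orthogonal hQ (polB_isRefl Q) P]
    exact inf_le_right
  obtain ⟨y, hy, -, hyl⟩ := exists_value' (Q := Q) S (by omega) l (by
    by_cases h3 : Module.finrank F ↥(S ⊓ (polB Q).orthogonal S) + 3 ≤ Module.finrank F S
    · exact Or.inr (Or.inl h3)
    -- the radical is then the whole span and contains `a`
    refine Or.inr (Or.inr ⟨a, ?_, ha⟩)
    have hle : S ⊓ (polB Q).orthogonal S ≤ P := by
      rw [hS, LinearMap.BilinForm.orthogonal_orthogonal hQ (polB_isRefl Q) P]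
      exact inf_le_right
    rw [Submodule.eq_of_le_of_finrank_le hle (by omega)]
    exact Submodule.subset_span (by simp))
  exact ⟨y, hy a (Submodule.subset_span (by simp)), hy b (Submodule.subset_span (by simp)),
    hy c (Submodule.subset_span (by simp)), hyl⟩

variable (hQ : (polB Q).Nondegenerate) (hn : 8 ≤ Module.finrank F V) (h2 : (2 : F) = 0)

include hQ hn h2

lemma pair_mem_commutator {a b : V} (ha : Q a ≠ 0) (hb : Q b ≠ 0) :
    refl Q a * refl Q b ∈ commutator (orthGroup Q) :=
  refl_mul_refl_mem_commutator hQ ((Or.inr (by omega) : ReflGenerates F V)) (by omega) ha hb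
    (by rw [sqc_eq_one_of_two_eq_zero h2 (sqc (Q a)), sqc_eq_one_of_two_eq_zero h2 (sqc (Q b))])

/-- The stabiliser in `Ω` of two vectors of given invariants is transitive. -/
lemma exists_point_map {v u x : V} (hv : Q v = 1) (hu : polB Q u v = 1) (hx : polB Q x v = 1)
    (hc : Q u = Q x) :
    ∃ h ∈ orthStab Q (Submodule.span F {v}) ⊓ commutator (orthGroup Q), h.1 v = v ∧ h.1 u = x := by
  have hgen : ReflGenerates F V := (Or.inr (by omega) : ReflGenerates F V)
  have hvv : polB Q v v = 0 := by rw [polB_self, h2, zero_mul]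
  have hind : ∀ u : V, polB Q u v = 1 → LinearIndependent F ![v, u] := by
    intro u hu
    rw [LinearIndependent.pair_iff]
    intro s t hst
    have h := congrArg (fun z => polB Q z v) hst
    simp [hvv, hu] at h
    subst h
    rw [zero_smul, add_zero] at hst
    refine ⟨?_, rfl⟩
    rcases smul_eq_zero.mp hst with h | h
    · exact h
    · rw [h, QuadraticMap.map_zero] at hv
      exact absurd hv zero_ne_one
  obtain ⟨g, hgv, hgu⟩ := exists_orth_map₂ hQ (hind u hu) (hind x hx) rfl hc
    (by rw [polB_comm, hu, polB_comm, hx])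
  have hstab : ∀ h : orthGroup Q, h.1 v = v → h ∈ orthStab Q (Submodule.span F {v}) := fun h hh =>
    mem_orthStab fun y hy => by
      obtain ⟨c, rfl⟩ := Submodule.mem_span_singleton.mp hy
      rw [map_smul, hh]
      exact Submodule.smul_mem _ c (Submodule.mem_span_singleton_self v)
  by_cases hd : g ∈ commutator (orthGroup Q)
  · exact ⟨g, ⟨hstab g hgv, hd⟩, hgv, hgu⟩
  · obtain ⟨y, hy1, hy2, -, hy3⟩ := exists_orth_three hQ hn (show Q v ≠ 0 by rw [hv]; exact one_ne_zero) x x 1
    have hy0 : Q y ≠ 0 := by rw [hy3]; exact one_ne_zero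
    have hv' : (refl Q y * g).1 v = v := by rw [orth_mul_apply, hgv, refl_fix hy1]
    refine ⟨refl Q y * g, ⟨hstab _ hv', ?_⟩, hv', by rw [orth_mul_apply, hgu, refl_fix hy2]⟩
    change refl Q y * g ∈ commutator (orthGroup Q)
    rw [mem_commutator_iff_dickson hQ hgen (by omega) h2] at hd ⊢
    rw [dickson_refl_mul hQ _ hy0]
    revert hd
    generalize dickson g = d
    revert d
    decide

/-- The stabiliser of a non-singular point is maximal. -/
theorem point_stab_maximal {v : V} (hv : Q v = 1) :
    orthStab Q (Submodule.span F {v}) ⊓ commutator (orthGroup Q) < commutator (orthGroup Q) ∧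
    ∀ M : Subgroup (orthGroup Q),
      orthStab Q (Submodule.span F {v}) ⊓ commutator (orthGroup Q) ≤ M →
      M ≤ commutator (orthGroup Q) →
      M = orthStab Q (Submodule.span F {v}) ⊓ commutator (orthGroup Q) ∨
        M = commutator (orthGroup Q) := by
  have hvv : polB Q v v = 0 := by rw [polB_self, h2, zero_mul]
  have hv0 : v ≠ 0 := fun h => zero_ne_one (by rw [← hv, h, QuadraticMap.map_zero])
  have hQv : Q v ≠ 0 := by rw [hv]; exact one_ne_zero
  refine ⟨lt_of_le_of_ne inf_le_right fun heq => ?_, fun M hHM hMC => ?_⟩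
  · obtain ⟨a, ha⟩ := exists_polB_eq hQ hv0 1
    obtain ⟨b, hb1, hb2, -, hb3⟩ := exists_orth_three hQ hn (show Q v ≠ 0 by rw [hv]; exact one_ne_zero) a a (1 - Q a)
    have hx : Q (a + b) = 1 := by rw [qmap_add, hb3, hb2]; ring
    obtain ⟨y, hy1, -, -, hy3⟩ := exists_orth_three hQ hn (show Q v ≠ 0 by rw [hv]; exact one_ne_zero) v v 1
    have hmem := pair_mem_commutator hQ hn h2 (a := a + b) (b := y)
      (by rw [hx]; exact one_ne_zero) (by rw [hy3]; exact one_ne_zero)
    rw [← heq] at hmem
    have hst : (Submodule.span F {v}).map ((refl Q (a + b) * refl Q y).1 : V →ₗ[F] V) =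
        Submodule.span F {v} := hmem.1
    have hmv : (refl Q (a + b) * refl Q y).1 v ∈ Submodule.span F {v} :=
      hst.le ⟨v, Submodule.mem_span_singleton_self v, rfl⟩
    rw [orth_mul_apply, refl_fix hy1, refl_apply, hx, (polB Q v).map_add, ha, hb1] at hmv
    simp only [inv_one, add_zero, mul_one, one_smul] at hmv
    obtain ⟨c, hc⟩ := Submodule.mem_span_singleton.mp hmv
    have := congrArg (fun z => polB Q v z) hc
    simp [hvv, ha, hb1] at this
  · by_cases hsub : M ≤ orthStab Q (Submodule.span F {v})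
    · exact Or.inl (le_antisymm (le_inf hsub hMC) hHM)
    obtain ⟨g, hg, hgs⟩ := Set.not_subset.mp hsub
    refine Or.inr (le_antisymm hMC ?_)
    set v' := g.1 v with hv'def
    have hv' : Q v' = 1 := by rw [hv'def, orth_qmap, hv]
    have hne : v' ∉ Submodule.span F {v} := fun h => hgs (mem_orthStab fun y hy => by
      obtain ⟨c, rfl⟩ := Submodule.mem_span_singleton.mp hy
      rw [map_smul]
      exact Submodule.smul_mem _ c h)
    -- pairs inside the stabiliser
    have hperp : ∀ u, polB Q v u = 0 → Q u ≠ 0 → refl Q v * refl Q u ∈ M := fun u hu hu0 => by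
      refine hHM ⟨mem_orthStab fun y hy => ?_, pair_mem_commutator hQ hn h2 hQv hu0⟩
      obtain ⟨c, rfl⟩ := Submodule.mem_span_singleton.mp hy
      rw [map_smul, orth_mul_apply, refl_fix hu, refl_apply, hvv, mul_zero, zero_smul, sub_zero]
      exact Submodule.smul_mem _ c (Submodule.mem_span_singleton_self v)
    have hlink : ∀ x y z : V, refl Q x * refl Q y ∈ M → refl Q x * refl Q z ∈ M →
        refl Q y * refl Q z ∈ M := by
      intro x y z h1 h2
      have := mul_mem (inv_mem h1) h2
      rwa [mul_inv_rev, refl_inv, refl_inv, mul_assoc, ← mul_assoc (refl Q x), refl_sq, one_mul]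
        at this
    have hsymm : ∀ x y : V, refl Q x * refl Q y ∈ M → refl Q y * refl Q x ∈ M := by
      intro x y h
      have := inv_mem h
      rwa [mul_inv_rev, refl_inv, refl_inv] at this
    -- the translated hyperplane
    have hperp' : ∀ u, polB Q v' u = 0 → Q u ≠ 0 → refl Q v' * refl Q u ∈ M := by
      intro u hu hu0
      have e : g.1 ((g⁻¹).1 u) = u := orth_apply_inv_self g u
      have h1 := hperp ((g⁻¹).1 u) (by rw [← orth_polB_map g, e]; exact hu)
        (by rw [orth_qmap]; exact hu0)
      have h2 := mul_mem (mul_mem hg h1) (inv_mem hg)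
      rwa [← conj_mul, refl_conj, refl_conj, e] at h2
    obtain ⟨u₀, hu₁, hu₂, -, hu₃⟩ := exists_orth_three hQ hn (show Q v ≠ 0 by rw [hv]; exact one_ne_zero) v' v' 1
    have hu₀ : Q u₀ ≠ 0 := by rw [hu₃]; exact one_ne_zero
    have hvv' : refl Q v * refl Q v' ∈ M :=
      hlink u₀ v v' (hsymm _ _ (hperp u₀ hu₁ hu₀)) (hsymm _ _ (hperp' u₀ hu₂ hu₀))
    have hall : ∀ w, Q w ≠ 0 → refl Q v * refl Q w ∈ M := by
      intro w hw
      by_cases hwv : polB Q v w = 0
      · exact hperp w hwv hw
      set x := (polB Q v w)⁻¹ • w with hx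
      have hxv : polB Q x v = 1 := by
        rw [polB_comm, hx, map_smul, smul_eq_mul, inv_mul_cancel₀ hwv]
      have hxw : refl Q x = refl Q w := refl_smul w (inv_ne_zero hwv)
      have hx0 : Q x ≠ 0 := by
        rw [hx, qmap_smul]
        exact mul_ne_zero (mul_ne_zero (inv_ne_zero hwv) (inv_ne_zero hwv)) hw
      obtain ⟨u₁, hu₁', hu₁v⟩ : ∃ u, polB Q v' u = 0 ∧ polB Q u v = 1 := by
        have hnot : v ∉ Submodule.span F {v'} := fun h => hne (by
          obtain ⟨c, hc⟩ := Submodule.mem_span_singleton.mp h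
          have hc0 : c ≠ 0 := fun h0 => hv0 (by rw [← hc, h0, zero_smul])
          exact Submodule.mem_span_singleton.mpr
            ⟨c⁻¹, by rw [← hc, smul_smul, inv_mul_cancel₀ hc0, one_smul]⟩)
        obtain ⟨u, hu, hvu⟩ := exists_orth_polB_eq hQ hnot 1
        exact ⟨u, hu v' (Submodule.mem_span_singleton_self v'), by rw [polB_comm]; exact hvu⟩
      obtain ⟨y, hy1, hy2, hy3, hy4⟩ := exists_orth_three hQ hn (show Q v ≠ 0 by rw [hv]; exact one_ne_zero) v' u₁ (Q x - Q u₁)
      have hq : Q (u₁ + y) = Q x := by rw [qmap_add, hy3, hy4]; ring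
      obtain ⟨h, hh, hhv, hhu⟩ := exists_point_map hQ hn h2 hv (u := u₁ + y) (x := x)
        (by rw [map_add, LinearMap.add_apply, hu₁v, polB_comm y, hy1, add_zero]) hxv hq
      have h1 : refl Q v * refl Q (u₁ + y) ∈ M :=
        hlink v' v (u₁ + y) (hsymm _ _ hvv')
          (hperp' _ (by rw [map_add, hu₁', hy2, add_zero]) (by rw [hq]; exact hx0))
      have h3 := mul_mem (mul_mem (hHM hh) h1) (inv_mem (hHM hh))
      rwa [← conj_mul, refl_conj, refl_conj, hhv, hhu, hxw] at h3
    rw [commutator_eq_closure_reflPair hQ ((Or.inr (by omega) : ReflGenerates F V)) (by omega) h2,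
      Subgroup.closure_le]
    rintro _ ⟨a, b, ha, hb, rfl⟩
    exact hlink v a b (hall a ha) (hall b hb)

end H45
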