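import Mathlib
import Cfsg.Agent.H45.SingMax
import Cfsg.Agent.H45.OrthTransfer

/-!
# Stabilisers of totally singular subspaces are maximal: matrix form
-/

set_option autoImplicit false
set_option linter.unusedSectionVars false

namespace H45

open H43

/-- The criterion in the language of matrices. -/
theorem singStabilizer_maximal {F : Type*} [Field F] [Fintype F] {ι : Type} [Fintype ι]
    [DecidableEq ι] (hn : 7 ≤ Fintype.card ι) (q : QuadraticForm F (ι → F))
    (hq : (polB q).Nondegenerate) (W : Submodule F (ι → F)) (hW0 : W ≠ ⊥)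
    (hW : ∀ w ∈ W, q w = 0)
    (hA : ∀ U : Submodule F (ι → F), (∀ y ∈ U, q y = 0) →
      Module.finrank F U = Module.finrank F W + 1 → 2 * Module.finrank F U ≠ Fintype.card ι) :
    Cfsg.Geo.IsMaximalIn (Cfsg.Geo.omegaGL ⇑q)
      (Cfsg.Geo.subspaceStabilizer W ⊓ Cfsg.Geo.omegaGL ⇑q) := by
  refine isMaximalIn_of_orth q _ (orthStab q W)
    (fun g _ => toGL_mem_subspaceStabilizer_iff q g W)
    (sing_stab_maximal hq (by rw [Module.finrank_pi]; exact hn) hW (fun U hU hd => ?_) hW0)
  have h1 := two_mul_finrank_singular_le hq U hU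
  have h2 := hA U hU hd
  rw [Module.finrank_pi] at h1 ⊢
  omega

end H45
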