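import Mathlib
import Cfsg.Agent.H45.NonMax
import Cfsg.Agent.H45.PauliSlots

/-!
# The normaliser of the Clifford generators lies strictly above tensor power stabilisers

In characteristic two the normaliser of the span of the trace-zero matrices at the slots (the spin
image of `Sp_{2s}`) is proper in the orthogonal group and contains `1 + X_i X_j`.
-/

set_option autoImplicit false
set_option linter.unusedSectionVars false

namespace H45

open H43 H45.Slots
open scoped Matrix commutatorElement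

/-- A symmetric matrix with zero diagonal gives the zero quadratic form in characteristic two. -/
lemma dot_mulVec_self_eq_zero {F : Type*} [Field F] {κ : Type} [Fintype κ] [DecidableEq κ]
    (h2 : (2 : F) = 0) (S : Matrix κ κ F) (hS : Sᵀ = S) (hd : ∀ x, S x x = 0) (v : κ → F) :
    v ⬝ᵥ S *ᵥ v = 0 := by
  simp only [dotProduct, Matrix.mulVec, Finset.mul_sum, ← Fintype.sum_prod_type']
  refine Finset.sum_involution (fun p _ => p.swap) (fun p _ => ?_) (fun p _ hne hpe => ?_)
    (fun _ _ => Finset.mem_univ _) (fun p _ => Prod.swap_swap p)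
  · have hs : S p.2 p.1 = S p.1 p.2 := congrFun (congrFun hS p.1) p.2
    simp only [Prod.fst_swap, Prod.snd_swap, hs]
    linear_combination (v p.1 * (S p.1 p.2 * v p.2)) * h2
  · obtain ⟨a, b⟩ := p
    simp only [Prod.swap_prod_mk, Prod.mk.injEq] at hpe
    obtain rfl : b = a := hpe.1
    exact hne (by rw [hd]; ring)

variable {F : Type*} [Field F] {τ : Type} [Fintype τ] [DecidableEq τ]
  {ι : Type} [Fintype ι] [DecidableEq ι]

/-- The matrix of an isometry in the coordinates `Φ`. -/
noncomputable def coordMat {κ : Type} [Fintype κ] [DecidableEq κ]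
    (q : QuadraticForm F (ι → F)) (Φ : (κ → F) ≃ₗ[F] (ι → F)) :
    orthGroup q →* GL κ F :=
  MonoidHom.toHomUnits
    { toFun := fun g => LinearMap.toMatrix'
        (Φ.symm.toLinearMap.comp ((g.1.toLinearMap).comp Φ.toLinearMap))
      map_one' := by
        rw [← LinearMap.toMatrix'_id]
        congr 1
        ext x : 1
        simp [orth_one_apply]
      map_mul' := fun g h => by
        rw [← LinearMap.toMatrix'_comp]
        congr 1
        refine LinearMap.ext fun x => ?_
        show Φ.symm ((g * h).1 (Φ x)) = Φ.symm (g.1 (Φ (Φ.symm (h.1 (Φ x)))))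
        rw [LinearEquiv.apply_symm_apply, orth_mul_apply] }

theorem coordMat_mulVec {κ : Type} [Fintype κ] [DecidableEq κ] (q : QuadraticForm F (ι → F))
    (Φ : (κ → F) ≃ₗ[F] (ι → F)) (g : orthGroup q) (X : κ → F) :
    (coordMat q Φ g : Matrix κ κ F) *ᵥ X = Φ.symm (g.1 (Φ X)) := by
  show LinearMap.toMatrix' _ *ᵥ X = _
  rw [← Matrix.toLin'_apply, Matrix.toLin'_toMatrix']
  rfl

/-- The isometries normalising a subspace of matrices, read in the coordinates `Φ`. -/
noncomputable def spanNorm {κ : Type} [Fintype κ] [DecidableEq κ] (q : QuadraticForm F (ι → F))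
    (Φ : (κ → F) ≃ₗ[F] (ι → F)) (L : Submodule F (Matrix κ κ F)) : Subgroup (orthGroup q) where
  carrier := {g | L.map (H46.glConj (coordMat q Φ g)).toLinearEquiv.toLinearMap = L}
  one_mem' := by
    have h : (H46.glConj (coordMat q Φ 1)).toLinearEquiv.toLinearMap = LinearMap.id :=
      LinearMap.ext fun X => by rw [map_one]; exact H46.glConj_one X
    simp only [Set.mem_setOf_eq]
    rw [h, Submodule.map_id]
  mul_mem' {g h} hg hh := by
    simp only [Set.mem_setOf_eq, map_mul] at *
    conv_rhs => rw [← hg, ← hh, ← Submodule.map_comp]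
    congr 1
    exact LinearMap.ext fun X => H46.glConj_mul _ _ X
  inv_mem' {g} hg := by
    have h : (H46.glConj (coordMat q Φ g⁻¹)).toLinearEquiv.toLinearMap.comp
        (H46.glConj (coordMat q Φ g)).toLinearEquiv.toLinearMap = LinearMap.id := by
      refine LinearMap.ext fun X => ?_
      show H46.glConj _ (H46.glConj _ X) = X
      rw [← H46.glConj_mul, ← map_mul, inv_mul_cancel, map_one, H46.glConj_one]
    simp only [Set.mem_setOf_eq] at *
    conv_lhs => rw [← hg, ← Submodule.map_comp, h, Submodule.map_id]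

theorem mem_spanNorm {κ : Type} [Fintype κ] [DecidableEq κ] {q : QuadraticForm F (ι → F)}
    {Φ : (κ → F) ≃ₗ[F] (ι → F)} {L : Submodule F (Matrix κ κ F)} {g : orthGroup q}
    (h : ∀ N ∈ L, H46.glConj (coordMat q Φ g) N ∈ L) : g ∈ spanNorm q Φ L := by
  show L.map _ = L
  refine Submodule.eq_of_le_of_finrank_eq (Submodule.map_le_iff_le_comap.2 h) ?_
  exact ((H46.glConj (coordMat q Φ g)).toLinearEquiv.submoduleMap L).finrank_eq.symm

/-- The involution `1 + A` for a product `A` of slot matrices. -/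
theorem exists_one_add_pt (h2 : (2 : F) = 0) (q : QuadraticForm F (ι → F))
    (Φ : ((τ → Fin 2) → F) ≃ₗ[F] (ι → F)) (c : F)
    (hform : ∀ X Y, polB q (Φ X) (Φ Y) = c * (X ⬝ᵥ pt (fun _ => hyp F) *ᵥ Y))
    (hQ0 : ∀ x, q (Φ (Pi.single x 1)) = 0) (A : τ → Matrix (Fin 2) (Fin 2) F)
    (hs : ∀ i, (hyp F * A i)ᵀ = hyp F * A i) (i₀ : τ) (hsq : A i₀ * A i₀ = 0)
    (i₁ : τ) (hd : ∀ a, (hyp F * A i₁) a a = 0)
    (hcol : ∀ i b, ∃ a, ∀ a', a' ≠ a → A i a' b = 0) :
    ∃ g : orthGroup q, (coordMat q Φ g : Matrix (τ → Fin 2) (τ → Fin 2) F) = 1 + pt A := by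
  classical
  set J := pt (fun _ : τ => hyp F) with hJ
  set M := pt A with hM
  have hMM : M * M = 0 := by rw [hM, ← pt_mul]; exact pt_eq_zero i₀ hsq
  have hchar : (2 : Matrix (τ → Fin 2) (τ → Fin 2) F) = 0 := by
    rw [← map_ofNat (algebraMap F (Matrix (τ → Fin 2) (τ → Fin 2) F)) 2, h2, map_zero]
  have hinv : (1 + M) * (1 + M) = 1 := by
    rw [add_mul, mul_add, mul_add, one_mul, one_mul, mul_one, hMM, add_zero, add_assoc, ← two_mul,
      hchar, zero_mul, add_zero]
  have hJs : Jᵀ = J := by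
    rw [hJ, pt_transpose]
    congr 1
    funext i
    ext a b
    fin_cases a <;> fin_cases b <;> rfl
  have hJM : J * M = pt (fun i => hyp F * A i) := by rw [hJ, hM, ← pt_mul]; rfl
  have hJMs : (J * M)ᵀ = J * M := by rw [hJM, pt_transpose]; exact congrArg pt (funext hs)
  have hdiag : ∀ x, (J * M) x x = 0 := fun x => by
    rw [hJM, pt_apply]
    exact Finset.prod_eq_zero (Finset.mem_univ i₁) (hd _)
  have hMJM : Mᵀ * J * M = 0 := by
    rw [← hJs, ← Matrix.transpose_mul, hJMs, mul_assoc, hMM, mul_zero]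
  have hzero : ∀ X, q (Φ (M *ᵥ X)) = 0 := by
    have hadd : ∀ X Y, q (Φ (M *ᵥ (X + Y))) = q (Φ (M *ᵥ X)) + q (Φ (M *ᵥ Y)) := by
      intro X Y
      rw [Matrix.mulVec_add, map_add, qmap_add, hform]
      have hb : (M *ᵥ X) ⬝ᵥ J *ᵥ (M *ᵥ Y) = X ⬝ᵥ (Mᵀ * J * M) *ᵥ Y := by
        rw [← Matrix.mulVec_mulVec, ← Matrix.mulVec_mulVec, Matrix.dotProduct_mulVec X,
          Matrix.vecMul_transpose]
      rw [hb, hMJM, Matrix.zero_mulVec, dotProduct_zero, mul_zero, add_zero]
    intro X
    have hsingle : ∀ x (r : F), q (Φ (M *ᵥ Pi.single x r)) = 0 := by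
      intro x r
      choose a ha using fun i => hcol i (x i)
      have hcolx : M *ᵥ Pi.single x r = (r * M a x) • Pi.single a (1 : F) := by
        funext y
        have hval : (M *ᵥ Pi.single x r) y = M y x * r := by
          simp [Matrix.mulVec, dotProduct, Pi.single_apply]
        rw [hval, Pi.smul_apply, smul_eq_mul]
        rcases eq_or_ne y a with rfl | hy
        · simp [mul_comm]
        · obtain ⟨i, hi⟩ := Function.ne_iff.1 hy
          rw [Pi.single_eq_of_ne hy, mul_zero]
          rw [hM, pt_apply, Finset.prod_eq_zero (Finset.mem_univ i) (ha i _ hi), zero_mul]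
      rw [hcolx, map_smul, qmap_smul, hQ0, mul_zero]
    rw [← Finset.univ_sum_single X]
    refine Finset.sum_induction _ (fun Z => q (Φ (M *ᵥ Z)) = 0) ?_ ?_ fun x _ => hsingle x _
    · intro Y Z hY hZ
      rw [hadd, hY, hZ, add_zero]
    · simp
  let e : ((τ → Fin 2) → F) ≃ₗ[F] ((τ → Fin 2) → F) :=
    Matrix.toLinearEquiv' (1 + M) ⟨1 + M, hinv, hinv⟩
  have he : ∀ X, e X = X + M *ᵥ X := fun X => by
    show (1 + M) *ᵥ X = _
    rw [Matrix.add_mulVec, Matrix.one_mulVec]
  refine ⟨⟨(Φ.symm.trans e).trans Φ, fun z => ?_⟩, ?_⟩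
  · obtain ⟨X, rfl⟩ := Φ.surjective z
    show q (Φ (e (Φ.symm (Φ X)))) = q (Φ X)
    rw [LinearEquiv.symm_apply_apply, he, map_add, qmap_add, hzero, hform, Matrix.mulVec_mulVec,
      dot_mulVec_self_eq_zero h2 _ hJMs hdiag]
    ring
  · refine Matrix.ext_of_mulVec_single fun x => ?_
    rw [coordMat_mulVec]
    show Φ.symm (Φ (e (Φ.symm (Φ _)))) = _
    rw [LinearEquiv.symm_apply_apply, LinearEquiv.symm_apply_apply, he, Matrix.add_mulVec,
      Matrix.one_mulVec]

variable [Fintype F]

/-- A stabiliser inside the normaliser of the slot span, without `1 + X_i X_j`, is not maximal. -/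
theorem spin_between (h2 : (2 : F) = 0) (s : Fin 4 ↪ τ) (q : QuadraticForm F (ι → F))
    (Φ : ((τ → Fin 2) → F) ≃ₗ[F] (ι → F)) (c : F)
    (hform : ∀ X Y, polB q (Φ X) (Φ Y) = c * (X ⬝ᵥ pt (fun _ => hyp F) *ᵥ Y))
    (hQ0 : ∀ x, q (Φ (Pi.single x 1)) = 0) (T : Subgroup (Matrix.GeneralLinearGroup ι F))
    (hTN : ∀ g ∈ commutator (orthGroup q), toGL q g ∈ T →
      ∀ N ∈ slotSpan F τ, H46.glConj (coordMat q Φ g) N ∈ slotSpan F τ)
    (hTcol : ∀ g : orthGroup q, toGL q g ∈ T →
      let M := (coordMat q Φ g : Matrix (τ → Fin 2) (τ → Fin 2) F)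
      let x : τ → Fin 2 := Function.update (Function.update 0 (s 1) 1) (s 2) 1
      M x x * M 0 x = M (Function.update x (s 1) 0) x * M (Function.update x (s 2) 0) x) :
    ∃ K : Subgroup (Matrix.GeneralLinearGroup ι F),
      T ⊓ Cfsg.Geo.omegaGL ⇑q < K ∧ K < Cfsg.Geo.omegaGL ⇑q := by
  classical
  have hne : ∀ {a b : Fin 4}, a ≠ b → s a ≠ s b := fun h => s.injective.ne h
  have n01 : s 0 ≠ s 1 := hne (by decide)
  have n02 : s 0 ≠ s 2 := hne (by decide)
  have n03 : s 0 ≠ s 3 := hne (by decide)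
  have n12 : s 1 ≠ s 2 := hne (by decide)
  have n13 : s 1 ≠ s 3 := hne (by decide)
  have n23 : s 2 ≠ s 3 := hne (by decide)
  have hchar : (2 : Matrix (τ → Fin 2) (τ → Fin 2) F) = 0 := by
    rw [← map_ofNat (algebraMap F (Matrix (τ → Fin 2) (τ → Fin 2) F)) 2, h2, map_zero]
  have hu : (hyp F * up F)ᵀ = hyp F * up F := by
    ext a b; fin_cases a <;> fin_cases b <;> simp [hyp, up, Matrix.mul_apply, Fin.sum_univ_two]
  have hdn : (hyp F * down F)ᵀ = hyp F * down F := by
    ext a b; fin_cases a <;> fin_cases b <;> simp [hyp, down, Matrix.mul_apply, Fin.sum_univ_two]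
  have h1s : (hyp F * 1)ᵀ = hyp F * 1 := by
    ext a b; fin_cases a <;> fin_cases b <;> simp [hyp]
  -- products of slot matrices and their involutions
  have hsq0 : ∀ (i : τ) (M : Matrix (Fin 2) (Fin 2) F) (R : Matrix (τ → Fin 2) (τ → Fin 2) F),
      M * M = 0 → Commute (slot i M) R → (slot i M * R) * (slot i M * R) = 0 := by
    intro i M R hMM hc
    rw [mul_assoc, ← mul_assoc R, ← hc.eq, ← mul_assoc, ← mul_assoc, slot_mul, hMM, map_zero,
      zero_mul, zero_mul]
  have hinv : ∀ (A : τ → Matrix (Fin 2) (Fin 2) F) (i₀ i₁ : τ), A i₀ = up F → A i₁ = 1 →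
      (∀ i, A i = 1 ∨ A i = up F ∨ A i = down F) →
      ∃ g : orthGroup q, (coordMat q Φ g : Matrix (τ → Fin 2) (τ → Fin 2) F) = 1 + pt A := by
    intro A i₀ i₁ h0 h1 hA
    refine exists_one_add_pt h2 q Φ c hform hQ0 A (fun i => ?_) i₀ (by rw [h0, up_mul_up]) i₁
      (fun a => by rw [h1, mul_one]; fin_cases a <;> rfl) (fun i b => ?_)
    · rcases hA i with h | h | h <;> rw [h] <;> assumption
    · rcases hA i with h | h | h <;> rw [h]
      · exact ⟨b, fun a ha => Matrix.one_apply_ne ha⟩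
      · exact ⟨0, fun a ha => by fin_cases a <;> fin_cases b <;> simp_all [up]⟩
      · exact ⟨1, fun a ha => by fin_cases a <;> fin_cases b <;> simp_all [down]⟩
  have hpt2 : ∀ (a b : τ), a ≠ b → ∀ M N : Matrix (Fin 2) (Fin 2) F,
      slot a M * slot b N = pt (Function.update (Function.update 1 b N) a M) := by
    intro a b hab M N
    rw [slot_eq_pt b N, slot_mul_pt]
    simp [hab]
  have hpt3 : ∀ (a b d : τ), a ≠ b → a ≠ d → b ≠ d → ∀ M N R : Matrix (Fin 2) (Fin 2) F,
      slot a M * (slot b N * slot d R) =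
        pt (Function.update (Function.update (Function.update 1 d R) b N) a M) := by
    intro a b d hab had hbd M N R
    rw [hpt2 b d hbd, slot_mul_pt]
    simp [hab, had]
  have hup2 : ∀ (a b d : τ), a ≠ b → d ≠ a → d ≠ b → ∀ N, (N = up F ∨ N = down F) →
      ∃ g : orthGroup q,
        (coordMat q Φ g : Matrix (τ → Fin 2) (τ → Fin 2) F) = 1 + slot a (up F) * slot b N := by
    intro a b d hab hda hdb N hN
    rw [hpt2 a b hab]
    refine hinv _ a d (Function.update_self _ _ _) (by simp [hda, hdb]) fun i => ?_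
    rcases eq_or_ne i a with rfl | ha
    · simp
    · rcases eq_or_ne i b with rfl | hb
      · rcases hN with rfl | rfl <;> simp [ha]
      · simp [ha, hb]
  -- the two elements
  set U : Fin 4 → Matrix (τ → Fin 2) (τ → Fin 2) F := fun a => slot (s a) (up F) with hU
  set Y : Fin 4 → Matrix (τ → Fin 2) (τ → Fin 2) F := fun a => slot (s a) (down F) with hY
  have hc : ∀ {a b : Fin 4} (M N : Matrix (Fin 2) (Fin 2) F), a ≠ b →
      Commute (slot (s a) M) (slot (s b) N) := fun M N h => slot_comm (hne h) M N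
  have hUU : ∀ a, U a * U a = 0 := fun a => by simp [hU, slot_mul, up_mul_up]
  have hanti : ∀ a, U a * Y a + Y a * U a = 1 := fun a => by
    simp [hU, hY, slot_mul, ← map_add, up_anti_down, slot_one]
  obtain ⟨gB, hgB⟩ := hup2 (s 0) (s 1) (s 2) n01 n02.symm n12.symm (up F) (Or.inl rfl)
  obtain ⟨gA, hgA⟩ := hup2 (s 2) (s 0) (s 1) n02.symm n12 n01.symm (down F) (Or.inr rfl)
  obtain ⟨hB', hhB'⟩ := hup2 (s 0) (s 3) (s 1) n03 n01.symm n13 (up F) (Or.inl rfl)
  obtain ⟨hA', hhA'⟩ : ∃ g : orthGroup q,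
      (coordMat q Φ g : Matrix (τ → Fin 2) (τ → Fin 2) F) = 1 + U 1 * (U 2 * Y 3) := by
    rw [hU, hY, hpt3 _ _ _ n12 n13 n23]
    refine hinv _ (s 1) (s 0) (Function.update_self _ _ _) (by simp [n01, n02, n03]) fun i => ?_
    rcases eq_or_ne i (s 1) with rfl | h1
    · simp
    · rcases eq_or_ne i (s 2) with rfl | h2'
      · simp [h1]
      · rcases eq_or_ne i (s 3) with rfl | h3
        · simp [h1, h2']
        · simp [h1, h2', h3]
  have hkill : ∀ u a X b : Matrix (τ → Fin 2) (τ → Fin 2) F, u * u = 0 → Commute u (a * X) →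
      u * a * X * (u * b) = 0 := by
    intro u a X b huu hcm
    rw [mul_assoc u a X, mul_assoc u (a * X), ← mul_assoc (a * X) u, ← hcm.eq, mul_assoc u (a * X),
      ← mul_assoc, huu, zero_mul]
  set g1 := gB * gA * gB * gA with hg1
  set g2 := hB' * hA' * hB' * hA' with hg2
  have hcomm : ∀ x y : orthGroup q, x * x = 1 → y * y = 1 →
      x * y * x * y ∈ commutator (orthGroup q) := by
    intro x y hx hy
    have : x * y * x * y = ⁅x, y⁆ := by
      rw [commutatorElement_def, inv_eq_of_mul_eq_one_left hx, inv_eq_of_mul_eq_one_left hy]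
    rw [this]
    exact Subgroup.commutator_mem_commutator (Subgroup.mem_top _) (Subgroup.mem_top _)
  have hinvol : ∀ (g : orthGroup q) (N : Matrix (τ → Fin 2) (τ → Fin 2) F),
      (coordMat q Φ g : Matrix (τ → Fin 2) (τ → Fin 2) F) = 1 + N → N * N = 0 → g * g = 1 := by
    intro g N hg hN
    refine orth_ext fun z => ?_
    obtain ⟨X, rfl⟩ := Φ.surjective z
    apply Φ.symm.injective
    rw [← coordMat_mulVec, orth_one_apply, LinearEquiv.symm_apply_apply, map_mul, Units.val_mul, hg,
      add_mul, mul_add, mul_add, one_mul, one_mul, mul_one, hN, add_zero, add_assoc, ← two_mul,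
      hchar, zero_mul, add_zero, Matrix.one_mulVec]
  have e1 : (coordMat q Φ g1 : Matrix (τ → Fin 2) (τ → Fin 2) F) = 1 + U 1 * U 2 := by
    have hA : (U 2 * Y 0) * (U 2 * Y 0) = 0 := hsq0 _ _ _ up_mul_up (hc _ _ (by decide))
    have hB : (U 0 * U 1) * (U 0 * U 1) = 0 := hsq0 _ _ _ up_mul_up (hc _ _ (by decide))
    have c21 : Commute (U 2) (U 1) := hc _ _ (by decide)
    have c20 : Commute (U 2) (U 0) := hc _ _ (by decide)
    have c10 : Commute (U 1) (U 0) := hc _ _ (by decide)
    have c1y : Commute (U 1) (Y 0) := hc _ _ (by decide)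
    have c2y : Commute (U 2) (Y 0) := hc _ _ (by decide)
    have eAB : (U 2 * Y 0) * (U 0 * U 1) = (U 1 * U 2) * (Y 0 * U 0) := by
      rw [mul_assoc, ← mul_assoc (Y 0), ← (c1y.mul_right c10).eq, ← mul_assoc, c21.eq]
    have eBA : (U 0 * U 1) * (U 2 * Y 0) = (U 1 * U 2) * (U 0 * Y 0) := by
      rw [mul_assoc, ← mul_assoc (U 1), ← mul_assoc, ← ((c10.mul_left c20)).eq, mul_assoc]
    rw [hg1, map_mul, map_mul, map_mul, Units.val_mul, Units.val_mul, Units.val_mul, hgB, hgA]
    rw [one_add_comm _ _ hchar hA hB ?_ ?_]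
    · rw [eAB, eBA, ← mul_add, add_comm (Y 0 * U 0), hanti, mul_one]
    · exact hkill _ _ _ _ (hUU 2) (c2y.mul_right (c20.mul_right c21))
    · rw [← c10.eq]
      exact hkill _ _ _ _ (hUU 1) (c10.mul_right (c21.symm.mul_right c1y))
  have e2 : (coordMat q Φ g2 : Matrix (τ → Fin 2) (τ → Fin 2) F) = 1 + U 0 * (U 1 * U 2) := by
    have hA : (U 1 * (U 2 * Y 3)) * (U 1 * (U 2 * Y 3)) = 0 :=
      hsq0 _ _ _ up_mul_up ((hc _ _ (by decide)).mul_right (hc _ _ (by decide)))
    have hB : (U 0 * U 3) * (U 0 * U 3) = 0 := hsq0 _ _ _ up_mul_up (hc _ _ (by decide))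
    have c12 : Commute (U 1) (U 2) := hc _ _ (by decide)
    have c10 : Commute (U 1) (U 0) := hc _ _ (by decide)
    have c20 : Commute (U 2) (U 0) := hc _ _ (by decide)
    have c13 : Commute (U 1) (U 3) := hc _ _ (by decide)
    have c23 : Commute (U 2) (U 3) := hc _ _ (by decide)
    have c30 : Commute (U 3) (U 0) := hc _ _ (by decide)
    have cy0 : Commute (Y 3) (U 0) := hc _ _ (by decide)
    have c1y : Commute (U 1) (Y 3) := hc _ _ (by decide)
    have c2y : Commute (U 2) (Y 3) := hc _ _ (by decide)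
    have cR0 : Commute (U 1 * U 2) (U 0) := c10.mul_left c20
    have cR3 : Commute (U 1 * U 2) (U 3) := c13.mul_left c23
    have eAB : (U 1 * (U 2 * Y 3)) * (U 0 * U 3) = U 0 * (U 1 * U 2) * (Y 3 * U 3) := by
      rw [← mul_assoc (U 1) (U 2) (Y 3), ← mul_assoc _ (U 0) (U 3), mul_assoc (U 1 * U 2), cy0.eq,
        ← mul_assoc, cR0.eq, mul_assoc _ (Y 3)]
    have eBA : (U 0 * U 3) * (U 1 * (U 2 * Y 3)) = U 0 * (U 1 * U 2) * (U 3 * Y 3) := by
      rw [← mul_assoc (U 1) (U 2) (Y 3), ← mul_assoc, mul_assoc (U 0) (U 3), ← cR3.eq]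
      simp only [mul_assoc]
    rw [hg2, map_mul, map_mul, map_mul, Units.val_mul, Units.val_mul, Units.val_mul, hhB', hhA']
    rw [one_add_comm _ _ hchar hA hB ?_ ?_]
    · rw [eAB, eBA, ← mul_add, add_comm (Y 3 * U 3), hanti, mul_one]
    · exact hkill _ _ _ _ (hUU 1) ((c12.mul_right c1y).mul_right (c10.mul_right c13))
    · exact hkill _ _ _ _ (hUU 0)
        (c30.symm.mul_right (c10.symm.mul_right (c20.symm.mul_right cy0.symm)))
  have hinv1 : ((coordMat q Φ g1)⁻¹ : GL (τ → Fin 2) F) = coordMat q Φ g1 := by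
    rw [← map_inv, inv_eq_of_mul_eq_one_left (hinvol g1 _ e1
      (hsq0 _ _ _ up_mul_up (hc _ _ (by decide))))]
  have hinv2 : ((coordMat q Φ g2)⁻¹ : GL (τ → Fin 2) F) = coordMat q Φ g2 := by
    rw [← map_inv, inv_eq_of_mul_eq_one_left (hinvol g2 _ e2
      (hsq0 _ _ _ up_mul_up ((hc _ _ (by decide)).mul_right (hc _ _ (by decide)))))]
  have hg1C : g1 ∈ commutator (orthGroup q) := hcomm _ _
    (hinvol _ _ hgB (hsq0 _ _ _ up_mul_up (hc _ _ (by decide))))
    (hinvol _ _ hgA (hsq0 _ _ _ up_mul_up (hc _ _ (by decide))))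
  have hg2C : g2 ∈ commutator (orthGroup q) := hcomm _ _
    (hinvol _ _ hhB' (hsq0 _ _ _ up_mul_up (hc _ _ (by decide))))
    (hinvol _ _ hhA' (hsq0 _ _ _ up_mul_up ((hc _ _ (by decide)).mul_right (hc _ _ (by decide)))))
  refine exists_between_of_orth q T (spanNorm q Φ (slotSpan F τ) ⊓ commutator (orthGroup q))
    inf_le_right (fun g hg hgT => ⟨mem_spanNorm (hTN g hg hgT), hg⟩) ?_ ?_
  · refine ⟨g1, ⟨mem_spanNorm fun N hN => ?_, hg1C⟩, fun hgT => ?_⟩
    · let f : Matrix (τ → Fin 2) (τ → Fin 2) F →ₗ[F] Matrix (τ → Fin 2) (τ → Fin 2) F :=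
        (H46.glConj (coordMat q Φ g1)).toLinearEquiv.toLinearMap
      have hf : slotSpan F τ ≤ (slotSpan F τ).comap f := slotSpan_le fun i M hM => by
        show H46.glConj (coordMat q Φ g1) (slot i M) ∈ slotSpan F τ
        rw [H46.glConj_apply, hinv1, e1, one_add_conj]
        have key : ∀ a b : Fin 4, a ≠ b → i = s a →
            (U a * U b * slot i M + slot i M * (U a * U b)) + U a * U b * slot i M * (U a * U b) =
              M 1 0 • U b := by
          intro a b hab hia
          subst hia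
          have cb : Commute (U b) (slot (s a) M) := hc _ _ hab.symm
          have cab : Commute (U a) (U b) := hc _ _ hab
          rw [show U a * U b * slot (s a) M = U a * slot (s a) M * U b by
            rw [mul_assoc, cb.eq, mul_assoc]]
          have hz : U a * slot (s a) M * U b * (U a * U b) = 0 := by
            rw [cab.eq, ← mul_assoc, mul_assoc _ (U b) (U b), hUU, mul_zero, zero_mul]
          rw [hz, add_zero, ← mul_assoc, ← add_mul]
          simp only [hU, slot_mul, ← map_add, up_anti h2 hM, map_smul, slot_one, smul_mul_assoc,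
            one_mul]
        by_cases h1 : i = s 1
        · rw [add_assoc, key 1 2 (by decide) h1]
          exact add_mem (slot_mem_slotSpan i hM)
            (Submodule.smul_mem _ _ (slot_mem_slotSpan _ (by simp [mem_diagEq, up])))
        by_cases h2' : i = s 2
        · rw [add_assoc, show U 1 * U 2 = U 2 * U 1 from (hc _ _ (by decide)).eq,
            key 2 1 (by decide) h2']
          exact add_mem (slot_mem_slotSpan i hM)
            (Submodule.smul_mem _ _ (slot_mem_slotSpan _ (by simp [mem_diagEq, up])))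
        have cm : Commute (slot i M) (U 1 * U 2) :=
          Commute.mul_right (slot_comm h1 _ _) (slot_comm h2' _ _)
        have hz : U 1 * U 2 * slot i M * (U 1 * U 2) = 0 := by
          rw [← cm.eq, mul_assoc, hsq0 _ _ _ up_mul_up (hc _ _ (by decide)), mul_zero]
        rw [hz, add_zero, cm.eq, ← two_mul, hchar, zero_mul, add_zero]
        exact slot_mem_slotSpan i hM
      exact hf hN
    · have h := hTcol g1 hgT
      simp only [e1, hU, hpt2 _ _ n12, Matrix.add_apply, pt_apply] at h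
      set x : τ → Fin 2 := Function.update (Function.update 0 (s 1) 1) (s 2) 1 with hx
      have x1 : x (s 1) = 1 := by simp [hx, n12]
      have x2 : x (s 2) = 1 := by simp [hx]
      have xo : ∀ i, i ≠ s 1 → i ≠ s 2 → x i = 0 := fun i a b => by simp [hx, a, b]
      set A : τ → Matrix (Fin 2) (Fin 2) F :=
        Function.update (Function.update 1 (s 2) (up F)) (s 1) (up F) with hA
      have A1 : A (s 1) = up F := Function.update_self _ _ _
      have A2 : A (s 2) = up F := by simp [hA, n12.symm]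
      have hzero : ∀ y : τ → Fin 2, (y (s 1) = 1 ∨ y (s 2) = 1) →
          ∏ i, A i (y i) (x i) = 0 := fun y hy => by
        rcases hy with hy | hy
        · exact Finset.prod_eq_zero (Finset.mem_univ (s 1)) (by rw [A1, hy, x1]; rfl)
        · exact Finset.prod_eq_zero (Finset.mem_univ (s 2)) (by rw [A2, hy, x2]; rfl)
      have hone : ∏ i, A i ((0 : τ → Fin 2) i) (x i) = 1 := Finset.prod_eq_one fun i _ => by
        rcases eq_or_ne i (s 1) with rfl | a
        · rw [A1, x1]; rfl
        rcases eq_or_ne i (s 2) with rfl | b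
        · rw [A2, x2]; rfl
        simp [hA, a, b, xo i a b]
      have hx0 : (0 : τ → Fin 2) ≠ x := fun e => by simpa [x1] using congrFun e (s 1)
      have hxa : Function.update x (s 1) 0 ≠ x := fun e => by simpa [x1] using congrFun e (s 1)
      rw [hone, hzero x (Or.inl x1), hzero _ (Or.inr (by simp [n12.symm, x2])),
        Matrix.one_apply_eq, Matrix.one_apply_ne hx0, Matrix.one_apply_ne hxa] at h
      simp at h
  · refine ⟨g2, hg2C, fun hgK => ?_⟩
    have hmem : H46.glConj (coordMat q Φ g2) (Y 0) ∈ slotSpan F τ := by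
      rw [← (show (slotSpan F τ).map _ = slotSpan F τ from hgK.1)]
      exact ⟨Y 0, slot_mem_slotSpan _ (by simp [mem_diagEq, down]), rfl⟩
    rw [H46.glConj_apply, hinv2, e2, one_add_conj] at hmem
    set R := U 1 * U 2 with hR
    have cR0 : Commute R (U 0) :=
      Commute.mul_left (hc _ _ (by decide)) (hc _ _ (by decide))
    have cRY : Commute R (Y 0) :=
      Commute.mul_left (hc _ _ (by decide)) (hc _ _ (by decide))
    have hRR : R * R = 0 := hsq0 _ _ _ up_mul_up (hc _ _ (by decide))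
    have hz : U 0 * R * Y 0 * (U 0 * R) = 0 := by
      rw [show U 0 * R * Y 0 * (U 0 * R) = U 0 * (R * (Y 0 * U 0)) * R by simp only [mul_assoc],
        (cRY.mul_right cR0).eq, mul_assoc, mul_assoc, hRR]
      simp
    have hlin : U 0 * R * Y 0 + Y 0 * (U 0 * R) = R := by
      rw [mul_assoc (U 0), cRY.eq, ← mul_assoc (U 0), ← mul_assoc (Y 0) (U 0), ← add_mul, hanti,
        one_mul]
    rw [hz, add_zero, hlin] at hmem
    have hR' := sub_mem hmem (slot_mem_slotSpan (s 0) (M := down F) (by simp [mem_diagEq, down]))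
    simp only [hY, add_sub_cancel_left] at hR'
    set y : τ → Fin 2 := Function.update (Function.update 0 (s 1) 1) (s 2) 1 with hy
    have h0 := slotSpan_entry_eq_zero (x := (0 : τ → Fin 2)) (y := y) n12
      (by simp [hy, n12]) (by simp [hy]) hR'
    rw [hR, hU, hpt2 _ _ n12, pt_apply, Finset.prod_eq_one fun i _ => ?_] at h0
    · exact one_ne_zero h0
    rcases eq_or_ne i (s 1) with rfl | a
    · simp [hy, n12, up]
    rcases eq_or_ne i (s 2) with rfl | b
    · simp [hy, a, up]
    simp [hy, a, b]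

end H45
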