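import Mathlib
import Cfsg.Agent.H46.AschTensor
import Cfsg.Agent.H45.SpinBetween
import Cfsg.Agent.H47.Symp

/-!
# Tensor powers of `Sp₂(q)` and `Sp₄(q)`, `q` even, lie in the spin normaliser
-/

set_option autoImplicit false
set_option linter.unusedSectionVars false

namespace H45

open H43 H45.Slots
open H46 (ptm glPtm glPerm)
open scoped Matrix

variable {F : Type*} [Field F]

/-- The tensor wreath group is a product of pure tensors and factor permutations. -/
theorem wreath_normal_form {k t : ℕ} {h : GL (Fin t → Fin k) F}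
    (hh : h ∈ Cfsg.Geo.tensorWreathStandard k t F) :
    ∃ gs σ, h = glPtm gs * glPerm σ := by
  have hpm : ∀ a b : Fin t → GL (Fin k) F, glPtm a * glPtm b = glPtm (a * b) := fun a b =>
    Units.ext (H46.ptm_mul _ _).symm
  have hss : ∀ s r : Equiv.Perm (Fin t),
      (glPerm s * glPerm r : GL (Fin t → Fin k) F) = glPerm (s * r) := fun s r => by
    apply Units.ext
    ext x y
    simp only [Units.val_mul, glPerm, Matrix.mul_apply, Matrix.of_apply, ite_mul, one_mul, zero_mul,
      Finset.sum_ite_eq', Finset.mem_univ, if_true]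
    rfl
  have hsp : ∀ (s : Equiv.Perm (Fin t)) (b : Fin t → GL (Fin k) F),
      glPerm s * glPtm b = glPtm (b ∘ ⇑s.symm) * glPerm s := fun s b => Units.ext <|
    (H46.glConj_eq_iff (glPerm s) _ _).1 (H46.glPerm_ptm s _)
  induction hh using Subgroup.closure_induction_left with
  | one =>
    refine ⟨1, 1, ?_⟩
    apply Units.ext
    ext x y
    rw [Units.val_mul, show ((glPtm (1 : Fin t → GL (Fin k) F) : GL (Fin t → Fin k) F) :
      Matrix (Fin t → Fin k) (Fin t → Fin k) F) = 1 from H46.ptm_one, one_mul]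
    simp [glPerm, Matrix.one_apply, eq_comm]
  | mul_left x hx y hy ih =>
    obtain ⟨b, r, rfl⟩ := ih
    rcases hx with ⟨a, ha⟩ | ⟨s, hs⟩
    · obtain rfl : x = glPtm a := Units.ext (Matrix.ext ha)
      exact ⟨a * b, r, by rw [← mul_assoc, hpm]⟩
    · obtain rfl : x = glPerm s := Units.ext (Matrix.ext hs)
      exact ⟨b ∘ ⇑s.symm, s * r, by rw [← mul_assoc, hsp, mul_assoc, hss]⟩
  | inv_mul_cancel x hx y hy ih =>
    obtain ⟨b, r, rfl⟩ := ih
    rcases hx with ⟨a, ha⟩ | ⟨s, hs⟩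
    · obtain rfl : x = glPtm a := Units.ext (Matrix.ext ha)
      refine ⟨a⁻¹ * b, r, ?_⟩
      rw [← mul_assoc, ← hpm]
      rfl
    · obtain rfl : x = glPerm s := Units.ext (Matrix.ext hs)
      refine ⟨b ∘ ⇑s⁻¹.symm, s⁻¹ * r, ?_⟩
      rw [← mul_assoc, show ((glPerm s)⁻¹ : GL (Fin t → Fin k) F) = glPerm s⁻¹ by
        rw [inv_eq_iff_mul_eq_one, hss, mul_inv_cancel]
        apply Units.ext
        ext x y
        simp [glPerm, Matrix.one_apply, eq_comm], hsp, mul_assoc, hss]

/-- Entries of `ptm · perm`. -/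
theorem glPtm_mul_glPerm_apply {k t : ℕ} (gs : Fin t → GL (Fin k) F) (σ : Equiv.Perm (Fin t))
    (x y : Fin t → Fin k) :
    ((glPtm gs * glPerm σ : GL (Fin t → Fin k) F) : Matrix (Fin t → Fin k) (Fin t → Fin k) F) x y =
      ∏ i, (gs i : Matrix (Fin k) (Fin k) F) (x i) (y (σ.symm i)) := by
  rw [Units.val_mul, Matrix.mul_apply, Finset.sum_eq_single (y ∘ ⇑σ.symm)]
  · have : (y ∘ ⇑σ.symm) ∘ ⇑σ = y := by funext i; simp
    simp [glPerm, glPtm, ptm, this]
  · intro b _ hb
    simp only [glPerm, Matrix.of_apply]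
    rw [if_neg fun h => hb (by subst h; funext i; simp), mul_zero]
  · simp

/-- A column of an element of the tensor wreath group is a pure tensor. -/
theorem wreath_col {k t : ℕ} (gs : Fin t → GL (Fin k) F) (σ : Equiv.Perm (Fin t))
    (i : Fin t) (z z' y : Fin t → Fin k) :
    ((glPtm gs * glPerm σ : GL (Fin t → Fin k) F) : Matrix (Fin t → Fin k) (Fin t → Fin k) F) z y *
        ((glPtm gs * glPerm σ : GL (Fin t → Fin k) F) : Matrix (Fin t → Fin k) (Fin t → Fin k) F) z' y =
      ((glPtm gs * glPerm σ : GL (Fin t → Fin k) F) : Matrix (Fin t → Fin k) (Fin t → Fin k) F)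
          (Function.update z i (z' i)) y *
        ((glPtm gs * glPerm σ : GL (Fin t → Fin k) F) : Matrix (Fin t → Fin k) (Fin t → Fin k) F)
          (Function.update z' i (z i)) y := by
  simp only [glPtm_mul_glPerm_apply, ← Finset.prod_mul_distrib]
  refine Finset.prod_congr rfl fun j _ => ?_
  rcases eq_or_ne j i with rfl | hj
  · simp [mul_comm]
  · simp [hj]

/-- The conjugate of a matrix at one factor by an element of the tensor wreath group. -/
theorem wreath_conj_single {k t : ℕ} (gs : Fin t → GL (Fin k) F) (σ : Equiv.Perm (Fin t))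
    (i : Fin t) (N : Matrix (Fin k) (Fin k) F) :
    H46.glConj (glPtm gs * glPerm σ) (ptm (Function.update 1 i N)) =
      ptm (Function.update 1 (σ i) (H46.glConj (gs (σ i)) N)) := by
  rw [H46.glConj_mul, H46.glPerm_ptm, H46.glConj_apply]
  show ptm _ * ptm _ * ptm _ = _
  rw [← H46.ptm_mul, ← H46.ptm_mul]
  congr 1
  funext l
  rcases eq_or_ne l (σ i) with rfl | hl
  · simp [H46.glConj_apply]
  · have : σ.symm l ≠ i := fun h => hl (by rw [← h, Equiv.apply_symm_apply])
    simp [Function.update_of_ne hl, Function.update_of_ne this]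

theorem ptm_update_apply {k t : ℕ} (i : Fin t) (N : Matrix (Fin k) (Fin k) F)
    (x y : Fin t → Fin k) :
    ptm (Function.update 1 i N) x y = if ∀ l, l ≠ i → x l = y l then N (x i) (y i) else 0 := by
  rw [ptm, Matrix.of_apply, ← Finset.mul_prod_erase _ _ (Finset.mem_univ i), Function.update_self]
  by_cases h : ∀ l, l ≠ i → x l = y l
  · rw [if_pos h, Finset.prod_eq_one fun j hj => by
      rw [Function.update_of_ne (Finset.ne_of_mem_erase hj), h j (Finset.ne_of_mem_erase hj)]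
      exact Matrix.one_apply_eq _, mul_one]
  · rw [if_neg h]
    push Not at h
    obtain ⟨j, hji, hj⟩ := h
    rw [Finset.prod_eq_zero (Finset.mem_erase.2 ⟨hji, Finset.mem_univ j⟩) (by
      rw [Function.update_of_ne hji]; exact Matrix.one_apply_ne hj), mul_zero]

/-- Factors of a pure tensor fixing a tensor power of a form are similitudes. -/
theorem similitude_of_ptm_eq {k t : ℕ} (G : Matrix (Fin k) (Fin k) F) {p r : Fin k}
    (hpr : G p r ≠ 0) (A : Fin t → Matrix (Fin k) (Fin k) F) (h : ptm A = ptm fun _ => G)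
    (i : Fin t) : ∃ μ : F, A i = μ • G := by
  have hent : ∀ x y : Fin t → Fin k, ∏ l, A l (x l) (y l) = ∏ l, G (x l) (y l) := fun x y =>
    congrFun (congrFun h x) y
  set R := ∏ l ∈ Finset.univ.erase i, A l p r with hR
  have key : ∀ a b, A i a b * R = G a b * ∏ l ∈ Finset.univ.erase i, G p r := by
    intro a b
    have h1 := hent (Function.update (fun _ => p) i a) (Function.update (fun _ => r) i b)
    rw [← Finset.mul_prod_erase _ _ (Finset.mem_univ i),
      ← Finset.mul_prod_erase _ _ (Finset.mem_univ i), Function.update_self, Function.update_self]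
      at h1
    have e1 : ∀ (f : Fin t → Fin k → Fin k → F), (∏ l ∈ Finset.univ.erase i,
        f l (Function.update (fun _ => p) i a l) (Function.update (fun _ => r) i b l)) =
        ∏ l ∈ Finset.univ.erase i, f l p r := fun f => Finset.prod_congr rfl fun l hl => by
      rw [Function.update_of_ne (Finset.ne_of_mem_erase hl),
        Function.update_of_ne (Finset.ne_of_mem_erase hl)]
    rwa [e1 fun l => A l, e1 fun _ => G] at h1
  set S := ∏ l ∈ Finset.univ.erase i, G p r with hS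
  have hR0 : R ≠ 0 := fun e => by
    have h1 := key p r
    rw [e, mul_zero, eq_comm] at h1
    exact (mul_ne_zero hpr (Finset.prod_ne_zero_iff.2 fun _ _ => hpr)) h1
  refine ⟨S / R, Matrix.ext fun a b => ?_⟩
  rw [Matrix.smul_apply, smul_eq_mul, div_mul_eq_mul_div, eq_div_iff hR0, key, mul_comm]

variable {ι : Type} [Fintype ι] [DecidableEq ι]

/-- Coordinates in which the tensor power stabiliser is the standard one. -/
theorem wreath_coords {k t : ℕ} (q : QuadraticForm F (ι → F)) (e : ι ≃ (Fin t → Fin k))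
    (P : Matrix.GeneralLinearGroup ι F) (f₁ : (Fin k → F) → (Fin k → F) → F)
    (hT : Cfsg.Geo.IsTensorPowerFormStructure id (QuadraticMap.polar ⇑q) f₁ e P)
    (hpure : ∀ xs : Fin t → (Fin k → F), q (Matrix.mulVec (P : Matrix ι ι F)
      ((fun a : Fin t → Fin k => ∏ i, xs i (a i)) ∘ e)) = 0)
    (B : GL (Fin k) F) (b : F) (G : Matrix (Fin k) (Fin k) F) (hb : b ≠ 0)
    (hB : (B : Matrix (Fin k) (Fin k) F)ᵀ * Cfsg.Geo.gramMatrix f₁ * (B : Matrix (Fin k) (Fin k) F)
      = b • G) :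
    ∃ (Φ : ((Fin t → Fin k) → F) ≃ₗ[F] (ι → F)) (c : F),
      (∀ X Y, polB q (Φ X) (Φ Y) = c * (X ⬝ᵥ ptm (fun _ => G) *ᵥ Y)) ∧
      (∀ x, q (Φ (Pi.single x 1)) = 0) ∧
      ∀ g : orthGroup q, toGL q g ∈ Cfsg.Geo.tensorWreathSubgroup k t e P →
        ∃ gs σ, ptm (fun i => (gs i : Matrix (Fin k) (Fin k) F)ᵀ * G *
            (gs i : Matrix (Fin k) (Fin k) F)) = ptm (fun _ => G) ∧
          ∀ X, g.1 (Φ X) = Φ (((glPtm gs * glPerm σ : GL (Fin t → Fin k) F) :
            Matrix (Fin t → Fin k) (Fin t → Fin k) F) *ᵥ X) := by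
  classical
  obtain ⟨c, hc, hT⟩ := hT
  set M := (glPtm fun _ : Fin t => B) with hM
  let Φ : ((Fin t → Fin k) → F) ≃ₗ[F] (ι → F) :=
    (Matrix.toLinearEquiv' (M : Matrix (Fin t → Fin k) (Fin t → Fin k) F) M.invertible).trans
      ((LinearEquiv.funCongrLeft F F e).trans
        (Matrix.toLinearEquiv' (P : Matrix ι ι F) P.invertible))
  have hΦ : ∀ X, Φ X = (P : Matrix ι ι F) *ᵥ
      (((M : Matrix (Fin t → Fin k) (Fin t → Fin k) F) *ᵥ X) ∘ e) := fun X => rfl
  have hbil : ∀ (A N : Matrix (Fin t → Fin k) (Fin t → Fin k) F) X Y,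
      (N *ᵥ X) ⬝ᵥ A *ᵥ (N *ᵥ Y) = X ⬝ᵥ (Nᵀ * A * N) *ᵥ Y := by
    intro A N X Y
    rw [← Matrix.mulVec_mulVec, ← Matrix.mulVec_mulVec, Matrix.dotProduct_mulVec X,
      Matrix.vecMul_transpose]
  set J := ptm (fun _ : Fin t => G) with hJ
  have hform : ∀ X Y, polB q (Φ X) (Φ Y) = c * b ^ t * (X ⬝ᵥ J *ᵥ Y) := by
    intro X Y
    set G1 := Cfsg.Geo.gramMatrix f₁ with hG1
    have h1 : polB q (Φ X) (Φ Y) = c *
        (((M : Matrix (Fin t → Fin k) (Fin t → Fin k) F) *ᵥ X) ⬝ᵥ ptm (fun _ => G1) *ᵥ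
          ((M : Matrix (Fin t → Fin k) (Fin t → Fin k) F) *ᵥ Y)) := by
      rw [polB_apply, hΦ, hΦ]
      refine (hT _ _).trans ?_
      simp [dotProduct, Matrix.mulVec, Finset.mul_sum, mul_assoc, ptm, hG1]
    have h2 : (M : Matrix (Fin t → Fin k) (Fin t → Fin k) F)ᵀ * ptm (fun _ => G1) *
        (M : Matrix (Fin t → Fin k) (Fin t → Fin k) F) = b ^ t • J := by
      show (ptm _)ᵀ * _ * ptm _ = _
      rw [H46.ptm_transpose, ← H46.ptm_mul, ← H46.ptm_mul,
        show b ^ t = ∏ _i : Fin t, b by simp, hJ, ← H46.ptm_smul]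
      exact congrArg ptm (funext fun _ => hB)
    rw [h1, hbil, h2, Matrix.smul_mulVec, dotProduct_smul, smul_eq_mul, mul_assoc]
  refine ⟨Φ, c * b ^ t, hform, fun x => ?_, fun g hg => ?_⟩
  · rw [hΦ]
    convert hpure (fun i a => (B : Matrix (Fin k) (Fin k) F) a (x i)) using 4
    funext a
    simp [hM, glPtm, ptm]
  · obtain ⟨g1, ⟨h, hh, rfl⟩, hg1⟩ := hg
    have hMs : ∀ a : Fin t → GL (Fin k) F, glPtm a ∈ Cfsg.Geo.tensorWreathStandard k t F :=
      fun a => Subgroup.subset_closure (Or.inl ⟨a, fun _ _ => rfl⟩)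
    obtain ⟨gs, σ, hgs⟩ :=
      wreath_normal_form (mul_mem (mul_mem (inv_mem (hMs fun _ => B)) hh) (hMs fun _ => B))
    have hgX : ∀ X, g.1 (Φ X) = Φ (((glPtm gs * glPerm σ : GL (Fin t → Fin k) F) :
        Matrix (Fin t → Fin k) (Fin t → Fin k) F) *ᵥ X) := by
      intro X
      rw [← toGL_apply q g, ← hg1, hΦ, hΦ, ← hgs, Matrix.mulVec_mulVec X, ← Units.val_mul M,
        mul_assoc M⁻¹, mul_inv_cancel_left, Units.val_mul h M, ← Matrix.mulVec_mulVec]
      show ((P * Cfsg.Geo.glReindex e.symm h * P⁻¹ : GL ι F) : Matrix ι ι F).mulVec _ = _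
      rw [Matrix.mulVec_mulVec, ← Units.val_mul, inv_mul_cancel_right, Units.val_mul,
        ← Matrix.mulVec_mulVec]
      congr 1
      show ((h : Matrix (Fin t → Fin k) (Fin t → Fin k) F).submatrix e e).mulVec _ = _
      rw [Matrix.submatrix_mulVec_equiv]
      congr 2
      funext p
      simp
    refine ⟨gs, σ, ?_, hgX⟩
    set H : Matrix (Fin t → Fin k) (Fin t → Fin k) F :=
      ((glPtm gs * glPerm σ : GL (Fin t → Fin k) F) : Matrix (Fin t → Fin k) (Fin t → Fin k) F)
    have hHJ : Hᵀ * J * H = J := by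
      have hcb : c * b ^ t ≠ 0 := mul_ne_zero hc (pow_ne_zero _ hb)
      ext x y
      have h1 : polB q (g.1 (Φ (Pi.single x 1))) (g.1 (Φ (Pi.single y 1))) =
          polB q (Φ (Pi.single x 1)) (Φ (Pi.single y 1)) := orth_polB_map _ _ _
      rw [hgX, hgX, hform, hform, hbil] at h1
      simpa [Matrix.mulVec_single_one, single_dotProduct] using mul_left_cancel₀ hcb h1
    set S := ((glPerm σ : GL (Fin t → Fin k) F) : Matrix (Fin t → Fin k) (Fin t → Fin k) F) with hS
    have hSt : Sᵀ = (((glPerm σ)⁻¹ : GL (Fin t → Fin k) F) :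
        Matrix (Fin t → Fin k) (Fin t → Fin k) F) := rfl
    have hJσ : H46.glConj (glPerm σ) J = J := by rw [hJ, H46.glPerm_ptm]; rfl
    have hA : H46.glConj (glPerm σ : GL (Fin t → Fin k) F)⁻¹
        (ptm (fun i => (gs i : Matrix (Fin k) (Fin k) F)ᵀ * G *
          (gs i : Matrix (Fin k) (Fin k) F))) = J := by
      rw [H46.glConj_apply, inv_inv, ← hSt]
      refine Eq.trans ?_ hHJ
      show _ = (ptm _ * S)ᵀ * J * (ptm _ * S)
      rw [hJ, Matrix.transpose_mul, H46.ptm_transpose]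
      rw [show ∀ A B C : Matrix (Fin t → Fin k) (Fin t → Fin k) F,
        Sᵀ * A * B * (C * S) = Sᵀ * (A * B * C) * S from fun A B C => by simp only [mul_assoc],
        ← H46.ptm_mul, ← H46.ptm_mul]
      rfl
    have := congrArg (H46.glConj (glPerm σ : GL (Fin t → Fin k) F)) hA
    rwa [← H46.glConj_mul, mul_inv_cancel, H46.glConj_one, hJσ] at this

variable [Fintype F]

/-- The case of two-dimensional factors. -/
theorem spin_two_nonmax (h2 : (2 : F) = 0) {t : ℕ} (ht : 4 ≤ t) (q : QuadraticForm F (ι → F))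
    (e : ι ≃ (Fin t → Fin 2)) (P : Matrix.GeneralLinearGroup ι F)
    (f₁ : (Fin 2 → F) → (Fin 2 → F) → F) (b : F) (hb : b ≠ 0)
    (hG : Cfsg.Geo.gramMatrix f₁ = b • hyp F)
    (hT : Cfsg.Geo.IsTensorPowerFormStructure id (QuadraticMap.polar ⇑q) f₁ e P)
    (hpure : ∀ xs : Fin t → (Fin 2 → F), q (Matrix.mulVec (P : Matrix ι ι F)
      ((fun a : Fin t → Fin 2 => ∏ i, xs i (a i)) ∘ e)) = 0) :
    ∃ K : Subgroup (Matrix.GeneralLinearGroup ι F),
      Cfsg.Geo.tensorWreathSubgroup 2 t e P ⊓ Cfsg.Geo.omegaGL ⇑q < K ∧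
        K < Cfsg.Geo.omegaGL ⇑q := by
  classical
  obtain ⟨Φ, c, hform, hQ0, hg⟩ := wreath_coords q e P f₁ hT hpure 1 b (hyp F) hb (by
    rw [Units.val_one, Matrix.transpose_one, one_mul, mul_one, hG])
  let s : Fin 4 ↪ Fin t := Fin.castLEEmb ht
  have hco : ∀ g : orthGroup q, toGL q g ∈ Cfsg.Geo.tensorWreathSubgroup 2 t e P →
      ∃ gs σ, coordMat q Φ g = glPtm gs * glPerm σ := fun g hgT => by
    obtain ⟨gs, σ, -, hX⟩ := hg g hgT
    refine ⟨gs, σ, Units.ext (Matrix.ext_of_mulVec_single fun x => ?_)⟩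
    rw [coordMat_mulVec, hX, LinearEquiv.symm_apply_apply]
  refine spin_between h2 s q Φ c hform hQ0 _ (fun g _ hgT N hN => ?_) (fun g hgT => ?_)
  · obtain ⟨gs, σ, hgs⟩ := hco g hgT
    rw [hgs]
    let f : Matrix (Fin t → Fin 2) (Fin t → Fin 2) F →ₗ[F] Matrix (Fin t → Fin 2) (Fin t → Fin 2) F :=
      (H46.glConj (glPtm gs * glPerm σ)).toLinearEquiv.toLinearMap
    have hf : slotSpan F (Fin t) ≤ (slotSpan F (Fin t)).comap f := slotSpan_le fun i M hM => by
      show H46.glConj _ (slot i M) ∈ slotSpan F (Fin t)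
      rw [slot_eq_pt, show pt (Function.update 1 i M) = ptm (Function.update 1 i M) from rfl,
        wreath_conj_single]
      rw [show ptm (Function.update 1 (σ i) (H46.glConj (gs (σ i)) M)) =
        slot (σ i) (H46.glConj (gs (σ i)) M) from (slot_eq_pt _ _).symm]
      exact slot_mem_slotSpan _ (conj_mem_diagEq h2 _ hM)
    exact hf hN
  · obtain ⟨gs, σ, hgs⟩ := hco g hgT
    intro M x
    have h := wreath_col gs σ (s 1) x 0 x
    simp only [M, hgs]
    convert h using 3
    all_goals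
      have : s 1 ≠ s 2 := s.injective.ne (by decide)
      funext l
      rcases eq_or_ne l (s 1) with rfl | h1
      · simp [x, this]
      rcases eq_or_ne l (s 2) with rfl | h2'
      · simp [x, h1]
      simp [x, h1, h2']

/-- The binary digits of an element of `Fin 4`. -/
def dig : Fin 4 ≃ (Fin 2 → Fin 2) where
  toFun := ![![0, 0], ![1, 0], ![0, 1], ![1, 1]]
  invFun f := if f 1 = 0 then (if f 0 = 0 then 0 else 1) else (if f 0 = 0 then 2 else 3)
  left_inv := by decide
  right_inv := by decide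

/-- The antidiagonal alternating form in four variables. -/
def hyp4 (F : Type*) [Field F] : Matrix (Fin 4) (Fin 4) F :=
  Matrix.of fun a b => ∏ j, hyp F (dig a j) (dig b j)

/-- A two by two matrix in one of the two digits. -/
def lift2 (j : Fin 2) (M : Matrix (Fin 2) (Fin 2) F) : Matrix (Fin 4) (Fin 4) F :=
  Matrix.of fun a b => if ∀ l, l ≠ j → dig a l = dig b l then M (dig a j) (dig b j) else 0

/-- The space spanned by the trace-zero matrices in the two digits. -/
def InS4 (N : Matrix (Fin 4) (Fin 4) F) : Prop :=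
  (∀ a, (hyp4 F * N) a a = 0) ∧ (hyp4 F * N)ᵀ = hyp4 F * N ∧ ∃ r : F, N * N = r • 1

lemma lift2_mem (h2 : (2 : F) = 0) (j : Fin 2) {M : Matrix (Fin 2) (Fin 2) F}
    (hM : M ∈ diagEq F) : InS4 (lift2 j M) := by
  rw [mem_diagEq] at hM
  refine ⟨fun a => ?_, ?_, M 1 1 * M 1 1 + M 0 1 * M 1 0, ?_⟩
  · fin_cases a <;> fin_cases j <;>
      simp [Matrix.mul_apply, Fin.sum_univ_four, hyp4, lift2, dig, hyp, Fin.prod_univ_two,
        Fin.forall_fin_two]
  · ext a b
    fin_cases a <;> fin_cases b <;> fin_cases j <;>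
      simp [Matrix.mul_apply, Fin.sum_univ_four, hyp4, lift2, dig, hyp, Fin.prod_univ_two,
        Fin.forall_fin_two, hM]
  · ext a b
    fin_cases a <;> fin_cases b <;> fin_cases j <;>
      simp [Matrix.mul_apply, Fin.sum_univ_four, lift2, dig, Fin.forall_fin_two, hM] <;> grind

lemma inS4_split (h2 : (2 : F) = 0) {N : Matrix (Fin 4) (Fin 4) F} (hN : InS4 N) :
    ∃ M0 ∈ diagEq F, ∃ M1 ∈ diagEq F, N = lift2 0 M0 + lift2 1 M1 := by
  obtain ⟨hd, hs, r, hr⟩ := hN
  have d : ∀ a b, (hyp4 F * N) a b = (hyp4 F * N) b a := fun a b => congrFun (congrFun hs b) a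
  have d0 := hd 0
  have d1 := hd 1
  have d2 := hd 2
  have d3 := hd 3
  have s01 := d 0 1
  have s02 := d 0 2
  have s03 := d 0 3
  have s12 := d 1 2
  have s13 := d 1 3
  have s23 := d 2 3
  have r0 := congrFun (congrFun hr 0) 0
  have r1 := congrFun (congrFun hr 1) 1
  simp [Matrix.mul_apply, Fin.sum_univ_four, hyp4, dig, hyp, Fin.prod_univ_two] at d0 d1 d2 d3 s01 s02 s03 s12 s13 s23 r0 r1
  have h11 : N 1 1 = N 0 0 := by
    have h : (N 1 1 - N 0 0) * (N 1 1 - N 0 0) = 0 := by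
      grind
    exact sub_eq_zero.1 (mul_self_eq_zero.1 h)
  refine ⟨!![N 0 0, N 0 1; N 1 0, N 0 0], rfl, !![0, N 0 2; N 2 0, 0], rfl, ?_⟩
  ext a b
  fin_cases a <;> fin_cases b <;> simp [lift2, dig, Fin.forall_fin_two] <;> grind

lemma inS4_conj (h2 : (2 : F) = 0) (a : GL (Fin 4) F) (μ : F)
    (ha : (a : Matrix (Fin 4) (Fin 4) F)ᵀ * hyp4 F * (a : Matrix (Fin 4) (Fin 4) F) = μ • hyp4 F)
    {N : Matrix (Fin 4) (Fin 4) F} (hN : InS4 N) : InS4 (H46.glConj a N) := by
  obtain ⟨hd, hs, r, hr⟩ := hN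
  set A := (a : Matrix (Fin 4) (Fin 4) F) with hA
  set Ai := ((a⁻¹ : GL (Fin 4) F) : Matrix (Fin 4) (Fin 4) F) with hAi
  have hAA : A * Ai = 1 := by rw [hA, hAi, ← Units.val_mul, mul_inv_cancel, Units.val_one]
  have hAA' : Ai * A = 1 := by rw [hA, hAi, ← Units.val_mul, inv_mul_cancel, Units.val_one]
  have hT : Aiᵀ * Aᵀ = 1 := by rw [← Matrix.transpose_mul, hAA, Matrix.transpose_one]
  have h1 : hyp4 F * H46.glConj a N = Aiᵀ * (μ • (hyp4 F * N)) * Ai := by
    rw [H46.glConj_apply, ← hA, ← hAi, ← Matrix.smul_mul, ← ha]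
    simp only [← mul_assoc, hT, one_mul]
  refine ⟨fun x => ?_, ?_, r, ?_⟩
  · rw [h1, Matrix.mul_apply]
    have h0 := dot_mulVec_self_eq_zero h2 (μ • (hyp4 F * N))
      (by rw [Matrix.transpose_smul, hs]) (fun y => by simp [hd y]) (fun y => Ai y x)
    rw [← h0]
    simp only [dotProduct, Matrix.mulVec, Matrix.mul_apply, Matrix.transpose_apply, Finset.sum_mul,
      Finset.mul_sum]
    rw [Finset.sum_comm]
    exact Finset.sum_congr rfl fun i _ => Finset.sum_congr rfl fun j _ => by ring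
  · rw [h1, Matrix.transpose_mul, Matrix.transpose_mul, Matrix.transpose_transpose,
      Matrix.transpose_smul, hs]
    simp only [mul_assoc]
  · rw [H46.glConj_apply, ← hA, ← hAi, show A * N * Ai * (A * N * Ai) = A * (N * (Ai * A) * N) * Ai
      by simp only [mul_assoc], hAA', mul_one, hr, Matrix.mul_smul, mul_one, Matrix.smul_mul, hAA]

/-- The case of four-dimensional factors. -/
theorem spin_four_nonmax (h2 : (2 : F) = 0) {t : ℕ} (ht : 2 ≤ t) (q : QuadraticForm F (ι → F))
    (e : ι ≃ (Fin t → Fin 4)) (P : Matrix.GeneralLinearGroup ι F)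
    (f₁ : (Fin 4 → F) → (Fin 4 → F) → F) (B : GL (Fin 4) F)
    (hB : (B : Matrix (Fin 4) (Fin 4) F)ᵀ * Cfsg.Geo.gramMatrix f₁ * (B : Matrix (Fin 4) (Fin 4) F)
      = hyp4 F)
    (hT : Cfsg.Geo.IsTensorPowerFormStructure id (QuadraticMap.polar ⇑q) f₁ e P)
    (hpure : ∀ xs : Fin t → (Fin 4 → F), q (Matrix.mulVec (P : Matrix ι ι F)
      ((fun a : Fin t → Fin 4 => ∏ i, xs i (a i)) ∘ e)) = 0) :
    ∃ K : Subgroup (Matrix.GeneralLinearGroup ι F),
      Cfsg.Geo.tensorWreathSubgroup 4 t e P ⊓ Cfsg.Geo.omegaGL ⇑q < K ∧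
        K < Cfsg.Geo.omegaGL ⇑q := by
  classical
  obtain ⟨Φ4, c, hform, hQ0, hg⟩ := wreath_coords q e P f₁ hT hpure B 1 (hyp4 F) one_ne_zero (by
    rw [one_smul, hB])
  let E : (Fin t → Fin 4) ≃ (Fin t × Fin 2 → Fin 2) :=
    (Equiv.arrowCongr (Equiv.refl (Fin t)) dig).trans (Equiv.curry (Fin t) (Fin 2) (Fin 2)).symm
  have hE : ∀ a i j, E a (i, j) = dig (a i) j := fun a i j => rfl
  let Φ : ((Fin t × Fin 2 → Fin 2) → F) ≃ₗ[F] (ι → F) :=
    (LinearEquiv.funCongrLeft F F E).trans Φ4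
  have hΦ : ∀ X, Φ X = Φ4 (X ∘ E) := fun X => rfl
  have hform' : ∀ X Y, polB q (Φ X) (Φ Y) = c * (X ⬝ᵥ pt (fun _ => hyp F) *ᵥ Y) := by
    intro X Y
    rw [hΦ, hΦ, hform]
    congr 1
    simp only [dotProduct, Matrix.mulVec, Function.comp_apply]
    refine Fintype.sum_equiv E _ _ fun a => ?_
    congr 1
    refine Fintype.sum_equiv E _ _ fun b => ?_
    congr 1
    rw [pt_apply, Fintype.prod_prod_type]
    rfl
  have hQ0' : ∀ x, q (Φ (Pi.single x 1)) = 0 := fun x => by
    have : (Pi.single x (1 : F)) ∘ E = Pi.single (E.symm x) 1 := by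
      funext a
      simp [Pi.single_apply, Equiv.eq_symm_apply]
    rw [hΦ, this, hQ0]
  let i0 : Fin t := ⟨0, by omega⟩
  let i1 : Fin t := ⟨1, by omega⟩
  have hi : i0 ≠ i1 := fun h => by simpa [i0, i1] using congrArg Fin.val h
  let s : Fin 4 ↪ Fin t × Fin 2 := ⟨![(i0, 1), (i0, 0), (i1, 0), (i1, 1)], fun a b h => by
    fin_cases a <;> fin_cases b <;> simp_all [hi.symm]⟩
  have hco : ∀ g : orthGroup q, toGL q g ∈ Cfsg.Geo.tensorWreathSubgroup 4 t e P →
      ∃ gs σ, (∀ i, ∃ μ : F, (gs i : Matrix (Fin 4) (Fin 4) F)ᵀ * hyp4 F *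
          (gs i : Matrix (Fin 4) (Fin 4) F) = μ • hyp4 F) ∧
        coordMat q Φ g = Cfsg.Geo.glReindex E (glPtm gs * glPerm σ) := fun g hgT => by
    obtain ⟨gs, σ, hsim, hX⟩ := hg g hgT
    refine ⟨gs, σ, fun i => similitude_of_ptm_eq (hyp4 F) (p := 0) (r := 3)
      (by simp [hyp4, dig, hyp, Fin.prod_univ_two]) _ hsim i, Units.ext (Matrix.ext_of_mulVec_single fun x => ?_)⟩
    rw [coordMat_mulVec, hΦ, hX]
    show (LinearEquiv.funCongrLeft F F E).symm (Φ4.symm (Φ4 _)) =
      ((glPtm gs * glPerm σ : GL (Fin t → Fin 4) F) :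
        Matrix (Fin t → Fin 4) (Fin t → Fin 4) F).submatrix E.symm E.symm *ᵥ _
    rw [LinearEquiv.symm_apply_apply, Matrix.submatrix_mulVec_equiv, Equiv.symm_symm]
    rfl
  -- lifting
  have hlift : ∀ (i : Fin t) (j : Fin 2) (M : Matrix (Fin 2) (Fin 2) F),
      slot (i, j) M = (ptm (Function.update 1 i (lift2 j M))).submatrix E.symm E.symm := by
    intro i j M
    ext x y
    obtain ⟨a, rfl⟩ := E.surjective x
    obtain ⟨b, rfl⟩ := E.surjective y
    rw [Matrix.submatrix_apply, E.symm_apply_apply, E.symm_apply_apply, ptm_update_apply, slot_apply]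
    simp only [lift2, Matrix.of_apply, hE, Prod.forall]
    by_cases h : ∀ l, l ≠ i → a l = b l
    · rw [if_pos h]
      refine if_congr ⟨fun h' l hl => h' i l (by simp [hl]), fun h' p l hl => ?_⟩ rfl rfl
      rcases eq_or_ne p i with rfl | hp
      · exact h' l (by simpa using hl)
      · rw [h p hp]
    · rw [if_neg h, if_neg]
      intro h'
      exact h fun l hl => dig.injective (funext fun m => h' l m (by simp [hl]))
  refine spin_between h2 s q Φ c hform' hQ0' _ (fun g _ hgT N hN => ?_) (fun g hgT => ?_)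
  · obtain ⟨gs, σ, hsim, hgs⟩ := hco g hgT
    rw [hgs]
    let f : Matrix (Fin t × Fin 2 → Fin 2) (Fin t × Fin 2 → Fin 2) F →ₗ[F]
        Matrix (Fin t × Fin 2 → Fin 2) (Fin t × Fin 2 → Fin 2) F :=
      (H46.glConj (Cfsg.Geo.glReindex E (glPtm gs * glPerm σ))).toLinearEquiv.toLinearMap
    have hf : slotSpan F (Fin t × Fin 2) ≤ (slotSpan F (Fin t × Fin 2)).comap f :=
      slotSpan_le fun p M hM => by
        obtain ⟨i, j⟩ := p
        show H46.glConj _ (slot (i, j) M) ∈ slotSpan F (Fin t × Fin 2)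
        have hconj : H46.glConj (Cfsg.Geo.glReindex E (glPtm gs * glPerm σ)) (slot (i, j) M) =
            (H46.glConj (glPtm gs * glPerm σ) (ptm (Function.update 1 i (lift2 j M)))).submatrix
              E.symm E.symm := by
          rw [hlift, H46.glConj_apply, H46.glConj_apply]
          show _ * _ * _ = _
          rw [← Matrix.submatrix_mul_equiv _ _ _ E.symm, ← Matrix.submatrix_mul_equiv _ _ _ E.symm]
          rfl
        rw [hconj, wreath_conj_single]
        obtain ⟨μ, hμ⟩ := hsim (σ i)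
        obtain ⟨M0, h0, M1, h1, hsplit⟩ :=
          inS4_split h2 (inS4_conj h2 (gs (σ i)) μ hμ (lift2_mem h2 j hM))
        have hadd : (ptm (Function.update 1 (σ i) (lift2 0 M0 + lift2 1 M1))).submatrix E.symm E.symm
            = slot (σ i, 0) M0 + slot (σ i, 1) M1 := by
          rw [hlift, hlift]
          ext x y
          simp only [Matrix.submatrix_apply, Matrix.add_apply, ptm_update_apply]
          split_ifs <;> simp
        rw [hsplit, hadd]
        exact add_mem (slot_mem_slotSpan _ h0) (slot_mem_slotSpan _ h1)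
    exact hf hN
  · obtain ⟨gs, σ, -, hgs⟩ := hco g hgT
    intro M x
    have h := wreath_col gs σ i0 (E.symm x) (E.symm 0) (E.symm x)
    have s1 : s 1 = (i0, 0) := rfl
    have s2 : s 2 = (i1, 0) := rfl
    have ea : E.symm (Function.update x (s 1) 0) =
        Function.update (E.symm x) i0 (E.symm 0 i0) := by
      apply E.injective
      rw [Equiv.apply_symm_apply]
      funext p
      obtain ⟨l, m⟩ := p
      rw [hE]
      rcases eq_or_ne l i0 with rfl | hl
      · rw [Function.update_self, ← hE, Equiv.apply_symm_apply]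
        fin_cases m <;> simp [x, s1, s2, Function.update_apply, hi, hi.symm]
      · rw [Function.update_of_ne hl, ← hE, Equiv.apply_symm_apply]
        fin_cases m <;> simp [x, s1, s2, Function.update_apply, hl]
    have eb : E.symm (Function.update x (s 2) 0) =
        Function.update (E.symm 0) i0 (E.symm x i0) := by
      apply E.injective
      rw [Equiv.apply_symm_apply]
      funext p
      obtain ⟨l, m⟩ := p
      rw [hE]
      rcases eq_or_ne l i0 with rfl | hl
      · rw [Function.update_self, ← hE, Equiv.apply_symm_apply]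
        fin_cases m <;> simp [x, s1, s2, Function.update_apply, hi, hi.symm]
      · rw [Function.update_of_ne hl, ← hE, Equiv.apply_symm_apply]
        fin_cases m <;> simp [x, s1, s2, Function.update_apply, hl]
    simp only [M, hgs]
    show ((glPtm gs * glPerm σ : GL (Fin t → Fin 4) F) : Matrix (Fin t → Fin 4) (Fin t → Fin 4) F)
          (E.symm x) (E.symm x) *
        ((glPtm gs * glPerm σ : GL (Fin t → Fin 4) F) : Matrix (Fin t → Fin 4) (Fin t → Fin 4) F)
          (E.symm 0) (E.symm x) =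
      ((glPtm gs * glPerm σ : GL (Fin t → Fin 4) F) : Matrix (Fin t → Fin 4) (Fin t → Fin 4) F)
          (E.symm (Function.update x (s 1) 0)) (E.symm x) *
        ((glPtm gs * glPerm σ : GL (Fin t → Fin 4) F) : Matrix (Fin t → Fin 4) (Fin t → Fin 4) F)
          (E.symm (Function.update x (s 2) 0)) (E.symm x)
    rw [ea, eb]
    exact h

/-- A symplectic form in four variables has the antidiagonal Gram matrix in some basis. -/
theorem exists_hyp4_basis (h2 : (2 : F) = 0) {f₁ : (Fin 4 → F) → (Fin 4 → F) → F}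
    (hf₁ : Cfsg.Geo.IsSymplecticForm f₁) :
    ∃ B : GL (Fin 4) F, (B : Matrix (Fin 4) (Fin 4) F)ᵀ * Cfsg.Geo.gramMatrix f₁ *
      (B : Matrix (Fin 4) (Fin 4) F) = hyp4 F := by
  classical
  obtain ⟨ψ, hψ⟩ := H47.exists_symp_coords (m := 2) (by simp) hf₁
  let d : Fin 4 ≃ Fin 2 ⊕ Fin 2 :=
    { toFun := ![Sum.inl 0, Sum.inl 1, Sum.inr 1, Sum.inr 0]
      invFun := Sum.elim ![0, 1] ![3, 2]
      left_inv := by decide
      right_inv := by decide }
  let ε : (Fin 4 → F) ≃ₗ[F] (Fin 4 → F) := (LinearEquiv.funCongrLeft F F d.symm).trans ψ.symm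
  let B : GL (Fin 4) F := Matrix.GeneralLinearGroup.toLin.symm
    ((LinearMap.GeneralLinearGroup.generalLinearEquiv F (Fin 4 → F)).symm ε)
  refine ⟨B, ?_⟩
  have hB : ∀ a, (fun p => (B : Matrix (Fin 4) (Fin 4) F) p a) = ε (Pi.single a 1) := fun a => by
    funext p
    show LinearMap.toMatrix' ε.toLinearMap p a = _
    rw [LinearMap.toMatrix'_apply]
    congr 1
  let β : LinearMap.BilinForm F (Fin 4 → F) := LinearMap.mk₂ F f₁ hf₁.bilinear.add_left
    hf₁.bilinear.smul_left hf₁.bilinear.add_right hf₁.bilinear.smul_right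
  have hG : Cfsg.Geo.gramMatrix f₁ = LinearMap.toMatrix₂' F β := by
    ext p r
    rw [LinearMap.toMatrix₂'_apply]
    rfl
  ext a b
  have h1 : ((B : Matrix (Fin 4) (Fin 4) F)ᵀ * Cfsg.Geo.gramMatrix f₁ *
      (B : Matrix (Fin 4) (Fin 4) F)) a b = f₁ (ε (Pi.single a 1)) (ε (Pi.single b 1)) := by
    rw [← hB, ← hB, Matrix.mul_assoc, Matrix.mul_apply, hG]
    show _ = β _ _
    conv_rhs => rw [← Matrix.toLinearMap₂'_toMatrix' (R := F) β, Matrix.toLinearMap₂'_apply']
    rfl
  rw [h1]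
  show f₁ (ψ.symm _) (ψ.symm _) = _
  rw [← hψ, LinearEquiv.apply_symm_apply, LinearEquiv.apply_symm_apply]
  fin_cases a <;> fin_cases b <;>
    simp [Cfsg.sympForm, Matrix.J, dotProduct, Matrix.mulVec, Fintype.sum_sum_type,
      LinearEquiv.funCongrLeft_apply, LinearMap.funLeft_apply, d,
      Fin.sum_univ_two, hyp4, dig, hyp, Fin.prod_univ_two, Pi.single_apply] <;> grind

end H45
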