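import Cfsg.Agent.H45.SubSevenFinal
import Cfsg.Agent.H45.NondegFinal
import Cfsg.Agent.H45.PointStab

/-!
# Subfield subgroups for a form up to a scalar, in dimension at least seven
-/

set_option autoImplicit false
open Cfsg

namespace H45.SubO7

open Matrix

theorem isometryGroup_smul {F : Type*} [Field F] {n : ℕ} {ζ : F} (hζ : ζ ≠ 0)
    (q : QuadraticForm F (Fin n → F)) :
    Cfsg.isometryGroup F ⇑(ζ • q) = Cfsg.isometryGroup F ⇑q := by
  ext g
  simp only [Cfsg.isometryGroup, Cfsg.preserving]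
  constructor <;> intro h <;> intro u v <;> have h' := h u v <;>
    simp_all [QuadraticMap.smul_apply, mul_right_inj' hζ]

theorem omegaGL_smul {F : Type*} [Field F] {n : ℕ} {ζ : F} (hζ : ζ ≠ 0)
    (q : QuadraticForm F (Fin n → F)) :
    Cfsg.Geo.omegaGL ⇑(ζ • q) = Cfsg.Geo.omegaGL ⇑q := by
  rw [Cfsg.Geo.omegaGL, Cfsg.Geo.omegaGL, Cfsg.Omega, Cfsg.Omega, Subgroup.map_subtype_commutator,
    Subgroup.map_subtype_commutator, isometryGroup_smul hζ q]

/-- Subfield groups are maximal in the commutator subgroup for a form of either type, up to a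
scalar, in any dimension from seven on. -/
theorem subfield_maximal_form {F : Type*} [Field F] [Fintype F] {n : ℕ} (hn : 7 ≤ n) {Q : (Fin n → F) → F}
    (hQ : Cfsg.Geo.IsNondegenerateQuadraticForm Q) (F₀ : Subfield F) (r : ℕ)
    (hr : r.Prime) (hcard : Fintype.card F = Nat.card F₀ ^ r)
    (P : Matrix.GeneralLinearGroup (Fin n) F) (ζ : F) (hζ : ζ ≠ 0)
    (hP : Cfsg.Geo.IsQuadFormRationalStructure (fun v : Fin n → F => ζ * Q v) F₀ P) :
    Cfsg.Geo.IsMaximalIn (Cfsg.Geo.omegaGL Q) (Cfsg.Geo.subfieldSubgroup F₀ P ⊓ Cfsg.Geo.omegaGL Q) := by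
  haveI : Nonempty (Fin n) := ⟨⟨0, by omega⟩⟩
  obtain ⟨q, rfl, hq⟩ := H45.exists_quadForm hQ
  have hnd : (H43.polB (ζ • q)).Nondegenerate := by
    have key : ∀ x, (∀ y, H43.polB (ζ • q) x y = 0) → x = 0 := fun x hx =>
      H43.eq_zero_of_polB_eq_zero hq fun y => by
        have h := hx y
        rw [H43.polB_apply, QuadraticMap.polar] at h
        simp only [QuadraticMap.smul_apply, smul_eq_mul, ← mul_sub] at h
        rw [H43.polB_apply, QuadraticMap.polar]
        exact (mul_eq_zero.1 h).resolve_left hζ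
    exact ⟨key, fun x hx => key x fun y => by rw [H43.polB_comm]; exact hx y⟩
  have D : H45.SubO7.Dat (ζ • q) F₀ P :=
    ⟨hnd, by rw [Fintype.card_fin]; exact hn, fun u => by
      rw [QuadraticMap.smul_apply, smul_eq_mul]
      exact hP _ fun i => (u i).2⟩
  have hmax := H45.SubO7.subfield_maximal D hr (by rw [Nat.card_eq_fintype_card]; exact hcard)
  rwa [omegaGL_smul hζ q] at hmax

end H45.SubO7
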