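import Cfsg.Agent.H45.SubSevenBase
import Cfsg.Agent.H38.SL2BigUnip

/-!
In dimension at least seven one irrational Eichler element at a rational centre gives the
commutator subgroup.
-/

set_option autoImplicit false
set_option linter.unusedSectionVars false

namespace H45.SubO7

open H43 H49 Matrix
open H38 (subfield_eq_top_of_lt)

variable {F : Type*} [Field F] [Finite F] {ι : Type} [Fintype ι] [DecidableEq ι] {F₀ : Subfield F}
  {P : GL ι F}

local notation "V" => (ι → F)

variable {q : QuadraticForm F (ι → F)} {M : Subgroup (orthGroup q)}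

/-- No irrational Eichler elements at rational centres. -/
def Rigid (q : QuadraticForm F (ι → F)) (F₀ : Subfield F) (P : GL ι F)
    (M : Subgroup (orthGroup q)) : Prop :=
  ∀ u : ι → F₀, u ≠ 0 → q (remb P u) = 0 → ∀ w, InE q M (remb P u) w →
    ∃ (r : ι → F₀) (k : F), w = remb P r + k • remb P u

/-- The scalar `t` works for all rational singular vectors orthogonal to `u`. -/
def AllT (q : QuadraticForm F (ι → F)) (F₀ : Subfield F) (P : GL ι F)
    (M : Subgroup (orthGroup q)) (u : ι → F₀) (t : F) : Prop :=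
  ∀ d : ι → F₀, q (remb P d) = 0 → polB q (remb P u) (remb P d) = 0 →
    InE q M (remb P u) (t • remb P d)

variable (D : Dat q F₀ P) (hM : HasRatO q F₀ P M)
include D

theorem q₀_eq_zero {u : ι → F₀} (h : q (remb P u) = 0) : q₀ D u = 0 :=
  Subtype.ext (by rw [q₀_val, h]; rfl)

theorem b₀_eq_zero {u v : ι → F₀} (h : polB q (remb P u) (remb P v) = 0) :
    polB (q₀ D) u v = 0 :=
  Subtype.ext (by rw [b₀_val, h]; rfl)

theorem finrank_quad (u v w z : ι → F₀) :
    Module.finrank F₀ (Submodule.span F₀ (Set.range ![u, v, w, z])) ≤ 4 := finrank_span_tuple _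

theorem orth_span {k : ℕ} {f : Fin k → ι → F₀} {z : ι → F₀}
    (h : ∀ w ∈ Submodule.span F₀ (Set.range f), polB (q₀ D) w z = 0) (i : Fin k) :
    polB (q₀ D) (f i) z = 0 :=
  h _ (Submodule.subset_span ⟨i, rfl⟩)

include hM

/-- Trading one rational singular vector for another one orthogonal to it. -/
theorem shift {u : ι → F₀} (hu : q₀ D u = 0) {t : F} {a d : ι → F₀}
    (h : InE q M (remb P u) (t • remb P a)) (hd : q₀ D d = 0) (hud : polB (q₀ D) u d = 0)
    (had : polB (q₀ D) a d = 0) (hn : a ∉ Submodule.span F₀ (Set.range ![u, d])) :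
    InE q M (remb P u) (t • remb P d) := by
  have hbig := D.big
  have := finrank_pair D u d
  obtain ⟨c, hc, hcW, hac⟩ := exists_sing_eq D (W := Submodule.span F₀ (Set.range ![u, d]))
    (by omega) hn 1
  have h1 := step D hM (q_eq_zero D hu) h hc hd
    (by rw [polB_comm]; exact orth_span D hcW 1) (b_eq_zero D (orth_span D hcW 0))
    (b_eq_zero D hud)
  simp only [map_smul, LinearMap.smul_apply, smul_eq_mul, b_eq_zero D had, ← b₀_val D a c, hac,
    OneMemClass.coe_one, mul_zero, mul_one, zero_smul, sub_zero] at h1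
  exact h1

/-- The component of an element along one rational singular vector. -/
theorem self_move {u : ι → F₀} (hu : q₀ D u = 0) {x : V} (hx : InE q M (remb P u) x)
    {a : ι → F₀} (ha : q₀ D a = 0) (hua : polB (q₀ D) u a = 0) :
    InE q M (remb P u) (polB q x (remb P a) • remb P a) := by
  have hbig := D.big
  set W := Submodule.span F₀ (Set.range ![u, a]) with hW
  have hdW : Module.finrank F₀ W ≤ 2 := finrank_pair D u a
  obtain ⟨d, hd, hdW', hdn⟩ := exists_sing_out D (W := W) (by omega)
  obtain ⟨c, hc, hcW, hdc⟩ := exists_sing_eq D (W := W) (by omega) hdn 1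
  have hud : polB (q₀ D) u d = 0 := orth_span D hdW' 0
  have had : polB (q₀ D) a d = 0 := orth_span D hdW' 1
  have hac : polB (q₀ D) a c = 0 := orth_span D hcW 1
  have huq := q_eq_zero D hu
  have h1 := step D hM huq (step D hM huq hx ha hd had (b_eq_zero D hua) (b_eq_zero D hud)) hc ha
    (by rw [polB_comm]; exact hac) (b_eq_zero D (orth_span D hcW 0)) (b_eq_zero D hua)
  simp only [map_sub, map_smul, LinearMap.sub_apply, LinearMap.smul_apply, smul_eq_mul,
    b_eq_zero D hac, ← b₀_val D d c, hdc, OneMemClass.coe_one, polB_self, q_eq_zero D ha,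
    show polB q (remb P d) (remb P a) = 0 from b_eq_zero D (by rw [polB_comm]; exact had),
    mul_zero, mul_one, sub_zero, zero_smul] at h1
  exact h1

/-- Moving an element to an arbitrary rational singular vector. -/
theorem move {u : ι → F₀} (hu : q₀ D u = 0) {x : V} (hx : InE q M (remb P u) x) {a d : ι → F₀}
    (ha : q₀ D a = 0) (hd : q₀ D d = 0) (hua : polB (q₀ D) u a = 0) (hud : polB (q₀ D) u d = 0)
    (had : polB (q₀ D) a d = 0) : InE q M (remb P u) (polB q x (remb P a) • remb P d) := by
  have hbig := D.big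
  have huq := q_eq_zero D hu
  by_cases hau : a ∈ Submodule.span F₀ (Set.range ![u])
  · obtain ⟨c, hc⟩ := (Submodule.mem_span_range_iff_exists_fun F₀).1 hau
    simp at hc
    rw [← hc, remb_smul, map_smul, polB_comm, hx.1, smul_zero, zero_smul]
    have h0 := inE_self (M := M) huq 0
    rwa [zero_smul] at h0
  have h1 := self_move D hM hu hx ha hua
  by_cases hin : a ∈ Submodule.span F₀ (Set.range ![u, d])
  swap
  · exact shift D hM hu h1 hd hud had hin
  obtain ⟨c, hc⟩ := (Submodule.mem_span_range_iff_exists_fun F₀).1 hin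
  simp [Fin.sum_univ_two] at hc
  have hc1 : c 1 ≠ 0 := fun e => hau ((Submodule.mem_span_range_iff_exists_fun F₀).2
    ⟨![c 0], by simp [← hc, e]⟩)
  set W := Submodule.span F₀ (Set.range ![u, a]) with hW
  have hdW : Module.finrank F₀ W ≤ 2 := finrank_pair D u a
  obtain ⟨d', hd', hd'W, hd'n⟩ := exists_sing_out D (W := W) (by omega)
  have huW : u ∈ W := Submodule.subset_span ⟨0, rfl⟩
  have haW : a ∈ W := Submodule.subset_span ⟨1, rfl⟩
  have hdmem : d ∈ W := by
    rw [← W.smul_mem_iff hc1, show c 1 • d = a - c 0 • u by rw [← hc]; abel]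
    exact W.sub_mem haW (W.smul_mem _ huW)
  have hn1 : a ∉ Submodule.span F₀ (Set.range ![u, d']) := by
    intro hm
    obtain ⟨e, he⟩ := (Submodule.mem_span_range_iff_exists_fun F₀).1 hm
    simp [Fin.sum_univ_two] at he
    by_cases he1 : e 1 = 0
    · exact hau ((Submodule.mem_span_range_iff_exists_fun F₀).2 ⟨![e 0], by simp [← he, he1]⟩)
    · apply hd'n
      rw [← W.smul_mem_iff he1, show e 1 • d' = a - e 0 • u by rw [← he]; abel]
      exact W.sub_mem haW (W.smul_mem _ huW)
  have h2 := shift D hM hu h1 hd' (orth_span D hd'W 0) (orth_span D hd'W 1) hn1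
  refine shift D hM hu h2 hd hud (by rw [polB_comm]; exact hd'W d hdmem) fun hm => hd'n ?_
  refine (Submodule.span_le.2 ?_) hm
  rintro _ ⟨i, rfl⟩
  fin_cases i
  · exact huW
  · exact hdmem

/-- One vector spreads to all. -/
theorem spread {u d₀ : ι → F₀} (hu : q₀ D u = 0) (hd₀ : q₀ D d₀ = 0)
    (hud₀ : polB (q₀ D) u d₀ = 0) (hne : d₀ ∉ Submodule.span F₀ (Set.range ![u])) {t : F}
    (h : InE q M (remb P u) (t • remb P d₀)) : AllT q F₀ P M u t := by
  have hbig := D.big
  have key : ∀ e : ι → F₀, q₀ D e = 0 → polB (q₀ D) u e = 0 →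
      InE q M (remb P u) (t • remb P e) → ∀ d, q₀ D d = 0 → polB (q₀ D) u d = 0 →
      e ∉ Submodule.span F₀ (Set.range ![u, d]) → InE q M (remb P u) (t • remb P d) := by
    intro e he hue hte d hd hud hn
    have := finrank_pair D u d
    obtain ⟨a, ha, haW, hea⟩ := exists_sing_eq D (W := Submodule.span F₀ (Set.range ![u, d]))
      (by omega) hn 1
    have h1 := move D hM hu hte ha hd (orth_span D haW 0) hud
      (by rw [polB_comm]; exact orth_span D haW 1)
    rwa [map_smul, LinearMap.smul_apply, ← b₀_val D e a, hea, OneMemClass.coe_one, smul_eq_mul,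
      mul_one] at h1
  intro d hd hud
  have hd' := q₀_eq_zero D hd
  have hud' := b₀_eq_zero D hud
  by_cases hin : d₀ ∈ Submodule.span F₀ (Set.range ![u, d])
  swap
  · exact key d₀ hd₀ hud₀ h d hd' hud' hin
  set W := Submodule.span F₀ (Set.range ![u, d]) with hW
  have hdW : Module.finrank F₀ W ≤ 2 := finrank_pair D u d
  obtain ⟨e, he, heW, hen⟩ := exists_sing_out D (W := W) (by omega)
  have hmem : ∀ i, ![u, d] i ∈ W := fun i => Submodule.subset_span ⟨i, rfl⟩
  have h1 : d₀ ∉ Submodule.span F₀ (Set.range ![u, e]) := by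
    intro hd0
    obtain ⟨c, hc⟩ := (Submodule.mem_span_range_iff_exists_fun F₀).1 hd0
    simp [Fin.sum_univ_two] at hc
    by_cases hc1 : c 1 = 0
    · refine hne ((Submodule.mem_span_range_iff_exists_fun F₀).2 ⟨![c 0], ?_⟩)
      simp [← hc, hc1]
    · apply hen
      rw [← W.smul_mem_iff hc1, show c 1 • e = d₀ - c 0 • u by rw [← hc]; abel]
      exact W.sub_mem hin (W.smul_mem _ (hmem 0))
  have hue : polB (q₀ D) u e = 0 := orth_span D heW 0
  have h2 := key d₀ hd₀ hud₀ h e he hue h1
  refine key e he hue h2 d hd' hud' fun he' => hen ?_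
  exact he'

theorem allT_neg {u : ι → F₀} (hu : q₀ D u = 0) {t : F} (h : AllT q F₀ P M u t) :
    AllT q F₀ P M u (-t) := fun d hd hud => by
  rw [neg_smul]
  exact inE_neg (q_eq_zero D hu) (h d hd hud)

/-- The scalars do not depend on the centre. -/
theorem allT_trans {u u' : ι → F₀} (hu : q₀ D u = 0) (hu' : q₀ D u' = 0) (hu0 : u ≠ 0)
    (hu'0 : u' ≠ 0) {t : F} (h : AllT q F₀ P M u t) : AllT q F₀ P M u' t := by
  have hbig := D.big
  by_cases ht : t = 0
  · intro d hd hud
    have := inE_self (M := M) (q_eq_zero D hu') 0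
    rw [zero_smul] at this
    rwa [ht, zero_smul]
  set W := Submodule.span F₀ (Set.range ![u, u']) with hW
  have hdW : Module.finrank F₀ W ≤ 2 := finrank_pair D u u'
  obtain ⟨d, hd, hdW', hdn⟩ := exists_sing_out D (W := W) (by omega)
  have hud : polB (q₀ D) u d = 0 := orth_span D hdW' 0
  have hu'd : polB (q₀ D) u' d = 0 := orth_span D hdW' 1
  have hnot : ∀ w : ι → F₀, w ≠ 0 → w ∈ W → w ∉ Submodule.span F₀ (Set.range ![d]) := by
    intro w hw hwW hmem
    obtain ⟨c, hc⟩ := (Submodule.mem_span_range_iff_exists_fun F₀).1 hmem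
    simp at hc
    have hc0 : c 0 ≠ 0 := fun e => hw (by rw [← hc, e, zero_smul])
    exact hdn ((W.smul_mem_iff hc0).1 (by rw [hc]; exact hwW))
  have h1 : InE q M (remb P d) ((-t) • remb P u) := by
    rw [neg_smul]
    exact inE_swap (q_eq_zero D hu) (q_eq_zero D hd) (h d (q_eq_zero D hd) (b_eq_zero D hud)) ht
  have h2 := spread D hM hd hu (by rw [polB_comm]; exact hud)
    (hnot u hu0 (Submodule.subset_span ⟨0, rfl⟩)) h1
  have h3 := allT_neg D hM hd h2 u' (q_eq_zero D hu')
    (by rw [polB_comm]; exact b_eq_zero D hu'd)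
  rw [neg_neg] at h3
  have h4 := inE_swap (q_eq_zero D hd) (q_eq_zero D hu') h3 ht
  rw [← neg_smul] at h4
  have hd' : d ∉ Submodule.span F₀ (Set.range ![u']) := fun hmem => hdn ((Submodule.span_le.2 (by
    rintro _ ⟨i, rfl⟩
    fin_cases i
    exact Submodule.subset_span ⟨1, rfl⟩)) hmem)
  have h5 := allT_neg D hM hu' (spread D hM hu' hd hu'd hd' h4)
  rwa [neg_neg] at h5

/-- The product of two scalars. -/
theorem allT_mul {s t : F} (hs : ∀ u : ι → F₀, u ≠ 0 → q₀ D u = 0 → AllT q F₀ P M u s)
    (ht : ∀ u : ι → F₀, u ≠ 0 → q₀ D u = 0 → AllT q F₀ P M u t) :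
    ∀ u : ι → F₀, u ≠ 0 → q₀ D u = 0 → AllT q F₀ P M u (s * t) := by
  intro w hw0 hw
  have hbig := D.big
  have hd1 : Module.finrank F₀ (Submodule.span F₀ (Set.range ![w])) ≤ 1 := finrank_span_tuple _
  obtain ⟨u, hu, huW, hun⟩ := exists_sing_out D (W := Submodule.span F₀ (Set.range ![w])) (by omega)
  have hwu : polB (q₀ D) w u = 0 := orth_span D huW 0
  set W := Submodule.span F₀ (Set.range ![u, w]) with hW
  have hdW : Module.finrank F₀ W ≤ 2 := finrank_pair D u w
  obtain ⟨a, ha, haW, han⟩ := exists_sing_out D (W := W) (by omega)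
  obtain ⟨b, hb, hbW, hab⟩ := exists_sing_eq D (W := W) (by omega) han (-1)
  refine spread D hM hw hu hwu hun ?_
  have hu0 : u ≠ 0 := fun e => hun (e ▸ Submodule.zero_mem _)
  have hua : InE q M (remb P u) (s • remb P a) :=
    hs u hu0 hu a (q_eq_zero D ha) (b_eq_zero D (orth_span D haW 0))
  have hwb : InE q M (remb P w) (t • remb P b) :=
    ht w hw0 hw b (q_eq_zero D hb) (b_eq_zero D (orth_span D hbW 1))
  have hfix : (eichler q (remb P u) (s • remb P a)).1 (remb P w) = remb P w :=
    eichler_fix (q_eq_zero D hu) hua.1 (b_eq_zero D hwu)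
      (by rw [map_smul, show polB q (remb P w) (remb P a) = 0 from b_eq_zero D (orth_span D haW 1),
        smul_zero])
  have h1 := inE_fix_sub (q_eq_zero D hw) hwb hua.2 hfix
  have e1 : polB q (remb P b) (remb P a) = -1 := by
    rw [polB_comm, ← b₀_val D, hab, NegMemClass.coe_neg, OneMemClass.coe_one]
  have e2 : polB q (remb P b) (remb P u) = 0 := by
    rw [polB_comm]; exact b_eq_zero D (orth_span D hbW 0)
  rw [eichler_apply (q_eq_zero D hu) hua.1] at h1
  simp only [map_smul, LinearMap.smul_apply, smul_eq_mul, e1, e2, mul_zero, zero_smul, add_zero,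
    sub_zero] at h1
  convert h1 using 1
  module

/-- Irrational Eichler elements at a rational centre give an irrational scalar. -/
theorem exists_allT_of_not_rigid (h : ¬ Rigid q F₀ P M) :
    ∃ t : F, t ∉ F₀ ∧ ∀ u : ι → F₀, u ≠ 0 → q₀ D u = 0 → AllT q F₀ P M u t := by
  simp only [Rigid, not_forall] at h
  obtain ⟨u, hu0, huq, x, hx, hnot⟩ := h
  have hu := q₀_eq_zero D huq
  have hbig := D.big
  obtain ⟨a, ha, hua, hta⟩ : ∃ a, q₀ D a = 0 ∧ polB (q₀ D) u a = 0 ∧
      polB q x (remb P a) ∉ F₀ := by
    by_contra hcon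
    push Not at hcon
    apply hnot
    refine exists_rat_add D hu0 fun w hw => ?_
    have hw' : w ∈ (polB (q₀ D)).orthogonal (F₀ ∙ u) := mem_orth_singleton.2 hw
    have hdim : 2 * Module.finrank F₀ (F₀ ∙ u) + 3 ≤ Module.finrank F₀ (ι → F₀) := by
      rw [finrank_span_singleton hu0, finrank₀ D]; omega
    have hspan := span_singular_orth (nd₀ D) hdim hw'
    clear hw hw'
    induction hspan using Submodule.span_induction with
    | mem z hz => exact hcon z hz.2 (mem_orth_singleton.1 hz.1)
    | zero => rw [remb_zero, map_zero]; exact F₀.zero_mem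
    | add y y' _ _ h1 h2 => rw [remb_add, map_add]; exact add_mem h1 h2
    | smul c y _ h1 => rw [remb_smul, map_smul, smul_eq_mul]; exact mul_mem c.2 h1
  set W := Submodule.span F₀ (Set.range ![u, a]) with hW
  have hdW : Module.finrank F₀ W ≤ 2 := finrank_pair D u a
  obtain ⟨d, hd, hdW', hdn⟩ := exists_sing_out D (W := W) (by omega)
  have hud : polB (q₀ D) u d = 0 := orth_span D hdW' 0
  have h1 := move D hM hu hx ha hd hua hud (orth_span D hdW' 1)
  have h2 := spread D hM hu hd hud (fun hmem => hdn ((Submodule.span_le.2 (by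
    rintro _ ⟨i, rfl⟩
    fin_cases i
    exact Submodule.subset_span ⟨0, rfl⟩)) hmem)) h1
  exact ⟨_, hta, fun u' hu'0 hu' => allT_trans D hM hu hu' hu0 hu'0 h2⟩

theorem allT_all {r : ℕ} (hr : r.Prime) (hcard : Nat.card F = Nat.card F₀ ^ r)
    (h : ¬ Rigid q F₀ P M) : ∀ (s : F) (u : ι → F₀), u ≠ 0 → q₀ D u = 0 → AllT q F₀ P M u s := by
  obtain ⟨t, ht, hT⟩ := exists_allT_of_not_rigid D hM h
  have hF0 : ∀ c : F₀, ∀ u : ι → F₀, u ≠ 0 → q₀ D u = 0 → AllT q F₀ P M u c := by
    intro c u _ hu d hd hud
    rw [← remb_smul]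
    exact inE_rat D hM hu (by rw [map_smul, b₀_eq_zero D hud, smul_zero])
  let R : Subring F :=
    { carrier := {s | ∀ u : ι → F₀, u ≠ 0 → q₀ D u = 0 → AllT q F₀ P M u s}
      one_mem' := fun u hu0 hu => by
        have := hF0 1 u hu0 hu
        rwa [OneMemClass.coe_one] at this
      mul_mem' := fun {a b} ha hb => allT_mul D hM ha hb
      zero_mem' := fun u hu0 hu => by
        have := hF0 0 u hu0 hu
        rwa [ZeroMemClass.coe_zero] at this
      add_mem' := fun {a b} ha hb u hu0 hu d hd hud => by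
        rw [add_smul]
        exact inE_add (q_eq_zero D hu) (ha u hu0 hu d hd hud) (hb u hu0 hu d hd hud)
      neg_mem' := fun {a} ha u hu0 hu => allT_neg D hM hu (ha u hu0 hu) }
  haveI := Fintype.ofFinite F
  have hinv : ∀ a ∈ R, a⁻¹ ∈ R := by
    intro a ha
    by_cases h0 : a = 0
    · rw [h0, _root_.inv_zero]; exact R.zero_mem
    · have hq2 : 2 ≤ Fintype.card F := Fintype.one_lt_card
      have : a⁻¹ = a ^ (Fintype.card F - 2) := by
        refine inv_eq_of_mul_eq_one_right ?_
        rw [← pow_succ', show Fintype.card F - 2 + 1 = Fintype.card F - 1 by omega]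
        exact FiniteField.pow_card_sub_one_eq_one a h0
      rw [this]
      exact pow_mem ha _
  let K : Subfield F := { R with inv_mem' := hinv }
  have hle : F₀ ≤ K := fun c hc => hF0 ⟨c, hc⟩
  have hlt : Nat.card F₀ < Nat.card K := by
    rcases (Nat.card_le_card_of_injective _ (Set.inclusion_injective hle)).lt_or_eq with h' | h'
    · exact h'
    · exfalso
      apply ht
      have hset : (F₀ : Set F) = K := Set.eq_of_subset_of_ncard_le hle (by
        rw [← Nat.card_coe_set_eq, ← Nat.card_coe_set_eq]; exact h'.ge) (Set.toFinite _)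
      rw [← SetLike.mem_coe, hset]
      exact hT
  have htop := subfield_eq_top_of_lt hr hcard hle hlt
  exact fun s => (show s ∈ K from htop ▸ Subfield.mem_top s)

omit hM in
/-- All Eichler elements at the centre lie in `M` once all scalars do. -/
theorem inE_full {u : ι → F₀} (hu : q₀ D u = 0) (hu0 : u ≠ 0)
    (hT : ∀ s, AllT q F₀ P M u s) : ∀ w, polB q (remb P u) w = 0 → InE q M (remb P u) w := by
  intro w hw
  have huq := q_eq_zero D hu
  have hbig := D.big
  have hrat : ∀ (r : ι → F₀), polB (q₀ D) u r = 0 → ∀ s : F, InE q M (remb P u) (s • remb P r) := by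
    intro r hr
    have hr' : r ∈ (polB (q₀ D)).orthogonal (F₀ ∙ u) := mem_orth_singleton.2 hr
    have hdim : 2 * Module.finrank F₀ (F₀ ∙ u) + 3 ≤ Module.finrank F₀ (ι → F₀) := by
      rw [finrank_span_singleton hu0, finrank₀ D]; omega
    have hspan := span_singular_orth (nd₀ D) hdim hr'
    clear hr hr'
    induction hspan using Submodule.span_induction with
    | mem z hz =>
      exact fun s => hT s z (q_eq_zero D hz.2) (b_eq_zero D (mem_orth_singleton.1 hz.1))
    | zero =>
      intro s
      have := inE_self (M := M) huq 0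
      rw [zero_smul] at this
      rwa [remb_zero, smul_zero]
    | add y y' _ _ h1 h2 =>
      intro s
      rw [remb_add, smul_add]
      exact inE_add huq (h1 s) (h2 s)
    | smul c y _ h1 =>
      intro s
      rw [remb_smul, smul_smul]
      exact h1 _
  obtain ⟨y, hy⟩ := exists_partner D hu0
  have hy' : polB q (remb P u) (remb P y) = 1 := by
    rw [← b₀_val D, hy]; exact OneMemClass.coe_one _
  let x : ι → F := ((P⁻¹ : GL ι F) : Matrix ι ι F) *ᵥ w
  have hdec : w = ∑ i, x i • remb P (Pi.single i 1 - polB (q₀ D) u (Pi.single i 1) • y) := by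
    have hwsum : polB q (remb P u) w =
        ∑ i, x i * polB q (remb P u) (remb P (Pi.single i (1 : F₀))) := by
      conv_lhs => rw [← remb_sum (F₀ := F₀) (P := P) w, map_sum]
      simp [map_smul, x]
    simp only [remb_sub, remb_smul, smul_sub, smul_smul, b₀_val, Finset.sum_sub_distrib,
      ← Finset.sum_smul, ← hwsum, hw, zero_smul, sub_zero]
    exact (remb_sum w).symm
  rw [hdec]
  refine Finset.sum_induction _ (InE q M (remb P u)) (fun a b ha hb => inE_add huq ha hb) ?_
    fun i _ => hrat _ (by rw [map_sub, map_smul, hy, smul_eq_mul, mul_one, sub_self]) _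
  have := inE_self (M := M) huq 0
  rwa [zero_smul] at this

omit hM in
/-- Full centres at all rational singular vectors give everything. -/
theorem commutator_le_of_full
    (hfull : ∀ u : ι → F₀, u ≠ 0 → q₀ D u = 0 → ∀ w, polB q (remb P u) w = 0 →
      InE q M (remb P u) w) : commutator (orthGroup q) ≤ M := by
  have hbig := D.big
  have h5 : 5 ≤ Module.finrank F (ι → F) := by rw [Module.finrank_fintype_fun_eq_card]; omega
  obtain ⟨u, hu, -, hun⟩ := exists_sing_out D (W := (⊥ : Submodule F₀ (ι → F₀)))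
    (by rw [finrank_bot]; omega)
  have hu0 : u ≠ 0 := fun e => hun (e ▸ Submodule.zero_mem _)
  obtain ⟨v, hv, -, huv⟩ := exists_sing_eq D (W := (⊥ : Submodule F₀ (ι → F₀)))
    (by rw [finrank_bot]; omega) hun 1
  have hv0 : v ≠ 0 := fun e => by rw [e, map_zero] at huv; exact zero_ne_one huv
  set eu := remb P u
  set ev := remb P v
  have hqu : q eu = 0 := q_eq_zero D hu
  have hqv : q ev = 0 := q_eq_zero D hv
  have hB : polB q eu ev = 1 := by rw [← b₀_val D, huv]; exact OneMemClass.coe_one _
  let Full : V → Prop := fun z => ∀ w, polB q z w = 0 → InE q M z w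
  have hmap : ∀ {z : V} {g : orthGroup q}, q z = 0 → g ∈ M → Full z → Full (g.1 z) := by
    intro z g hz hg hF w hw
    have e : g.1 ((g⁻¹).1 w) = w := orth_apply_inv_self g w
    have h1 : polB q z ((g⁻¹).1 w) = 0 := by rw [← orth_polB_map g, e]; exact hw
    rw [← e]
    exact inE_map hz (hF _ h1) hg
  have hsc : ∀ {z : V} {t : F}, q z = 0 → t ≠ 0 → Full z → Full (t • z) := by
    intro z t hz ht hF w hw
    rw [map_smul, LinearMap.smul_apply, smul_eq_mul, mul_eq_zero] at hw
    have := inE_scale hz (hF (t • w) (by rw [map_smul, hw.resolve_left ht, smul_zero])) ht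
    rwa [smul_smul, inv_mul_cancel₀ ht, one_smul] at this
  have near : ∀ (a b : V), q a = 0 → q b = 0 → polB q a b = 1 → Full a → Full b →
      ∀ y, q y = 0 → polB q a y ≠ 0 → Full y := by
    intro a b ha hb hab hFa hFb y hy hne
    set y' := (polB q a y)⁻¹ • y with hy'def
    have hy'q : q y' = 0 := by rw [hy'def, qmap_smul, hy, mul_zero]
    have hay : polB q a y' = 1 := by rw [hy'def, map_smul, smul_eq_mul, inv_mul_cancel₀ hne]
    clear_value y'
    set w := y' - b - polB q b y' • a with hw
    have haw : polB q a w = 0 := by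
      rw [hw, map_sub, map_sub, map_smul, hay, hab, polB_self, ha]; simp
    have hbw : polB q b w = 0 := by
      rw [hw, map_sub, map_sub, map_smul, polB_self, hb, polB_comm b a, hab]; simp
    have him : (eichler q a w).1 b = y' := by
      rw [eichler_apply ha haw, polB_comm b a, hab, hbw, one_smul, mul_one, zero_smul, sub_zero]
      have e : q w = -polB q b y' := by
        rw [hw, qmap_sub, qmap_sub, qmap_smul, hy'q, hb, ha]
        simp only [map_sub, map_smul, LinearMap.sub_apply, smul_eq_mul, polB_comm b a, hab,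
          polB_comm y' a, hay, polB_comm y' b]
        ring
      rw [e, hw]
      module
    have h1 := hmap hb (hFa w haw).2 hFb
    rw [him] at h1
    have h2 := hsc hy'q hne h1
    rwa [hy'def, smul_smul, mul_inv_cancel₀ hne, one_smul] at h2
  have hFu : Full eu := fun w hw => hfull u hu0 hu w hw
  have hFv : Full ev := fun w hw => hfull v hv0 hv w hw
  have hone : ∀ y, q y = 0 → (polB q eu y ≠ 0 ∨ polB q ev y ≠ 0) → Full y := by
    rintro y hy (h | h)
    · exact near eu ev hqu hqv hB hFu hFv y hy h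
    · exact near ev eu hqv hqu (by rw [polB_comm]; exact hB) hFv hFu y hy h
  have hall : ∀ y, q y = 0 → y ≠ 0 → Full y := by
    intro y hy hy0
    by_cases h : polB q eu y ≠ 0 ∨ polB q ev y ≠ 0
    · exact hone y hy h
    push Not at h
    obtain ⟨w, hw, hyw⟩ := exists_orth_polB_eq D.nd (W := F ∙ eu) (a := y) (by
      intro hmem
      obtain ⟨c, hc⟩ := Submodule.mem_span_singleton.1 hmem
      rw [← hc, map_smul, map_smul, polB_comm ev eu, hB, smul_eq_mul, smul_eq_mul, mul_one] at h
      exact hy0 (by rw [← hc, h.2, zero_smul])) 1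
    have huw : polB q eu w = 0 := hw eu (Submodule.mem_span_singleton_self _)
    have hg := (hFu w huw).2
    have him : (eichler q eu w).1 y = y - eu := by
      rw [eichler_apply hqu huw, polB_comm y eu, h.1, hyw]; simp
    have hq' : q (y - eu) = 0 := by rw [qmap_sub, hy, hqu, polB_comm, h.1]; simp
    have hF' := hone (y - eu) hq' (Or.inr (by
      rw [map_sub, h.2, polB_comm ev eu, hB]; simp))
    have h2 := hmap hq' (inv_mem hg) hF'
    rwa [← him, orth_inv_apply_self] at h2
  rw [commutator_eq_closure_singular D.nd h5, Subgroup.closure_le]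
  rintro _ ⟨a, b, ha, hb, hab, rfl⟩
  by_cases ha0 : a = 0
  · subst ha0
    rw [show eichler q (0 : V) b = 1 from orth_ext fun x => by simp [eichler_apply ha hab]]
    exact one_mem M
  · exact (hall a ha ha0 b hab).2

theorem commutator_le_of_not_rigid {r : ℕ} (hr : r.Prime)
    (hcard : Nat.card F = Nat.card F₀ ^ r) (h : ¬ Rigid q F₀ P M) :
    commutator (orthGroup q) ≤ M :=
  commutator_le_of_full D fun u hu0 hu =>
    inE_full D hu hu0 fun s => allT_all D hM hr hcard h s u hu0 hu

end H45.SubO7
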