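import Mathlib
import Cfsg.Agent.H45.WreathFinal
import Cfsg.Agent.H45.NonMax
import Cfsg.Agent.H49.TensorThree

/-!
# `O₃(3) ⊗ O_{n₂}(3)` lies in the stabiliser of a decomposition into three subspaces
-/

set_option autoImplicit false
set_option linter.unusedSectionVars false

namespace H45

open H43
open scoped Matrix Kronecker

theorem tensor_three_nonmax {F : Type*} [Field F] [Fintype F] {ι : Type} [Fintype ι]
    [DecidableEq ι] (hF : Fintype.card F = 3) (hn : 13 ≤ Fintype.card ι)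
    (q : QuadraticForm F (ι → F)) (hq : (polB q).Nondegenerate) (n₂ : ℕ) (h4 : 4 ≤ n₂)
    (e : ι ≃ Fin 3 × Fin n₂) (P : Matrix.GeneralLinearGroup ι F)
    (f₁ : (Fin 3 → F) → (Fin 3 → F) → F) (f₂ : (Fin n₂ → F) → (Fin n₂ → F) → F)
    (hf₁ : Cfsg.Geo.IsSymmetricForm f₁)
    (hT : Cfsg.Geo.IsTensorFormStructure id (QuadraticMap.polar ⇑q) f₁ f₂ e P) :
    ∃ K : Subgroup (Matrix.GeneralLinearGroup ι F),
      Cfsg.Geo.tensorProductSubgroup 3 n₂ e P ⊓ Cfsg.Geo.omegaGL ⇑q < K ∧
        K < Cfsg.Geo.omegaGL ⇑q := by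
  classical
  obtain ⟨c, hc, hT⟩ := hT
  obtain ⟨B, d, hd, hB⟩ := H49.exists_frame_three hF f₁ hf₁
  set G1 := Cfsg.Geo.gramMatrix f₁ with hG1
  set G2 := Cfsg.Geo.gramMatrix f₂ with hG2
  have h3 := H49.three_eq_zero_of_card hF
  have h2 : (2 : F) ≠ 0 := fun h => one_ne_zero (α := F) (by linear_combination h3 - h)
  have hBdet : IsUnit B.det := by
    have h := congrArg Matrix.det hB
    rw [Matrix.det_mul, Matrix.det_mul, Matrix.det_transpose, Matrix.det_smul, Matrix.det_one,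
      mul_one] at h
    exact isUnit_iff_ne_zero.2 fun e => pow_ne_zero _ hd (by rw [← h, e, mul_zero])
  have hBB : B * B⁻¹ = 1 := Matrix.mul_nonsing_inv B hBdet
  have hBB' : B⁻¹ * B = 1 := Matrix.nonsing_inv_mul B hBdet
  set M : Matrix (Fin 3 × Fin n₂) (Fin 3 × Fin n₂) F :=
    B ⊗ₖ (1 : Matrix (Fin n₂) (Fin n₂) F) with hM
  have hMinv : Invertible M := ⟨B⁻¹ ⊗ₖ (1 : Matrix (Fin n₂) (Fin n₂) F),
    by rw [hM, ← Matrix.mul_kronecker_mul, one_mul, hBB', Matrix.one_kronecker_one],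
    by rw [hM, ← Matrix.mul_kronecker_mul, one_mul, hBB, Matrix.one_kronecker_one]⟩
  let Φ : (Fin 3 × Fin n₂ → F) ≃ₗ[F] (ι → F) :=
    (Matrix.toLinearEquiv' M hMinv).trans ((LinearEquiv.funCongrLeft F F e).trans
      (Matrix.toLinearEquiv' (P : Matrix ι ι F) P.invertible))
  have hΦ : ∀ X, Φ X = (P : Matrix ι ι F).mulVec ((M.mulVec X) ∘ e) := fun X => rfl
  have hcd : c * d ≠ 0 := mul_ne_zero hc hd
  have hbil : ∀ (A N : Matrix (Fin 3 × Fin n₂) (Fin 3 × Fin n₂) F) X Y,
      N.mulVec X ⬝ᵥ A.mulVec (N.mulVec Y) = X ⬝ᵥ (N.transpose * A * N).mulVec Y := by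
    intro A N X Y
    rw [← Matrix.mulVec_mulVec, ← Matrix.mulVec_mulVec, Matrix.dotProduct_mulVec X,
      Matrix.vecMul_transpose]
  set H : Matrix (Fin 3 × Fin n₂) (Fin 3 × Fin n₂) F :=
    (1 : Matrix (Fin 3) (Fin 3) F) ⊗ₖ G2 with hH
  have hform : ∀ X Y, polB q (Φ X) (Φ Y) = c * d * (X ⬝ᵥ H.mulVec Y) := by
    intro X Y
    have h1 : polB q (Φ X) (Φ Y) = c * (M.mulVec X ⬝ᵥ (G1 ⊗ₖ G2).mulVec (M.mulVec Y)) := by
      rw [polB_apply, hΦ, hΦ]
      refine (hT (M.mulVec X) (M.mulVec Y)).trans ?_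
      simp [Cfsg.Geo.formOfGram, dotProduct, Matrix.mulVec, Finset.mul_sum, mul_assoc, hG1, hG2]
    have h2' : M.transpose * (G1 ⊗ₖ G2) * M = d • H := by
      rw [hM, ← Matrix.kroneckerMap_transpose, ← Matrix.mul_kronecker_mul,
        ← Matrix.mul_kronecker_mul, Matrix.transpose_one, one_mul, mul_one, hB, Matrix.smul_kronecker]
    rw [h1, hbil, h2', Matrix.smul_mulVec, dotProduct_smul, smul_eq_mul, mul_assoc]
  -- the three members
  let row : Fin 3 → (Fin n₂ → F) →ₗ[F] (Fin 3 × Fin n₂ → F) := fun j =>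
    LinearMap.pi fun x => if x.1 = j then LinearMap.proj x.2 else 0
  have hrow : ∀ j v x, row j v x = if x.1 = j then v x.2 else 0 := fun j v x => by
    simp only [row, LinearMap.pi_apply]
    split_ifs <;> simp
  let E : Fin 3 → (Fin n₂ → F) →ₗ[F] (ι → F) := fun j => Φ.toLinearMap.comp (row j)
  have hE : ∀ j v, E j v = Φ (row j v) := fun j v => rfl
  have hEinj : ∀ j, Function.Injective (E j) := fun j u v h => by
    funext p
    have h1 := congrFun (Φ.injective h) (j, p)
    simpa [hrow] using h1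
  have hEform : ∀ j l v w, polB q (E j v) (E l w) =
      if j = l then c * d * (v ⬝ᵥ G2.mulVec w) else 0 := by
    intro j l v w
    rw [hE, hE, hform]
    have hS : row j v ⬝ᵥ H.mulVec (row l w) = if j = l then v ⬝ᵥ G2.mulVec w else 0 := by
      simp only [dotProduct, Matrix.mulVec, Fintype.sum_prod_type, hrow, hH,
        Matrix.kroneckerMap_apply, Matrix.one_apply, ite_mul, mul_ite, one_mul, zero_mul, mul_zero,
        Finset.sum_ite_irrel, Finset.sum_const_zero, Finset.sum_ite_eq, Finset.sum_ite_eq',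
        Finset.mem_univ, if_true]
      exact if_congr eq_comm rfl rfl
    rw [hS, mul_ite, mul_zero]
  let D : Fin 3 → Submodule F (ι → F) := fun j => LinearMap.range (E j)
  have hperp : ∀ i j, i ≠ j → ∀ x ∈ D i, ∀ y ∈ D j, polB q x y = 0 := by
    rintro i j hij _ ⟨v, rfl⟩ _ ⟨w, rfl⟩
    rw [hEform, if_neg hij]
  have htop : iSup D = ⊤ := by
    rw [eq_top_iff]
    intro x _
    obtain ⟨X, rfl⟩ := Φ.surjective x
    have hX : X = ∑ j, row j (fun p => X (j, p)) := by
      funext ⟨i, p⟩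
      simp [hrow]
    rw [hX, map_sum]
    exact Submodule.sum_mem _ fun j _ => Submodule.mem_iSup_of_mem j ⟨_, rfl⟩
  have hdim : ∀ j, Module.finrank F (D j) = n₂ := fun j => by
    rw [LinearMap.finrank_range_of_inj (hEinj j), Module.finrank_fin_fun]
  have hOD : OD q D n₂ :=
    { dim := hdim
      top := htop
      perp := hperp
      nd := fun i x hx h => eq_zero_of_polB_eq_zero hq fun y => by
        have hy : y ∈ iSup D := htop ▸ Submodule.mem_top
        induction hy using Submodule.iSup_induction' with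
        | mem j z hz =>
          by_cases hij : i = j
          · exact h z (hij ▸ hz)
          · exact hperp i j hij x hx z hz
        | zero => simp
        | add z z' _ _ hz hz' => rw [map_add, hz, hz', add_zero]
      iso := fun i j => ⟨(LinearEquiv.ofInjective (E i) (hEinj i)).symm.trans
          (LinearEquiv.ofInjective (E j) (hEinj j)), fun w => by
        obtain ⟨v, hv⟩ := (LinearEquiv.ofInjective (E i) (hEinj i)).surjective w
        rw [LinearEquiv.trans_apply, ← hv, LinearEquiv.symm_apply_apply]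
        show q (E j v) = q (E i v)
        refine mul_left_cancel₀ h2 ?_
        rw [← polB_self, ← polB_self, hEform, hEform, if_pos rfl, if_pos rfl]⟩ }
  obtain ⟨p₀, q₀, hpq⟩ : ∃ p r, G2 p r ≠ 0 := by
    by_contra hcon
    simp only [not_exists, not_not] at hcon
    obtain ⟨v, hv⟩ : ∃ v : Fin n₂ → F, v ≠ 0 :=
      ⟨fun _ => 1, fun h => one_ne_zero (congrFun h ⟨0, by omega⟩)⟩
    have hG : G2 = 0 := Matrix.ext hcon
    refine hv (hEinj 0 (Eq.trans ?_ (map_zero (E 0)).symm))
    refine eq_zero_of_polB_eq_zero hq fun y => ?_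
    obtain ⟨Y, rfl⟩ := Φ.surjective y
    rw [hE, hform, hH, hG]
    simp
  -- elements of the tensor group
  have htens : ∀ g : orthGroup q, toGL q g ∈ Cfsg.Geo.tensorProductSubgroup 3 n₂ e P →
      ∃ (C : Matrix (Fin 3) (Fin 3) F) (a : GL (Fin n₂) F),
        ∀ X, g.1 (Φ X) = Φ ((C ⊗ₖ (a : Matrix (Fin n₂) (Fin n₂) F)).mulVec X) := by
    intro g hg
    obtain ⟨g1, ⟨k, ⟨b, a, hab⟩, rfl⟩, hg1⟩ := hg
    refine ⟨B⁻¹ * (b : Matrix (Fin 3) (Fin 3) F) * B, a, fun X => ?_⟩
    rw [← toGL_apply q g, ← hg1]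
    have hMk : M * ((B⁻¹ * (b : Matrix (Fin 3) (Fin 3) F) * B) ⊗ₖ (a : Matrix (Fin n₂) (Fin n₂) F)) =
        (k : Matrix (Fin 3 × Fin n₂) (Fin 3 × Fin n₂) F) * M := by
      rw [hab, hM, ← Matrix.mul_kronecker_mul, ← Matrix.mul_kronecker_mul, one_mul, mul_one,
        Matrix.mul_assoc B⁻¹, Matrix.mul_nonsing_inv_cancel_left _ _ hBdet]
    rw [hΦ, hΦ, Matrix.mulVec_mulVec X M, hMk]
    show ((P * Cfsg.Geo.glReindex e.symm k * P⁻¹ : GL ι F) : Matrix ι ι F).mulVec _ = _
    rw [Matrix.mulVec_mulVec, ← Units.val_mul, inv_mul_cancel_right, Units.val_mul,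
      ← Matrix.mulVec_mulVec, ← Matrix.mulVec_mulVec]
    congr 1
    show ((k : Matrix (Fin 3 × Fin n₂) (Fin 3 × Fin n₂) F).submatrix e e).mulVec _ = _
    rw [Matrix.submatrix_mulVec_equiv]
    congr 2
    funext p
    simp
  have hcol : ∀ (C : Matrix (Fin 3) (Fin 3) F) (A : Matrix (Fin n₂) (Fin n₂) F) j v i p,
      (C ⊗ₖ A).mulVec (row j v) (i, p) = C i j * A.mulVec v p := by
    intro C A j v i p
    simp only [Matrix.mulVec, dotProduct, Fintype.sum_prod_type, hrow, Matrix.kroneckerMap_apply,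
      mul_ite, mul_zero, Finset.sum_ite_irrel, Finset.sum_const_zero, Finset.sum_ite_eq',
      Finset.mem_univ, if_true, Finset.mul_sum]
    exact Finset.sum_congr rfl fun r _ => by ring
  refine exists_between_of_orth q _ (DStab q D ⊓ commutator (orthGroup q)) inf_le_right ?_ ?_ ?_
  · intro g hg hgT
    refine ⟨?_, hg⟩
    obtain ⟨C, a, hgX⟩ := htens g hgT
    set A : Matrix (Fin n₂) (Fin n₂) F := (a : Matrix (Fin n₂) (Fin n₂) F) with hA
    have hpres : (C ⊗ₖ A).transpose * H * (C ⊗ₖ A) = H := by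
      ext x y
      have h1 : polB q (Φ ((C ⊗ₖ A).mulVec (Pi.single x 1))) (Φ ((C ⊗ₖ A).mulVec (Pi.single y 1))) =
          polB q (Φ (Pi.single x 1)) (Φ (Pi.single y 1)) := by
        rw [← hgX, ← hgX, orth_polB_map]
      rw [hform, hform, hbil] at h1
      have h2' := mul_left_cancel₀ hcd h1
      simpa [Matrix.mulVec_single_one, single_dotProduct] using h2'
    rw [hH, ← Matrix.kroneckerMap_transpose, ← Matrix.mul_kronecker_mul, ← Matrix.mul_kronecker_mul,
      mul_one] at hpres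
    set A' := A.transpose * G2 * A with hA'
    have hent : ∀ i j, (C.transpose * C) i j * A' p₀ q₀ =
        (1 : Matrix (Fin 3) (Fin 3) F) i j * G2 p₀ q₀ :=
      fun i j => congrFun (congrFun hpres (i, p₀)) (j, q₀)
    have hA0 : A' p₀ q₀ ≠ 0 := fun h => hpq (by simpa [h] using (hent 0 0).symm)
    obtain ⟨π, s, -, hC⟩ := H49.monomial_three hF C (G2 p₀ q₀ / A' p₀ q₀) (div_ne_zero hpq hA0) (by
      ext i j
      rw [Matrix.smul_apply, smul_eq_mul, div_mul_eq_mul_div, eq_div_iff hA0,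
        mul_comm (G2 p₀ q₀)]
      exact hent i j)
    refine mem_DStab hdim fun j => ⟨π j, ?_⟩
    rintro _ ⟨v, rfl⟩
    refine ⟨s j • A.mulVec v, ?_⟩
    rw [hE, hE, hgX]
    congr 1
    funext ⟨i, p⟩
    rw [hcol, hrow, hC, Pi.smul_apply, smul_eq_mul]
    split_ifs <;> simp
  · -- an element inside one member
    have hk3 : 3 ≤ Module.finrank F (D 0) := by rw [hdim]; omega
    have hnd := hOD.nd 0
    obtain ⟨x, hx, hxQ, -⟩ := exists_val_perp_four hnd hk3 (by rw [hdim]; exact h4)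
      (D 0).zero_mem one_ne_zero
    obtain ⟨y, hy, hyQ, hyx⟩ := exists_val_perp_four hnd hk3 (by rw [hdim]; exact h4) hx one_ne_zero
    obtain ⟨w, hw, hw0⟩ := Submodule.exists_mem_ne_zero_of_ne_bot
      (p := perpIn q (perpIn q (D 0) x) y) (fun e0 => by
        have h5 := finrank_perpIn (Q := q) (D 0) x
        have h6 := finrank_perpIn (Q := q) (perpIn q (D 0) x) y
        rw [hdim] at h5
        rw [e0, finrank_bot] at h6
        omega)
    have hwx : polB q w x = 0 := (mem_perpIn.mp (mem_perpIn.mp hw).1).2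
    have hwy : polB q w y = 0 := (mem_perpIn.mp hw).2
    have hwD : w ∈ D 0 := (mem_perpIn.mp (mem_perpIn.mp hw).1).1
    refine ⟨refl q x * refl q y, ⟨mem_DStab hdim fun j => ⟨j, fun z hz => ?_⟩, ?_⟩, fun hgT => ?_⟩
    · by_cases hj : j = 0
      · subst hj
        have hm : ∀ u ∈ D 0, ∀ z ∈ D 0, (refl q u).1 z ∈ D 0 := fun u hu z hz => by
          rw [refl_apply]; exact sub_mem hz ((D 0).smul_mem _ hu)
        rw [orth_mul_apply]
        exact hm x hx _ (hm y hy z hz)
      · rw [orth_mul_apply, refl_fix (hperp j 0 hj z hz y hy), refl_fix (hperp j 0 hj z hz x hx)]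
        exact hz
    · exact refl_mul_refl_mem_commutator hq (reflGenerates_of_two_ne_zero h2)
        (by rw [Module.finrank_pi]; omega) (by rw [hxQ]; exact one_ne_zero)
        (by rw [hyQ]; exact one_ne_zero) (by rw [hxQ, hyQ])
    obtain ⟨C, a, hgX⟩ := htens _ hgT
    have hfix : ∀ j v, (refl q x * refl q y).1 (E j v) = E j v →
        ∀ p, C j j * (a : Matrix (Fin n₂) (Fin n₂) F).mulVec v p = v p := by
      intro j v h p
      rw [hE, hgX] at h
      have := congrFun (Φ.injective h) (j, p)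
      rwa [hcol, hrow, if_pos rfl] at this
    have h1 : ∀ v p, C 1 1 * (a : Matrix (Fin n₂) (Fin n₂) F).mulVec v p = v p := fun v p =>
      hfix 1 v (by
        rw [orth_mul_apply, refl_fix (hperp 1 0 (by decide) _ ⟨v, rfl⟩ y hy),
          refl_fix (hperp 1 0 (by decide) _ ⟨v, rfl⟩ x hx)]) p
    obtain ⟨vw, hvw⟩ := hwD
    obtain ⟨vx, hvx⟩ := hx
    have hvw0 : vw ≠ 0 := fun e0 => hw0 (by rw [← hvw, e0, map_zero])
    obtain ⟨p, hp⟩ : ∃ p, vw p ≠ 0 := by by_contra h; push Not at h; exact hvw0 (funext h)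
    have h00 : C 0 0 * (a : Matrix (Fin n₂) (Fin n₂) F).mulVec vw p = vw p := hfix 0 vw (by
      rw [hvw, orth_mul_apply, refl_fix hwy, refl_fix hwx]) p
    have hC : C 0 0 = C 1 1 := by
      have e1 := h1 vw p
      refine mul_right_cancel₀ (fun hz => hp ?_) (h00.trans e1.symm)
      rw [← e1, hz, mul_zero]
    have hneg : (refl q x * refl q y).1 (E 0 vx) = -E 0 vx := by
      rw [hvx, orth_mul_apply, refl_fix (show polB q x y = 0 by rw [polB_comm]; exact hyx),
        refl_self (by rw [hxQ]; exact one_ne_zero)]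
    rw [hE, hgX, ← map_neg] at hneg
    have hx0 : vx ≠ 0 := fun e0 => by
      rw [← hvx, e0, map_zero, QuadraticMap.map_zero] at hxQ
      exact zero_ne_one hxQ
    refine hx0 (funext fun r => ?_)
    have e2 := congrFun (Φ.injective hneg) (0, r)
    rw [hcol, Pi.neg_apply, hrow, if_pos rfl, hC, h1] at e2
    rcases mul_eq_zero.mp (show (2 : F) * vx r = 0 by linear_combination e2) with h' | h'
    · exact absurd h' h2
    · exact h'
  · obtain ⟨hlt, -⟩ := wreath_maximal' hq hOD (by omega) (by omega)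
      (by rw [Module.finrank_pi]; omega) (fun h => by omega)
      (fun _ h => absurd (hF.symm.trans h) (by decide))
    exact SetLike.exists_of_lt hlt

end H45
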