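import Mathlib
import Cfsg.Prelude.Def_Classical
import Cfsg.Prelude.Def_LieClassical
import Cfsg.Agent.H45.Embed

/-!
# The unitary group inside the orthogonal group of the trace form
-/

set_option autoImplicit false
set_option linter.unusedSectionVars false

namespace H45

open scoped Matrix
open Cfsg

variable {K F : Type*} [Field K] [Fintype K] [Field F] [Fintype F] [Algebra F K] {q : ℕ}
  (hK : Fintype.card K = q ^ 2)
  (hfix : ∀ x : F, algebraMap F K x ^ q = algebraMap F K x)
  (hsurj : ∀ y : K, y ^ q = y → ∃ x : F, algebraMap F K x = y)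

include hK hfix hsurj

/-- `v ↦ h(v, v)` as a quadratic form over the fixed field. -/
lemma exists_normForm (n : ℕ) :
    ∃ R : QuadraticForm F (Fin n → K),
      ∀ v, algebraMap F K (R v) = hermForm n K q v v := by
  classical
  choose r hr using fun v : Fin n → K => hsurj _ (H50.h_self_fixed hK v)
  have hinj := (algebraMap F K).injective
  have htr : ∀ u v : Fin n → K,
      ∃ x : F, algebraMap F K x = hermForm n K q u v + hermForm n K q v u := by
    intro u v
    refine hsurj _ ?_
    rw [H50.add_pow_q hK, ← H50.h_symm hK, ← H50.h_symm hK, add_comm]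
  choose p hp using htr
  let P : LinearMap.BilinMap F (Fin n → K) F := LinearMap.mk₂ F p
    (fun x y v => hinj (by
      rw [map_add, hp, hp, hp, H50.h_add_left, H50.h_add_right hK]; ring))
    (fun c x v => hinj (by
      rw [smul_eq_mul, map_mul, hp, hp, ← algebraMap_smul K c x, H50.h_smul_left,
        H50.h_smul_right hK, hfix]; ring))
    (fun v x y => hinj (by
      rw [map_add, hp, hp, hp, H50.h_add_left, H50.h_add_right hK]; ring))
    (fun c v x => hinj (by
      rw [smul_eq_mul, map_mul, hp, hp, ← algebraMap_smul K c x, H50.h_smul_left,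
        H50.h_smul_right hK, hfix]; ring))
  refine ⟨
    { toFun := r
      toFun_smul := fun c v => hinj (by
        rw [smul_eq_mul, map_mul, map_mul, hr, hr, ← algebraMap_smul K c v, H50.h_smul_left,
          H50.h_smul_right hK, hfix]
        ring)
      exists_companion' := ⟨P, fun x y => hinj (by
        change algebraMap F K (r (x + y)) = algebraMap F K (r x + r y + p x y)
        rw [map_add, map_add, hr, hr, hr, hp, H50.h_add_left, H50.h_add_right hK,
          H50.h_add_right hK]
        ring)⟩ }, hr⟩

lemma normForm_nondegenerate {n : ℕ} (R : QuadraticForm F (Fin n → K))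
    (hR : ∀ v, algebraMap F K (R v) = hermForm n K q v v) (v : Fin n → K)
    (h : ∀ x, QuadraticMap.polar R v x = 0) : v = 0 := by
  have hh : ∀ x, hermForm n K q v x + hermForm n K q x v = 0 := by
    intro x
    have := congrArg (algebraMap F K) (h x)
    rw [QuadraticMap.polar, map_sub, map_sub, hR, hR, hR, map_zero, H50.h_add_left,
      H50.h_add_right hK, H50.h_add_right hK] at this
    linear_combination this
  obtain ⟨μ, hμ⟩ : ∃ μ : K, μ ^ q ≠ μ := by
    by_contra hcon
    push Not at hcon
    have h1 := H50.card_fixed (q := q) hK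
    rw [Nat.card_congr (Equiv.subtypeUnivEquiv hcon), Nat.card_eq_fintype_card, hK] at h1
    have := H50.two_le hK
    nlinarith
  refine H50.eq_zero_of_h_left hK fun x => ?_
  have h1 := hh x
  have h2 := hh (μ • x)
  rw [H50.h_smul_left, H50.h_smul_right hK] at h2
  have h3 : (μ ^ q - μ) * hermForm n K q v x = 0 := by linear_combination h2 - μ * h1
  exact (mul_eq_zero.mp h3).resolve_left (sub_ne_zero.mpr hμ)

lemma finrank_pi_eq (hF : Fintype.card F = q) (n : ℕ) :
    Module.finrank F (Fin n → K) = 2 * n := by
  have h1 := Module.card_eq_pow_finrank (K := F) (V := K)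
  rw [hK, hF] at h1
  have h2 : Module.finrank F K = 2 := (Nat.pow_right_injective (H50.two_le hK) h1).symm
  rw [Module.finrank_pi_fintype, Finset.sum_const, Finset.card_univ, Fintype.card_fin, h2]
  simp; ring

/-- For even `n` the trace form is hyperbolic. -/
lemma exists_plus_coords_even (hF : Fintype.card F = q) (k : ℕ)
    (R : QuadraticForm F (Fin (k + k) → K))
    (hR : ∀ v, algebraMap F K (R v) = hermForm (k + k) K q v v) :
    ∃ φ : (Fin (k + k) → K) ≃ₗ[F] (Fin (k + k) ⊕ Fin (k + k) → F),
      ∀ w, quadFormPlus (k + k) F (φ w) = R w := by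
  classical
  obtain ⟨α, hα⟩ := H50.exists_norm_eq hK (c := (-1 : K)) (by rw [H50.neg_pow_q hK, one_pow])
  obtain ⟨β, hβ, hne⟩ : ∃ β : K, β ^ (q + 1) = -1 ∧ β ≠ α := by
    have hc := H50.card_norm_eq hK (c := (-1 : K)) (by rw [H50.neg_pow_q hK, one_pow])
      (neg_ne_zero.mpr one_ne_zero)
    by_contra hcon
    push Not at hcon
    have : Subsingleton {x : K // x ^ (q + 1) = -1} :=
      ⟨fun x y => Subtype.ext ((hcon x x.2).trans (hcon y y.2).symm)⟩
    have := Finite.card_le_one_iff_subsingleton.mpr this
    have := H50.two_le hK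
    omega
  let ψ : K → (Fin k → K) →ₗ[F] (Fin (k + k) → K) := fun a =>
    ({ toFun := fun x => Fin.append x (a • x)
       map_add' := fun x y => by
        ext j
        induction j using Fin.addCases <;>
          simp only [Fin.append_left, Fin.append_right, Pi.add_apply, Pi.smul_apply, smul_eq_mul,
            mul_add]
       map_smul' := fun c x => by
        ext j
        induction j using Fin.addCases <;>
          simp only [Fin.append_left, Fin.append_right, Pi.smul_apply, smul_eq_mul,
            RingHom.id_apply, mul_left_comm] } :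
      (Fin k → K) →ₗ[K] (Fin (k + k) → K)).restrictScalars F
  have hψ : ∀ a x, ψ a x = Fin.append x (a • x) := fun a x => rfl
  have hψinj : ∀ a, Function.Injective (ψ a) := fun a x y h => by
    ext j
    simpa [hψ] using congrFun h (Fin.castAdd k j)
  have hts : ∀ a : K, a ^ (q + 1) = -1 → ∀ v ∈ LinearMap.range (ψ a), R v = 0 := by
    rintro a ha _ ⟨x, rfl⟩
    apply (algebraMap F K).injective
    rw [hR, map_zero, hψ, hermForm, Fin.sum_univ_add]
    simp only [Fin.append_left, Fin.append_right, Pi.smul_apply, smul_eq_mul, mul_pow]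
    rw [← Finset.sum_add_distrib]
    refine Finset.sum_eq_zero fun j _ => ?_
    rw [pow_succ] at ha
    linear_combination (x j * x j ^ q) * ha
  have hfin := finrank_pi_eq hK hfix hsurj hF (n := k + k)
  have hfink := finrank_pi_eq hK hfix hsurj hF (n := k)
  have hinf : LinearMap.range (ψ α) ⊓ LinearMap.range (ψ β) = ⊥ := by
    rw [eq_bot_iff]
    rintro _ ⟨⟨x, rfl⟩, y, hy⟩
    have h1 : y = x := by
      ext j
      simpa [hψ] using congrFun hy (Fin.castAdd k j)
    subst h1
    have : y = 0 := by
      ext j
      have h2 := congrFun hy (Fin.natAdd k j)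
      simp only [hψ, Fin.append_right, Pi.smul_apply, smul_eq_mul] at h2
      exact (mul_eq_mul_right_iff.mp h2).resolve_left hne
    simp [this]
  have hA : Module.finrank F (LinearMap.range (ψ α)) = k + k := by
    rw [LinearMap.finrank_range_of_inj (hψinj α), hfink]; ring
  refine exists_plus_coords R (normForm_nondegenerate hK hfix hsurj R hR) hfin _ _ (hts α hα)
    (hts β hβ) hA ?_ hinf
  have h := Submodule.finrank_sup_add_finrank_inf_eq (LinearMap.range (ψ α)) (LinearMap.range (ψ β))
  rw [hinf, finrank_bot, hA, LinearMap.finrank_range_of_inj (hψinj β), hfink] at h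
  exact Submodule.eq_top_of_finrank_eq (by rw [hfin]; omega)

/-- Multiplication by a matrix over `K`, as an endomorphism over `F`. -/
noncomputable def guAction (n : ℕ) : ↥(GU n K q) →* Module.End F (Fin n → K) where
  toFun g := (Matrix.toLin' ((g : GL (Fin n) K) : Matrix (Fin n) (Fin n) K)).restrictScalars F
  map_one' := by ext v; simp
  map_mul' g h := by
    refine LinearMap.ext fun v => ?_
    simp [Module.End.mul_apply, Matrix.mulVec_mulVec]

lemma exists_gu_hom {ι : Type} [Fintype ι] [DecidableEq ι] (Q : (ι → F) → F) (n : ℕ)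
    (R : QuadraticForm F (Fin n → K))
    (hR : ∀ v, algebraMap F K (R v) = hermForm n K q v v)
    (φ : (Fin n → K) ≃ₗ[F] (ι → F)) (hφ : ∀ w, Q (φ w) = R w) :
    ∃ ψ : ↥(GU n K q) →* ↥(isometryGroup F Q), Function.Injective ψ := by
  refine exists_embed Q R (guAction (K := K) (F := F) (q := q) n) (fun g g' h => ?_) (fun g w => ?_) φ hφ
  · apply Subtype.ext
    refine Units.ext (Matrix.ext_iff_mulVec.mpr fun v => ?_)
    simpa [guAction] using LinearMap.congr_fun h v
  · apply (algebraMap F K).injective
    rw [hR, hR]
    simpa [guAction] using g.2 w w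

end H45
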